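import Cfsg.Agent.Lib.DCE.Ly.Inv.Defs

/-! The elements of `K` conjugate to the involution. -/

namespace Cfsg.Agent.Lib.DCE.Ly.Inv.Cls

open Cfsg.Agent.Lib.TC.Core Cfsg.Agent.Lib.TC.Enc Cfsg.Agent.Lib.TC.Pres Cfsg.Agent.Lib.TC.Iso Cfsg.Agent.Lib.DCE.MatP
  Cfsg.Agent.Lib.DCE.Ly.Setup Cfsg.Agent.Lib.DCE.Ly.Rules Cfsg.Agent.Lib.DCE.Ly.Gens
  Cfsg.Agent.Lib.DCE.Ly.Inv.Defs

set_option maxRecDepth 100000

/-- The words of the conjugating elements. -/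
def repW : List (List Nat) := [[6,6,0,1,2,6,2,0,1,0,3,2,8,4,2,4],[0,0,6,0,6,6,0,6,2,6,7,7,6,2,3,4,5,2,0,4]]

/-- The words of the representatives in `K`. -/
def repK : List (List Nat) := [[5,7],[5,5,5,5]]

theorem hrep : ∀ r, r < 2 → wEq (cwf (repW.getD r [])) (kL (repK.getD r [])) = true := by decide +kernel

theorem hrep_lt : ∀ r, r < 2 → lt10 (repW.getD r []) = true ∧ ltB 16 (repK.getD r []) = true := by decide +kernel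

/-- The data of the elements. -/
noncomputable def eT : Tr Nat :=
  (Tr.node (Tr.node (Tr.node (Tr.node (Tr.node (Tr.node (Tr.node (Tr.node (Tr.node (Tr.node (Tr.node (Tr.leaf (nat_lit 0x2)) (Tr.leaf (nat_lit 0x278822))) (Tr.node (Tr.leaf (nat_lit 0x4a022)) (Tr.leaf (nat_lit 0)))) (Tr.node (Tr.node (Tr.leaf (nat_lit 0x81d61)) (Tr.leaf (nat_lit 0x70c21))) (Tr.node (Tr.leaf (nat_lit 0x51962)) (Tr.leaf (nat_lit 0))))) (Tr.node (Tr.node (Tr.node (Tr.leaf (nat_lit 0x4a122)) (Tr.leaf (nat_lit 0x729821))) (Tr.node (Tr.leaf (nat_lit 0x82c21)) (Tr.leaf (nat_lit 0)))) (Tr.node (Tr.node (Tr.leaf (nat_lit 0x71022)) (Tr.leaf (nat_lit 0))) (Tr.node (Tr.leaf (nat_lit 0x719c42)) (Tr.leaf (nat_lit 0)))))) (Tr.node (Tr.node (Tr.node (Tr.node (Tr.leaf (nat_lit 0x162)) (Tr.leaf (nat_lit 0x1a041))) (Tr.node (Tr.leaf (nat_lit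 0x3b122)) (Tr.leaf (nat_lit 0)))) (Tr.node (Tr.node (Tr.leaf (nat_lit 0x10441)) (Tr.leaf (nat_lit 0x1d41))) (Tr.node (Tr.leaf (nat_lit 0xf22021)) (Tr.leaf (nat_lit 0))))) (Tr.node (Tr.node (Tr.node (Tr.leaf (nat_lit 0x61c42)) (Tr.leaf (nat_lit 0x390c1))) (Tr.node (Tr.leaf (nat_lit 0xf2c061)) (Tr.leaf (nat_lit 0)))) (Tr.node (Tr.node (Tr.leaf (nat_lit 0x84bc81)) (Tr.leaf (nat_lit 0))) (Tr.node (Tr.leaf (nat_lit 0x982462)) (Tr.leaf (nat_lit 0))))))) (Tr.node (Tr.node (Tr.node (Tr.node (Tr.node (Tr.leaf (nat_lit 0x3882)) (Tr.leaf (nat_lit 0xf50422))) (Tr.node (Tr.leaf (nat_lit 0x79022)) (Tr.leaf (nat_lit 0)))) (Tr.node (Tr.node (Tr.leaf (nat_lit 0xb20822)) (Tr.leaf (nat_lit 0x61821))) (Tr.node (Tr.leaf (nat_lit 0x290e1)) (Tr.leaf (nat_lit 0))))) (Tr.node (Tr.node (Tr.node (Tr.leaf (nat_lit 0x81bc41)) (Tr.leaf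 (nat_lit 0x761821))) (Tr.node (Tr.leaf (nat_lit 0x9c22)) (Tr.leaf (nat_lit 0)))) (Tr.node (Tr.node (Tr.leaf (nat_lit 0x183c21)) (Tr.leaf (nat_lit 0))) (Tr.node (Tr.leaf (nat_lit 0x342822)) (Tr.leaf (nat_lit 0)))))) (Tr.node (Tr.node (Tr.node (Tr.node (Tr.leaf (nat_lit 0x59c42)) (Tr.leaf (nat_lit 0x440822))) (Tr.node (Tr.leaf (nat_lit 0x37a022)) (Tr.leaf (nat_lit 0)))) (Tr.node (Tr.node (Tr.leaf (nat_lit 0x3421)) (Tr.leaf (nat_lit 0))) (Tr.node (Tr.leaf (nat_lit 0x7b0c1)) (Tr.leaf (nat_lit 0))))) (Tr.node (Tr.node (Tr.node (Tr.leaf (nat_lit 0x68461)) (Tr.leaf (nat_lit 0x62162))) (Tr.node (Tr.leaf (nat_lit 0x3a8c1)) (Tr.leaf (nat_lit 0)))) (Tr.node (Tr.node (Tr.leaf (nat_lit 0x1078c21)) (Tr.leaf (nat_lit 0))) (Tr.node (Tr.leaf (nat_lit 0x849c21)) (Tr.leaf (nat_lit 0)))))))) (Tr.node (Tr.node (Tr.node (Tr.node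 (Tr.node (Tr.node (Tr.leaf (nat_lit 0x1922)) (Tr.leaf (nat_lit 0xe5bc42))) (Tr.node (Tr.leaf (nat_lit 0x1981)) (Tr.leaf (nat_lit 0)))) (Tr.node (Tr.node (Tr.leaf (nat_lit 0x4122)) (Tr.leaf (nat_lit 0xc4bc42))) (Tr.node (Tr.leaf (nat_lit 0x1bc41)) (Tr.leaf (nat_lit 0))))) (Tr.node (Tr.node (Tr.node (Tr.leaf (nat_lit 0x5a082)) (Tr.leaf (nat_lit 0xa3a062))) (Tr.node (Tr.leaf (nat_lit 0x1038441)) (Tr.leaf (nat_lit 0)))) (Tr.node (Tr.node (Tr.leaf (nat_lit 0x70c42)) (Tr.leaf (nat_lit 0))) (Tr.node (Tr.leaf (nat_lit 0xa39821)) (Tr.leaf (nat_lit 0)))))) (Tr.node (Tr.node (Tr.node (Tr.node (Tr.leaf (nat_lit 0x79021)) (Tr.leaf (nat_lit 0x40c41))) (Tr.node (Tr.leaf (nat_lit 0x43162)) (Tr.leaf (nat_lit 0)))) (Tr.node (Tr.node (Tr.leaf (nat_lit 0x2461)) (Tr.leaf (nat_lit 0x2581))) (Tr.node (Tr.leaf (nat_lit 0xf41c21))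 (Tr.leaf (nat_lit 0))))) (Tr.node (Tr.node (Tr.node (Tr.leaf (nat_lit 0x31c82)) (Tr.leaf (nat_lit 0x71021))) (Tr.node (Tr.leaf (nat_lit 0x1bca1)) (Tr.leaf (nat_lit 0)))) (Tr.node (Tr.node (Tr.leaf (nat_lit 0x480c22)) (Tr.leaf (nat_lit 0))) (Tr.node (Tr.leaf (nat_lit 0x720c22)) (Tr.leaf (nat_lit 0))))))) (Tr.node (Tr.node (Tr.node (Tr.node (Tr.node (Tr.leaf (nat_lit 0x7b861)) (Tr.leaf (nat_lit 0x3461))) (Tr.node (Tr.leaf (nat_lit 0x2861)) (Tr.leaf (nat_lit 0)))) (Tr.node (Tr.node (Tr.leaf (nat_lit 0x30e1)) (Tr.leaf (nat_lit 0x62922))) (Tr.node (Tr.leaf (nat_lit 0x1061c21)) (Tr.leaf (nat_lit 0))))) (Tr.node (Tr.node (Tr.node (Tr.leaf (nat_lit 0x81d82)) (Tr.leaf (nat_lit 0x4a042))) (Tr.node (Tr.leaf (nat_lit 0x414e1)) (Tr.leaf (nat_lit 0)))) (Tr.node (Tr.node (Tr.leaf (nat_lit 0x23a021)) (Tr.leaf (nat_lit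 0))) (Tr.node (Tr.leaf (nat_lit 0x418822)) (Tr.leaf (nat_lit 0)))))) (Tr.node (Tr.node (Tr.node (Tr.node (Tr.leaf (nat_lit 0x71d61)) (Tr.leaf (nat_lit 0xf29821))) (Tr.node (Tr.leaf (nat_lit 0x2941)) (Tr.leaf (nat_lit 0)))) (Tr.node (Tr.node (Tr.leaf (nat_lit 0x804e1)) (Tr.leaf (nat_lit 0))) (Tr.node (Tr.leaf (nat_lit 0xc122)) (Tr.leaf (nat_lit 0))))) (Tr.node (Tr.node (Tr.node (Tr.leaf (nat_lit 0x830e1)) (Tr.leaf (nat_lit 0x1a1))) (Tr.node (Tr.leaf (nat_lit 0x170c22)) (Tr.leaf (nat_lit 0)))) (Tr.node (Tr.node (Tr.leaf (nat_lit 0x75b821)) (Tr.leaf (nat_lit 0))) (Tr.node (Tr.leaf (nat_lit 0xbc62)) (Tr.leaf (nat_lit 0))))))))) (Tr.node (Tr.node (Tr.node (Tr.node (Tr.node (Tr.node (Tr.node (Tr.leaf (nat_lit 0x42ce1)) (Tr.leaf (nat_lit 0x81461))) (Tr.node (Tr.leaf (nat_lit 0xa122)) (Tr.leaf (nat_lit 0)))) (Tr.node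 (Tr.node (Tr.leaf (nat_lit 0x2ce1)) (Tr.leaf (nat_lit 0x79881))) (Tr.node (Tr.leaf (nat_lit 0x19c81)) (Tr.leaf (nat_lit 0))))) (Tr.node (Tr.node (Tr.node (Tr.leaf (nat_lit 0x42862)) (Tr.leaf (nat_lit 0xa881))) (Tr.node (Tr.leaf (nat_lit 0xf18c42)) (Tr.leaf (nat_lit 0)))) (Tr.node (Tr.node (Tr.leaf (nat_lit 0x4061)) (Tr.leaf (nat_lit 0))) (Tr.node (Tr.leaf (nat_lit 0x19d21)) (Tr.leaf (nat_lit 0)))))) (Tr.node (Tr.node (Tr.node (Tr.node (Tr.leaf (nat_lit 0x1c22)) (Tr.leaf (nat_lit 0x242442))) (Tr.node (Tr.leaf (nat_lit 0x1009c22)) (Tr.leaf (nat_lit 0)))) (Tr.node (Tr.node (Tr.leaf (nat_lit 0xf31021)) (Tr.leaf (nat_lit 0xf81c21))) (Tr.node (Tr.leaf (nat_lit 0x1bd42)) (Tr.leaf (nat_lit 0))))) (Tr.node (Tr.node (Tr.node (Tr.leaf (nat_lit 0xb71c41)) (Tr.leaf (nat_lit 0x10421))) (Tr.node (Tr.leaf (nat_lit 0xc79841))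 (Tr.leaf (nat_lit 0)))) (Tr.node (Tr.node (Tr.leaf (nat_lit 0x80bc42)) (Tr.leaf (nat_lit 0))) (Tr.node (Tr.leaf (nat_lit 0x82442)) (Tr.leaf (nat_lit 0))))))) (Tr.node (Tr.node (Tr.node (Tr.node (Tr.node (Tr.leaf (nat_lit 0x9d82)) (Tr.leaf (nat_lit 0xe59c82))) (Tr.node (Tr.leaf (nat_lit 0x860422)) (Tr.leaf (nat_lit 0)))) (Tr.node (Tr.node (Tr.leaf (nat_lit 0x19862)) (Tr.leaf (nat_lit 0xc3a022))) (Tr.node (Tr.leaf (nat_lit 0x7a021)) (Tr.leaf (nat_lit 0))))) (Tr.node (Tr.node (Tr.node (Tr.leaf (nat_lit 0x3d62)) (Tr.leaf (nat_lit 0x439821))) (Tr.node (Tr.leaf (nat_lit 0x7b821)) (Tr.leaf (nat_lit 0)))) (Tr.node (Tr.node (Tr.leaf (nat_lit 0x869c41)) (Tr.leaf (nat_lit 0))) (Tr.node (Tr.leaf (nat_lit 0xf0a021)) (Tr.leaf (nat_lit 0)))))) (Tr.node (Tr.node (Tr.node (Tr.node (Tr.leaf (nat_lit 0x1d42)) (Tr.leaf (nat_lit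 0x49c61))) (Tr.node (Tr.leaf (nat_lit 0x59c22)) (Tr.leaf (nat_lit 0)))) (Tr.node (Tr.node (Tr.leaf (nat_lit 0x3d42)) (Tr.leaf (nat_lit 0))) (Tr.node (Tr.leaf (nat_lit 0x54062)) (Tr.leaf (nat_lit 0))))) (Tr.node (Tr.node (Tr.node (Tr.leaf (nat_lit 0x2042)) (Tr.leaf (nat_lit 0xa09c22))) (Tr.node (Tr.leaf (nat_lit 0x470822)) (Tr.leaf (nat_lit 0)))) (Tr.node (Tr.node (Tr.leaf (nat_lit 0x69d21)) (Tr.leaf (nat_lit 0))) (Tr.node (Tr.leaf (nat_lit 0x17a022)) (Tr.leaf (nat_lit 0)))))))) (Tr.node (Tr.node (Tr.node (Tr.node (Tr.node (Tr.node (Tr.leaf (nat_lit 0x1822)) (Tr.leaf (nat_lit 0xc41))) (Tr.node (Tr.leaf (nat_lit 0xc31042)) (Tr.leaf (nat_lit 0)))) (Tr.node (Tr.node (Tr.leaf (nat_lit 0x63042)) (Tr.leaf (nat_lit 0x7b481))) (Tr.node (Tr.leaf (nat_lit 0xf6c021)) (Tr.leaf (nat_lit 0))))) (Tr.node (Tr.node (Tr.node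 (Tr.leaf (nat_lit 0x1821)) (Tr.leaf (nat_lit 0xc7b821))) (Tr.node (Tr.leaf (nat_lit 0x30a1)) (Tr.leaf (nat_lit 0)))) (Tr.node (Tr.node (Tr.leaf (nat_lit 0x1029c21)) (Tr.leaf (nat_lit 0))) (Tr.node (Tr.leaf (nat_lit 0x838c41)) (Tr.leaf (nat_lit 0)))))) (Tr.node (Tr.node (Tr.node (Tr.node (Tr.leaf (nat_lit 0x71042)) (Tr.leaf (nat_lit 0x4121))) (Tr.node (Tr.leaf (nat_lit 0x63ac81)) (Tr.leaf (nat_lit 0)))) (Tr.node (Tr.node (Tr.leaf (nat_lit 0xe5bc61)) (Tr.leaf (nat_lit 0x649c61))) (Tr.node (Tr.leaf (nat_lit 0xe3a822)) (Tr.leaf (nat_lit 0))))) (Tr.node (Tr.node (Tr.node (Tr.leaf (nat_lit 0x4bc62)) (Tr.leaf (nat_lit 0xf52042))) (Tr.node (Tr.leaf (nat_lit 0x1049c21)) (Tr.leaf (nat_lit 0)))) (Tr.node (Tr.node (Tr.leaf (nat_lit 0xf30821)) (Tr.leaf (nat_lit 0))) (Tr.node (Tr.leaf (nat_lit 0xf81421)) (Tr.leaf (nat_lit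 0))))))) (Tr.node (Tr.node (Tr.node (Tr.node (Tr.node (Tr.leaf (nat_lit 0x7b862)) (Tr.leaf (nat_lit 0x763821))) (Tr.node (Tr.leaf (nat_lit 0x50c22)) (Tr.leaf (nat_lit 0)))) (Tr.node (Tr.node (Tr.leaf (nat_lit 0x309c22)) (Tr.leaf (nat_lit 0x3481))) (Tr.node (Tr.leaf (nat_lit 0x831022)) (Tr.leaf (nat_lit 0))))) (Tr.node (Tr.node (Tr.node (Tr.leaf (nat_lit 0xc79022)) (Tr.leaf (nat_lit 0x61c41))) (Tr.node (Tr.leaf (nat_lit 0x59862)) (Tr.leaf (nat_lit 0)))) (Tr.node (Tr.node (Tr.leaf (nat_lit 0x84bc41)) (Tr.leaf (nat_lit 0))) (Tr.node (Tr.leaf (nat_lit 0xe10422)) (Tr.leaf (nat_lit 0)))))) (Tr.node (Tr.node (Tr.node (Tr.node (Tr.leaf (nat_lit 0x1058822)) (Tr.leaf (nat_lit 0x73021))) (Tr.node (Tr.leaf (nat_lit 0x50481)) (Tr.leaf (nat_lit 0)))) (Tr.node (Tr.node (Tr.leaf (nat_lit 0x2c041)) (Tr.leaf (nat_lit 0)))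 (Tr.node (Tr.leaf (nat_lit 0x81c61)) (Tr.leaf (nat_lit 0))))) (Tr.node (Tr.node (Tr.node (Tr.leaf (nat_lit 0x410e1)) (Tr.leaf (nat_lit 0xa821))) (Tr.node (Tr.leaf (nat_lit 0xe5a822)) (Tr.leaf (nat_lit 0)))) (Tr.node (Tr.node (Tr.leaf (nat_lit 0x49922)) (Tr.leaf (nat_lit 0))) (Tr.node (Tr.leaf (nat_lit 0x23c82)) (Tr.leaf (nat_lit 0)))))))))) (Tr.node (Tr.node (Tr.node (Tr.node (Tr.node (Tr.node (Tr.node (Tr.node (Tr.leaf (nat_lit 0x1)) (Tr.leaf (nat_lit 0x47c022))) (Tr.node (Tr.leaf (nat_lit 0xe79461)) (Tr.leaf (nat_lit 0)))) (Tr.node (Tr.node (Tr.leaf (nat_lit 0x3a062)) (Tr.leaf (nat_lit 0x47a022))) (Tr.node (Tr.leaf (nat_lit 0xc7a021)) (Tr.leaf (nat_lit 0))))) (Tr.node (Tr.node (Tr.node (Tr.leaf (nat_lit 0x39882)) (Tr.leaf (nat_lit 0x820822))) (Tr.node (Tr.leaf (nat_lit 0x42922)) (Tr.leaf (nat_lit 0))))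 (Tr.node (Tr.node (Tr.leaf (nat_lit 0x71d62)) (Tr.leaf (nat_lit 0))) (Tr.node (Tr.leaf (nat_lit 0x730c21)) (Tr.leaf (nat_lit 0)))))) (Tr.node (Tr.node (Tr.node (Tr.node (Tr.leaf (nat_lit 0x1a122)) (Tr.leaf (nat_lit 0x23d82))) (Tr.node (Tr.leaf (nat_lit 0x3a862)) (Tr.leaf (nat_lit 0)))) (Tr.node (Tr.node (Tr.leaf (nat_lit 0x813c22)) (Tr.leaf (nat_lit 0x5bd42))) (Tr.node (Tr.leaf (nat_lit 0xb73c21)) (Tr.leaf (nat_lit 0))))) (Tr.node (Tr.node (Tr.node (Tr.leaf (nat_lit 0x60422)) (Tr.leaf (nat_lit 0x79981))) (Tr.node (Tr.leaf (nat_lit 0x13c41)) (Tr.leaf (nat_lit 0)))) (Tr.node (Tr.node (Tr.leaf (nat_lit 0x1c81)) (Tr.leaf (nat_lit 0))) (Tr.node (Tr.leaf (nat_lit 0x379022)) (Tr.leaf (nat_lit 0))))))) (Tr.node (Tr.node (Tr.node (Tr.node (Tr.node (Tr.leaf (nat_lit 0x62)) (Tr.leaf (nat_lit 0x19d62))) (Tr.node (Tr.leaf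 (nat_lit 0x40481)) (Tr.leaf (nat_lit 0)))) (Tr.node (Tr.node (Tr.leaf (nat_lit 0x980c42)) (Tr.leaf (nat_lit 0x3121))) (Tr.node (Tr.leaf (nat_lit 0x341c21)) (Tr.leaf (nat_lit 0))))) (Tr.node (Tr.node (Tr.node (Tr.leaf (nat_lit 0x198e1)) (Tr.leaf (nat_lit 0x33a822))) (Tr.node (Tr.leaf (nat_lit 0x649c81)) (Tr.leaf (nat_lit 0)))) (Tr.node (Tr.node (Tr.leaf (nat_lit 0x849ca1)) (Tr.leaf (nat_lit 0))) (Tr.node (Tr.leaf (nat_lit 0x28c61)) (Tr.leaf (nat_lit 0)))))) (Tr.node (Tr.node (Tr.node (Tr.node (Tr.leaf (nat_lit 0x21862)) (Tr.leaf (nat_lit 0x81))) (Tr.node (Tr.leaf (nat_lit 0x853c22)) (Tr.leaf (nat_lit 0)))) (Tr.node (Tr.node (Tr.leaf (nat_lit 0x7c022)) (Tr.leaf (nat_lit 0))) (Tr.node (Tr.leaf (nat_lit 0x97a442)) (Tr.leaf (nat_lit 0))))) (Tr.node (Tr.node (Tr.node (Tr.leaf (nat_lit 0x649c21)) (Tr.leaf (nat_lit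 0x18822))) (Tr.node (Tr.leaf (nat_lit 0x3ca1)) (Tr.leaf (nat_lit 0)))) (Tr.node (Tr.node (Tr.leaf (nat_lit 0x78cc1)) (Tr.leaf (nat_lit 0))) (Tr.node (Tr.leaf (nat_lit 0x823c21)) (Tr.leaf (nat_lit 0)))))))) (Tr.node (Tr.node (Tr.node (Tr.node (Tr.node (Tr.node (Tr.leaf (nat_lit 0xf51022)) (Tr.leaf (nat_lit 0x51062))) (Tr.node (Tr.leaf (nat_lit 0x102bc41)) (Tr.leaf (nat_lit 0)))) (Tr.node (Tr.node (Tr.leaf (nat_lit 0x5c082)) (Tr.leaf (nat_lit 0x10c21))) (Tr.node (Tr.leaf (nat_lit 0x3a922)) (Tr.leaf (nat_lit 0))))) (Tr.node (Tr.node (Tr.node (Tr.leaf (nat_lit 0x82462)) (Tr.leaf (nat_lit 0x1038c21))) (Tr.node (Tr.leaf (nat_lit 0xe7b061)) (Tr.leaf (nat_lit 0)))) (Tr.node (Tr.node (Tr.leaf (nat_lit 0x105bc61)) (Tr.leaf (nat_lit 0))) (Tr.node (Tr.leaf (nat_lit 0x1061)) (Tr.leaf (nat_lit 0)))))) (Tr.node (Tr.node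 (Tr.node (Tr.node (Tr.leaf (nat_lit 0x83022)) (Tr.leaf (nat_lit 0x63a021))) (Tr.node (Tr.leaf (nat_lit 0x20422)) (Tr.leaf (nat_lit 0)))) (Tr.node (Tr.node (Tr.leaf (nat_lit 0x10822)) (Tr.leaf (nat_lit 0x7acc1))) (Tr.node (Tr.leaf (nat_lit 0xb10422)) (Tr.leaf (nat_lit 0))))) (Tr.node (Tr.node (Tr.node (Tr.leaf (nat_lit 0x33022)) (Tr.leaf (nat_lit 0x71c81))) (Tr.node (Tr.leaf (nat_lit 0x39821)) (Tr.leaf (nat_lit 0)))) (Tr.node (Tr.node (Tr.leaf (nat_lit 0xb21822)) (Tr.leaf (nat_lit 0))) (Tr.node (Tr.leaf (nat_lit 0x1c062)) (Tr.leaf (nat_lit 0))))))) (Tr.node (Tr.node (Tr.node (Tr.node (Tr.node (Tr.leaf (nat_lit 0x5ac42)) (Tr.leaf (nat_lit 0x4081))) (Tr.node (Tr.leaf (nat_lit 0x1061c41)) (Tr.leaf (nat_lit 0)))) (Tr.node (Tr.node (Tr.leaf (nat_lit 0x3c42)) (Tr.leaf (nat_lit 0x53d42))) (Tr.node (Tr.leaf (nat_lit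 0x1048c42)) (Tr.leaf (nat_lit 0))))) (Tr.node (Tr.node (Tr.node (Tr.leaf (nat_lit 0x3a061)) (Tr.leaf (nat_lit 0x640c22))) (Tr.node (Tr.leaf (nat_lit 0x35a1)) (Tr.leaf (nat_lit 0)))) (Tr.node (Tr.node (Tr.leaf (nat_lit 0x106bc61)) (Tr.leaf (nat_lit 0))) (Tr.node (Tr.leaf (nat_lit 0xd81)) (Tr.leaf (nat_lit 0)))))) (Tr.node (Tr.node (Tr.node (Tr.node (Tr.leaf (nat_lit 0xa31c21)) (Tr.leaf (nat_lit 0x19982))) (Tr.node (Tr.leaf (nat_lit 0x81d21)) (Tr.leaf (nat_lit 0)))) (Tr.node (Tr.node (Tr.leaf (nat_lit 0x5ac22)) (Tr.leaf (nat_lit 0))) (Tr.node (Tr.leaf (nat_lit 0x42442)) (Tr.leaf (nat_lit 0))))) (Tr.node (Tr.node (Tr.node (Tr.leaf (nat_lit 0xf0c021)) (Tr.leaf (nat_lit 0x939821))) (Tr.node (Tr.leaf (nat_lit 0x24062)) (Tr.leaf (nat_lit 0)))) (Tr.node (Tr.node (Tr.leaf (nat_lit 0xe59c41)) (Tr.leaf (nat_lit 0)))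 (Tr.node (Tr.leaf (nat_lit 0xa7b821)) (Tr.leaf (nat_lit 0))))))))) (Tr.node (Tr.node (Tr.node (Tr.node (Tr.node (Tr.node (Tr.node (Tr.leaf (nat_lit 0x42)) (Tr.leaf (nat_lit 0xb71c21))) (Tr.node (Tr.leaf (nat_lit 0x859c62)) (Tr.leaf (nat_lit 0)))) (Tr.node (Tr.node (Tr.leaf (nat_lit 0xce1)) (Tr.leaf (nat_lit 0x51421))) (Tr.node (Tr.leaf (nat_lit 0x38822)) (Tr.leaf (nat_lit 0))))) (Tr.node (Tr.node (Tr.node (Tr.leaf (nat_lit 0xf60c22)) (Tr.leaf (nat_lit 0x61982))) (Tr.node (Tr.leaf (nat_lit 0x101bc42)) (Tr.leaf (nat_lit 0)))) (Tr.node (Tr.node (Tr.leaf (nat_lit 0x51481)) (Tr.leaf (nat_lit 0))) (Tr.node (Tr.leaf (nat_lit 0x2081)) (Tr.leaf (nat_lit 0)))))) (Tr.node (Tr.node (Tr.node (Tr.node (Tr.leaf (nat_lit 0x73c82)) (Tr.leaf (nat_lit 0x5bc61))) (Tr.node (Tr.leaf (nat_lit 0x20c22)) (Tr.leaf (nat_lit 0))))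 (Tr.node (Tr.node (Tr.leaf (nat_lit 0x80861)) (Tr.leaf (nat_lit 0x63a461))) (Tr.node (Tr.leaf (nat_lit 0x1018422)) (Tr.leaf (nat_lit 0))))) (Tr.node (Tr.node (Tr.node (Tr.leaf (nat_lit 0x982c22)) (Tr.leaf (nat_lit 0x60c41))) (Tr.node (Tr.leaf (nat_lit 0xa21c22)) (Tr.leaf (nat_lit 0)))) (Tr.node (Tr.node (Tr.leaf (nat_lit 0x11d42)) (Tr.leaf (nat_lit 0))) (Tr.node (Tr.leaf (nat_lit 0x40821)) (Tr.leaf (nat_lit 0))))))) (Tr.node (Tr.node (Tr.node (Tr.node (Tr.node (Tr.leaf (nat_lit 0x2d22)) (Tr.leaf (nat_lit 0xb3a822))) (Tr.node (Tr.leaf (nat_lit 0x24022)) (Tr.leaf (nat_lit 0)))) (Tr.node (Tr.node (Tr.leaf (nat_lit 0x79961)) (Tr.leaf (nat_lit 0x2bd61))) (Tr.node (Tr.leaf (nat_lit 0xb51c22)) (Tr.leaf (nat_lit 0))))) (Tr.node (Tr.node (Tr.node (Tr.leaf (nat_lit 0x3aca1)) (Tr.leaf (nat_lit 0x80c41))) (Tr.node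 (Tr.leaf (nat_lit 0x78c21)) (Tr.leaf (nat_lit 0)))) (Tr.node (Tr.node (Tr.leaf (nat_lit 0x581)) (Tr.leaf (nat_lit 0))) (Tr.node (Tr.leaf (nat_lit 0xe3b041)) (Tr.leaf (nat_lit 0)))))) (Tr.node (Tr.node (Tr.node (Tr.node (Tr.leaf (nat_lit 0x2062)) (Tr.leaf (nat_lit 0x13c62))) (Tr.node (Tr.leaf (nat_lit 0x121)) (Tr.leaf (nat_lit 0)))) (Tr.node (Tr.node (Tr.leaf (nat_lit 0x19c22)) (Tr.leaf (nat_lit 0))) (Tr.node (Tr.leaf (nat_lit 0x663c41)) (Tr.leaf (nat_lit 0))))) (Tr.node (Tr.node (Tr.node (Tr.leaf (nat_lit 0x3b042)) (Tr.leaf (nat_lit 0x41ca1))) (Tr.node (Tr.leaf (nat_lit 0x31421)) (Tr.leaf (nat_lit 0)))) (Tr.node (Tr.node (Tr.leaf (nat_lit 0x1079021)) (Tr.leaf (nat_lit 0))) (Tr.node (Tr.leaf (nat_lit 0x31c81)) (Tr.leaf (nat_lit 0)))))))) (Tr.node (Tr.node (Tr.node (Tr.node (Tr.node (Tr.node (Tr.leaf (nat_lit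 0x4a0e1)) (Tr.leaf (nat_lit 0x433022))) (Tr.node (Tr.leaf (nat_lit 0x1861)) (Tr.leaf (nat_lit 0)))) (Tr.node (Tr.node (Tr.leaf (nat_lit 0x313c62)) (Tr.leaf (nat_lit 0x81062))) (Tr.node (Tr.leaf (nat_lit 0x72021)) (Tr.leaf (nat_lit 0))))) (Tr.node (Tr.node (Tr.node (Tr.leaf (nat_lit 0x1078481)) (Tr.leaf (nat_lit 0xb40822))) (Tr.node (Tr.leaf (nat_lit 0x38c21)) (Tr.leaf (nat_lit 0)))) (Tr.node (Tr.node (Tr.leaf (nat_lit 0x19882)) (Tr.leaf (nat_lit 0))) (Tr.node (Tr.leaf (nat_lit 0x63841)) (Tr.leaf (nat_lit 0)))))) (Tr.node (Tr.node (Tr.node (Tr.node (Tr.leaf (nat_lit 0x81c82)) (Tr.leaf (nat_lit 0x424e1))) (Tr.node (Tr.leaf (nat_lit 0x83c81)) (Tr.leaf (nat_lit 0)))) (Tr.node (Tr.node (Tr.leaf (nat_lit 0x24c1)) (Tr.leaf (nat_lit 0x54182))) (Tr.node (Tr.leaf (nat_lit 0xc42)) (Tr.leaf (nat_lit 0))))) (Tr.node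 (Tr.node (Tr.node (Tr.leaf (nat_lit 0x32062)) (Tr.leaf (nat_lit 0x531c81))) (Tr.node (Tr.leaf (nat_lit 0x1b021)) (Tr.leaf (nat_lit 0)))) (Tr.node (Tr.node (Tr.leaf (nat_lit 0x798a1)) (Tr.leaf (nat_lit 0))) (Tr.node (Tr.leaf (nat_lit 0x620c42)) (Tr.leaf (nat_lit 0))))))) (Tr.node (Tr.node (Tr.node (Tr.node (Tr.node (Tr.leaf (nat_lit 0x79962)) (Tr.leaf (nat_lit 0x749822))) (Tr.node (Tr.leaf (nat_lit 0x18c42)) (Tr.leaf (nat_lit 0)))) (Tr.node (Tr.node (Tr.leaf (nat_lit 0x7a922)) (Tr.leaf (nat_lit 0x1010422))) (Tr.node (Tr.leaf (nat_lit 0x31c21)) (Tr.leaf (nat_lit 0))))) (Tr.node (Tr.node (Tr.node (Tr.leaf (nat_lit 0x139821)) (Tr.leaf (nat_lit 0x3441))) (Tr.node (Tr.leaf (nat_lit 0x19d82)) (Tr.leaf (nat_lit 0)))) (Tr.node (Tr.node (Tr.leaf (nat_lit 0xb20422)) (Tr.leaf (nat_lit 0))) (Tr.node (Tr.leaf (nat_lit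 0x51c82)) (Tr.leaf (nat_lit 0)))))) (Tr.node (Tr.node (Tr.node (Tr.node (Tr.leaf (nat_lit 0x31042)) (Tr.leaf (nat_lit 0x70821))) (Tr.node (Tr.leaf (nat_lit 0xc79821)) (Tr.leaf (nat_lit 0)))) (Tr.node (Tr.node (Tr.leaf (nat_lit 0x41c61)) (Tr.leaf (nat_lit 0))) (Tr.node (Tr.leaf (nat_lit 0x4c022)) (Tr.leaf (nat_lit 0))))) (Tr.node (Tr.node (Tr.node (Tr.leaf (nat_lit 0xc58422)) (Tr.leaf (nat_lit 0x2921))) (Tr.node (Tr.leaf (nat_lit 0x3a961)) (Tr.leaf (nat_lit 0)))) (Tr.node (Tr.node (Tr.leaf (nat_lit 0x38821)) (Tr.leaf (nat_lit 0))) (Tr.node (Tr.leaf (nat_lit 0x63842)) (Tr.leaf (nat_lit 0))))))))))) (Tr.node (Tr.node (Tr.node (Tr.node (Tr.node (Tr.node (Tr.node (Tr.node (Tr.node (Tr.leaf (nat_lit 0x18e1)) (Tr.leaf (nat_lit 0xe22042))) (Tr.node (Tr.leaf (nat_lit 0xbd62)) (Tr.leaf (nat_lit 0)))) (Tr.node (Tr.node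 (Tr.leaf (nat_lit 0x53c42)) (Tr.leaf (nat_lit 0x1c41))) (Tr.node (Tr.leaf (nat_lit 0xe58422)) (Tr.leaf (nat_lit 0))))) (Tr.node (Tr.node (Tr.node (Tr.leaf (nat_lit 0x3c22)) (Tr.leaf (nat_lit 0x70822))) (Tr.node (Tr.leaf (nat_lit 0x1bc21)) (Tr.leaf (nat_lit 0)))) (Tr.node (Tr.node (Tr.leaf (nat_lit 0x6ac21)) (Tr.leaf (nat_lit 0))) (Tr.node (Tr.leaf (nat_lit 0x49c21)) (Tr.leaf (nat_lit 0)))))) (Tr.node (Tr.node (Tr.node (Tr.node (Tr.leaf (nat_lit 0x59cc1)) (Tr.leaf (nat_lit 0x4181))) (Tr.node (Tr.leaf (nat_lit 0x12022)) (Tr.leaf (nat_lit 0)))) (Tr.node (Tr.node (Tr.leaf (nat_lit 0x518e1)) (Tr.leaf (nat_lit 0x3a081))) (Tr.node (Tr.leaf (nat_lit 0x819c62)) (Tr.leaf (nat_lit 0))))) (Tr.node (Tr.node (Tr.node (Tr.leaf (nat_lit 0x5b882)) (Tr.leaf (nat_lit 0xaca1))) (Tr.node (Tr.leaf (nat_lit 0x231042)) (Tr.leaf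 (nat_lit 0)))) (Tr.node (Tr.node (Tr.leaf (nat_lit 0x39421)) (Tr.leaf (nat_lit 0))) (Tr.node (Tr.leaf (nat_lit 0xb39022)) (Tr.leaf (nat_lit 0))))))) (Tr.node (Tr.node (Tr.node (Tr.node (Tr.node (Tr.leaf (nat_lit 0x1982)) (Tr.leaf (nat_lit 0x638c21))) (Tr.node (Tr.leaf (nat_lit 0x63022)) (Tr.leaf (nat_lit 0)))) (Tr.node (Tr.node (Tr.leaf (nat_lit 0x7a541)) (Tr.leaf (nat_lit 0x371c21))) (Tr.node (Tr.leaf (nat_lit 0x1b842)) (Tr.leaf (nat_lit 0))))) (Tr.node (Tr.node (Tr.node (Tr.leaf (nat_lit 0x22082)) (Tr.leaf (nat_lit 0x32c21))) (Tr.node (Tr.leaf (nat_lit 0x81c41)) (Tr.leaf (nat_lit 0)))) (Tr.node (Tr.node (Tr.leaf (nat_lit 0x1051c41)) (Tr.leaf (nat_lit 0))) (Tr.node (Tr.leaf (nat_lit 0xf21822)) (Tr.leaf (nat_lit 0)))))) (Tr.node (Tr.node (Tr.node (Tr.node (Tr.leaf (nat_lit 0xc18422)) (Tr.leaf (nat_lit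 0xb52042))) (Tr.node (Tr.leaf (nat_lit 0x5a062)) (Tr.leaf (nat_lit 0)))) (Tr.node (Tr.node (Tr.leaf (nat_lit 0xe48c42)) (Tr.leaf (nat_lit 0))) (Tr.node (Tr.leaf (nat_lit 0xe4bc81)) (Tr.leaf (nat_lit 0))))) (Tr.node (Tr.node (Tr.node (Tr.leaf (nat_lit 0x370822)) (Tr.leaf (nat_lit 0x64bc81))) (Tr.node (Tr.leaf (nat_lit 0x714e1)) (Tr.leaf (nat_lit 0)))) (Tr.node (Tr.node (Tr.leaf (nat_lit 0xf30c42)) (Tr.leaf (nat_lit 0))) (Tr.node (Tr.leaf (nat_lit 0xf73021)) (Tr.leaf (nat_lit 0)))))))) (Tr.node (Tr.node (Tr.node (Tr.node (Tr.node (Tr.node (Tr.leaf (nat_lit 0x2d62)) (Tr.leaf (nat_lit 0x61d62))) (Tr.node (Tr.leaf (nat_lit 0x41062)) (Tr.leaf (nat_lit 0)))) (Tr.node (Tr.node (Tr.leaf (nat_lit 0x4022)) (Tr.leaf (nat_lit 0x722022))) (Tr.node (Tr.leaf (nat_lit 0xc49c22)) (Tr.leaf (nat_lit 0))))) (Tr.node (Tr.node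 (Tr.node (Tr.leaf (nat_lit 0x1c62)) (Tr.leaf (nat_lit 0x181))) (Tr.node (Tr.leaf (nat_lit 0x63c41)) (Tr.leaf (nat_lit 0)))) (Tr.node (Tr.node (Tr.leaf (nat_lit 0x23c42)) (Tr.leaf (nat_lit 0))) (Tr.node (Tr.leaf (nat_lit 0x2d21)) (Tr.leaf (nat_lit 0)))))) (Tr.node (Tr.node (Tr.node (Tr.node (Tr.leaf (nat_lit 0x730e1)) (Tr.leaf (nat_lit 0x30c41))) (Tr.node (Tr.leaf (nat_lit 0x62082)) (Tr.leaf (nat_lit 0)))) (Tr.node (Tr.node (Tr.leaf (nat_lit 0x4ac21)) (Tr.leaf (nat_lit 0x29441))) (Tr.node (Tr.leaf (nat_lit 0x8821)) (Tr.leaf (nat_lit 0))))) (Tr.node (Tr.node (Tr.node (Tr.leaf (nat_lit 0x78822)) (Tr.leaf (nat_lit 0x74a021))) (Tr.node (Tr.leaf (nat_lit 0x3b481)) (Tr.leaf (nat_lit 0)))) (Tr.node (Tr.node (Tr.leaf (nat_lit 0x59822)) (Tr.leaf (nat_lit 0))) (Tr.node (Tr.leaf (nat_lit 0x59022)) (Tr.leaf (nat_lit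 0))))))) (Tr.node (Tr.node (Tr.node (Tr.node (Tr.node (Tr.leaf (nat_lit 0x39042)) (Tr.leaf (nat_lit 0x7a442))) (Tr.node (Tr.leaf (nat_lit 0xe38822)) (Tr.leaf (nat_lit 0)))) (Tr.node (Tr.node (Tr.leaf (nat_lit 0x730821)) (Tr.leaf (nat_lit 0xa20422))) (Tr.node (Tr.leaf (nat_lit 0x31022)) (Tr.leaf (nat_lit 0))))) (Tr.node (Tr.node (Tr.node (Tr.leaf (nat_lit 0x1d21)) (Tr.leaf (nat_lit 0xb041))) (Tr.node (Tr.leaf (nat_lit 0x18a1)) (Tr.leaf (nat_lit 0)))) (Tr.node (Tr.node (Tr.leaf (nat_lit 0x849c81)) (Tr.leaf (nat_lit 0))) (Tr.node (Tr.leaf (nat_lit 0x81c21)) (Tr.leaf (nat_lit 0)))))) (Tr.node (Tr.node (Tr.node (Tr.node (Tr.leaf (nat_lit 0x1078441)) (Tr.leaf (nat_lit 0x983c21))) (Tr.node (Tr.leaf (nat_lit 0x541c41)) (Tr.leaf (nat_lit 0)))) (Tr.node (Tr.node (Tr.leaf (nat_lit 0x39841)) (Tr.leaf (nat_lit 0)))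 (Tr.node (Tr.leaf (nat_lit 0x23882)) (Tr.leaf (nat_lit 0))))) (Tr.node (Tr.node (Tr.node (Tr.leaf (nat_lit 0x13d62)) (Tr.leaf (nat_lit 0xe5bc21))) (Tr.node (Tr.leaf (nat_lit 0xb58822)) (Tr.leaf (nat_lit 0)))) (Tr.node (Tr.node (Tr.leaf (nat_lit 0x71c41)) (Tr.leaf (nat_lit 0))) (Tr.node (Tr.leaf (nat_lit 0x43a021)) (Tr.leaf (nat_lit 0))))))))) (Tr.node (Tr.node (Tr.node (Tr.node (Tr.node (Tr.node (Tr.node (Tr.leaf (nat_lit 0x40ce1)) (Tr.leaf (nat_lit 0x69861))) (Tr.node (Tr.leaf (nat_lit 0x63821)) (Tr.leaf (nat_lit 0)))) (Tr.node (Tr.node (Tr.leaf (nat_lit 0x839021)) (Tr.leaf (nat_lit 0x50c21))) (Tr.node (Tr.leaf (nat_lit 0x61862)) (Tr.leaf (nat_lit 0))))) (Tr.node (Tr.node (Tr.node (Tr.leaf (nat_lit 0x82862)) (Tr.leaf (nat_lit 0xf13c22))) (Tr.node (Tr.leaf (nat_lit 0x104bc42)) (Tr.leaf (nat_lit 0)))) (Tr.node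 (Tr.node (Tr.leaf (nat_lit 0x41c42)) (Tr.leaf (nat_lit 0))) (Tr.node (Tr.leaf (nat_lit 0xe7ac21)) (Tr.leaf (nat_lit 0)))))) (Tr.node (Tr.node (Tr.node (Tr.node (Tr.leaf (nat_lit 0x32ce1)) (Tr.leaf (nat_lit 0x1bc42))) (Tr.node (Tr.leaf (nat_lit 0x69c21)) (Tr.leaf (nat_lit 0)))) (Tr.node (Tr.node (Tr.leaf (nat_lit 0xa18422)) (Tr.leaf (nat_lit 0x62d42))) (Tr.node (Tr.leaf (nat_lit 0x730c41)) (Tr.leaf (nat_lit 0))))) (Tr.node (Tr.node (Tr.node (Tr.leaf (nat_lit 0x7b121)) (Tr.leaf (nat_lit 0x531c61))) (Tr.node (Tr.leaf (nat_lit 0x280822)) (Tr.leaf (nat_lit 0)))) (Tr.node (Tr.node (Tr.leaf (nat_lit 0x83c61)) (Tr.leaf (nat_lit 0))) (Tr.node (Tr.leaf (nat_lit 0x83021)) (Tr.leaf (nat_lit 0))))))) (Tr.node (Tr.node (Tr.node (Tr.node (Tr.node (Tr.leaf (nat_lit 0x3862)) (Tr.leaf (nat_lit 0x63c82))) (Tr.node (Tr.leaf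 (nat_lit 0x31441)) (Tr.leaf (nat_lit 0)))) (Tr.node (Tr.node (Tr.leaf (nat_lit 0x2bc41)) (Tr.leaf (nat_lit 0x51d22))) (Tr.node (Tr.leaf (nat_lit 0x59821)) (Tr.leaf (nat_lit 0))))) (Tr.node (Tr.node (Tr.node (Tr.leaf (nat_lit 0x3142)) (Tr.leaf (nat_lit 0x52162))) (Tr.node (Tr.leaf (nat_lit 0xc10422)) (Tr.leaf (nat_lit 0)))) (Tr.node (Tr.node (Tr.leaf (nat_lit 0x2c41)) (Tr.leaf (nat_lit 0))) (Tr.node (Tr.leaf (nat_lit 0x139841)) (Tr.leaf (nat_lit 0)))))) (Tr.node (Tr.node (Tr.node (Tr.node (Tr.leaf (nat_lit 0xb862)) (Tr.leaf (nat_lit 0x30c1))) (Tr.node (Tr.leaf (nat_lit 0x79461)) (Tr.leaf (nat_lit 0)))) (Tr.node (Tr.node (Tr.leaf (nat_lit 0x83c41)) (Tr.leaf (nat_lit 0))) (Tr.node (Tr.leaf (nat_lit 0x61441)) (Tr.leaf (nat_lit 0))))) (Tr.node (Tr.node (Tr.node (Tr.leaf (nat_lit 0x2482)) (Tr.leaf (nat_lit 0x11d41)))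 (Tr.node (Tr.leaf (nat_lit 0x14021)) (Tr.leaf (nat_lit 0)))) (Tr.node (Tr.node (Tr.leaf (nat_lit 0x1039021)) (Tr.leaf (nat_lit 0))) (Tr.node (Tr.leaf (nat_lit 0x20c21)) (Tr.leaf (nat_lit 0)))))))) (Tr.node (Tr.node (Tr.node (Tr.node (Tr.node (Tr.node (Tr.leaf (nat_lit 0xc62)) (Tr.leaf (nat_lit 0x60441))) (Tr.node (Tr.leaf (nat_lit 0xf52822)) (Tr.leaf (nat_lit 0)))) (Tr.node (Tr.node (Tr.leaf (nat_lit 0x7a441)) (Tr.leaf (nat_lit 0x941062))) (Tr.node (Tr.leaf (nat_lit 0xc83c21)) (Tr.leaf (nat_lit 0))))) (Tr.node (Tr.node (Tr.node (Tr.leaf (nat_lit 0x7c041)) (Tr.leaf (nat_lit 0x1881))) (Tr.node (Tr.leaf (nat_lit 0x62822)) (Tr.leaf (nat_lit 0)))) (Tr.node (Tr.node (Tr.leaf (nat_lit 0x59982)) (Tr.leaf (nat_lit 0))) (Tr.node (Tr.leaf (nat_lit 0x42441)) (Tr.leaf (nat_lit 0)))))) (Tr.node (Tr.node (Tr.node (Tr.node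 (Tr.leaf (nat_lit 0x4062)) (Tr.leaf (nat_lit 0x29c21))) (Tr.node (Tr.leaf (nat_lit 0xe39421)) (Tr.leaf (nat_lit 0)))) (Tr.node (Tr.node (Tr.leaf (nat_lit 0xf31421)) (Tr.leaf (nat_lit 0xf18c22))) (Tr.node (Tr.leaf (nat_lit 0x1bc82)) (Tr.leaf (nat_lit 0))))) (Tr.node (Tr.node (Tr.node (Tr.leaf (nat_lit 0x72c22)) (Tr.leaf (nat_lit 0x49021))) (Tr.node (Tr.leaf (nat_lit 0x79821)) (Tr.leaf (nat_lit 0)))) (Tr.node (Tr.node (Tr.leaf (nat_lit 0xa1)) (Tr.leaf (nat_lit 0))) (Tr.node (Tr.leaf (nat_lit 0x5bc41)) (Tr.leaf (nat_lit 0))))))) (Tr.node (Tr.node (Tr.node (Tr.node (Tr.node (Tr.leaf (nat_lit 0x1882)) (Tr.leaf (nat_lit 0x4b821))) (Tr.node (Tr.leaf (nat_lit 0x61c22)) (Tr.leaf (nat_lit 0)))) (Tr.node (Tr.node (Tr.leaf (nat_lit 0x63c62)) (Tr.leaf (nat_lit 0x3d81))) (Tr.node (Tr.leaf (nat_lit 0x704e1)) (Tr.leaf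 (nat_lit 0))))) (Tr.node (Tr.node (Tr.node (Tr.leaf (nat_lit 0x47a442)) (Tr.leaf (nat_lit 0x180822))) (Tr.node (Tr.leaf (nat_lit 0x13d82)) (Tr.leaf (nat_lit 0)))) (Tr.node (Tr.node (Tr.leaf (nat_lit 0xb79821)) (Tr.leaf (nat_lit 0))) (Tr.node (Tr.leaf (nat_lit 0xf20822)) (Tr.leaf (nat_lit 0)))))) (Tr.node (Tr.node (Tr.node (Tr.node (Tr.leaf (nat_lit 0x52862)) (Tr.leaf (nat_lit 0x21841))) (Tr.node (Tr.leaf (nat_lit 0x27a021)) (Tr.leaf (nat_lit 0)))) (Tr.node (Tr.node (Tr.leaf (nat_lit 0x1020c22)) (Tr.leaf (nat_lit 0))) (Tr.node (Tr.leaf (nat_lit 0x53c82)) (Tr.leaf (nat_lit 0))))) (Tr.node (Tr.node (Tr.node (Tr.leaf (nat_lit 0xc021)) (Tr.leaf (nat_lit 0x11d82))) (Tr.node (Tr.leaf (nat_lit 0x3ad42)) (Tr.leaf (nat_lit 0)))) (Tr.node (Tr.node (Tr.leaf (nat_lit 0x838822)) (Tr.leaf (nat_lit 0))) (Tr.node (Tr.leaf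 (nat_lit 0xbc42)) (Tr.leaf (nat_lit 0)))))))))) (Tr.node (Tr.node (Tr.node (Tr.node (Tr.node (Tr.node (Tr.node (Tr.node (Tr.leaf (nat_lit 0xe1)) (Tr.leaf (nat_lit 0x62081))) (Tr.node (Tr.leaf (nat_lit 0x61d82)) (Tr.leaf (nat_lit 0)))) (Tr.node (Tr.node (Tr.leaf (nat_lit 0x1c022)) (Tr.leaf (nat_lit 0x821))) (Tr.node (Tr.leaf (nat_lit 0x4a082)) (Tr.leaf (nat_lit 0))))) (Tr.node (Tr.node (Tr.node (Tr.leaf (nat_lit 0x7ac42)) (Tr.leaf (nat_lit 0x62d62))) (Tr.node (Tr.leaf (nat_lit 0x42d42)) (Tr.leaf (nat_lit 0)))) (Tr.node (Tr.node (Tr.leaf (nat_lit 0x21822)) (Tr.leaf (nat_lit 0))) (Tr.node (Tr.leaf (nat_lit 0x2881)) (Tr.leaf (nat_lit 0)))))) (Tr.node (Tr.node (Tr.node (Tr.node (Tr.leaf (nat_lit 0x4082)) (Tr.leaf (nat_lit 0x29d41))) (Tr.node (Tr.leaf (nat_lit 0x7b122)) (Tr.leaf (nat_lit 0)))) (Tr.node (Tr.node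 (Tr.leaf (nat_lit 0x4a021)) (Tr.leaf (nat_lit 0x2ca1))) (Tr.node (Tr.leaf (nat_lit 0x58822)) (Tr.leaf (nat_lit 0))))) (Tr.node (Tr.node (Tr.node (Tr.leaf (nat_lit 0x107ac21)) (Tr.leaf (nat_lit 0x1c021))) (Tr.node (Tr.leaf (nat_lit 0x411882)) (Tr.leaf (nat_lit 0)))) (Tr.node (Tr.node (Tr.leaf (nat_lit 0x63162)) (Tr.leaf (nat_lit 0))) (Tr.node (Tr.leaf (nat_lit 0x80821)) (Tr.leaf (nat_lit 0))))))) (Tr.node (Tr.node (Tr.node (Tr.node (Tr.node (Tr.leaf (nat_lit 0x3c61)) (Tr.leaf (nat_lit 0xf5bc62))) (Tr.node (Tr.leaf (nat_lit 0x72c42)) (Tr.leaf (nat_lit 0)))) (Tr.node (Tr.node (Tr.leaf (nat_lit 0x61421)) (Tr.leaf (nat_lit 0x12122))) (Tr.node (Tr.leaf (nat_lit 0x3a021)) (Tr.leaf (nat_lit 0))))) (Tr.node (Tr.node (Tr.node (Tr.leaf (nat_lit 0xf51841)) (Tr.leaf (nat_lit 0x59c82))) (Tr.node (Tr.leaf (nat_lit 0x3a822))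 (Tr.leaf (nat_lit 0)))) (Tr.node (Tr.node (Tr.leaf (nat_lit 0x6b441)) (Tr.leaf (nat_lit 0))) (Tr.node (Tr.leaf (nat_lit 0xe78c21)) (Tr.leaf (nat_lit 0)))))) (Tr.node (Tr.node (Tr.node (Tr.node (Tr.leaf (nat_lit 0x1c42)) (Tr.leaf (nat_lit 0xf81c81))) (Tr.node (Tr.leaf (nat_lit 0x82922)) (Tr.leaf (nat_lit 0)))) (Tr.node (Tr.node (Tr.leaf (nat_lit 0x3b581)) (Tr.leaf (nat_lit 0))) (Tr.node (Tr.leaf (nat_lit 0x279821)) (Tr.leaf (nat_lit 0))))) (Tr.node (Tr.node (Tr.node (Tr.leaf (nat_lit 0x7a082)) (Tr.leaf (nat_lit 0x4021))) (Tr.node (Tr.leaf (nat_lit 0x814e1)) (Tr.leaf (nat_lit 0)))) (Tr.node (Tr.node (Tr.leaf (nat_lit 0x65bc42)) (Tr.leaf (nat_lit 0))) (Tr.node (Tr.leaf (nat_lit 0x11c62)) (Tr.leaf (nat_lit 0)))))))) (Tr.node (Tr.node (Tr.node (Tr.node (Tr.node (Tr.node (Tr.leaf (nat_lit 0x51cc1)) (Tr.leaf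 (nat_lit 0x720422))) (Tr.node (Tr.leaf (nat_lit 0x69d41)) (Tr.leaf (nat_lit 0)))) (Tr.node (Tr.node (Tr.leaf (nat_lit 0x4e1)) (Tr.leaf (nat_lit 0x311c22))) (Tr.node (Tr.leaf (nat_lit 0xf2a021)) (Tr.leaf (nat_lit 0))))) (Tr.node (Tr.node (Tr.node (Tr.leaf (nat_lit 0x28c1)) (Tr.leaf (nat_lit 0xc5a822))) (Tr.node (Tr.leaf (nat_lit 0xe29c21)) (Tr.leaf (nat_lit 0)))) (Tr.node (Tr.node (Tr.leaf (nat_lit 0x52022)) (Tr.leaf (nat_lit 0))) (Tr.node (Tr.leaf (nat_lit 0x1921)) (Tr.leaf (nat_lit 0)))))) (Tr.node (Tr.node (Tr.node (Tr.node (Tr.leaf (nat_lit 0x4162)) (Tr.leaf (nat_lit 0x1bd61))) (Tr.node (Tr.leaf (nat_lit 0xb81c21)) (Tr.leaf (nat_lit 0)))) (Tr.node (Tr.node (Tr.leaf (nat_lit 0xf40821)) (Tr.leaf (nat_lit 0xf0c022))) (Tr.node (Tr.leaf (nat_lit 0x51841)) (Tr.leaf (nat_lit 0))))) (Tr.node (Tr.node (Tr.node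 (Tr.leaf (nat_lit 0x4c062)) (Tr.leaf (nat_lit 0x29c41))) (Tr.node (Tr.leaf (nat_lit 0x7c021)) (Tr.leaf (nat_lit 0)))) (Tr.node (Tr.node (Tr.leaf (nat_lit 0x710422)) (Tr.leaf (nat_lit 0))) (Tr.node (Tr.leaf (nat_lit 0x2cc1)) (Tr.leaf (nat_lit 0))))))) (Tr.node (Tr.node (Tr.node (Tr.node (Tr.node (Tr.leaf (nat_lit 0x281c41)) (Tr.leaf (nat_lit 0xf5b821))) (Tr.node (Tr.leaf (nat_lit 0x4bc22)) (Tr.leaf (nat_lit 0)))) (Tr.node (Tr.node (Tr.leaf (nat_lit 0x41c81)) (Tr.leaf (nat_lit 0x69821))) (Tr.node (Tr.leaf (nat_lit 0x10861)) (Tr.leaf (nat_lit 0))))) (Tr.node (Tr.node (Tr.node (Tr.leaf (nat_lit 0x7c061)) (Tr.leaf (nat_lit 0x59c81))) (Tr.node (Tr.leaf (nat_lit 0x849c61)) (Tr.leaf (nat_lit 0)))) (Tr.node (Tr.node (Tr.leaf (nat_lit 0x103b041)) (Tr.leaf (nat_lit 0))) (Tr.node (Tr.leaf (nat_lit 0x51d62)) (Tr.leaf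 (nat_lit 0)))))) (Tr.node (Tr.node (Tr.node (Tr.node (Tr.leaf (nat_lit 0x1058422)) (Tr.leaf (nat_lit 0x5a162))) (Tr.node (Tr.leaf (nat_lit 0x41c21)) (Tr.leaf (nat_lit 0)))) (Tr.node (Tr.node (Tr.leaf (nat_lit 0x461)) (Tr.leaf (nat_lit 0))) (Tr.node (Tr.leaf (nat_lit 0x42822)) (Tr.leaf (nat_lit 0))))) (Tr.node (Tr.node (Tr.node (Tr.leaf (nat_lit 0xb51022)) (Tr.leaf (nat_lit 0x51c41))) (Tr.node (Tr.leaf (nat_lit 0x71421)) (Tr.leaf (nat_lit 0)))) (Tr.node (Tr.node (Tr.leaf (nat_lit 0x30c42)) (Tr.leaf (nat_lit 0))) (Tr.node (Tr.leaf (nat_lit 0xc81c21)) (Tr.leaf (nat_lit 0))))))))) (Tr.node (Tr.node (Tr.node (Tr.node (Tr.node (Tr.node (Tr.node (Tr.leaf (nat_lit 0x22)) (Tr.leaf (nat_lit 0x10821))) (Tr.node (Tr.leaf (nat_lit 0x2181)) (Tr.leaf (nat_lit 0)))) (Tr.node (Tr.node (Tr.leaf (nat_lit 0x2182)) (Tr.leaf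 (nat_lit 0xa3a822))) (Tr.node (Tr.leaf (nat_lit 0x78861)) (Tr.leaf (nat_lit 0))))) (Tr.node (Tr.node (Tr.node (Tr.leaf (nat_lit 0xe20c22)) (Tr.leaf (nat_lit 0xc52822))) (Tr.node (Tr.leaf (nat_lit 0x29021)) (Tr.leaf (nat_lit 0)))) (Tr.node (Tr.node (Tr.leaf (nat_lit 0x3981)) (Tr.leaf (nat_lit 0))) (Tr.node (Tr.leaf (nat_lit 0x10c61)) (Tr.leaf (nat_lit 0)))))) (Tr.node (Tr.node (Tr.node (Tr.node (Tr.leaf (nat_lit 0x63122)) (Tr.leaf (nat_lit 0x13c22))) (Tr.node (Tr.leaf (nat_lit 0x52122)) (Tr.leaf (nat_lit 0)))) (Tr.node (Tr.node (Tr.leaf (nat_lit 0x19c62)) (Tr.leaf (nat_lit 0x181c41))) (Tr.node (Tr.leaf (nat_lit 0x629c21)) (Tr.leaf (nat_lit 0))))) (Tr.node (Tr.node (Tr.node (Tr.leaf (nat_lit 0x1c21)) (Tr.leaf (nat_lit 0x107b021))) (Tr.node (Tr.leaf (nat_lit 0x863c41)) (Tr.leaf (nat_lit 0)))) (Tr.node (Tr.node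 (Tr.leaf (nat_lit 0xf68821)) (Tr.leaf (nat_lit 0))) (Tr.node (Tr.leaf (nat_lit 0x7b041)) (Tr.leaf (nat_lit 0))))))) (Tr.node (Tr.node (Tr.node (Tr.node (Tr.node (Tr.leaf (nat_lit 0x421)) (Tr.leaf (nat_lit 0xb0a022))) (Tr.node (Tr.leaf (nat_lit 0x21022)) (Tr.leaf (nat_lit 0)))) (Tr.node (Tr.node (Tr.leaf (nat_lit 0xc61)) (Tr.leaf (nat_lit 0x241042))) (Tr.node (Tr.leaf (nat_lit 0xb83022)) (Tr.leaf (nat_lit 0))))) (Tr.node (Tr.node (Tr.node (Tr.leaf (nat_lit 0x7b882)) (Tr.leaf (nat_lit 0x441c21))) (Tr.node (Tr.leaf (nat_lit 0x732c21)) (Tr.leaf (nat_lit 0)))) (Tr.node (Tr.node (Tr.leaf (nat_lit 0x1078c41)) (Tr.leaf (nat_lit 0))) (Tr.node (Tr.leaf (nat_lit 0x181c21)) (Tr.leaf (nat_lit 0)))))) (Tr.node (Tr.node (Tr.node (Tr.node (Tr.leaf (nat_lit 0x73c61)) (Tr.leaf (nat_lit 0x23c21))) (Tr.node (Tr.leaf (nat_lit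 0x41)) (Tr.leaf (nat_lit 0)))) (Tr.node (Tr.node (Tr.leaf (nat_lit 0x7a4c1)) (Tr.leaf (nat_lit 0))) (Tr.node (Tr.leaf (nat_lit 0x32c42)) (Tr.leaf (nat_lit 0))))) (Tr.node (Tr.node (Tr.node (Tr.leaf (nat_lit 0x2c22)) (Tr.leaf (nat_lit 0x31ca1))) (Tr.node (Tr.leaf (nat_lit 0x23c62)) (Tr.leaf (nat_lit 0)))) (Tr.node (Tr.node (Tr.leaf (nat_lit 0x4ac41)) (Tr.leaf (nat_lit 0))) (Tr.node (Tr.leaf (nat_lit 0x104bc41)) (Tr.leaf (nat_lit 0)))))))) (Tr.node (Tr.node (Tr.node (Tr.node (Tr.node (Tr.node (Tr.leaf (nat_lit 0xe39021)) (Tr.leaf (nat_lit 0x740821))) (Tr.node (Tr.leaf (nat_lit 0x21)) (Tr.leaf (nat_lit 0)))) (Tr.node (Tr.node (Tr.leaf (nat_lit 0x409c42)) (Tr.leaf (nat_lit 0xe7b041))) (Tr.node (Tr.leaf (nat_lit 0x3a442)) (Tr.leaf (nat_lit 0))))) (Tr.node (Tr.node (Tr.node (Tr.leaf (nat_lit 0x51882)) (Tr.leaf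 (nat_lit 0xf30c21))) (Tr.node (Tr.leaf (nat_lit 0xb83c81)) (Tr.leaf (nat_lit 0)))) (Tr.node (Tr.node (Tr.leaf (nat_lit 0x1022)) (Tr.leaf (nat_lit 0))) (Tr.node (Tr.leaf (nat_lit 0x4a441)) (Tr.leaf (nat_lit 0)))))) (Tr.node (Tr.node (Tr.node (Tr.node (Tr.leaf (nat_lit 0x41862)) (Tr.leaf (nat_lit 0xe42822))) (Tr.node (Tr.leaf (nat_lit 0x4bc42)) (Tr.leaf (nat_lit 0)))) (Tr.node (Tr.node (Tr.leaf (nat_lit 0xe2bc41)) (Tr.leaf (nat_lit 0x60822))) (Tr.node (Tr.leaf (nat_lit 0x669c41)) (Tr.leaf (nat_lit 0))))) (Tr.node (Tr.node (Tr.node (Tr.leaf (nat_lit 0x19d42)) (Tr.leaf (nat_lit 0xf71021))) (Tr.node (Tr.leaf (nat_lit 0xf6a041)) (Tr.leaf (nat_lit 0)))) (Tr.node (Tr.node (Tr.leaf (nat_lit 0x14e1)) (Tr.leaf (nat_lit 0))) (Tr.node (Tr.leaf (nat_lit 0x10422)) (Tr.leaf (nat_lit 0))))))) (Tr.node (Tr.node (Tr.node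 (Tr.node (Tr.node (Tr.leaf (nat_lit 0x1862)) (Tr.leaf (nat_lit 0x3a461))) (Tr.node (Tr.leaf (nat_lit 0x59042)) (Tr.leaf (nat_lit 0)))) (Tr.node (Tr.node (Tr.leaf (nat_lit 0x639021)) (Tr.leaf (nat_lit 0xb31c21))) (Tr.node (Tr.leaf (nat_lit 0x18422)) (Tr.leaf (nat_lit 0))))) (Tr.node (Tr.node (Tr.node (Tr.leaf (nat_lit 0x62c22)) (Tr.leaf (nat_lit 0x20822))) (Tr.node (Tr.leaf (nat_lit 0x38c42)) (Tr.leaf (nat_lit 0)))) (Tr.node (Tr.node (Tr.leaf (nat_lit 0x3b461)) (Tr.leaf (nat_lit 0))) (Tr.node (Tr.leaf (nat_lit 0x13c82)) (Tr.leaf (nat_lit 0)))))) (Tr.node (Tr.node (Tr.node (Tr.node (Tr.leaf (nat_lit 0x72482)) (Tr.leaf (nat_lit 0x3541))) (Tr.node (Tr.leaf (nat_lit 0xe7a021)) (Tr.leaf (nat_lit 0)))) (Tr.node (Tr.node (Tr.leaf (nat_lit 0x822)) (Tr.leaf (nat_lit 0))) (Tr.node (Tr.leaf (nat_lit 0x107a822)) (Tr.leaf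 (nat_lit 0))))) (Tr.node (Tr.node (Tr.node (Tr.leaf (nat_lit 0x82441)) (Tr.leaf (nat_lit 0x59d42))) (Tr.node (Tr.leaf (nat_lit 0xc71c41)) (Tr.leaf (nat_lit 0)))) (Tr.node (Tr.node (Tr.leaf (nat_lit 0x72d42)) (Tr.leaf (nat_lit 0))) (Tr.node (Tr.leaf (nat_lit 0xc62822)) (Tr.leaf (nat_lit 0)))))))))))) (Tr.node (Tr.node (Tr.node (Tr.node (Tr.node (Tr.node (Tr.node (Tr.node (Tr.node (Tr.node (Tr.leaf (nat_lit 0x20e1)) (Tr.leaf (nat_lit 0x12082))) (Tr.node (Tr.leaf (nat_lit 0x53c22)) (Tr.leaf (nat_lit 0)))) (Tr.node (Tr.node (Tr.leaf (nat_lit 0x41882)) (Tr.leaf (nat_lit 0x52041))) (Tr.node (Tr.leaf (nat_lit 0x658822)) (Tr.leaf (nat_lit 0))))) (Tr.node (Tr.node (Tr.node (Tr.leaf (nat_lit 0x731421)) (Tr.leaf (nat_lit 0x760422))) (Tr.node (Tr.leaf (nat_lit 0x23862)) (Tr.leaf (nat_lit 0)))) (Tr.node (Tr.node (Tr.leaf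 (nat_lit 0xf40c21)) (Tr.leaf (nat_lit 0))) (Tr.node (Tr.leaf (nat_lit 0x59861)) (Tr.leaf (nat_lit 0)))))) (Tr.node (Tr.node (Tr.node (Tr.node (Tr.leaf (nat_lit 0x5a022)) (Tr.leaf (nat_lit 0x3561))) (Tr.node (Tr.leaf (nat_lit 0x971c61)) (Tr.leaf (nat_lit 0)))) (Tr.node (Tr.node (Tr.leaf (nat_lit 0x3c41)) (Tr.leaf (nat_lit 0x5bd41))) (Tr.node (Tr.leaf (nat_lit 0xb41c81)) (Tr.leaf (nat_lit 0))))) (Tr.node (Tr.node (Tr.node (Tr.leaf (nat_lit 0x638861)) (Tr.leaf (nat_lit 0x3b0c1))) (Tr.node (Tr.leaf (nat_lit 0x21d82)) (Tr.leaf (nat_lit 0)))) (Tr.node (Tr.node (Tr.leaf (nat_lit 0xc81c41)) (Tr.leaf (nat_lit 0))) (Tr.node (Tr.leaf (nat_lit 0xc80822)) (Tr.leaf (nat_lit 0))))))) (Tr.node (Tr.node (Tr.node (Tr.node (Tr.node (Tr.leaf (nat_lit 0x7a882)) (Tr.leaf (nat_lit 0x49c42))) (Tr.node (Tr.leaf (nat_lit 0x2141))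 (Tr.leaf (nat_lit 0)))) (Tr.node (Tr.node (Tr.leaf (nat_lit 0xb3a021)) (Tr.leaf (nat_lit 0x2c42))) (Tr.node (Tr.leaf (nat_lit 0x838c21)) (Tr.leaf (nat_lit 0))))) (Tr.node (Tr.node (Tr.node (Tr.leaf (nat_lit 0x1059c21)) (Tr.leaf (nat_lit 0x49c22))) (Tr.node (Tr.leaf (nat_lit 0x1161)) (Tr.leaf (nat_lit 0)))) (Tr.node (Tr.node (Tr.leaf (nat_lit 0x85bc61)) (Tr.leaf (nat_lit 0))) (Tr.node (Tr.leaf (nat_lit 0x3d21)) (Tr.leaf (nat_lit 0)))))) (Tr.node (Tr.node (Tr.node (Tr.node (Tr.leaf (nat_lit 0x1a022)) (Tr.leaf (nat_lit 0x1461))) (Tr.node (Tr.leaf (nat_lit 0xe51c22)) (Tr.leaf (nat_lit 0)))) (Tr.node (Tr.node (Tr.leaf (nat_lit 0x5c162)) (Tr.leaf (nat_lit 0))) (Tr.node (Tr.leaf (nat_lit 0x3881)) (Tr.leaf (nat_lit 0))))) (Tr.node (Tr.node (Tr.node (Tr.leaf (nat_lit 0xb50422)) (Tr.leaf (nat_lit 0x21c62))) (Tr.node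 (Tr.leaf (nat_lit 0x51c21)) (Tr.leaf (nat_lit 0)))) (Tr.node (Tr.node (Tr.leaf (nat_lit 0x941c21)) (Tr.leaf (nat_lit 0))) (Tr.node (Tr.leaf (nat_lit 0x8cc1)) (Tr.leaf (nat_lit 0)))))))) (Tr.node (Tr.node (Tr.node (Tr.node (Tr.node (Tr.node (Tr.leaf (nat_lit 0x21cc1)) (Tr.leaf (nat_lit 0x60421))) (Tr.node (Tr.leaf (nat_lit 0xf70c21)) (Tr.leaf (nat_lit 0)))) (Tr.node (Tr.node (Tr.leaf (nat_lit 0x24e1)) (Tr.leaf (nat_lit 0x861))) (Tr.node (Tr.leaf (nat_lit 0x1038861)) (Tr.leaf (nat_lit 0))))) (Tr.node (Tr.node (Tr.node (Tr.leaf (nat_lit 0x1d62)) (Tr.leaf (nat_lit 0x740c21))) (Tr.node (Tr.leaf (nat_lit 0x4bc81)) (Tr.leaf (nat_lit 0)))) (Tr.node (Tr.node (Tr.leaf (nat_lit 0x17a822)) (Tr.leaf (nat_lit 0))) (Tr.node (Tr.leaf (nat_lit 0x1841)) (Tr.leaf (nat_lit 0)))))) (Tr.node (Tr.node (Tr.node (Tr.node (Tr.leaf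 (nat_lit 0x61822)) (Tr.leaf (nat_lit 0x49c81))) (Tr.node (Tr.leaf (nat_lit 0x7ac21)) (Tr.leaf (nat_lit 0)))) (Tr.node (Tr.node (Tr.leaf (nat_lit 0x79421)) (Tr.leaf (nat_lit 0x41c062))) (Tr.node (Tr.leaf (nat_lit 0x82822)) (Tr.leaf (nat_lit 0))))) (Tr.node (Tr.node (Tr.node (Tr.leaf (nat_lit 0x62ce1)) (Tr.leaf (nat_lit 0x23d42))) (Tr.node (Tr.leaf (nat_lit 0x1063c41)) (Tr.leaf (nat_lit 0)))) (Tr.node (Tr.node (Tr.leaf (nat_lit 0x13c21)) (Tr.leaf (nat_lit 0))) (Tr.node (Tr.leaf (nat_lit 0x431c21)) (Tr.leaf (nat_lit 0))))))) (Tr.node (Tr.node (Tr.node (Tr.node (Tr.node (Tr.leaf (nat_lit 0x39861)) (Tr.leaf (nat_lit 0x420822))) (Tr.node (Tr.leaf (nat_lit 0x2d61)) (Tr.leaf (nat_lit 0)))) (Tr.node (Tr.node (Tr.leaf (nat_lit 0x61922)) (Tr.leaf (nat_lit 0x6bc61))) (Tr.node (Tr.leaf (nat_lit 0x1062)) (Tr.leaf (nat_lit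 0))))) (Tr.node (Tr.node (Tr.node (Tr.leaf (nat_lit 0x620e1)) (Tr.leaf (nat_lit 0x7b061))) (Tr.node (Tr.leaf (nat_lit 0x394c1)) (Tr.leaf (nat_lit 0)))) (Tr.node (Tr.node (Tr.leaf (nat_lit 0x22042)) (Tr.leaf (nat_lit 0))) (Tr.node (Tr.leaf (nat_lit 0x32461)) (Tr.leaf (nat_lit 0)))))) (Tr.node (Tr.node (Tr.node (Tr.node (Tr.leaf (nat_lit 0x71c61)) (Tr.leaf (nat_lit 0x82d41))) (Tr.node (Tr.leaf (nat_lit 0x30c21)) (Tr.leaf (nat_lit 0)))) (Tr.node (Tr.node (Tr.leaf (nat_lit 0x841)) (Tr.leaf (nat_lit 0))) (Tr.node (Tr.leaf (nat_lit 0x78821)) (Tr.leaf (nat_lit 0))))) (Tr.node (Tr.node (Tr.node (Tr.leaf (nat_lit 0x53c62)) (Tr.leaf (nat_lit 0x398a1))) (Tr.node (Tr.leaf (nat_lit 0x318822)) (Tr.leaf (nat_lit 0)))) (Tr.node (Tr.node (Tr.leaf (nat_lit 0x3521)) (Tr.leaf (nat_lit 0))) (Tr.node (Tr.leaf (nat_lit 0xe13c21))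 (Tr.leaf (nat_lit 0))))))))) (Tr.node (Tr.node (Tr.node (Tr.node (Tr.node (Tr.node (Tr.node (Tr.leaf (nat_lit 0x422)) (Tr.leaf (nat_lit 0xe78481))) (Tr.node (Tr.leaf (nat_lit 0x62122)) (Tr.leaf (nat_lit 0)))) (Tr.node (Tr.node (Tr.leaf (nat_lit 0x2122)) (Tr.leaf (nat_lit 0x59c62))) (Tr.node (Tr.leaf (nat_lit 0x1078861)) (Tr.leaf (nat_lit 0))))) (Tr.node (Tr.node (Tr.node (Tr.leaf (nat_lit 0x3122)) (Tr.leaf (nat_lit 0x818422))) (Tr.node (Tr.leaf (nat_lit 0xbd42)) (Tr.leaf (nat_lit 0)))) (Tr.node (Tr.node (Tr.leaf (nat_lit 0x61c82)) (Tr.leaf (nat_lit 0))) (Tr.node (Tr.leaf (nat_lit 0xc38822)) (Tr.leaf (nat_lit 0)))))) (Tr.node (Tr.node (Tr.node (Tr.node (Tr.leaf (nat_lit 0x1d22)) (Tr.leaf (nat_lit 0x750422))) (Tr.node (Tr.leaf (nat_lit 0x2a021)) (Tr.leaf (nat_lit 0)))) (Tr.node (Tr.node (Tr.leaf (nat_lit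 0x741421)) (Tr.leaf (nat_lit 0x209c42))) (Tr.node (Tr.leaf (nat_lit 0xe6bc61)) (Tr.leaf (nat_lit 0))))) (Tr.node (Tr.node (Tr.node (Tr.leaf (nat_lit 0x60cc1)) (Tr.leaf (nat_lit 0x4141))) (Tr.node (Tr.leaf (nat_lit 0x3581)) (Tr.leaf (nat_lit 0)))) (Tr.node (Tr.node (Tr.leaf (nat_lit 0x1c61)) (Tr.leaf (nat_lit 0))) (Tr.node (Tr.leaf (nat_lit 0x80c42)) (Tr.leaf (nat_lit 0))))))) (Tr.node (Tr.node (Tr.node (Tr.node (Tr.node (Tr.leaf (nat_lit 0x79862)) (Tr.leaf (nat_lit 0x10c1))) (Tr.node (Tr.leaf (nat_lit 0x380c22)) (Tr.leaf (nat_lit 0)))) (Tr.node (Tr.node (Tr.leaf (nat_lit 0x11882)) (Tr.leaf (nat_lit 0x6a081))) (Tr.node (Tr.leaf (nat_lit 0x6a441)) (Tr.leaf (nat_lit 0))))) (Tr.node (Tr.node (Tr.node (Tr.leaf (nat_lit 0xc7a822)) (Tr.leaf (nat_lit 0xe2bc61))) (Tr.node (Tr.leaf (nat_lit 0x49822)) (Tr.leaf (nat_lit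 0)))) (Tr.node (Tr.node (Tr.leaf (nat_lit 0x7a022)) (Tr.leaf (nat_lit 0))) (Tr.node (Tr.leaf (nat_lit 0x101b842)) (Tr.leaf (nat_lit 0)))))) (Tr.node (Tr.node (Tr.node (Tr.node (Tr.leaf (nat_lit 0x24021)) (Tr.leaf (nat_lit 0x24a1))) (Tr.node (Tr.leaf (nat_lit 0x40822)) (Tr.leaf (nat_lit 0)))) (Tr.node (Tr.node (Tr.leaf (nat_lit 0x7b841)) (Tr.leaf (nat_lit 0))) (Tr.node (Tr.leaf (nat_lit 0x332062)) (Tr.leaf (nat_lit 0))))) (Tr.node (Tr.node (Tr.node (Tr.leaf (nat_lit 0x72ce1)) (Tr.leaf (nat_lit 0xc42822))) (Tr.node (Tr.leaf (nat_lit 0x5c062)) (Tr.leaf (nat_lit 0)))) (Tr.node (Tr.node (Tr.leaf (nat_lit 0x49ca1)) (Tr.leaf (nat_lit 0))) (Tr.node (Tr.leaf (nat_lit 0x838441)) (Tr.leaf (nat_lit 0)))))))) (Tr.node (Tr.node (Tr.node (Tr.node (Tr.node (Tr.node (Tr.leaf (nat_lit 0x61cc1)) (Tr.leaf (nat_lit 0x8ce1)))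 (Tr.node (Tr.leaf (nat_lit 0x52042)) (Tr.leaf (nat_lit 0)))) (Tr.node (Tr.node (Tr.leaf (nat_lit 0x39481)) (Tr.leaf (nat_lit 0x609c42))) (Tr.node (Tr.leaf (nat_lit 0x3ac81)) (Tr.leaf (nat_lit 0))))) (Tr.node (Tr.node (Tr.node (Tr.leaf (nat_lit 0x83c21)) (Tr.leaf (nat_lit 0x2c021))) (Tr.node (Tr.leaf (nat_lit 0x49042)) (Tr.leaf (nat_lit 0)))) (Tr.node (Tr.node (Tr.leaf (nat_lit 0xe7b021)) (Tr.leaf (nat_lit 0))) (Tr.node (Tr.leaf (nat_lit 0x1062822)) (Tr.leaf (nat_lit 0)))))) (Tr.node (Tr.node (Tr.node (Tr.node (Tr.leaf (nat_lit 0x72462)) (Tr.leaf (nat_lit 0x60c22))) (Tr.node (Tr.leaf (nat_lit 0x31c62)) (Tr.leaf (nat_lit 0)))) (Tr.node (Tr.node (Tr.leaf (nat_lit 0x714021)) (Tr.leaf (nat_lit 0x21882))) (Tr.node (Tr.leaf (nat_lit 0x61)) (Tr.leaf (nat_lit 0))))) (Tr.node (Tr.node (Tr.node (Tr.leaf (nat_lit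 0x3042)) (Tr.leaf (nat_lit 0x5ad42))) (Tr.node (Tr.leaf (nat_lit 0x7b881)) (Tr.leaf (nat_lit 0)))) (Tr.node (Tr.node (Tr.leaf (nat_lit 0x81ca1)) (Tr.leaf (nat_lit 0))) (Tr.node (Tr.leaf (nat_lit 0x13c42)) (Tr.leaf (nat_lit 0))))))) (Tr.node (Tr.node (Tr.node (Tr.node (Tr.node (Tr.leaf (nat_lit 0x3982)) (Tr.leaf (nat_lit 0xf10422))) (Tr.node (Tr.leaf (nat_lit 0x861c21)) (Tr.leaf (nat_lit 0)))) (Tr.node (Tr.node (Tr.leaf (nat_lit 0x819c81)) (Tr.leaf (nat_lit 0x3c81))) (Tr.node (Tr.leaf (nat_lit 0x1059c81)) (Tr.leaf (nat_lit 0))))) (Tr.node (Tr.node (Tr.node (Tr.leaf (nat_lit 0x1042)) (Tr.leaf (nat_lit 0xc022))) (Tr.node (Tr.leaf (nat_lit 0x61d42)) (Tr.leaf (nat_lit 0)))) (Tr.node (Tr.node (Tr.leaf (nat_lit 0x2c061)) (Tr.leaf (nat_lit 0))) (Tr.node (Tr.leaf (nat_lit 0xa50422)) (Tr.leaf (nat_lit 0)))))) (Tr.node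 (Tr.node (Tr.node (Tr.node (Tr.leaf (nat_lit 0x5bd82)) (Tr.leaf (nat_lit 0x30821))) (Tr.node (Tr.leaf (nat_lit 0x3b041)) (Tr.leaf (nat_lit 0)))) (Tr.node (Tr.node (Tr.leaf (nat_lit 0x494e1)) (Tr.leaf (nat_lit 0))) (Tr.node (Tr.leaf (nat_lit 0x101bc21)) (Tr.leaf (nat_lit 0))))) (Tr.node (Tr.node (Tr.node (Tr.leaf (nat_lit 0x821822)) (Tr.leaf (nat_lit 0x85bc21))) (Tr.node (Tr.leaf (nat_lit 0x182822)) (Tr.leaf (nat_lit 0)))) (Tr.node (Tr.node (Tr.leaf (nat_lit 0x9c62)) (Tr.leaf (nat_lit 0))) (Tr.node (Tr.leaf (nat_lit 0xf81461)) (Tr.leaf (nat_lit 0)))))))))) (Tr.node (Tr.node (Tr.node (Tr.node (Tr.node (Tr.node (Tr.node (Tr.node (Tr.leaf (nat_lit 0x1cc1)) (Tr.leaf (nat_lit 0x81841))) (Tr.node (Tr.leaf (nat_lit 0x5a042)) (Tr.leaf (nat_lit 0)))) (Tr.node (Tr.node (Tr.leaf (nat_lit 0x41042)) (Tr.leaf (nat_lit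 0x3acc1))) (Tr.node (Tr.leaf (nat_lit 0x662c22)) (Tr.leaf (nat_lit 0))))) (Tr.node (Tr.node (Tr.node (Tr.leaf (nat_lit 0x3022)) (Tr.leaf (nat_lit 0x62041))) (Tr.node (Tr.leaf (nat_lit 0x49082)) (Tr.leaf (nat_lit 0)))) (Tr.node (Tr.node (Tr.leaf (nat_lit 0x10e1)) (Tr.leaf (nat_lit 0))) (Tr.node (Tr.leaf (nat_lit 0x2442)) (Tr.leaf (nat_lit 0)))))) (Tr.node (Tr.node (Tr.node (Tr.node (Tr.leaf (nat_lit 0x4182)) (Tr.leaf (nat_lit 0x51862))) (Tr.node (Tr.leaf (nat_lit 0x39022)) (Tr.leaf (nat_lit 0)))) (Tr.node (Tr.node (Tr.leaf (nat_lit 0xe79021)) (Tr.leaf (nat_lit 0x411c22))) (Tr.node (Tr.leaf (nat_lit 0x473c21)) (Tr.leaf (nat_lit 0))))) (Tr.node (Tr.node (Tr.node (Tr.leaf (nat_lit 0x3162)) (Tr.leaf (nat_lit 0x53d82))) (Tr.node (Tr.leaf (nat_lit 0xe63882)) (Tr.leaf (nat_lit 0)))) (Tr.node (Tr.node (Tr.leaf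 (nat_lit 0x80c21)) (Tr.leaf (nat_lit 0))) (Tr.node (Tr.leaf (nat_lit 0x2541)) (Tr.leaf (nat_lit 0))))))) (Tr.node (Tr.node (Tr.node (Tr.node (Tr.node (Tr.leaf (nat_lit 0x3d61)) (Tr.leaf (nat_lit 0x19c82))) (Tr.node (Tr.leaf (nat_lit 0x404e1)) (Tr.leaf (nat_lit 0)))) (Tr.node (Tr.node (Tr.leaf (nat_lit 0x619c81)) (Tr.leaf (nat_lit 0x1021))) (Tr.node (Tr.leaf (nat_lit 0x1039421)) (Tr.leaf (nat_lit 0))))) (Tr.node (Tr.node (Tr.node (Tr.leaf (nat_lit 0x859c21)) (Tr.leaf (nat_lit 0x7b021))) (Tr.node (Tr.leaf (nat_lit 0xe69c41)) (Tr.leaf (nat_lit 0)))) (Tr.node (Tr.node (Tr.leaf (nat_lit 0x37b821)) (Tr.leaf (nat_lit 0))) (Tr.node (Tr.leaf (nat_lit 0x74b821)) (Tr.leaf (nat_lit 0)))))) (Tr.node (Tr.node (Tr.node (Tr.node (Tr.leaf (nat_lit 0x22021)) (Tr.leaf (nat_lit 0x4bc41))) (Tr.node (Tr.leaf (nat_lit 0x32cc1))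 (Tr.leaf (nat_lit 0)))) (Tr.node (Tr.node (Tr.leaf (nat_lit 0xa80c22)) (Tr.leaf (nat_lit 0))) (Tr.node (Tr.leaf (nat_lit 0x5ad22)) (Tr.leaf (nat_lit 0))))) (Tr.node (Tr.node (Tr.node (Tr.leaf (nat_lit 0x73022)) (Tr.leaf (nat_lit 0x22062))) (Tr.node (Tr.leaf (nat_lit 0x794c1)) (Tr.leaf (nat_lit 0)))) (Tr.node (Tr.node (Tr.leaf (nat_lit 0x1011c22)) (Tr.leaf (nat_lit 0))) (Tr.node (Tr.leaf (nat_lit 0x65bc61)) (Tr.leaf (nat_lit 0)))))))) (Tr.node (Tr.node (Tr.node (Tr.node (Tr.node (Tr.node (Tr.leaf (nat_lit 0x142)) (Tr.leaf (nat_lit 0x231c41))) (Tr.node (Tr.leaf (nat_lit 0x319c62)) (Tr.leaf (nat_lit 0)))) (Tr.node (Tr.node (Tr.leaf (nat_lit 0x3061)) (Tr.leaf (nat_lit 0x921))) (Tr.node (Tr.leaf (nat_lit 0x33162)) (Tr.leaf (nat_lit 0))))) (Tr.node (Tr.node (Tr.node (Tr.leaf (nat_lit 0x7ad42)) (Tr.leaf (nat_lit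 0xe78821))) (Tr.node (Tr.leaf (nat_lit 0x7a881)) (Tr.leaf (nat_lit 0)))) (Tr.node (Tr.node (Tr.leaf (nat_lit 0x2c21)) (Tr.leaf (nat_lit 0))) (Tr.node (Tr.leaf (nat_lit 0x3821)) (Tr.leaf (nat_lit 0)))))) (Tr.node (Tr.node (Tr.node (Tr.node (Tr.leaf (nat_lit 0x5c022)) (Tr.leaf (nat_lit 0x3a4a1))) (Tr.node (Tr.leaf (nat_lit 0x71c62)) (Tr.leaf (nat_lit 0)))) (Tr.node (Tr.node (Tr.leaf (nat_lit 0x939022)) (Tr.leaf (nat_lit 0x8461))) (Tr.node (Tr.leaf (nat_lit 0xb4bc42)) (Tr.leaf (nat_lit 0))))) (Tr.node (Tr.node (Tr.node (Tr.leaf (nat_lit 0x710e1)) (Tr.leaf (nat_lit 0x5bc21))) (Tr.node (Tr.leaf (nat_lit 0xf40c22)) (Tr.leaf (nat_lit 0)))) (Tr.node (Tr.node (Tr.leaf (nat_lit 0x618822)) (Tr.leaf (nat_lit 0))) (Tr.node (Tr.leaf (nat_lit 0x1020822)) (Tr.leaf (nat_lit 0))))))) (Tr.node (Tr.node (Tr.node (Tr.node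 (Tr.node (Tr.leaf (nat_lit 0x1a082)) (Tr.leaf (nat_lit 0x33441))) (Tr.node (Tr.leaf (nat_lit 0x19962)) (Tr.leaf (nat_lit 0)))) (Tr.node (Tr.node (Tr.leaf (nat_lit 0x39881)) (Tr.leaf (nat_lit 0x51c22))) (Tr.node (Tr.leaf (nat_lit 0x331042)) (Tr.leaf (nat_lit 0))))) (Tr.node (Tr.node (Tr.node (Tr.leaf (nat_lit 0x2c81)) (Tr.leaf (nat_lit 0x59c21))) (Tr.node (Tr.leaf (nat_lit 0xa182)) (Tr.leaf (nat_lit 0)))) (Tr.node (Tr.node (Tr.leaf (nat_lit 0xa041)) (Tr.leaf (nat_lit 0))) (Tr.node (Tr.leaf (nat_lit 0x11c82)) (Tr.leaf (nat_lit 0)))))) (Tr.node (Tr.node (Tr.node (Tr.node (Tr.leaf (nat_lit 0x7a161)) (Tr.leaf (nat_lit 0x1a062))) (Tr.node (Tr.leaf (nat_lit 0x3c21)) (Tr.leaf (nat_lit 0)))) (Tr.node (Tr.node (Tr.leaf (nat_lit 0x28421)) (Tr.leaf (nat_lit 0))) (Tr.node (Tr.leaf (nat_lit 0x51d42)) (Tr.leaf (nat_lit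 0))))) (Tr.node (Tr.node (Tr.node (Tr.leaf (nat_lit 0xb72c22)) (Tr.leaf (nat_lit 0x11841))) (Tr.node (Tr.leaf (nat_lit 0x970c22)) (Tr.leaf (nat_lit 0)))) (Tr.node (Tr.node (Tr.leaf (nat_lit 0x769821)) (Tr.leaf (nat_lit 0))) (Tr.node (Tr.leaf (nat_lit 0x105bc41)) (Tr.leaf (nat_lit 0))))))))) (Tr.node (Tr.node (Tr.node (Tr.node (Tr.node (Tr.node (Tr.node (Tr.leaf (nat_lit 0x3182)) (Tr.leaf (nat_lit 0x73c41))) (Tr.node (Tr.leaf (nat_lit 0x30861)) (Tr.leaf (nat_lit 0)))) (Tr.node (Tr.node (Tr.leaf (nat_lit 0x2082)) (Tr.leaf (nat_lit 0x62021))) (Tr.node (Tr.leaf (nat_lit 0x52482)) (Tr.leaf (nat_lit 0))))) (Tr.node (Tr.node (Tr.node (Tr.leaf (nat_lit 0x30c22)) (Tr.leaf (nat_lit 0x7a822))) (Tr.node (Tr.leaf (nat_lit 0x919822)) (Tr.leaf (nat_lit 0)))) (Tr.node (Tr.node (Tr.leaf (nat_lit 0xb41862)) (Tr.leaf (nat_lit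 0))) (Tr.node (Tr.leaf (nat_lit 0x83461)) (Tr.leaf (nat_lit 0)))))) (Tr.node (Tr.node (Tr.node (Tr.node (Tr.leaf (nat_lit 0x3961)) (Tr.leaf (nat_lit 0x78481))) (Tr.node (Tr.leaf (nat_lit 0x6c021)) (Tr.leaf (nat_lit 0)))) (Tr.node (Tr.node (Tr.leaf (nat_lit 0x62c21)) (Tr.leaf (nat_lit 0x81421))) (Tr.node (Tr.leaf (nat_lit 0x741c21)) (Tr.leaf (nat_lit 0))))) (Tr.node (Tr.node (Tr.node (Tr.leaf (nat_lit 0x70c022)) (Tr.leaf (nat_lit 0x410422))) (Tr.node (Tr.leaf (nat_lit 0x380c42)) (Tr.leaf (nat_lit 0)))) (Tr.node (Tr.node (Tr.leaf (nat_lit 0xb38821)) (Tr.leaf (nat_lit 0))) (Tr.node (Tr.leaf (nat_lit 0x239821)) (Tr.leaf (nat_lit 0))))))) (Tr.node (Tr.node (Tr.node (Tr.node (Tr.node (Tr.leaf (nat_lit 0x81c62)) (Tr.leaf (nat_lit 0x23a442))) (Tr.node (Tr.leaf (nat_lit 0xc21)) (Tr.leaf (nat_lit 0)))) (Tr.node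 (Tr.node (Tr.leaf (nat_lit 0x161)) (Tr.leaf (nat_lit 0x604e1))) (Tr.node (Tr.leaf (nat_lit 0xc19822)) (Tr.leaf (nat_lit 0))))) (Tr.node (Tr.node (Tr.node (Tr.leaf (nat_lit 0x218e1)) (Tr.leaf (nat_lit 0x43481))) (Tr.node (Tr.leaf (nat_lit 0xb71022)) (Tr.leaf (nat_lit 0)))) (Tr.node (Tr.node (Tr.leaf (nat_lit 0x80c22)) (Tr.leaf (nat_lit 0))) (Tr.node (Tr.leaf (nat_lit 0x1038821)) (Tr.leaf (nat_lit 0)))))) (Tr.node (Tr.node (Tr.node (Tr.node (Tr.leaf (nat_lit 0x2162)) (Tr.leaf (nat_lit 0x7a861))) (Tr.node (Tr.leaf (nat_lit 0x31c41)) (Tr.leaf (nat_lit 0)))) (Tr.node (Tr.node (Tr.leaf (nat_lit 0x103ac21)) (Tr.leaf (nat_lit 0))) (Tr.node (Tr.leaf (nat_lit 0x11c61)) (Tr.leaf (nat_lit 0))))) (Tr.node (Tr.node (Tr.node (Tr.leaf (nat_lit 0x81d41)) (Tr.leaf (nat_lit 0x34c1))) (Tr.node (Tr.leaf (nat_lit 0x1079421))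 (Tr.leaf (nat_lit 0)))) (Tr.node (Tr.node (Tr.leaf (nat_lit 0x81021)) (Tr.leaf (nat_lit 0))) (Tr.node (Tr.leaf (nat_lit 0x7a081)) (Tr.leaf (nat_lit 0)))))))) (Tr.node (Tr.node (Tr.node (Tr.node (Tr.node (Tr.node (Tr.leaf (nat_lit 0x3c82)) (Tr.leaf (nat_lit 0xf80821))) (Tr.node (Tr.leaf (nat_lit 0x759d62)) (Tr.leaf (nat_lit 0)))) (Tr.node (Tr.node (Tr.leaf (nat_lit 0x78c41)) (Tr.leaf (nat_lit 0x3ac21))) (Tr.node (Tr.leaf (nat_lit 0xa31c61)) (Tr.leaf (nat_lit 0))))) (Tr.node (Tr.node (Tr.node (Tr.leaf (nat_lit 0x78c42)) (Tr.leaf (nat_lit 0xf5c041))) (Tr.node (Tr.leaf (nat_lit 0x1011c61)) (Tr.leaf (nat_lit 0)))) (Tr.node (Tr.node (Tr.leaf (nat_lit 0x28a1)) (Tr.leaf (nat_lit 0))) (Tr.node (Tr.leaf (nat_lit 0x531c41)) (Tr.leaf (nat_lit 0)))))) (Tr.node (Tr.node (Tr.node (Tr.node (Tr.leaf (nat_lit 0x3941)) (Tr.leaf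 (nat_lit 0x29c81))) (Tr.node (Tr.leaf (nat_lit 0x1078821)) (Tr.leaf (nat_lit 0)))) (Tr.node (Tr.node (Tr.leaf (nat_lit 0x73c62)) (Tr.leaf (nat_lit 0x14082))) (Tr.node (Tr.leaf (nat_lit 0x2d42)) (Tr.leaf (nat_lit 0))))) (Tr.node (Tr.node (Tr.node (Tr.leaf (nat_lit 0x32462)) (Tr.leaf (nat_lit 0x810422))) (Tr.node (Tr.leaf (nat_lit 0x7a141)) (Tr.leaf (nat_lit 0)))) (Tr.node (Tr.node (Tr.leaf (nat_lit 0x14c1)) (Tr.leaf (nat_lit 0))) (Tr.node (Tr.leaf (nat_lit 0x11c22)) (Tr.leaf (nat_lit 0))))))) (Tr.node (Tr.node (Tr.node (Tr.node (Tr.node (Tr.leaf (nat_lit 0x3962)) (Tr.leaf (nat_lit 0x23982))) (Tr.node (Tr.leaf (nat_lit 0x20c62)) (Tr.leaf (nat_lit 0)))) (Tr.node (Tr.node (Tr.leaf (nat_lit 0x1069c41)) (Tr.leaf (nat_lit 0x41421))) (Tr.node (Tr.leaf (nat_lit 0x71c21)) (Tr.leaf (nat_lit 0))))) (Tr.node (Tr.node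 (Tr.node (Tr.leaf (nat_lit 0x58422)) (Tr.leaf (nat_lit 0x838821))) (Tr.node (Tr.leaf (nat_lit 0xa40822)) (Tr.leaf (nat_lit 0)))) (Tr.node (Tr.node (Tr.leaf (nat_lit 0x60c21)) (Tr.leaf (nat_lit 0))) (Tr.node (Tr.leaf (nat_lit 0x21c22)) (Tr.leaf (nat_lit 0)))))) (Tr.node (Tr.node (Tr.node (Tr.node (Tr.leaf (nat_lit 0x42482)) (Tr.leaf (nat_lit 0x561))) (Tr.node (Tr.leaf (nat_lit 0xb7a021)) (Tr.leaf (nat_lit 0)))) (Tr.node (Tr.node (Tr.leaf (nat_lit 0x2061)) (Tr.leaf (nat_lit 0))) (Tr.node (Tr.leaf (nat_lit 0x5bc82)) (Tr.leaf (nat_lit 0))))) (Tr.node (Tr.node (Tr.node (Tr.leaf (nat_lit 0x430e1)) (Tr.leaf (nat_lit 0xa0a022))) (Tr.node (Tr.leaf (nat_lit 0x5bc62)) (Tr.leaf (nat_lit 0)))) (Tr.node (Tr.node (Tr.leaf (nat_lit 0x71d21)) (Tr.leaf (nat_lit 0))) (Tr.node (Tr.leaf (nat_lit 0xf11862)) (Tr.leaf (nat_lit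 0))))))))))) (Tr.node (Tr.node (Tr.node (Tr.node (Tr.node (Tr.node (Tr.node (Tr.node (Tr.node (Tr.leaf (nat_lit 0xc1)) (Tr.leaf (nat_lit 0x3b121))) (Tr.node (Tr.leaf (nat_lit 0x471062)) (Tr.leaf (nat_lit 0)))) (Tr.node (Tr.node (Tr.leaf (nat_lit 0x32082)) (Tr.leaf (nat_lit 0x19c42))) (Tr.node (Tr.leaf (nat_lit 0x239022)) (Tr.leaf (nat_lit 0))))) (Tr.node (Tr.node (Tr.node (Tr.leaf (nat_lit 0x70ce1)) (Tr.leaf (nat_lit 0x911c22))) (Tr.node (Tr.leaf (nat_lit 0x310822)) (Tr.leaf (nat_lit 0)))) (Tr.node (Tr.node (Tr.leaf (nat_lit 0x2922)) (Tr.leaf (nat_lit 0))) (Tr.node (Tr.leaf (nat_lit 0x210422)) (Tr.leaf (nat_lit 0)))))) (Tr.node (Tr.node (Tr.node (Tr.node (Tr.leaf (nat_lit 0x19cc1)) (Tr.leaf (nat_lit 0xe7b461))) (Tr.node (Tr.leaf (nat_lit 0x29821)) (Tr.leaf (nat_lit 0)))) (Tr.node (Tr.node (Tr.leaf (nat_lit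 0xf83c61)) (Tr.leaf (nat_lit 0xc50422))) (Tr.node (Tr.leaf (nat_lit 0x669c21)) (Tr.leaf (nat_lit 0))))) (Tr.node (Tr.node (Tr.node (Tr.leaf (nat_lit 0x70a021)) (Tr.leaf (nat_lit 0xb39821))) (Tr.node (Tr.leaf (nat_lit 0x430c22)) (Tr.leaf (nat_lit 0)))) (Tr.node (Tr.node (Tr.leaf (nat_lit 0x5c021)) (Tr.leaf (nat_lit 0))) (Tr.node (Tr.leaf (nat_lit 0xa42822)) (Tr.leaf (nat_lit 0))))))) (Tr.node (Tr.node (Tr.node (Tr.node (Tr.node (Tr.leaf (nat_lit 0x82)) (Tr.leaf (nat_lit 0x12d21))) (Tr.node (Tr.leaf (nat_lit 0xe11c61)) (Tr.leaf (nat_lit 0)))) (Tr.node (Tr.node (Tr.leaf (nat_lit 0x68c21)) (Tr.leaf (nat_lit 0xbc82))) (Tr.node (Tr.leaf (nat_lit 0x830c22)) (Tr.leaf (nat_lit 0))))) (Tr.node (Tr.node (Tr.node (Tr.leaf (nat_lit 0x381c21)) (Tr.leaf (nat_lit 0xe61c21))) (Tr.node (Tr.leaf (nat_lit 0x6b421)) (Tr.leaf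 (nat_lit 0)))) (Tr.node (Tr.node (Tr.leaf (nat_lit 0x9021)) (Tr.leaf (nat_lit 0))) (Tr.node (Tr.leaf (nat_lit 0x541)) (Tr.leaf (nat_lit 0)))))) (Tr.node (Tr.node (Tr.node (Tr.node (Tr.leaf (nat_lit 0x42c21)) (Tr.leaf (nat_lit 0xf41c81))) (Tr.node (Tr.leaf (nat_lit 0x1023c42)) (Tr.leaf (nat_lit 0)))) (Tr.node (Tr.node (Tr.leaf (nat_lit 0x2481)) (Tr.leaf (nat_lit 0))) (Tr.node (Tr.leaf (nat_lit 0xa40ce1)) (Tr.leaf (nat_lit 0))))) (Tr.node (Tr.node (Tr.node (Tr.leaf (nat_lit 0x6b021)) (Tr.leaf (nat_lit 0xcc1))) (Tr.node (Tr.leaf (nat_lit 0x14a1)) (Tr.leaf (nat_lit 0)))) (Tr.node (Tr.node (Tr.leaf (nat_lit 0x69c41)) (Tr.leaf (nat_lit 0))) (Tr.node (Tr.leaf (nat_lit 0x64021)) (Tr.leaf (nat_lit 0)))))))) (Tr.node (Tr.node (Tr.node (Tr.node (Tr.node (Tr.node (Tr.leaf (nat_lit 0xa80822)) (Tr.leaf (nat_lit 0x49d42)))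 (Tr.node (Tr.leaf (nat_lit 0x61c21)) (Tr.leaf (nat_lit 0)))) (Tr.node (Tr.node (Tr.leaf (nat_lit 0x7ac41)) (Tr.leaf (nat_lit 0x59d82))) (Tr.node (Tr.leaf (nat_lit 0x48c62)) (Tr.leaf (nat_lit 0))))) (Tr.node (Tr.node (Tr.node (Tr.leaf (nat_lit 0xa7c022)) (Tr.leaf (nat_lit 0x2821))) (Tr.node (Tr.leaf (nat_lit 0x54122)) (Tr.leaf (nat_lit 0)))) (Tr.node (Tr.node (Tr.leaf (nat_lit 0x18c22)) (Tr.leaf (nat_lit 0))) (Tr.node (Tr.leaf (nat_lit 0x1038c41)) (Tr.leaf (nat_lit 0)))))) (Tr.node (Tr.node (Tr.node (Tr.node (Tr.leaf (nat_lit 0xc162)) (Tr.leaf (nat_lit 0x441))) (Tr.node (Tr.leaf (nat_lit 0x829c21)) (Tr.leaf (nat_lit 0)))) (Tr.node (Tr.node (Tr.leaf (nat_lit 0x7b441)) (Tr.leaf (nat_lit 0x849822))) (Tr.node (Tr.leaf (nat_lit 0xe38861)) (Tr.leaf (nat_lit 0))))) (Tr.node (Tr.node (Tr.node (Tr.leaf (nat_lit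 0x82482)) (Tr.leaf (nat_lit 0x18821))) (Tr.node (Tr.leaf (nat_lit 0x324e1)) (Tr.leaf (nat_lit 0)))) (Tr.node (Tr.node (Tr.leaf (nat_lit 0x419822)) (Tr.leaf (nat_lit 0))) (Tr.node (Tr.leaf (nat_lit 0xc39821)) (Tr.leaf (nat_lit 0))))))) (Tr.node (Tr.node (Tr.node (Tr.node (Tr.node (Tr.leaf (nat_lit 0x7b042)) (Tr.leaf (nat_lit 0x9c42))) (Tr.node (Tr.leaf (nat_lit 0xe38821)) (Tr.leaf (nat_lit 0)))) (Tr.node (Tr.node (Tr.leaf (nat_lit 0x42c41)) (Tr.leaf (nat_lit 0x71d41))) (Tr.node (Tr.leaf (nat_lit 0x3041)) (Tr.leaf (nat_lit 0))))) (Tr.node (Tr.node (Tr.node (Tr.leaf (nat_lit 0x3c62)) (Tr.leaf (nat_lit 0x2862))) (Tr.node (Tr.leaf (nat_lit 0x1ca1)) (Tr.leaf (nat_lit 0)))) (Tr.node (Tr.node (Tr.leaf (nat_lit 0x7a041)) (Tr.leaf (nat_lit 0))) (Tr.node (Tr.leaf (nat_lit 0x4a4e1)) (Tr.leaf (nat_lit 0)))))) (Tr.node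 (Tr.node (Tr.node (Tr.node (Tr.leaf (nat_lit 0x22122)) (Tr.leaf (nat_lit 0x2121))) (Tr.node (Tr.leaf (nat_lit 0xe3a061)) (Tr.leaf (nat_lit 0)))) (Tr.node (Tr.node (Tr.leaf (nat_lit 0x41c41)) (Tr.leaf (nat_lit 0))) (Tr.node (Tr.leaf (nat_lit 0x27a022)) (Tr.leaf (nat_lit 0))))) (Tr.node (Tr.node (Tr.node (Tr.leaf (nat_lit 0x810e1)) (Tr.leaf (nat_lit 0x141ca1))) (Tr.node (Tr.leaf (nat_lit 0x38861)) (Tr.leaf (nat_lit 0)))) (Tr.node (Tr.node (Tr.leaf (nat_lit 0x43a822)) (Tr.leaf (nat_lit 0))) (Tr.node (Tr.leaf (nat_lit 0x105bc21)) (Tr.leaf (nat_lit 0))))))))) (Tr.node (Tr.node (Tr.node (Tr.node (Tr.node (Tr.node (Tr.node (Tr.leaf (nat_lit 0x11cc1)) (Tr.leaf (nat_lit 0x51d61))) (Tr.node (Tr.leaf (nat_lit 0x59d62)) (Tr.leaf (nat_lit 0)))) (Tr.node (Tr.node (Tr.leaf (nat_lit 0x2022)) (Tr.leaf (nat_lit 0x7c081)))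 (Tr.node (Tr.leaf (nat_lit 0x31021)) (Tr.leaf (nat_lit 0))))) (Tr.node (Tr.node (Tr.node (Tr.leaf (nat_lit 0x29421)) (Tr.leaf (nat_lit 0xb82c22))) (Tr.node (Tr.leaf (nat_lit 0x1a162)) (Tr.leaf (nat_lit 0)))) (Tr.node (Tr.node (Tr.leaf (nat_lit 0xd41)) (Tr.leaf (nat_lit 0))) (Tr.node (Tr.leaf (nat_lit 0x731021)) (Tr.leaf (nat_lit 0)))))) (Tr.node (Tr.node (Tr.node (Tr.node (Tr.leaf (nat_lit 0x62022)) (Tr.leaf (nat_lit 0x72442))) (Tr.node (Tr.leaf (nat_lit 0x107b061)) (Tr.leaf (nat_lit 0)))) (Tr.node (Tr.node (Tr.leaf (nat_lit 0x938822)) (Tr.leaf (nat_lit 0xf80c21))) (Tr.node (Tr.leaf (nat_lit 0x73c81)) (Tr.leaf (nat_lit 0))))) (Tr.node (Tr.node (Tr.node (Tr.leaf (nat_lit 0x220e1)) (Tr.leaf (nat_lit 0x11861))) (Tr.node (Tr.leaf (nat_lit 0x471c21)) (Tr.leaf (nat_lit 0)))) (Tr.node (Tr.node (Tr.leaf (nat_lit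 0x1d61)) (Tr.leaf (nat_lit 0))) (Tr.node (Tr.leaf (nat_lit 0x63882)) (Tr.leaf (nat_lit 0))))))) (Tr.node (Tr.node (Tr.node (Tr.node (Tr.node (Tr.leaf (nat_lit 0x1962)) (Tr.leaf (nat_lit 0xa022))) (Tr.node (Tr.leaf (nat_lit 0x1021022)) (Tr.leaf (nat_lit 0)))) (Tr.node (Tr.node (Tr.leaf (nat_lit 0xe49c21)) (Tr.leaf (nat_lit 0x65bc21))) (Tr.node (Tr.leaf (nat_lit 0x7a581)) (Tr.leaf (nat_lit 0))))) (Tr.node (Tr.node (Tr.node (Tr.leaf (nat_lit 0x862c22)) (Tr.leaf (nat_lit 0x7a8a1))) (Tr.node (Tr.leaf (nat_lit 0x661c21)) (Tr.leaf (nat_lit 0)))) (Tr.node (Tr.node (Tr.leaf (nat_lit 0x3a022)) (Tr.leaf (nat_lit 0))) (Tr.node (Tr.leaf (nat_lit 0xe7b441)) (Tr.leaf (nat_lit 0)))))) (Tr.node (Tr.node (Tr.node (Tr.node (Tr.leaf (nat_lit 0x811c61)) (Tr.leaf (nat_lit 0x839421))) (Tr.node (Tr.leaf (nat_lit 0x1049062)) (Tr.leaf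 (nat_lit 0)))) (Tr.node (Tr.node (Tr.leaf (nat_lit 0x598e1)) (Tr.leaf (nat_lit 0))) (Tr.node (Tr.leaf (nat_lit 0x1421)) (Tr.leaf (nat_lit 0))))) (Tr.node (Tr.node (Tr.node (Tr.leaf (nat_lit 0x2521)) (Tr.leaf (nat_lit 0x40c42))) (Tr.node (Tr.leaf (nat_lit 0x2041)) (Tr.leaf (nat_lit 0)))) (Tr.node (Tr.node (Tr.leaf (nat_lit 0x2bc61)) (Tr.leaf (nat_lit 0))) (Tr.node (Tr.leaf (nat_lit 0xe59c21)) (Tr.leaf (nat_lit 0)))))))) (Tr.node (Tr.node (Tr.node (Tr.node (Tr.node (Tr.node (Tr.leaf (nat_lit 0x122)) (Tr.leaf (nat_lit 0x7b461))) (Tr.node (Tr.leaf (nat_lit 0x2bc81)) (Tr.leaf (nat_lit 0)))) (Tr.node (Tr.node (Tr.leaf (nat_lit 0x51082)) (Tr.leaf (nat_lit 0x61882))) (Tr.node (Tr.leaf (nat_lit 0x58821)) (Tr.leaf (nat_lit 0))))) (Tr.node (Tr.node (Tr.node (Tr.leaf (nat_lit 0x82c22)) (Tr.leaf (nat_lit 0x11862)))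 (Tr.node (Tr.leaf (nat_lit 0x1481)) (Tr.leaf (nat_lit 0)))) (Tr.node (Tr.node (Tr.leaf (nat_lit 0x1441)) (Tr.leaf (nat_lit 0))) (Tr.node (Tr.leaf (nat_lit 0x75a022)) (Tr.leaf (nat_lit 0)))))) (Tr.node (Tr.node (Tr.node (Tr.node (Tr.leaf (nat_lit 0x41c82)) (Tr.leaf (nat_lit 0x2021))) (Tr.node (Tr.leaf (nat_lit 0x638821)) (Tr.leaf (nat_lit 0)))) (Tr.node (Tr.node (Tr.leaf (nat_lit 0xc22)) (Tr.leaf (nat_lit 0x371c41))) (Tr.node (Tr.leaf (nat_lit 0x64022)) (Tr.leaf (nat_lit 0))))) (Tr.node (Tr.node (Tr.node (Tr.leaf (nat_lit 0x7c082)) (Tr.leaf (nat_lit 0x71d81))) (Tr.node (Tr.leaf (nat_lit 0x73c21)) (Tr.leaf (nat_lit 0)))) (Tr.node (Tr.node (Tr.leaf (nat_lit 0x71ca1)) (Tr.leaf (nat_lit 0))) (Tr.node (Tr.leaf (nat_lit 0x5a922)) (Tr.leaf (nat_lit 0))))))) (Tr.node (Tr.node (Tr.node (Tr.node (Tr.node (Tr.leaf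 (nat_lit 0x1c82)) (Tr.leaf (nat_lit 0xe1a062))) (Tr.node (Tr.leaf (nat_lit 0x79841)) (Tr.leaf (nat_lit 0)))) (Tr.node (Tr.node (Tr.leaf (nat_lit 0x5b842)) (Tr.leaf (nat_lit 0x442442))) (Tr.node (Tr.leaf (nat_lit 0xb704e1)) (Tr.leaf (nat_lit 0))))) (Tr.node (Tr.node (Tr.node (Tr.leaf (nat_lit 0xb59882)) (Tr.leaf (nat_lit 0x720822))) (Tr.node (Tr.leaf (nat_lit 0x1079461)) (Tr.leaf (nat_lit 0)))) (Tr.node (Tr.node (Tr.leaf (nat_lit 0x5b821)) (Tr.leaf (nat_lit 0))) (Tr.node (Tr.leaf (nat_lit 0xe78c41)) (Tr.leaf (nat_lit 0)))))) (Tr.node (Tr.node (Tr.node (Tr.node (Tr.leaf (nat_lit 0x97a022)) (Tr.leaf (nat_lit 0x5a822))) (Tr.node (Tr.leaf (nat_lit 0x83b041)) (Tr.leaf (nat_lit 0)))) (Tr.node (Tr.node (Tr.leaf (nat_lit 0x2161)) (Tr.leaf (nat_lit 0))) (Tr.node (Tr.leaf (nat_lit 0x38461)) (Tr.leaf (nat_lit 0)))))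 (Tr.node (Tr.node (Tr.node (Tr.leaf (nat_lit 0xf5a022)) (Tr.leaf (nat_lit 0x68821))) (Tr.node (Tr.leaf (nat_lit 0x758422)) (Tr.leaf (nat_lit 0)))) (Tr.node (Tr.node (Tr.leaf (nat_lit 0x49d62)) (Tr.leaf (nat_lit 0))) (Tr.node (Tr.leaf (nat_lit 0x59882)) (Tr.leaf (nat_lit 0)))))))))) (Tr.node (Tr.node (Tr.node (Tr.node (Tr.node (Tr.node (Tr.node (Tr.node (Tr.leaf (nat_lit 0x3842)) (Tr.leaf (nat_lit 0x21c82))) (Tr.node (Tr.leaf (nat_lit 0x31461)) (Tr.leaf (nat_lit 0)))) (Tr.node (Tr.node (Tr.leaf (nat_lit 0x51022)) (Tr.leaf (nat_lit 0x211c22))) (Tr.node (Tr.leaf (nat_lit 0x911c42)) (Tr.leaf (nat_lit 0))))) (Tr.node (Tr.node (Tr.node (Tr.leaf (nat_lit 0x21062)) (Tr.leaf (nat_lit 0xe11c22))) (Tr.node (Tr.leaf (nat_lit 0x759822)) (Tr.leaf (nat_lit 0)))) (Tr.node (Tr.node (Tr.leaf (nat_lit 0x103a822)) (Tr.leaf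 (nat_lit 0))) (Tr.node (Tr.leaf (nat_lit 0x690e1)) (Tr.leaf (nat_lit 0)))))) (Tr.node (Tr.node (Tr.node (Tr.node (Tr.leaf (nat_lit 0x30ce1)) (Tr.leaf (nat_lit 0x22022))) (Tr.node (Tr.leaf (nat_lit 0x62182)) (Tr.leaf (nat_lit 0)))) (Tr.node (Tr.node (Tr.leaf (nat_lit 0x639421)) (Tr.leaf (nat_lit 0x638c41))) (Tr.node (Tr.leaf (nat_lit 0xf83021)) (Tr.leaf (nat_lit 0))))) (Tr.node (Tr.node (Tr.node (Tr.leaf (nat_lit 0x21d42)) (Tr.leaf (nat_lit 0x60821))) (Tr.node (Tr.leaf (nat_lit 0xc4a022)) (Tr.leaf (nat_lit 0)))) (Tr.node (Tr.node (Tr.leaf (nat_lit 0x1d81)) (Tr.leaf (nat_lit 0))) (Tr.node (Tr.leaf (nat_lit 0x40461)) (Tr.leaf (nat_lit 0))))))) (Tr.node (Tr.node (Tr.node (Tr.node (Tr.node (Tr.leaf (nat_lit 0x1d82)) (Tr.leaf (nat_lit 0x2961))) (Tr.node (Tr.leaf (nat_lit 0x64bc41)) (Tr.leaf (nat_lit 0)))) (Tr.node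 (Tr.node (Tr.leaf (nat_lit 0x1013c21)) (Tr.leaf (nat_lit 0xd21))) (Tr.node (Tr.leaf (nat_lit 0x869c21)) (Tr.leaf (nat_lit 0))))) (Tr.node (Tr.node (Tr.node (Tr.leaf (nat_lit 0xb12022)) (Tr.leaf (nat_lit 0x17b821))) (Tr.node (Tr.leaf (nat_lit 0x1961)) (Tr.leaf (nat_lit 0)))) (Tr.node (Tr.node (Tr.leaf (nat_lit 0xe38441)) (Tr.leaf (nat_lit 0))) (Tr.node (Tr.leaf (nat_lit 0x861c42)) (Tr.leaf (nat_lit 0)))))) (Tr.node (Tr.node (Tr.node (Tr.node (Tr.leaf (nat_lit 0x32c41)) (Tr.leaf (nat_lit 0xe5bc41))) (Tr.node (Tr.leaf (nat_lit 0xe60422)) (Tr.leaf (nat_lit 0)))) (Tr.node (Tr.node (Tr.leaf (nat_lit 0x82481)) (Tr.leaf (nat_lit 0))) (Tr.node (Tr.leaf (nat_lit 0x790c1)) (Tr.leaf (nat_lit 0))))) (Tr.node (Tr.node (Tr.node (Tr.leaf (nat_lit 0x7a061)) (Tr.leaf (nat_lit 0x5bd62))) (Tr.node (Tr.leaf (nat_lit 0x38a1))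 (Tr.leaf (nat_lit 0)))) (Tr.node (Tr.node (Tr.leaf (nat_lit 0x29061)) (Tr.leaf (nat_lit 0))) (Tr.node (Tr.leaf (nat_lit 0x51d82)) (Tr.leaf (nat_lit 0)))))))) (Tr.node (Tr.node (Tr.node (Tr.node (Tr.node (Tr.node (Tr.leaf (nat_lit 0x1082)) (Tr.leaf (nat_lit 0xe51c41))) (Tr.node (Tr.leaf (nat_lit 0x1051c22)) (Tr.leaf (nat_lit 0)))) (Tr.node (Tr.node (Tr.leaf (nat_lit 0x3a041)) (Tr.leaf (nat_lit 0x63d42))) (Tr.node (Tr.leaf (nat_lit 0x73162)) (Tr.leaf (nat_lit 0))))) (Tr.node (Tr.node (Tr.node (Tr.leaf (nat_lit 0x3841)) (Tr.leaf (nat_lit 0x20c42))) (Tr.node (Tr.leaf (nat_lit 0x14022)) (Tr.leaf (nat_lit 0)))) (Tr.node (Tr.node (Tr.leaf (nat_lit 0x54022)) (Tr.leaf (nat_lit 0))) (Tr.node (Tr.leaf (nat_lit 0xa310e1)) (Tr.leaf (nat_lit 0)))))) (Tr.node (Tr.node (Tr.node (Tr.node (Tr.leaf (nat_lit 0x2882)) (Tr.leaf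 (nat_lit 0x63c42))) (Tr.node (Tr.leaf (nat_lit 0x49062)) (Tr.leaf (nat_lit 0)))) (Tr.node (Tr.node (Tr.leaf (nat_lit 0x5bc42)) (Tr.leaf (nat_lit 0x1bc62))) (Tr.node (Tr.leaf (nat_lit 0xb80822)) (Tr.leaf (nat_lit 0))))) (Tr.node (Tr.node (Tr.node (Tr.leaf (nat_lit 0x3861)) (Tr.leaf (nat_lit 0x29d81))) (Tr.node (Tr.leaf (nat_lit 0x7a121)) (Tr.leaf (nat_lit 0)))) (Tr.node (Tr.node (Tr.leaf (nat_lit 0x5b021)) (Tr.leaf (nat_lit 0))) (Tr.node (Tr.leaf (nat_lit 0x23842)) (Tr.leaf (nat_lit 0))))))) (Tr.node (Tr.node (Tr.node (Tr.node (Tr.node (Tr.leaf (nat_lit 0x3d82)) (Tr.leaf (nat_lit 0x14162))) (Tr.node (Tr.leaf (nat_lit 0xf82c21)) (Tr.leaf (nat_lit 0)))) (Tr.node (Tr.node (Tr.leaf (nat_lit 0x942822)) (Tr.leaf (nat_lit 0x11d22))) (Tr.node (Tr.leaf (nat_lit 0x304e1)) (Tr.leaf (nat_lit 0))))) (Tr.node (Tr.node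 (Tr.node (Tr.leaf (nat_lit 0x59c41)) (Tr.leaf (nat_lit 0x38c41))) (Tr.node (Tr.leaf (nat_lit 0x141c21)) (Tr.leaf (nat_lit 0)))) (Tr.node (Tr.node (Tr.leaf (nat_lit 0xf4a021)) (Tr.leaf (nat_lit 0))) (Tr.node (Tr.leaf (nat_lit 0x21c42)) (Tr.leaf (nat_lit 0)))))) (Tr.node (Tr.node (Tr.node (Tr.node (Tr.leaf (nat_lit 0x9d42)) (Tr.leaf (nat_lit 0x43441))) (Tr.node (Tr.leaf (nat_lit 0x40441)) (Tr.leaf (nat_lit 0)))) (Tr.node (Tr.node (Tr.leaf (nat_lit 0x3021)) (Tr.leaf (nat_lit 0))) (Tr.node (Tr.leaf (nat_lit 0x40c22)) (Tr.leaf (nat_lit 0))))) (Tr.node (Tr.node (Tr.node (Tr.leaf (nat_lit 0x179821)) (Tr.leaf (nat_lit 0x61bc41))) (Tr.node (Tr.leaf (nat_lit 0x172462)) (Tr.leaf (nat_lit 0)))) (Tr.node (Tr.node (Tr.leaf (nat_lit 0xf20422)) (Tr.leaf (nat_lit 0))) (Tr.node (Tr.leaf (nat_lit 0x4041)) (Tr.leaf (nat_lit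 0))))))))) (Tr.node (Tr.node (Tr.node (Tr.node (Tr.node (Tr.node (Tr.node (Tr.leaf (nat_lit 0x80ce1)) (Tr.leaf (nat_lit 0x4bd82))) (Tr.node (Tr.leaf (nat_lit 0x2822)) (Tr.leaf (nat_lit 0)))) (Tr.node (Tr.node (Tr.leaf (nat_lit 0x18ce1)) (Tr.leaf (nat_lit 0x11982))) (Tr.node (Tr.leaf (nat_lit 0x940822)) (Tr.leaf (nat_lit 0))))) (Tr.node (Tr.node (Tr.node (Tr.leaf (nat_lit 0xf42c21)) (Tr.leaf (nat_lit 0xa021))) (Tr.node (Tr.leaf (nat_lit 0x624a1)) (Tr.leaf (nat_lit 0)))) (Tr.node (Tr.node (Tr.leaf (nat_lit 0xe63c41)) (Tr.leaf (nat_lit 0))) (Tr.node (Tr.leaf (nat_lit 0x6b061)) (Tr.leaf (nat_lit 0)))))) (Tr.node (Tr.node (Tr.node (Tr.node (Tr.leaf (nat_lit 0x39021)) (Tr.leaf (nat_lit 0x38cc1))) (Tr.node (Tr.leaf (nat_lit 0xe59c81)) (Tr.leaf (nat_lit 0)))) (Tr.node (Tr.node (Tr.leaf (nat_lit 0x178822)) (Tr.leaf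 (nat_lit 0x481))) (Tr.node (Tr.leaf (nat_lit 0x39062)) (Tr.leaf (nat_lit 0))))) (Tr.node (Tr.node (Tr.node (Tr.leaf (nat_lit 0x618e1)) (Tr.leaf (nat_lit 0xf41421))) (Tr.node (Tr.leaf (nat_lit 0x78441)) (Tr.leaf (nat_lit 0)))) (Tr.node (Tr.node (Tr.leaf (nat_lit 0x51c42)) (Tr.leaf (nat_lit 0))) (Tr.node (Tr.leaf (nat_lit 0x331c21)) (Tr.leaf (nat_lit 0))))))) (Tr.node (Tr.node (Tr.node (Tr.node (Tr.node (Tr.leaf (nat_lit 0x19822)) (Tr.leaf (nat_lit 0x84a022))) (Tr.node (Tr.leaf (nat_lit 0x79861)) (Tr.leaf (nat_lit 0)))) (Tr.node (Tr.node (Tr.leaf (nat_lit 0x52822)) (Tr.leaf (nat_lit 0x42ca1))) (Tr.node (Tr.leaf (nat_lit 0x105a822)) (Tr.leaf (nat_lit 0))))) (Tr.node (Tr.node (Tr.node (Tr.leaf (nat_lit 0x83c82)) (Tr.leaf (nat_lit 0xc51c22))) (Tr.node (Tr.leaf (nat_lit 0x314e1)) (Tr.leaf (nat_lit 0)))) (Tr.node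 (Tr.node (Tr.leaf (nat_lit 0x6a041)) (Tr.leaf (nat_lit 0))) (Tr.node (Tr.leaf (nat_lit 0x83061)) (Tr.leaf (nat_lit 0)))))) (Tr.node (Tr.node (Tr.node (Tr.node (Tr.leaf (nat_lit 0x31c61)) (Tr.leaf (nat_lit 0x71062))) (Tr.node (Tr.leaf (nat_lit 0x824e1)) (Tr.leaf (nat_lit 0)))) (Tr.node (Tr.node (Tr.leaf (nat_lit 0x141)) (Tr.leaf (nat_lit 0))) (Tr.node (Tr.leaf (nat_lit 0x40c21)) (Tr.leaf (nat_lit 0))))) (Tr.node (Tr.node (Tr.node (Tr.leaf (nat_lit 0x2462)) (Tr.leaf (nat_lit 0x34e1))) (Tr.node (Tr.leaf (nat_lit 0xe1bc21)) (Tr.leaf (nat_lit 0)))) (Tr.node (Tr.node (Tr.leaf (nat_lit 0x4161)) (Tr.leaf (nat_lit 0))) (Tr.node (Tr.leaf (nat_lit 0x7a181)) (Tr.leaf (nat_lit 0)))))))) (Tr.node (Tr.node (Tr.node (Tr.node (Tr.node (Tr.node (Tr.leaf (nat_lit 0x39862)) (Tr.leaf (nat_lit 0x24122))) (Tr.node (Tr.leaf (nat_lit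 0x102bc61)) (Tr.leaf (nat_lit 0)))) (Tr.node (Tr.node (Tr.leaf (nat_lit 0xc63c42)) (Tr.leaf (nat_lit 0x2d41))) (Tr.node (Tr.leaf (nat_lit 0x921822)) (Tr.leaf (nat_lit 0))))) (Tr.node (Tr.node (Tr.node (Tr.leaf (nat_lit 0x23a022)) (Tr.leaf (nat_lit 0x611c61))) (Tr.node (Tr.leaf (nat_lit 0x70c22)) (Tr.leaf (nat_lit 0)))) (Tr.node (Tr.node (Tr.leaf (nat_lit 0x539841)) (Tr.leaf (nat_lit 0))) (Tr.node (Tr.leaf (nat_lit 0x2441)) (Tr.leaf (nat_lit 0)))))) (Tr.node (Tr.node (Tr.node (Tr.node (Tr.leaf (nat_lit 0x330e1)) (Tr.leaf (nat_lit 0x48c42))) (Tr.node (Tr.leaf (nat_lit 0xb5a062)) (Tr.leaf (nat_lit 0)))) (Tr.node (Tr.node (Tr.leaf (nat_lit 0xe79421)) (Tr.leaf (nat_lit 0))) (Tr.node (Tr.leaf (nat_lit 0xe58822)) (Tr.leaf (nat_lit 0))))) (Tr.node (Tr.node (Tr.node (Tr.leaf (nat_lit 0x310e1)) (Tr.leaf (nat_lit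 0x52182))) (Tr.node (Tr.leaf (nat_lit 0xd81c61)) (Tr.leaf (nat_lit 0)))) (Tr.node (Tr.node (Tr.leaf (nat_lit 0xf70821)) (Tr.leaf (nat_lit 0))) (Tr.node (Tr.leaf (nat_lit 0x50422)) (Tr.leaf (nat_lit 0))))))) (Tr.node (Tr.node (Tr.node (Tr.node (Tr.node (Tr.leaf (nat_lit 0x182)) (Tr.leaf (nat_lit 0x3d41))) (Tr.node (Tr.leaf (nat_lit 0xb21022)) (Tr.leaf (nat_lit 0)))) (Tr.node (Tr.node (Tr.leaf (nat_lit 0x80822)) (Tr.leaf (nat_lit 0x81d81))) (Tr.node (Tr.leaf (nat_lit 0x38441)) (Tr.leaf (nat_lit 0))))) (Tr.node (Tr.node (Tr.node (Tr.leaf (nat_lit 0x81bc21)) (Tr.leaf (nat_lit 0x1049c61))) (Tr.node (Tr.leaf (nat_lit 0x242822)) (Tr.leaf (nat_lit 0)))) (Tr.node (Tr.node (Tr.leaf (nat_lit 0x5c041)) (Tr.leaf (nat_lit 0))) (Tr.node (Tr.leaf (nat_lit 0xa21c42)) (Tr.leaf (nat_lit 0)))))) (Tr.node (Tr.node (Tr.node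 (Tr.node (Tr.leaf (nat_lit 0xf71421)) (Tr.leaf (nat_lit 0x31062))) (Tr.node (Tr.leaf (nat_lit 0x81c81)) (Tr.leaf (nat_lit 0)))) (Tr.node (Tr.node (Tr.leaf (nat_lit 0x75c021)) (Tr.leaf (nat_lit 0))) (Tr.node (Tr.leaf (nat_lit 0x11c42)) (Tr.leaf (nat_lit 0))))) (Tr.node (Tr.node (Tr.node (Tr.leaf (nat_lit 0x93a822)) (Tr.leaf (nat_lit 0xc31c21))) (Tr.node (Tr.leaf (nat_lit 0xe70822)) (Tr.leaf (nat_lit 0)))) (Tr.node (Tr.node (Tr.leaf (nat_lit 0x49c82)) (Tr.leaf (nat_lit 0))) (Tr.node (Tr.leaf (nat_lit 0x40861)) (Tr.leaf (nat_lit 0)))))))))))))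

/-- The representative of an element. -/
noncomputable def rF (i : Nat) : Nat := (dw32 (eT.get i)).headD 0

/-- The word of an element in the generators of `K`. -/
noncomputable def kF (i : Nat) : List Nat := (dw32 (eT.get i)).tail

/-- The word of an element. -/
noncomputable def yW (i : Nat) : List Nat :=
  invW invQ (kL (kF i)) ++ (cwf (repW.getD (rF i) []) ++ kL (kF i))

/-- The key of an element. -/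
noncomputable def kyf (i : Nat) : Nat := ptQ.val (yW i) 1 * 4096 + ptQ.val (yW i) 12

theorem hlt : allN (fun i => andB (Nat.blt (rF i) 2) (ltB 16 (kF i))) 1375 = true := by decide +kernel

theorem o0 : allN (fun i => Nat.blt (kyf (i + 0)) (kyf (i + 0 + 1))) 300 = true := by decide +kernel

theorem o1 : allN (fun i => Nat.blt (kyf (i + 300)) (kyf (i + 300 + 1))) 300 = true := by decide +kernel

theorem o2 : allN (fun i => Nat.blt (kyf (i + 600)) (kyf (i + 600 + 1))) 300 = true := by decide +kernel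

theorem o3 : allN (fun i => Nat.blt (kyf (i + 900)) (kyf (i + 900 + 1))) 300 = true := by decide +kernel

theorem o4 : allN (fun i => Nat.blt (kyf (i + 1200)) (kyf (i + 1200 + 1))) 174 = true := by decide +kernel

theorem hmono (i : Nat) (hi : i < 1374) : kyf i < kyf (i + 1) := by
  apply Nat.le_of_ble_eq_true
  change Nat.blt (kyf i) (kyf (i + 1)) = true
  by_cases h0' : i < 300
  · have := allN_spec o0 (i - 0) (by omega)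
    rwa [Nat.sub_add_cancel (by omega)] at this
  by_cases h1' : i < 600
  · have := allN_spec o1 (i - 300) (by omega)
    rwa [Nat.sub_add_cancel (by omega)] at this
  by_cases h2' : i < 900
  · have := allN_spec o2 (i - 600) (by omega)
    rwa [Nat.sub_add_cancel (by omega)] at this
  by_cases h3' : i < 1200
  · have := allN_spec o3 (i - 900) (by omega)
    rwa [Nat.sub_add_cancel (by omega)] at this
  by_cases h4' : i < 1374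
  · have := allN_spec o4 (i - 1200) (by omega)
    rwa [Nat.sub_add_cancel (by omega)] at this
  omega

end Cfsg.Agent.Lib.DCE.Ly.Inv.Cls
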