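import Cfsg.Agent.Lib.DCE.Ly.Inv.Defs

/-! The cosets of `K` fixed by the involution. -/

namespace Cfsg.Agent.Lib.DCE.Ly.Inv.FixK

open Cfsg.Agent.Lib.TC.Core Cfsg.Agent.Lib.TC.Enc Cfsg.Agent.Lib.TC.Pres Cfsg.Agent.Lib.TC.Iso Cfsg.Agent.Lib.DCE.MatP
  Cfsg.Agent.Lib.DCE.Ly.Setup Cfsg.Agent.Lib.DCE.Ly.Rules Cfsg.Agent.Lib.DCE.Ly.Gens
  Cfsg.Agent.Lib.DCE.Ly.Inv.Defs

set_option maxRecDepth 100000

/-- The fixed points of the involution. -/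
def fp : List Nat := [0,1,2,6,7,30,32,34,160,161,172,180,489,639,794,814,820,839,850,879,882,1211,1527,1788,1880,1979,1980,2108,2203,2360,2361,2362,2363,2674,2675,2696,2697,3319,3320,3321,3468,3598]

/-- The words of the fixed points. -/
def rpW : List (List Nat) := [[],[3],[4],[4,0],[4,3],[4,0,1],[4,0,3],[4,0,6],[4,0,1,0],[4,0,1,3],[4,0,3,6],[4,0,6,0],[3,4,1,0,2],[3,4,7,0,7],[3,7,6,5,4],[4,0,1,0,3],[4,0,1,4,7],[4,0,2,6,4],[4,0,3,6,0],[4,3,2,1,7],[4,3,2,3,4],[3,2,1,4,5,2],[3,2,4,5,4,2],[3,2,6,7,7,4],[3,4,0,2,3,2],[3,4,1,0,2,0],[3,4,1,0,2,5],[3,4,2,5,1,4],[3,4,5,2,0,4],[3,4,7,0,7,1],[3,4,7,0,7,3],[3,4,7,0,7,5],[3,4,7,0,7,6],[3,7,6,5,4,0],[3,7,6,5,4,5],[4,0,1,4,7,0],[4,0,1,4,7,5],[3,2,1,4,5,2,0],[3,2,1,4,5,2,5],[3,2,1,4,5,2,6],[3,2,3,0,2,3,4],[3,2,4,5,4,2,3]]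

/-- The data of the cosets. -/
def rowT : List (List (Option (Nat × List Nat))) :=
  [[none,none,none,none,none],
   [none,none,none,none,none],
   [some (1,[5,7,6,13,10,7,14]),some (2,[5,14,15,14,3,5,14]),some (4,[6,5,7,6,5,11,7]),some (4,[6,10,7,0]),none],
   [some (1,[5,7,6,13,10,7,14]),some (2,[5,14,15,14,3,5,14]),some (4,[6,5,7,6,5,11,7]),some (4,[6,10,7,0]),none],
   [some (1,[5,7,6,13,10,7,14]),some (2,[5,14,15,14,3,5,14]),some (4,[6,5,7,6,5,11,7]),some (4,[6,10,7,0]),none],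
   [some (1,[5,7,6,13,10,7,14]),some (2,[5,14,15,14,3,5,14]),some (4,[6,5,7,6,5,11,7]),some (4,[6,10,7,0]),none],
   [some (1,[5,7,6,13,10,7,14]),some (2,[5,14,15,14,3,5,14]),some (4,[6,5,7,6,5,11,7]),some (4,[6,10,7,0]),none],
   [some (1,[5,7,6,13,10,7,14]),some (2,[5,14,15,14,3,5,14]),some (4,[6,5,7,6,5,11,7]),some (4,[6,10,7,0]),none],
   [some (1,[5,7,6,13,10,7,14]),some (2,[5,14,15,14,3,5,14]),some (4,[6,5,7,6,5,11,7]),some (4,[6,10,7,0]),none],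
   [some (1,[5,7,6,13,10,7,14]),some (2,[5,14,15,14,3,5,14]),some (4,[6,5,7,6,5,11,7]),some (4,[6,10,7,0]),none],
   [some (1,[5,7,6,13,10,7,14]),some (2,[5,14,15,14,3,5,14]),some (4,[6,5,7,6,5,11,7]),some (4,[6,10,7,0]),none],
   [some (1,[5,7,6,13,10,7,14]),some (2,[5,14,15,14,3,5,14]),some (4,[6,5,7,6,5,11,7]),some (4,[6,10,7,0]),none],
   [some (3,[6,0,7,10,14]),none,some (2,[5,2,6,7,5,14,10,13]),some (2,[6,2,15,8,14,13]),some (1,[5,2,6,7,5,14,10,13])],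
   [some (3,[6,8,7,2,14]),none,some (2,[5,2,6,7,6,3,13,14]),some (2,[6,10,15,0,14,13]),some (1,[5,2,6,7,6,3,13,14])],
   [some (3,[6,5,15]),some (3,[6,5,7,6,5]),none,some (2,[5,7,6,13]),some (4,[13,14])],
   [some (1,[5,7,6,13,10,7,14]),some (2,[5,14,15,14,3,5,14]),some (4,[6,5,7,6,5,11,7]),some (4,[6,10,7,0]),none],
   [some (1,[1,5,6,2,5,7,6,5]),some (2,[5,6,0,5,7,3,6,5]),some (4,[5,6,7,6,13,2,9,14]),some (4,[3,14,9,15,1]),none],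
   [none,some (4,[5,6,0,1,5,7,6,5]),some (3,[0,6,7,14,8,3]),some (3,[2,9,14,9,7,5]),some (2,[5,6,7,6,13,8,14,3])],
   [some (1,[5,7,6,13,10,7,14]),some (2,[5,14,15,14,3,5,14]),some (4,[6,5,7,6,5,11,7]),some (4,[6,10,7,0]),none],
   [some (2,[0,6,15,10,14,13,3]),none,some (1,[0,4,5,6,7,14,0]),some (3,[15,10,14,15,10]),some (2,[2,3,5,7,1,6,13])],
   [none,some (1,[14,13,2,14,9,7]),some (2,[0,6,7,6,13,11]),some (1,[1,4,13,14,15,3,5]),some (1,[3,5,14,9,15,14])],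
   [some (3,[14,0,7,10,6]),none,some (2,[5,2,7,6,5,2,7,6]),some (2,[7,6,11,5,15,10]),some (1,[5,2,7,6,5,2,7,6])],
   [none,none,none,none,none],
   [some (4,[5,6,5,7,6,5]),some (1,[5,6,5,7,6,5]),none,some (1,[5,6,5,7,14,13]),some (3,[6,7,14])],
   [some (2,[0,7,14,3,5,6,1]),some (1,[7,5,9,6,2,15]),some (1,[0,5,10,14,0,7,5]),some (1,[1,5,10,7,9,6,15]),none],
   [some (3,[6,0,7,10,14]),none,some (2,[5,2,6,7,5,14,10,13]),some (2,[6,2,15,8,14,13]),some (1,[5,2,6,7,5,14,10,13])],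
   [some (3,[6,0,7,10,14]),none,some (2,[5,2,6,7,5,14,10,13]),some (2,[6,2,15,8,14,13]),some (1,[5,2,6,7,5,14,10,13])],
   [none,none,none,none,none],
   [none,none,none,none,none],
   [some (3,[6,8,7,2,14]),none,some (2,[5,2,6,7,6,3,13,14]),some (2,[6,10,15,0,14,13]),some (1,[5,2,6,7,6,3,13,14])],
   [some (3,[6,8,7,2,14]),none,some (2,[5,2,6,7,6,3,13,14]),some (2,[6,10,15,0,14,13]),some (1,[5,2,6,7,6,3,13,14])],
   [some (3,[6,8,7,2,14]),none,some (2,[5,2,6,7,6,3,13,14]),some (2,[6,10,15,0,14,13]),some (1,[5,2,6,7,6,3,13,14])],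
   [some (3,[6,8,7,2,14]),none,some (2,[5,2,6,7,6,3,13,14]),some (2,[6,10,15,0,14,13]),some (1,[5,2,6,7,6,3,13,14])],
   [some (3,[6,5,15]),some (3,[6,5,7,6,5]),none,some (2,[5,7,6,13]),some (4,[13,14])],
   [some (3,[6,5,15]),some (3,[6,5,7,6,5]),none,some (2,[5,7,6,13]),some (4,[13,14])],
   [some (1,[1,5,6,2,5,7,6,5]),some (2,[5,6,0,5,7,3,6,5]),some (4,[5,6,7,6,13,2,9,14]),some (4,[3,14,9,15,1]),none],
   [some (1,[1,5,6,2,5,7,6,5]),some (2,[5,6,0,5,7,3,6,5]),some (4,[5,6,7,6,13,2,9,14]),some (4,[3,14,9,15,1]),none],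
   [some (3,[14,0,7,10,6]),none,some (2,[5,2,7,6,5,2,7,6]),some (2,[7,6,11,5,15,10]),some (1,[5,2,7,6,5,2,7,6])],
   [some (3,[14,0,7,10,6]),none,some (2,[5,2,7,6,5,2,7,6]),some (2,[7,6,11,5,15,10]),some (1,[5,2,7,6,5,2,7,6])],
   [some (3,[14,0,7,10,6]),none,some (2,[5,2,7,6,5,2,7,6]),some (2,[7,6,11,5,15,10]),some (1,[5,2,7,6,5,2,7,6])],
   [none,some (1,[2,0,5,6,5,2,15]),some (2,[1,0,14,10,7,14,13]),some (1,[0,14,10,13,14,3,7]),some (1,[1,5,6,7,14,8,3])],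
   [none,none,none,none,none]]

/-- The flagged cosets. -/
def flagged : List (Nat × Nat) := [(0,0),(0,1),(0,2),(0,3),(0,4),(1,0),(1,1),(1,2),(1,3),(1,4),(2,4),(3,4),(4,4),(5,4),(6,4),(7,4),(8,4),(9,4),(10,4),(11,4),(12,1),(13,1),(14,2),(15,4),(16,4),(17,0),(18,4),(19,1),(20,0),(21,1),(22,0),(22,1),(22,2),(22,3),(22,4),(23,2),(24,4),(25,1),(26,1),(27,0),(27,1),(27,2),(27,3),(27,4),(28,0),(28,1),(28,2),(28,3),(28,4),(29,1),(30,1),(31,1),(32,1),(33,2),(34,2),(35,4),(36,4),(37,1),(38,1),(39,1),(40,0),(41,0),(41,1),(41,2),(41,3),(41,4)]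

theorem hfp : allN (fun p => cond (Nat.beq (ptQ.val t0w p) p) (fp.contains p) true) 3906 = true := by decide +kernel

theorem hfp_lt : ∀ f, f < 42 → andB (Nat.beq (ptQ.val (rpW.getD f []) 0) (fp.getD f 0)) (lt10 (rpW.getD f [])) = true := by decide +kernel

theorem hrow : ∀ f, f < 42 → ∀ i, i < 5 → chkRow (rpW.getD f []) i ((rowT.getD f []).getD i none) flagged f = true := by decide +kernel

theorem hflagged : flagged.length = 66 := by decide +kernel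

end Cfsg.Agent.Lib.DCE.Ly.Inv.FixK
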