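import Cfsg.Agent.Lib.DCE.Ly.Inv.Defs

/-! The list of the elements of the subgroup of a node. -/

namespace Cfsg.Agent.Lib.DCE.Ly.Inv.T2

open Cfsg.Agent.Lib.TC.Core Cfsg.Agent.Lib.TC.Enc Cfsg.Agent.Lib.TC.Pres Cfsg.Agent.Lib.TC.Iso Cfsg.Agent.Lib.DCE.MatP
  Cfsg.Agent.Lib.DCE.Ly.Setup Cfsg.Agent.Lib.DCE.Ly.Rules Cfsg.Agent.Lib.DCE.Ly.Gens
  Cfsg.Agent.Lib.DCE.Ly.Inv.Defs

set_option maxRecDepth 100000

/-- The words of the elements. -/
noncomputable def wT : Tr Nat :=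
  (Tr.node (Tr.node (Tr.node (Tr.node (Tr.node (Tr.node (Tr.node (Tr.node (Tr.node (Tr.node (Tr.node (Tr.node (Tr.node (Tr.leaf (nat_lit 0x1111)) (Tr.leaf (nat_lit 0x874315331711))) (Tr.node (Tr.leaf (nat_lit 0x3973153322621)) (Tr.leaf (nat_lit 0x0)))) (Tr.node (Tr.node (Tr.leaf (nat_lit 0x74152323177171)) (Tr.leaf (nat_lit 0x26215477886776712))) (Tr.node (Tr.leaf (nat_lit 0x4845152118236217)) (Tr.leaf (nat_lit 0x0))))) (Tr.node (Tr.node (Tr.node (Tr.leaf (nat_lit 0x34567321232217122)) (Tr.leaf (nat_lit 0x985134373363121221))) (Tr.node (Tr.leaf (nat_lit 0x8893151286811)) (Tr.leaf (nat_lit 0x0)))) (Tr.node (Tr.node (Tr.leaf (nat_lit 0x356713471786771712)) (Tr.leaf (nat_lit 0x8562234788213))) (Tr.node (Tr.leaf (nat_lit 0x1434217367122)) (Tr.leaf (nat_lit 0x0)))))) (Tr.node (Tr.node (Tr.node (Tr.node (Tr.leaf (nat_lit 0x4851343733631221)) (Tr.leaf (nat_lit 0x767547788267))) (Tr.node (Tr.leaf (nat_lit 0x48145348123287767121)) (Tr.leaf (nat_lit 0x0)))) (Tr.node (Tr.node (Tr.leaf (nat_lit 0x751532867376)) (Tr.leaf (nat_lit 0x43421736712122))) (Tr.node (Tr.leaf (nat_lit 0x41342173)) (Tr.leaf (nat_lit 0x0))))) (Tr.node (Tr.node (Tr.node (Tr.leaf (nat_lit 0x5334323328771211)) (Tr.leaf (nat_lit 0x84584577362322626))) (Tr.node (Tr.leaf (nat_lit 0x33431512868217)) (Tr.leaf (nat_lit 0x0)))) (Tr.node (Tr.node (Tr.leaf (nat_lit 0x258684178263776712)) (Tr.leaf (nat_lit 0x7415232322622621))) (Tr.node (Tr.leaf (nat_lit 0x8458457736236717712)) (Tr.leaf (nat_lit 0x0))))))) (Tr.node (Tr.node (Tr.node (Tr.node (Tr.node (Tr.leaf (nat_lit 0x42158782622622)) (Tr.leaf (nat_lit 0x7186342218132262671))) (Tr.node (Tr.leaf (nat_lit 0x7636842213182212171)) (Tr.leaf (nat_lit 0x0)))) (Tr.node (Tr.node (Tr.leaf (nat_lit 0x33453282237622)) (Tr.leaf (nat_lit 0x4342173121711))) (Tr.node (Tr.leaf (nat_lit 0x9342173121711)) (Tr.leaf (nat_lit 0x0))))) (Tr.node (Tr.node (Tr.node (Tr.leaf (nat_lit 0x434217322677)) (Tr.leaf (nat_lit 0x1153343233286776712))) (Tr.node (Tr.leaf (nat_lit 0x6345673212376776)) (Tr.leaf (nat_lit 0x0)))) (Tr.node (Tr.node (Tr.leaf (nat_lit 0x91342173121711)) (Tr.leaf (nat_lit 0x778934682323121221))) (Tr.node (Tr.leaf (nat_lit 0x718634221813177177)) (Tr.leaf (nat_lit 0x0)))))) (Tr.node (Tr.node (Tr.node (Tr.node (Tr.leaf (nat_lit 0x4121587822621)) (Tr.leaf (nat_lit 0x87431533762171))) (Tr.node (Tr.leaf (nat_lit 0x98451521182322677)) (Tr.leaf (nat_lit 0x0)))) (Tr.node (Tr.node (Tr.leaf (nat_lit 0x2621547788671221)) (Tr.leaf (nat_lit 0x659863467818226226))) (Tr.node (Tr.leaf (nat_lit 0x7186342218137762177)) (Tr.leaf (nat_lit 0x0))))) (Tr.node (Tr.node (Tr.node (Tr.leaf (nat_lit 0x41571323226226)) (Tr.leaf (nat_lit 0x533432332867717121))) (Tr.node (Tr.leaf (nat_lit 0x778934682323767121)) (Tr.leaf (nat_lit 0x0)))) (Tr.node (Tr.node (Tr.leaf (nat_lit 0x5331341282128677121)) (Tr.leaf (nat_lit 0x397315332262))) (Tr.node (Tr.leaf (nat_lit 0x262154778812171)) (Tr.leaf (nat_lit 0x0)))))))) (Tr.node (Tr.node (Tr.node (Tr.node (Tr.node (Tr.node (Tr.leaf (nat_lit 0x41571323217121)) (Tr.leaf (nat_lit 0x845223178776))) (Tr.node (Tr.leaf (nat_lit 0x4571323262217)) (Tr.leaf (nat_lit 0x0)))) (Tr.node (Tr.node (Tr.leaf (nat_lit 0x959534773182622)) (Tr.leaf (nat_lit 0x6533432332811))) (Tr.node (Tr.leaf (nat_lit 0x3343151286877121)) (Tr.leaf (nat_lit 0x0))))) (Tr.node (Tr.node (Tr.node (Tr.leaf (nat_lit 0x85622347882132671)) (Tr.leaf (nat_lit 0x77893468232321))) (Tr.node (Tr.leaf (nat_lit 0x9595347731876212)) (Tr.leaf (nat_lit 0x0)))) (Tr.node (Tr.node (Tr.leaf (nat_lit 0x7789346823231221)) (Tr.leaf (nat_lit 0x1434217377621))) (Tr.node (Tr.leaf (nat_lit 0x17415232322171)) (Tr.leaf (nat_lit 0x0)))))) (Tr.node (Tr.node (Tr.node (Tr.node (Tr.leaf (nat_lit 0x481453481232867121221)) (Tr.leaf (nat_lit 0x4634217377121))) (Tr.node (Tr.leaf (nat_lit 0x5435847732686217)) (Tr.leaf (nat_lit 0x0)))) (Tr.node (Tr.node (Tr.leaf (nat_lit 0x45341542318736226267)) (Tr.leaf (nat_lit 0x7686342218131771771))) (Tr.node (Tr.leaf (nat_lit 0x397315332122122)) (Tr.leaf (nat_lit 0x0))))) (Tr.node (Tr.node (Tr.node (Tr.leaf (nat_lit 0x8562234788213677621)) (Tr.leaf (nat_lit 0x484515211823226717))) (Tr.node (Tr.leaf (nat_lit 0x48513437336367177)) (Tr.leaf (nat_lit 0x0)))) (Tr.node (Tr.node (Tr.leaf (nat_lit 0x4334267367622)) (Tr.leaf (nat_lit 0x889315128681217))) (Tr.node (Tr.leaf (nat_lit 0x65334323328762122)) (Tr.leaf (nat_lit 0x0))))))) (Tr.node (Tr.node (Tr.node (Tr.node (Tr.node (Tr.leaf (nat_lit 0x5432134878628221712)) (Tr.leaf (nat_lit 0x4851343733632262177))) (Tr.node (Tr.leaf (nat_lit 0x9595347731862267)) (Tr.leaf (nat_lit 0x0)))) (Tr.node (Tr.node (Tr.leaf (nat_lit 0x75153286732177)) (Tr.leaf (nat_lit 0x4851343733632171221))) (Tr.node (Tr.leaf (nat_lit 0x7636842213186267712)) (Tr.leaf (nat_lit 0x0))))) (Tr.node (Tr.node (Tr.node (Tr.leaf (nat_lit 0x856223478821371221)) (Tr.leaf (nat_lit 0x459534773181221711))) (Tr.node (Tr.leaf (nat_lit 0x93421737677171)) (Tr.leaf (nat_lit 0x0)))) (Tr.node (Tr.node (Tr.leaf (nat_lit 0x46342173677621)) (Tr.leaf (nat_lit 0x543584773268212212))) (Tr.node (Tr.leaf (nat_lit 0x31563433131326221)) (Tr.leaf (nat_lit 0x0)))))) (Tr.node (Tr.node (Tr.node (Tr.node (Tr.leaf (nat_lit 0x41215878221712)) (Tr.leaf (nat_lit 0x54321348786282177111))) (Tr.node (Tr.leaf (nat_lit 0x31563433131367121)) (Tr.leaf (nat_lit 0x0)))) (Tr.node (Tr.node (Tr.leaf (nat_lit 0x41571323776217)) (Tr.leaf (nat_lit 0x845845773623776221))) (Tr.node (Tr.leaf (nat_lit 0x153343233282622121)) (Tr.leaf (nat_lit 0x0))))) (Tr.node (Tr.node (Tr.node (Tr.leaf (nat_lit 0x6345673212362262212)) (Tr.leaf (nat_lit 0x334315128681771712))) (Tr.node (Tr.leaf (nat_lit 0x778934682323212171)) (Tr.leaf (nat_lit 0x0)))) (Tr.node (Tr.node (Tr.leaf (nat_lit 0x33431512868717717)) (Tr.leaf (nat_lit 0x0))) (Tr.node (Tr.leaf (nat_lit 0x459534773182217122)) (Tr.leaf (nat_lit 0x0))))))))) (Tr.node (Tr.node (Tr.node (Tr.node (Tr.node (Tr.node (Tr.node (Tr.leaf (nat_lit 0x41571323762177)) (Tr.leaf (nat_lit 0x315634331313677677))) (Tr.node (Tr.leaf (nat_lit 0x84584577362377677171)) (Tr.leaf (nat_lit 0x0)))) (Tr.node (Tr.node (Tr.leaf (nat_lit 0x53343233287122)) (Tr.leaf (nat_lit 0x88931512868762122))) (Tr.node (Tr.leaf (nat_lit 0x45713232622676)) (Tr.leaf (nat_lit 0x0))))) (Tr.node (Tr.node (Tr.node (Tr.leaf (nat_lit 0x8452231786226226)) (Tr.leaf (nat_lit 0x459534773182122111))) (Tr.node (Tr.leaf (nat_lit 0x356713471782122121)) (Tr.leaf (nat_lit 0x0)))) (Tr.node (Tr.node (Tr.leaf (nat_lit 0x88521348286713217111)) (Tr.leaf (nat_lit 0x43342673177121))) (Tr.node (Tr.leaf (nat_lit 0x763684221318767766)) (Tr.leaf (nat_lit 0x0)))))) (Tr.node (Tr.node (Tr.node (Tr.node (Tr.leaf (nat_lit 0x8452231782671712)) (Tr.leaf (nat_lit 0x5334323328267))) (Tr.node (Tr.leaf (nat_lit 0x845845773623226712)) (Tr.leaf (nat_lit 0x0)))) (Tr.node (Tr.node (Tr.leaf (nat_lit 0x9134217367712)) (Tr.leaf (nat_lit 0x533432332822177))) (Tr.node (Tr.leaf (nat_lit 0x31354877173621221)) (Tr.leaf (nat_lit 0x0))))) (Tr.node (Tr.node (Tr.node (Tr.leaf (nat_lit 0x77893468232362212171)) (Tr.leaf (nat_lit 0x48451521182376221))) (Tr.node (Tr.leaf (nat_lit 0x543584773268776662)) (Tr.leaf (nat_lit 0x0)))) (Tr.node (Tr.node (Tr.leaf (nat_lit 0x4571323226226)) (Tr.leaf (nat_lit 0x7686342218132267122))) (Tr.node (Tr.leaf (nat_lit 0x8458457736237762122)) (Tr.leaf (nat_lit 0x0))))))) (Tr.node (Tr.node (Tr.node (Tr.node (Tr.node (Tr.leaf (nat_lit 0x1845223178622122)) (Tr.leaf (nat_lit 0x41342173766622))) (Tr.node (Tr.leaf (nat_lit 0x9851343733632)) (Tr.leaf (nat_lit 0x0)))) (Tr.node (Tr.node (Tr.leaf (nat_lit 0x421587876217)) (Tr.leaf (nat_lit 0x543584773268221771))) (Tr.node (Tr.leaf (nat_lit 0x759253478781232671212)) (Tr.leaf (nat_lit 0x0))))) (Tr.node (Tr.node (Tr.node (Tr.leaf (nat_lit 0x33431512868767767)) (Tr.leaf (nat_lit 0x39731533121771))) (Tr.node (Tr.leaf (nat_lit 0x9134217376226)) (Tr.leaf (nat_lit 0x0)))) (Tr.node (Tr.node (Tr.leaf (nat_lit 0x45341542318737121)) (Tr.leaf (nat_lit 0x48451521182377626))) (Tr.node (Tr.leaf (nat_lit 0x984515211823776712)) (Tr.leaf (nat_lit 0x0)))))) (Tr.node (Tr.node (Tr.node (Tr.node (Tr.leaf (nat_lit 0x8743153312212)) (Tr.leaf (nat_lit 0x258684178263221771))) (Tr.node (Tr.leaf (nat_lit 0x4845152118231217)) (Tr.leaf (nat_lit 0x0)))) (Tr.node (Tr.node (Tr.leaf (nat_lit 0x35671347178262262)) (Tr.leaf (nat_lit 0x4342173712211))) (Tr.node (Tr.leaf (nat_lit 0x8852134828671367122)) (Tr.leaf (nat_lit 0x0))))) (Tr.node (Tr.node (Tr.node (Tr.leaf (nat_lit 0x9334267367767121)) (Tr.leaf (nat_lit 0x533134128212826766))) (Tr.node (Tr.leaf (nat_lit 0x93342673262262)) (Tr.leaf (nat_lit 0x0)))) (Tr.node (Tr.node (Tr.leaf (nat_lit 0x485134373363211)) (Tr.leaf (nat_lit 0x0))) (Tr.node (Tr.leaf (nat_lit 0x41571323762677)) (Tr.leaf (nat_lit 0x0)))))))) (Tr.node (Tr.node (Tr.node (Tr.node (Tr.node (Tr.node (Tr.leaf (nat_lit 0x412158782217121)) (Tr.leaf (nat_lit 0x76368422131867626))) (Tr.node (Tr.leaf (nat_lit 0x134567321232217122)) (Tr.leaf (nat_lit 0x0)))) (Tr.node (Tr.node (Tr.leaf (nat_lit 0x933426737717121)) (Tr.leaf (nat_lit 0x5334323328767717))) (Tr.node (Tr.leaf (nat_lit 0x5435847732687717121)) (Tr.leaf (nat_lit 0x0))))) (Tr.node (Tr.node (Tr.node (Tr.leaf (nat_lit 0x9595347731867121)) (Tr.leaf (nat_lit 0x5821841321231771211))) (Tr.node (Tr.leaf (nat_lit 0x98513437336362122)) (Tr.leaf (nat_lit 0x0)))) (Tr.node (Tr.node (Tr.leaf (nat_lit 0x115334323328712211)) (Tr.leaf (nat_lit 0x88521348286713226717))) (Tr.node (Tr.leaf (nat_lit 0x459534773182211)) (Tr.leaf (nat_lit 0x0)))))) (Tr.node (Tr.node (Tr.node (Tr.node (Tr.leaf (nat_lit 0x74152323267712)) (Tr.leaf (nat_lit 0x9845152118237177171))) (Tr.node (Tr.leaf (nat_lit 0x45953477318267177)) (Tr.leaf (nat_lit 0x0)))) (Tr.node (Tr.node (Tr.leaf (nat_lit 0x134567321232622)) (Tr.leaf (nat_lit 0x7592534787812312))) (Tr.node (Tr.leaf (nat_lit 0x533134128212867121221)) (Tr.leaf (nat_lit 0x0))))) (Tr.node (Tr.node (Tr.node (Tr.leaf (nat_lit 0x759253478781232122)) (Tr.leaf (nat_lit 0x885213482867137122111))) (Tr.node (Tr.leaf (nat_lit 0x3456732123677177)) (Tr.leaf (nat_lit 0x0)))) (Tr.node (Tr.node (Tr.leaf (nat_lit 0x598634678186226226)) (Tr.leaf (nat_lit 0x53313412821282171))) (Tr.node (Tr.leaf (nat_lit 0x421587812212)) (Tr.leaf (nat_lit 0x0))))))) (Tr.node (Tr.node (Tr.node (Tr.node (Tr.node (Tr.leaf (nat_lit 0x412158782622122)) (Tr.leaf (nat_lit 0x28856842867712))) (Tr.node (Tr.leaf (nat_lit 0x75925347878123671712)) (Tr.leaf (nat_lit 0x0)))) (Tr.node (Tr.node (Tr.leaf (nat_lit 0x934217366)) (Tr.leaf (nat_lit 0x759253478781237762212))) (Tr.node (Tr.leaf (nat_lit 0x71863422181321221)) (Tr.leaf (nat_lit 0x0))))) (Tr.node (Tr.node (Tr.node (Tr.leaf (nat_lit 0x778934682323262671)) (Tr.leaf (nat_lit 0x174152323762))) (Tr.node (Tr.leaf (nat_lit 0x933426737122)) (Tr.leaf (nat_lit 0x0)))) (Tr.node (Tr.node (Tr.leaf (nat_lit 0x43421732122121)) (Tr.leaf (nat_lit 0x533134128212867767121))) (Tr.node (Tr.leaf (nat_lit 0x543213487862817)) (Tr.leaf (nat_lit 0x0)))))) (Tr.node (Tr.node (Tr.node (Tr.node (Tr.leaf (nat_lit 0x7186342218132177171)) (Tr.leaf (nat_lit 0x3958457736237121711))) (Tr.node (Tr.leaf (nat_lit 0x75925347878123122122121)) (Tr.leaf (nat_lit 0x0)))) (Tr.node (Tr.node (Tr.leaf (nat_lit 0x543584773268177121)) (Tr.leaf (nat_lit 0x41215878767717121))) (Tr.node (Tr.leaf (nat_lit 0x75925347878123212211)) (Tr.leaf (nat_lit 0x0))))) (Tr.node (Tr.node (Tr.node (Tr.leaf (nat_lit 0x412158782212)) (Tr.leaf (nat_lit 0x634567321232262671))) (Tr.node (Tr.leaf (nat_lit 0x356713471787717121)) (Tr.leaf (nat_lit 0x0)))) (Tr.node (Tr.node (Tr.leaf (nat_lit 0x88931512868677121)) (Tr.leaf (nat_lit 0x0))) (Tr.node (Tr.leaf (nat_lit 0x4571154877878226712)) (Tr.leaf (nat_lit 0x0)))))))))) (Tr.node (Tr.node (Tr.node (Tr.node (Tr.node (Tr.node (Tr.node (Tr.node (Tr.leaf (nat_lit 0x4595347731876776)) (Tr.leaf (nat_lit 0x4334267367122))) (Tr.node (Tr.leaf (nat_lit 0x334315128681111)) (Tr.leaf (nat_lit 0x0)))) (Tr.node (Tr.node (Tr.leaf (nat_lit 0x3345328223676226)) (Tr.leaf (nat_lit 0x74152323122111))) (Tr.node (Tr.leaf (nat_lit 0x533432332862671)) (Tr.leaf (nat_lit 0x0))))) (Tr.node (Tr.node (Tr.node (Tr.leaf (nat_lit 0x751532867371111)) (Tr.leaf (nat_lit 0x759253478781236771771))) (Tr.node (Tr.leaf (nat_lit 0x43421736776712)) (Tr.leaf (nat_lit 0x0)))) (Tr.node (Tr.node (Tr.leaf (nat_lit 0x54358477326862671)) (Tr.leaf (nat_lit 0x3456732123212211))) (Tr.node (Tr.leaf (nat_lit 0x3567134717876226)) (Tr.leaf (nat_lit 0x0)))))) (Tr.node (Tr.node (Tr.node (Tr.node (Tr.leaf (nat_lit 0x9595347731812)) (Tr.leaf (nat_lit 0x98513437336326))) (Tr.node (Tr.leaf (nat_lit 0x58218413212376221)) (Tr.leaf (nat_lit 0x0)))) (Tr.node (Tr.node (Tr.leaf (nat_lit 0x8893151286867712)) (Tr.leaf (nat_lit 0x153343233286217))) (Tr.node (Tr.leaf (nat_lit 0x1153343233287621221)) (Tr.leaf (nat_lit 0x0))))) (Tr.node (Tr.node (Tr.node (Tr.leaf (nat_lit 0x3156343313136776771)) (Tr.leaf (nat_lit 0x95953477318267177))) (Tr.node (Tr.leaf (nat_lit 0x84584577362362177)) (Tr.leaf (nat_lit 0x0)))) (Tr.node (Tr.node (Tr.leaf (nat_lit 0x484515211823121711)) (Tr.leaf (nat_lit 0x4851343733632676226))) (Tr.node (Tr.leaf (nat_lit 0x8562234788213221771)) (Tr.leaf (nat_lit 0x0))))))) (Tr.node (Tr.node (Tr.node (Tr.node (Tr.node (Tr.leaf (nat_lit 0x4334267322177)) (Tr.leaf (nat_lit 0x258684178263))) (Tr.node (Tr.leaf (nat_lit 0x76863422181371771)) (Tr.leaf (nat_lit 0x0)))) (Tr.node (Tr.node (Tr.leaf (nat_lit 0x7636842213187677)) (Tr.leaf (nat_lit 0x2671))) (Tr.node (Tr.leaf (nat_lit 0x4334267321221211)) (Tr.leaf (nat_lit 0x0))))) (Tr.node (Tr.node (Tr.node (Tr.leaf (nat_lit 0x7515328673171)) (Tr.leaf (nat_lit 0x4851343733632267))) (Tr.node (Tr.leaf (nat_lit 0x14342173221771)) (Tr.leaf (nat_lit 0x0)))) (Tr.node (Tr.node (Tr.leaf (nat_lit 0x1845223178677)) (Tr.leaf (nat_lit 0x315634331313767766))) (Tr.node (Tr.leaf (nat_lit 0x3958457736237712211)) (Tr.leaf (nat_lit 0x0)))))) (Tr.node (Tr.node (Tr.node (Tr.node (Tr.leaf (nat_lit 0x171221)) (Tr.leaf (nat_lit 0x845845773623767712))) (Tr.node (Tr.leaf (nat_lit 0x258684178263712122)) (Tr.leaf (nat_lit 0x0)))) (Tr.node (Tr.node (Tr.leaf (nat_lit 0x95953477318122122121)) (Tr.leaf (nat_lit 0x985134373363267762))) (Tr.node (Tr.leaf (nat_lit 0x2586841782632171)) (Tr.leaf (nat_lit 0x0))))) (Tr.node (Tr.node (Tr.node (Tr.leaf (nat_lit 0x634567321237622122)) (Tr.leaf (nat_lit 0x395845773623767122))) (Tr.node (Tr.leaf (nat_lit 0x395845773623221712)) (Tr.leaf (nat_lit 0x0)))) (Tr.node (Tr.node (Tr.leaf (nat_lit 0x413421737677671)) (Tr.leaf (nat_lit 0x421587876712122))) (Tr.node (Tr.leaf (nat_lit 0x345673212371212)) (Tr.leaf (nat_lit 0x0)))))))) (Tr.node (Tr.node (Tr.node (Tr.node (Tr.node (Tr.node (Tr.leaf (nat_lit 0x13456732123217717)) (Tr.leaf (nat_lit 0x53313412821287622))) (Tr.node (Tr.leaf (nat_lit 0x3958457736237767717)) (Tr.leaf (nat_lit 0x0)))) (Tr.node (Tr.node (Tr.leaf (nat_lit 0x76863422181376212)) (Tr.leaf (nat_lit 0x984515211823677621))) (Tr.node (Tr.leaf (nat_lit 0x88521348286713677621)) (Tr.leaf (nat_lit 0x0))))) (Tr.node (Tr.node (Tr.node (Tr.leaf (nat_lit 0x13456732123771711)) (Tr.leaf (nat_lit 0x413421731))) (Tr.node (Tr.leaf (nat_lit 0x433426737767121)) (Tr.leaf (nat_lit 0x0)))) (Tr.node (Tr.node (Tr.leaf (nat_lit 0x31354877173622)) (Tr.leaf (nat_lit 0x5334323328171221))) (Tr.node (Tr.leaf (nat_lit 0x8743153377622)) (Tr.leaf (nat_lit 0x0)))))) (Tr.node (Tr.node (Tr.node (Tr.node (Tr.leaf (nat_lit 0x8452231782677177)) (Tr.leaf (nat_lit 0x48513437336321111))) (Tr.node (Tr.leaf (nat_lit 0x4334267317122)) (Tr.leaf (nat_lit 0x0)))) (Tr.node (Tr.node (Tr.leaf (nat_lit 0x9342173676226)) (Tr.leaf (nat_lit 0x3567134717822677))) (Tr.node (Tr.leaf (nat_lit 0x356713471782622121)) (Tr.leaf (nat_lit 0x0))))) (Tr.node (Tr.node (Tr.node (Tr.leaf (nat_lit 0x412158781711)) (Tr.leaf (nat_lit 0x15334323328771211))) (Tr.node (Tr.leaf (nat_lit 0x3345328223712211)) (Tr.leaf (nat_lit 0x0)))) (Tr.node (Tr.node (Tr.leaf (nat_lit 0x33453282232671)) (Tr.leaf (nat_lit 0x2885684281771211))) (Tr.node (Tr.leaf (nat_lit 0x45341542318737677177)) (Tr.leaf (nat_lit 0x0))))))) (Tr.node (Tr.node (Tr.node (Tr.node (Tr.node (Tr.leaf (nat_lit 0x845223178262217)) (Tr.leaf (nat_lit 0x634567321237717))) (Tr.node (Tr.leaf (nat_lit 0x4571323776)) (Tr.leaf (nat_lit 0x0)))) (Tr.node (Tr.node (Tr.leaf (nat_lit 0x741523232676226)) (Tr.leaf (nat_lit 0x31354877173122))) (Tr.node (Tr.leaf (nat_lit 0x1434217376226)) (Tr.leaf (nat_lit 0x0))))) (Tr.node (Tr.node (Tr.node (Tr.leaf (nat_lit 0x93421737122111)) (Tr.leaf (nat_lit 0x45713237622621))) (Tr.node (Tr.leaf (nat_lit 0x7789346823232217)) (Tr.leaf (nat_lit 0x0)))) (Tr.node (Tr.node (Tr.leaf (nat_lit 0x1845223178262217)) (Tr.leaf (nat_lit 0x659863467818262262212))) (Tr.node (Tr.leaf (nat_lit 0x8743153326717)) (Tr.leaf (nat_lit 0x0)))))) (Tr.node (Tr.node (Tr.node (Tr.node (Tr.leaf (nat_lit 0x7186342218137177111)) (Tr.leaf (nat_lit 0x88931512868666))) (Tr.node (Tr.leaf (nat_lit 0x14342173712122)) (Tr.leaf (nat_lit 0x0)))) (Tr.node (Tr.node (Tr.leaf (nat_lit 0x4157132367171)) (Tr.leaf (nat_lit 0x46342173212212))) (Tr.node (Tr.leaf (nat_lit 0x39731533122121)) (Tr.leaf (nat_lit 0x0))))) (Tr.node (Tr.node (Tr.node (Tr.leaf (nat_lit 0x68452231786226221)) (Tr.leaf (nat_lit 0x46342173121711))) (Tr.node (Tr.leaf (nat_lit 0x26215477882622626)) (Tr.leaf (nat_lit 0x0)))) (Tr.node (Tr.node (Tr.leaf (nat_lit 0x7686342218137177111)) (Tr.leaf (nat_lit 0x0))) (Tr.node (Tr.leaf (nat_lit 0x53313412821287621221)) (Tr.leaf (nat_lit 0x0))))))))) (Tr.node (Tr.node (Tr.node (Tr.node (Tr.node (Tr.node (Tr.node (Tr.leaf (nat_lit 0x45713232122122121)) (Tr.leaf (nat_lit 0x8852134828671367712))) (Tr.node (Tr.leaf (nat_lit 0x481734213178767712)) (Tr.leaf (nat_lit 0x0)))) (Tr.node (Tr.node (Tr.leaf (nat_lit 0x59863467818262217)) (Tr.leaf (nat_lit 0x71771711))) (Tr.node (Tr.leaf (nat_lit 0x767547788776662)) (Tr.leaf (nat_lit 0x0))))) (Tr.node (Tr.node (Tr.node (Tr.leaf (nat_lit 0x334532822367122)) (Tr.leaf (nat_lit 0x634567321236776776))) (Tr.node (Tr.leaf (nat_lit 0x598634678182677177)) (Tr.leaf (nat_lit 0x0)))) (Tr.node (Tr.node (Tr.leaf (nat_lit 0x6533432332867712)) (Tr.leaf (nat_lit 0x75925347878123677677))) (Tr.node (Tr.leaf (nat_lit 0x43421737677671)) (Tr.leaf (nat_lit 0x0)))))) (Tr.node (Tr.node (Tr.node (Tr.node (Tr.leaf (nat_lit 0x13456732123267717)) (Tr.leaf (nat_lit 0x2586841782637122))) (Tr.node (Tr.leaf (nat_lit 0x457115487787826776)) (Tr.leaf (nat_lit 0x0)))) (Tr.node (Tr.node (Tr.leaf (nat_lit 0x8562234788213212212)) (Tr.leaf (nat_lit 0x7675477887717121))) (Tr.node (Tr.leaf (nat_lit 0x582184132123177121)) (Tr.leaf (nat_lit 0x0))))) (Tr.node (Tr.node (Tr.node (Tr.leaf (nat_lit 0x45713232121)) (Tr.leaf (nat_lit 0x845845773623221712))) (Tr.node (Tr.leaf (nat_lit 0x659863467818767)) (Tr.leaf (nat_lit 0x0)))) (Tr.node (Tr.node (Tr.leaf (nat_lit 0x395845773623762676)) (Tr.leaf (nat_lit 0x65986346781877666))) (Tr.node (Tr.leaf (nat_lit 0x397315332177111)) (Tr.leaf (nat_lit 0x0))))))) (Tr.node (Tr.node (Tr.node (Tr.node (Tr.node (Tr.leaf (nat_lit 0x4157132367766)) (Tr.leaf (nat_lit 0x65334323328677621))) (Tr.node (Tr.leaf (nat_lit 0x582184132123217)) (Tr.leaf (nat_lit 0x0)))) (Tr.node (Tr.node (Tr.leaf (nat_lit 0x54321348786287677621)) (Tr.leaf (nat_lit 0x543584773268677626))) (Tr.node (Tr.leaf (nat_lit 0x31563433131371771)) (Tr.leaf (nat_lit 0x0))))) (Tr.node (Tr.node (Tr.node (Tr.leaf (nat_lit 0x4342173767767)) (Tr.leaf (nat_lit 0x1434217377626))) (Tr.node (Tr.leaf (nat_lit 0x5821841321232622626)) (Tr.leaf (nat_lit 0x0)))) (Tr.node (Tr.node (Tr.leaf (nat_lit 0x53343233281)) (Tr.leaf (nat_lit 0x4817342131782177111))) (Tr.node (Tr.leaf (nat_lit 0x913421737671212)) (Tr.leaf (nat_lit 0x0)))))) (Tr.node (Tr.node (Tr.node (Tr.node (Tr.leaf (nat_lit 0x8452231787677122)) (Tr.leaf (nat_lit 0x315634331313171211))) (Tr.node (Tr.leaf (nat_lit 0x856223478821317712)) (Tr.leaf (nat_lit 0x0)))) (Tr.node (Tr.node (Tr.leaf (nat_lit 0x415713237711)) (Tr.leaf (nat_lit 0x7592534787812322))) (Tr.node (Tr.leaf (nat_lit 0x3958457736232262217)) (Tr.leaf (nat_lit 0x0))))) (Tr.node (Tr.node (Tr.node (Tr.leaf (nat_lit 0x4342173217)) (Tr.leaf (nat_lit 0x63456732123212211))) (Tr.node (Tr.leaf (nat_lit 0x334532822362676)) (Tr.leaf (nat_lit 0x0)))) (Tr.node (Tr.node (Tr.leaf (nat_lit 0x7415232367717)) (Tr.leaf (nat_lit 0x0))) (Tr.node (Tr.leaf (nat_lit 0x453415423187321)) (Tr.leaf (nat_lit 0x0)))))))) (Tr.node (Tr.node (Tr.node (Tr.node (Tr.node (Tr.node (Tr.leaf (nat_lit 0x93342673262177)) (Tr.leaf (nat_lit 0x3958457736232267621))) (Tr.node (Tr.leaf (nat_lit 0x58218413212312171)) (Tr.leaf (nat_lit 0x0)))) (Tr.node (Tr.node (Tr.leaf (nat_lit 0x7686342218136712)) (Tr.leaf (nat_lit 0x93342673262212))) (Tr.node (Tr.leaf (nat_lit 0x9845152118237621221)) (Tr.leaf (nat_lit 0x0))))) (Tr.node (Tr.node (Tr.node (Tr.leaf (nat_lit 0x93421736776712)) (Tr.leaf (nat_lit 0x484515211823111))) (Tr.node (Tr.leaf (nat_lit 0x91342173177121)) (Tr.leaf (nat_lit 0x0)))) (Tr.node (Tr.node (Tr.leaf (nat_lit 0x8893151286877121)) (Tr.leaf (nat_lit 0x7789346823237621))) (Tr.node (Tr.leaf (nat_lit 0x8458457736232122122)) (Tr.leaf (nat_lit 0x0)))))) (Tr.node (Tr.node (Tr.node (Tr.node (Tr.leaf (nat_lit 0x598634678182622676)) (Tr.leaf (nat_lit 0x84584577362371))) (Tr.node (Tr.leaf (nat_lit 0x95953477318677677)) (Tr.leaf (nat_lit 0x0)))) (Tr.node (Tr.node (Tr.leaf (nat_lit 0x8743153376)) (Tr.leaf (nat_lit 0x26215477886217))) (Tr.node (Tr.leaf (nat_lit 0x13456732123267177)) (Tr.leaf (nat_lit 0x0))))) (Tr.node (Tr.node (Tr.node (Tr.leaf (nat_lit 0x59863467818212217)) (Tr.leaf (nat_lit 0x76863422181312217))) (Tr.node (Tr.leaf (nat_lit 0x39731533717712)) (Tr.leaf (nat_lit 0x0)))) (Tr.node (Tr.node (Tr.leaf (nat_lit 0x7515328673762171)) (Tr.leaf (nat_lit 0x76754778867762))) (Tr.node (Tr.leaf (nat_lit 0x115334323328262262)) (Tr.leaf (nat_lit 0x0))))))) (Tr.node (Tr.node (Tr.node (Tr.node (Tr.node (Tr.leaf (nat_lit 0x334532822311)) (Tr.leaf (nat_lit 0x778934682323221711))) (Tr.node (Tr.leaf (nat_lit 0x1845223178217121)) (Tr.leaf (nat_lit 0x0)))) (Tr.node (Tr.node (Tr.leaf (nat_lit 0x412158782262)) (Tr.leaf (nat_lit 0x88931512868226771))) (Tr.node (Tr.leaf (nat_lit 0x412158781221211)) (Tr.leaf (nat_lit 0x0))))) (Tr.node (Tr.node (Tr.node (Tr.leaf (nat_lit 0x767547788226776)) (Tr.leaf (nat_lit 0x582184132123226717))) (Tr.node (Tr.leaf (nat_lit 0x25868417826377626)) (Tr.leaf (nat_lit 0x0)))) (Tr.node (Tr.node (Tr.leaf (nat_lit 0x17415232312212171)) (Tr.leaf (nat_lit 0x6221771))) (Tr.node (Tr.leaf (nat_lit 0x7675477882676)) (Tr.leaf (nat_lit 0x0)))))) (Tr.node (Tr.node (Tr.node (Tr.node (Tr.leaf (nat_lit 0x356713471787121221)) (Tr.leaf (nat_lit 0x3345328223267))) (Tr.node (Tr.leaf (nat_lit 0x91342173622177)) (Tr.leaf (nat_lit 0x0)))) (Tr.node (Tr.node (Tr.leaf (nat_lit 0x315634331313621)) (Tr.leaf (nat_lit 0x98451521182367767121))) (Tr.node (Tr.leaf (nat_lit 0x533134128212877121)) (Tr.leaf (nat_lit 0x0))))) (Tr.node (Tr.node (Tr.node (Tr.leaf (nat_lit 0x174152323221711)) (Tr.leaf (nat_lit 0x9845152118237677171))) (Tr.node (Tr.leaf (nat_lit 0x659863467818267121)) (Tr.leaf (nat_lit 0x0)))) (Tr.node (Tr.node (Tr.leaf (nat_lit 0x313548771732)) (Tr.leaf (nat_lit 0x0))) (Tr.node (Tr.leaf (nat_lit 0x3345328223622177)) (Tr.leaf (nat_lit 0x0))))))))))) (Tr.node (Tr.node (Tr.node (Tr.node (Tr.node (Tr.node (Tr.node (Tr.node (Tr.node (Tr.leaf (nat_lit 0x39731533767121221)) (Tr.leaf (nat_lit 0x9851343733632677121))) (Tr.node (Tr.leaf (nat_lit 0x58218413212371221)) (Tr.leaf (nat_lit 0x0)))) (Tr.node (Tr.node (Tr.leaf (nat_lit 0x7515328673677122)) (Tr.leaf (nat_lit 0x434217311))) (Tr.node (Tr.leaf (nat_lit 0x356713471787762)) (Tr.leaf (nat_lit 0x0))))) (Tr.node (Tr.node (Tr.node (Tr.leaf (nat_lit 0x8893151286876226)) (Tr.leaf (nat_lit 0x768634221813221217))) (Tr.node (Tr.leaf (nat_lit 0x93421737177171)) (Tr.leaf (nat_lit 0x0)))) (Tr.node (Tr.node (Tr.leaf (nat_lit 0x485134373363262171)) (Tr.leaf (nat_lit 0x18452231782622122121))) (Tr.node (Tr.leaf (nat_lit 0x4571154877878767717121)) (Tr.leaf (nat_lit 0x0)))))) (Tr.node (Tr.node (Tr.node (Tr.node (Tr.leaf (nat_lit 0x2586841782631771211)) (Tr.leaf (nat_lit 0x18452231786771))) (Tr.node (Tr.leaf (nat_lit 0x98451521182366)) (Tr.leaf (nat_lit 0x0)))) (Tr.node (Tr.node (Tr.leaf (nat_lit 0x334315128682122121)) (Tr.leaf (nat_lit 0x45711548778782622622))) (Tr.node (Tr.leaf (nat_lit 0x65334323328677121)) (Tr.leaf (nat_lit 0x0))))) (Tr.node (Tr.node (Tr.node (Tr.leaf (nat_lit 0x5435847732687622)) (Tr.leaf (nat_lit 0x433426736267))) (Tr.node (Tr.leaf (nat_lit 0x5435847732686267)) (Tr.leaf (nat_lit 0x0)))) (Tr.node (Tr.node (Tr.leaf (nat_lit 0x1533432332821221211)) (Tr.leaf (nat_lit 0x484515211823767767))) (Tr.node (Tr.leaf (nat_lit 0x8743153371217)) (Tr.leaf (nat_lit 0x0))))))) (Tr.node (Tr.node (Tr.node (Tr.node (Tr.node (Tr.leaf (nat_lit 0x43421732171)) (Tr.leaf (nat_lit 0x262154778876226))) (Tr.node (Tr.leaf (nat_lit 0x9851343733637621)) (Tr.leaf (nat_lit 0x0)))) (Tr.node (Tr.node (Tr.leaf (nat_lit 0x1345673212362217)) (Tr.leaf (nat_lit 0x26215477887121221))) (Tr.node (Tr.leaf (nat_lit 0x421587862262)) (Tr.leaf (nat_lit 0x0))))) (Tr.node (Tr.node (Tr.node (Tr.leaf (nat_lit 0x1345673212376776)) (Tr.leaf (nat_lit 0x1533432332821711))) (Tr.node (Tr.leaf (nat_lit 0x1845223178762177)) (Tr.leaf (nat_lit 0x0)))) (Tr.node (Tr.node (Tr.leaf (nat_lit 0x913421732122121)) (Tr.leaf (nat_lit 0x53343233282122121))) (Tr.node (Tr.leaf (nat_lit 0x33431512868)) (Tr.leaf (nat_lit 0x0)))))) (Tr.node (Tr.node (Tr.node (Tr.node (Tr.leaf (nat_lit 0x1434217367121221)) (Tr.leaf (nat_lit 0x1533432332867121221))) (Tr.node (Tr.leaf (nat_lit 0x53313412821287712)) (Tr.leaf (nat_lit 0x0)))) (Tr.node (Tr.node (Tr.leaf (nat_lit 0x31563433131362262262)) (Tr.leaf (nat_lit 0x2885684287622))) (Tr.node (Tr.leaf (nat_lit 0x533432332866)) (Tr.leaf (nat_lit 0x0))))) (Tr.node (Tr.node (Tr.node (Tr.leaf (nat_lit 0x98513437336321217)) (Tr.leaf (nat_lit 0x395845773623671))) (Tr.node (Tr.leaf (nat_lit 0x98513437336371211)) (Tr.leaf (nat_lit 0x0)))) (Tr.node (Tr.node (Tr.leaf (nat_lit 0x6845223178212)) (Tr.leaf (nat_lit 0x41571323212212212))) (Tr.node (Tr.leaf (nat_lit 0x87431533711)) (Tr.leaf (nat_lit 0x0)))))))) (Tr.node (Tr.node (Tr.node (Tr.node (Tr.node (Tr.node (Tr.leaf (nat_lit 0x4121587826221221)) (Tr.leaf (nat_lit 0x4215878622121))) (Tr.node (Tr.leaf (nat_lit 0x9851343733632671221)) (Tr.leaf (nat_lit 0x0)))) (Tr.node (Tr.node (Tr.leaf (nat_lit 0x2621547788226776)) (Tr.leaf (nat_lit 0x653343233287621221))) (Tr.node (Tr.leaf (nat_lit 0x74152323671771)) (Tr.leaf (nat_lit 0x0))))) (Tr.node (Tr.node (Tr.node (Tr.leaf (nat_lit 0x46342173676221)) (Tr.leaf (nat_lit 0x7592534787812367621))) (Tr.node (Tr.leaf (nat_lit 0x933426732671)) (Tr.leaf (nat_lit 0x0)))) (Tr.node (Tr.node (Tr.leaf (nat_lit 0x6345673212371212)) (Tr.leaf (nat_lit 0x718634221813226217))) (Tr.node (Tr.leaf (nat_lit 0x76368422131877171)) (Tr.leaf (nat_lit 0x0)))))) (Tr.node (Tr.node (Tr.node (Tr.node (Tr.leaf (nat_lit 0x43421736771712)) (Tr.leaf (nat_lit 0x582184132123171221))) (Tr.node (Tr.leaf (nat_lit 0x5331341282128762122)) (Tr.leaf (nat_lit 0x0)))) (Tr.node (Tr.node (Tr.leaf (nat_lit 0x481734213178771221)) (Tr.leaf (nat_lit 0x48145348123281))) (Tr.node (Tr.leaf (nat_lit 0x313548771732677621)) (Tr.leaf (nat_lit 0x0))))) (Tr.node (Tr.node (Tr.node (Tr.leaf (nat_lit 0x768634221813221)) (Tr.leaf (nat_lit 0x334532822377626))) (Tr.node (Tr.leaf (nat_lit 0x8452231782171211)) (Tr.leaf (nat_lit 0x0)))) (Tr.node (Tr.node (Tr.leaf (nat_lit 0x4845152118231)) (Tr.leaf (nat_lit 0x7592534787812371771))) (Tr.node (Tr.leaf (nat_lit 0x93421736217)) (Tr.leaf (nat_lit 0x0))))))) (Tr.node (Tr.node (Tr.node (Tr.node (Tr.node (Tr.leaf (nat_lit 0x17712)) (Tr.leaf (nat_lit 0x262154778862671))) (Tr.node (Tr.leaf (nat_lit 0x1345673212312)) (Tr.leaf (nat_lit 0x0)))) (Tr.node (Tr.node (Tr.leaf (nat_lit 0x6598634678186226226)) (Tr.leaf (nat_lit 0x481734213178767717121))) (Tr.node (Tr.leaf (nat_lit 0x3135487717376771771)) (Tr.leaf (nat_lit 0x0))))) (Tr.node (Tr.node (Tr.node (Tr.leaf (nat_lit 0x4571323776267)) (Tr.leaf (nat_lit 0x1345673212326221))) (Tr.node (Tr.leaf (nat_lit 0x8893151286867121221)) (Tr.leaf (nat_lit 0x0)))) (Tr.node (Tr.node (Tr.leaf (nat_lit 0x4215878712171)) (Tr.leaf (nat_lit 0x885213482867137122))) (Tr.node (Tr.leaf (nat_lit 0x95953477318122171)) (Tr.leaf (nat_lit 0x0)))))) (Tr.node (Tr.node (Tr.node (Tr.node (Tr.leaf (nat_lit 0x345673212312217)) (Tr.leaf (nat_lit 0x885213482867136221771))) (Tr.node (Tr.leaf (nat_lit 0x598634678182122171)) (Tr.leaf (nat_lit 0x0)))) (Tr.node (Tr.node (Tr.leaf (nat_lit 0x91342173226717)) (Tr.leaf (nat_lit 0x9851343733632217))) (Tr.node (Tr.leaf (nat_lit 0x258684178263226776)) (Tr.leaf (nat_lit 0x0))))) (Tr.node (Tr.node (Tr.node (Tr.leaf (nat_lit 0x53313412821286)) (Tr.leaf (nat_lit 0x98513437336362262171))) (Tr.node (Tr.leaf (nat_lit 0x84584577362326226221)) (Tr.leaf (nat_lit 0x0)))) (Tr.node (Tr.node (Tr.leaf (nat_lit 0x582184132123671221)) (Tr.leaf (nat_lit 0x0))) (Tr.node (Tr.leaf (nat_lit 0x35671347178226776)) (Tr.leaf (nat_lit 0x0))))))))) (Tr.node (Tr.node (Tr.node (Tr.node (Tr.node (Tr.node (Tr.node (Tr.leaf (nat_lit 0x85622347882137671212)) (Tr.leaf (nat_lit 0x115334323328676226))) (Tr.node (Tr.leaf (nat_lit 0x8452231787122121)) (Tr.leaf (nat_lit 0x0)))) (Tr.node (Tr.node (Tr.leaf (nat_lit 0x58218413212311)) (Tr.leaf (nat_lit 0x459534773182671771))) (Tr.node (Tr.leaf (nat_lit 0x2885684287122)) (Tr.leaf (nat_lit 0x0))))) (Tr.node (Tr.node (Tr.node (Tr.leaf (nat_lit 0x751532867377622)) (Tr.leaf (nat_lit 0x65334323328771712))) (Tr.node (Tr.leaf (nat_lit 0x7686342218132211)) (Tr.leaf (nat_lit 0x0)))) (Tr.node (Tr.node (Tr.leaf (nat_lit 0x5821841321232171)) (Tr.leaf (nat_lit 0x26215477887622))) (Tr.node (Tr.leaf (nat_lit 0x93342673226771)) (Tr.leaf (nat_lit 0x0)))))) (Tr.node (Tr.node (Tr.node (Tr.node (Tr.leaf (nat_lit 0x3456732123622622121)) (Tr.leaf (nat_lit 0x5821841321231217))) (Tr.node (Tr.leaf (nat_lit 0x18452231787711)) (Tr.leaf (nat_lit 0x0)))) (Tr.node (Tr.node (Tr.leaf (nat_lit 0x1434217317122)) (Tr.leaf (nat_lit 0x91342173717717))) (Tr.node (Tr.leaf (nat_lit 0x874315337177121)) (Tr.leaf (nat_lit 0x0))))) (Tr.node (Tr.node (Tr.node (Tr.leaf (nat_lit 0x4851343733637626)) (Tr.leaf (nat_lit 0x634567321236622))) (Tr.node (Tr.leaf (nat_lit 0x433426737121221)) (Tr.leaf (nat_lit 0x0)))) (Tr.node (Tr.node (Tr.leaf (nat_lit 0x5432134878628767762)) (Tr.leaf (nat_lit 0x8852134828671367762))) (Tr.node (Tr.leaf (nat_lit 0x41571323262217)) (Tr.leaf (nat_lit 0x0))))))) (Tr.node (Tr.node (Tr.node (Tr.node (Tr.node (Tr.leaf (nat_lit 0x59863467818217121)) (Tr.leaf (nat_lit 0x3958457736237677121))) (Tr.node (Tr.leaf (nat_lit 0x1153343233287712)) (Tr.leaf (nat_lit 0x0)))) (Tr.node (Tr.node (Tr.leaf (nat_lit 0x2586841782636)) (Tr.leaf (nat_lit 0x14342173712211))) (Tr.node (Tr.leaf (nat_lit 0x7675477887712)) (Tr.leaf (nat_lit 0x0))))) (Tr.node (Tr.node (Tr.node (Tr.leaf (nat_lit 0x767547788712211)) (Tr.leaf (nat_lit 0x8458457736232267121))) (Tr.node (Tr.leaf (nat_lit 0x485134373363776776)) (Tr.leaf (nat_lit 0x0)))) (Tr.node (Tr.node (Tr.leaf (nat_lit 0x7186342218131217712)) (Tr.leaf (nat_lit 0x53343233286776712))) (Tr.node (Tr.leaf (nat_lit 0x763684221318226217)) (Tr.leaf (nat_lit 0x0)))))) (Tr.node (Tr.node (Tr.node (Tr.node (Tr.leaf (nat_lit 0x13456732123762121)) (Tr.leaf (nat_lit 0x9851343733632177121))) (Tr.node (Tr.leaf (nat_lit 0x598634678186771)) (Tr.leaf (nat_lit 0x0)))) (Tr.node (Tr.node (Tr.leaf (nat_lit 0x768634221813671712)) (Tr.leaf (nat_lit 0x9595347731812217))) (Tr.node (Tr.leaf (nat_lit 0x395845773623226712)) (Tr.leaf (nat_lit 0x0))))) (Tr.node (Tr.node (Tr.node (Tr.leaf (nat_lit 0x913421736712122)) (Tr.leaf (nat_lit 0x87431533121771))) (Tr.node (Tr.leaf (nat_lit 0x5435847732682671)) (Tr.leaf (nat_lit 0x0)))) (Tr.node (Tr.node (Tr.leaf (nat_lit 0x933426732217711)) (Tr.leaf (nat_lit 0x0))) (Tr.node (Tr.leaf (nat_lit 0x6533432332862171)) (Tr.leaf (nat_lit 0x0)))))))) (Tr.node (Tr.node (Tr.node (Tr.node (Tr.node (Tr.node (Tr.leaf (nat_lit 0x93421736771712)) (Tr.leaf (nat_lit 0x856223478821377121))) (Tr.node (Tr.leaf (nat_lit 0x13456732123626)) (Tr.leaf (nat_lit 0x0)))) (Tr.node (Tr.node (Tr.leaf (nat_lit 0x7515328673226762)) (Tr.leaf (nat_lit 0x3135487717366622))) (Tr.node (Tr.leaf (nat_lit 0x76863422181362217)) (Tr.leaf (nat_lit 0x0))))) (Tr.node (Tr.node (Tr.node (Tr.leaf (nat_lit 0x485134373363762217)) (Tr.leaf (nat_lit 0x8893151286867122))) (Tr.node (Tr.leaf (nat_lit 0x5435847732687177171)) (Tr.leaf (nat_lit 0x0)))) (Tr.node (Tr.node (Tr.leaf (nat_lit 0x46342173677121)) (Tr.leaf (nat_lit 0x33431512868771712))) (Tr.node (Tr.leaf (nat_lit 0x457115487787877622)) (Tr.leaf (nat_lit 0x0)))))) (Tr.node (Tr.node (Tr.node (Tr.node (Tr.leaf (nat_lit 0x48145348123282622626)) (Tr.leaf (nat_lit 0x54358477326812171))) (Tr.node (Tr.leaf (nat_lit 0x421587822121)) (Tr.leaf (nat_lit 0x0)))) (Tr.node (Tr.node (Tr.leaf (nat_lit 0x856223478821367762)) (Tr.leaf (nat_lit 0x3156343313132122111))) (Tr.node (Tr.leaf (nat_lit 0x91342173212212)) (Tr.leaf (nat_lit 0x0))))) (Tr.node (Tr.node (Tr.node (Tr.leaf (nat_lit 0x741523232676221)) (Tr.leaf (nat_lit 0x543213487862812212))) (Tr.node (Tr.leaf (nat_lit 0x53343233281771211)) (Tr.leaf (nat_lit 0x0)))) (Tr.node (Tr.node (Tr.leaf (nat_lit 0x874315331221211)) (Tr.leaf (nat_lit 0x31354877173212171))) (Tr.node (Tr.leaf (nat_lit 0x34567321232177171)) (Tr.leaf (nat_lit 0x0))))))) (Tr.node (Tr.node (Tr.node (Tr.node (Tr.node (Tr.leaf (nat_lit 0x4342173267)) (Tr.leaf (nat_lit 0x5432134878628626776))) (Tr.node (Tr.leaf (nat_lit 0x913421737762)) (Tr.leaf (nat_lit 0x0)))) (Tr.node (Tr.node (Tr.leaf (nat_lit 0x288568428217)) (Tr.leaf (nat_lit 0x3567134717877121))) (Tr.node (Tr.leaf (nat_lit 0x598634678186212)) (Tr.leaf (nat_lit 0x0))))) (Tr.node (Tr.node (Tr.node (Tr.leaf (nat_lit 0x174152323217122)) (Tr.leaf (nat_lit 0x598634678187767717121))) (Tr.node (Tr.leaf (nat_lit 0x5432134878628671)) (Tr.leaf (nat_lit 0x0)))) (Tr.node (Tr.node (Tr.leaf (nat_lit 0x48451521182322177)) (Tr.leaf (nat_lit 0x634567321236662))) (Tr.node (Tr.leaf (nat_lit 0x115334323328226771)) (Tr.leaf (nat_lit 0x0)))))) (Tr.node (Tr.node (Tr.node (Tr.node (Tr.leaf (nat_lit 0x676226)) (Tr.leaf (nat_lit 0x71863422181312111))) (Tr.node (Tr.leaf (nat_lit 0x93342673712122)) (Tr.leaf (nat_lit 0x0)))) (Tr.node (Tr.node (Tr.leaf (nat_lit 0x76863422181317121)) (Tr.leaf (nat_lit 0x9595347731812212212))) (Tr.node (Tr.leaf (nat_lit 0x481453481232821221211)) (Tr.leaf (nat_lit 0x0))))) (Tr.node (Tr.node (Tr.node (Tr.leaf (nat_lit 0x763684221318717711)) (Tr.leaf (nat_lit 0x845845773623621771))) (Tr.node (Tr.leaf (nat_lit 0x18452231786776)) (Tr.leaf (nat_lit 0x0)))) (Tr.node (Tr.node (Tr.leaf (nat_lit 0x84584577362376217)) (Tr.leaf (nat_lit 0x0))) (Tr.node (Tr.leaf (nat_lit 0x481734213178626776)) (Tr.leaf (nat_lit 0x0)))))))))) (Tr.node (Tr.node (Tr.node (Tr.node (Tr.node (Tr.node (Tr.node (Tr.node (Tr.leaf (nat_lit 0x45713237121771)) (Tr.leaf (nat_lit 0x4814534812328766622))) (Tr.node (Tr.leaf (nat_lit 0x7636842213187177111)) (Tr.leaf (nat_lit 0x0)))) (Tr.node (Tr.node (Tr.leaf (nat_lit 0x9851343733637622171)) (Tr.leaf (nat_lit 0x4845152118231771712))) (Tr.node (Tr.leaf (nat_lit 0x75925347878123622122121)) (Tr.leaf (nat_lit 0x0))))) (Tr.node (Tr.node (Tr.node (Tr.leaf (nat_lit 0x98451521182322177)) (Tr.leaf (nat_lit 0x345673212367621))) (Tr.node (Tr.leaf (nat_lit 0x45341542318737622171)) (Tr.leaf (nat_lit 0x0)))) (Tr.node (Tr.node (Tr.leaf (nat_lit 0x4215878717712)) (Tr.leaf (nat_lit 0x15334323328267))) (Tr.node (Tr.leaf (nat_lit 0x68452231786221221)) (Tr.leaf (nat_lit 0x0)))))) (Tr.node (Tr.node (Tr.node (Tr.node (Tr.leaf (nat_lit 0x412158787762122)) (Tr.leaf (nat_lit 0x457115487787862262))) (Tr.node (Tr.leaf (nat_lit 0x659863467818226221)) (Tr.leaf (nat_lit 0x0)))) (Tr.node (Tr.node (Tr.leaf (nat_lit 0x3345328223171221)) (Tr.leaf (nat_lit 0x13456732123622671))) (Tr.node (Tr.leaf (nat_lit 0x3567134717867121221)) (Tr.leaf (nat_lit 0x0))))) (Tr.node (Tr.node (Tr.node (Tr.leaf (nat_lit 0x35671347178771712)) (Tr.leaf (nat_lit 0x1845223178776771712))) (Tr.node (Tr.leaf (nat_lit 0x5334323328766622)) (Tr.leaf (nat_lit 0x0)))) (Tr.node (Tr.node (Tr.leaf (nat_lit 0x4817342131782622622)) (Tr.leaf (nat_lit 0x395845773623626771))) (Tr.node (Tr.leaf (nat_lit 0x87431533226712)) (Tr.leaf (nat_lit 0x0))))))) (Tr.node (Tr.node (Tr.node (Tr.node (Tr.node (Tr.leaf (nat_lit 0x134567321232671212)) (Tr.leaf (nat_lit 0x71863422181326221))) (Tr.node (Tr.leaf (nat_lit 0x533134128212812171)) (Tr.leaf (nat_lit 0x0)))) (Tr.node (Tr.node (Tr.leaf (nat_lit 0x3958457736232622122)) (Tr.leaf (nat_lit 0x53343233287121221))) (Tr.node (Tr.leaf (nat_lit 0x75153286732622122)) (Tr.leaf (nat_lit 0x0))))) (Tr.node (Tr.node (Tr.node (Tr.leaf (nat_lit 0x174152323267712)) (Tr.leaf (nat_lit 0x18452231786212))) (Tr.node (Tr.leaf (nat_lit 0x885213482867132122121)) (Tr.leaf (nat_lit 0x0)))) (Tr.node (Tr.node (Tr.leaf (nat_lit 0x4595347731877171)) (Tr.leaf (nat_lit 0x8562234788213666))) (Tr.node (Tr.leaf (nat_lit 0x134567321231211)) (Tr.leaf (nat_lit 0x0)))))) (Tr.node (Tr.node (Tr.node (Tr.node (Tr.leaf (nat_lit 0x598634678181221221)) (Tr.leaf (nat_lit 0x74152323267622))) (Tr.node (Tr.leaf (nat_lit 0x434217366)) (Tr.leaf (nat_lit 0x0)))) (Tr.node (Tr.node (Tr.leaf (nat_lit 0x46342173767767)) (Tr.leaf (nat_lit 0x933426732622621))) (Tr.node (Tr.leaf (nat_lit 0x481453481232822677)) (Tr.leaf (nat_lit 0x0))))) (Tr.node (Tr.node (Tr.node (Tr.leaf (nat_lit 0x68452231787677122)) (Tr.leaf (nat_lit 0x95953477318226267))) (Tr.node (Tr.leaf (nat_lit 0x8743153322121)) (Tr.leaf (nat_lit 0x0)))) (Tr.node (Tr.node (Tr.leaf (nat_lit 0x33431512868177121)) (Tr.leaf (nat_lit 0x7636842213182122111))) (Tr.node (Tr.leaf (nat_lit 0x43342673666)) (Tr.leaf (nat_lit 0x0)))))))) (Tr.node (Tr.node (Tr.node (Tr.node (Tr.node (Tr.node (Tr.leaf (nat_lit 0x412158782622622)) (Tr.leaf (nat_lit 0x9851343733632267))) (Tr.node (Tr.leaf (nat_lit 0x288568428776712)) (Tr.leaf (nat_lit 0x0)))) (Tr.node (Tr.node (Tr.leaf (nat_lit 0x4534154231873212171)) (Tr.leaf (nat_lit 0x913421732676))) (Tr.node (Tr.leaf (nat_lit 0x68452231786212)) (Tr.leaf (nat_lit 0x0))))) (Tr.node (Tr.node (Tr.node (Tr.leaf (nat_lit 0x41342173712122)) (Tr.leaf (nat_lit 0x6598634678187762171))) (Tr.node (Tr.leaf (nat_lit 0x463421737767121)) (Tr.leaf (nat_lit 0x0)))) (Tr.node (Tr.node (Tr.leaf (nat_lit 0x4595347731871212)) (Tr.leaf (nat_lit 0x7186342218132671771))) (Tr.node (Tr.leaf (nat_lit 0x39731533267171)) (Tr.leaf (nat_lit 0x0)))))) (Tr.node (Tr.node (Tr.node (Tr.node (Tr.leaf (nat_lit 0x17415232326)) (Tr.leaf (nat_lit 0x76754778821711))) (Tr.node (Tr.leaf (nat_lit 0x34567321236762)) (Tr.leaf (nat_lit 0x0)))) (Tr.node (Tr.node (Tr.leaf (nat_lit 0x4342173221771)) (Tr.leaf (nat_lit 0x653343233282622121))) (Tr.node (Tr.leaf (nat_lit 0x4634217367762)) (Tr.leaf (nat_lit 0x0))))) (Tr.node (Tr.node (Tr.node (Tr.leaf (nat_lit 0x484515211823676226)) (Tr.leaf (nat_lit 0x659863467818762177))) (Tr.node (Tr.leaf (nat_lit 0x45713237622121)) (Tr.leaf (nat_lit 0x0)))) (Tr.node (Tr.node (Tr.leaf (nat_lit 0x3973153376267)) (Tr.leaf (nat_lit 0x4845152118237712))) (Tr.node (Tr.leaf (nat_lit 0x751532867326221221)) (Tr.leaf (nat_lit 0x0))))))) (Tr.node (Tr.node (Tr.node (Tr.node (Tr.node (Tr.leaf (nat_lit 0x913421731771712)) (Tr.leaf (nat_lit 0x885213482867132676))) (Tr.node (Tr.leaf (nat_lit 0x26215477887677171)) (Tr.leaf (nat_lit 0x0)))) (Tr.node (Tr.node (Tr.leaf (nat_lit 0x345673212376771)) (Tr.leaf (nat_lit 0x41342173177121))) (Tr.node (Tr.leaf (nat_lit 0x18452231787622121)) (Tr.leaf (nat_lit 0x0))))) (Tr.node (Tr.node (Tr.node (Tr.leaf (nat_lit 0x35671347178771211)) (Tr.leaf (nat_lit 0x1845223178771111))) (Tr.node (Tr.leaf (nat_lit 0x35671347178717717)) (Tr.leaf (nat_lit 0x0)))) (Tr.node (Tr.node (Tr.leaf (nat_lit 0x718634221813217717)) (Tr.leaf (nat_lit 0x46342173776662))) (Tr.node (Tr.leaf (nat_lit 0x4534154231873267762)) (Tr.leaf (nat_lit 0x0)))))) (Tr.node (Tr.node (Tr.node (Tr.node (Tr.leaf (nat_lit 0x481734213178171)) (Tr.leaf (nat_lit 0x313548771732262177))) (Tr.node (Tr.leaf (nat_lit 0x33431512868677621)) (Tr.leaf (nat_lit 0x0)))) (Tr.node (Tr.node (Tr.leaf (nat_lit 0x143421737122111)) (Tr.leaf (nat_lit 0x4845152118237717121))) (Tr.node (Tr.leaf (nat_lit 0x76863422181322111)) (Tr.leaf (nat_lit 0x0))))) (Tr.node (Tr.node (Tr.node (Tr.leaf (nat_lit 0x28856842821711)) (Tr.leaf (nat_lit 0x143421732122121))) (Tr.node (Tr.leaf (nat_lit 0x5821841321237712)) (Tr.leaf (nat_lit 0x0)))) (Tr.node (Tr.node (Tr.leaf (nat_lit 0x533134128212817717121)) (Tr.leaf (nat_lit 0x0))) (Tr.node (Tr.leaf (nat_lit 0x8893151286867622)) (Tr.leaf (nat_lit 0x0))))))))) (Tr.node (Tr.node (Tr.node (Tr.node (Tr.node (Tr.node (Tr.node (Tr.leaf (nat_lit 0x17415232376662)) (Tr.leaf (nat_lit 0x3135487717367767))) (Tr.node (Tr.leaf (nat_lit 0x533134128212876221)) (Tr.leaf (nat_lit 0x0)))) (Tr.node (Tr.node (Tr.leaf (nat_lit 0x53313412821286776712)) (Tr.leaf (nat_lit 0x433426737622))) (Tr.node (Tr.leaf (nat_lit 0x5334323328717717)) (Tr.leaf (nat_lit 0x0))))) (Tr.node (Tr.node (Tr.node (Tr.leaf (nat_lit 0x42158781711)) (Tr.leaf (nat_lit 0x174152323712111))) (Tr.node (Tr.leaf (nat_lit 0x48145348123282122121)) (Tr.leaf (nat_lit 0x0)))) (Tr.node (Tr.node (Tr.leaf (nat_lit 0x959534773187677)) (Tr.leaf (nat_lit 0x65334323328676226))) (Tr.node (Tr.leaf (nat_lit 0x3156343313136712)) (Tr.leaf (nat_lit 0x0)))))) (Tr.node (Tr.node (Tr.node (Tr.node (Tr.leaf (nat_lit 0x45713232171211)) (Tr.leaf (nat_lit 0x759253478781237762177))) (Tr.node (Tr.leaf (nat_lit 0x3343151286821711)) (Tr.leaf (nat_lit 0x0)))) (Tr.node (Tr.node (Tr.leaf (nat_lit 0x143421732671)) (Tr.leaf (nat_lit 0x4571323771))) (Tr.node (Tr.leaf (nat_lit 0x959534773187177111)) (Tr.leaf (nat_lit 0x0))))) (Tr.node (Tr.node (Tr.node (Tr.leaf (nat_lit 0x5986346781867766)) (Tr.leaf (nat_lit 0x1845223178767))) (Tr.node (Tr.leaf (nat_lit 0x8893151286871221)) (Tr.leaf (nat_lit 0x0)))) (Tr.node (Tr.node (Tr.leaf (nat_lit 0x453415423187321217)) (Tr.leaf (nat_lit 0x7686342218136267712))) (Tr.node (Tr.leaf (nat_lit 0x258684178263771211)) (Tr.leaf (nat_lit 0x0))))))) (Tr.node (Tr.node (Tr.node (Tr.node (Tr.node (Tr.leaf (nat_lit 0x4571154877878712171)) (Tr.leaf (nat_lit 0x48173421317876776712))) (Tr.node (Tr.leaf (nat_lit 0x484515211823177121)) (Tr.leaf (nat_lit 0x0)))) (Tr.node (Tr.node (Tr.leaf (nat_lit 0x39584577362376267)) (Tr.leaf (nat_lit 0x46342173262212))) (Tr.node (Tr.leaf (nat_lit 0x25868417826312171)) (Tr.leaf (nat_lit 0x0))))) (Tr.node (Tr.node (Tr.node (Tr.leaf (nat_lit 0x3973153326771)) (Tr.leaf (nat_lit 0x1845223178262212212))) (Tr.node (Tr.leaf (nat_lit 0x5435847732686776712)) (Tr.leaf (nat_lit 0x0)))) (Tr.node (Tr.node (Tr.leaf (nat_lit 0x34567321236712)) (Tr.leaf (nat_lit 0x345673212362))) (Tr.node (Tr.leaf (nat_lit 0x33431512868712211)) (Tr.leaf (nat_lit 0x0)))))) (Tr.node (Tr.node (Tr.node (Tr.node (Tr.leaf (nat_lit 0x4571323267621)) (Tr.leaf (nat_lit 0x1345673212312212212))) (Tr.node (Tr.leaf (nat_lit 0x9134217326766)) (Tr.leaf (nat_lit 0x0)))) (Tr.node (Tr.node (Tr.leaf (nat_lit 0x5331341282128766622)) (Tr.leaf (nat_lit 0x481453481232862671))) (Tr.node (Tr.leaf (nat_lit 0x453415423187322671)) (Tr.leaf (nat_lit 0x0))))) (Tr.node (Tr.node (Tr.node (Tr.leaf (nat_lit 0x421587817)) (Tr.leaf (nat_lit 0x582184132123111))) (Tr.node (Tr.leaf (nat_lit 0x481734213178767122)) (Tr.leaf (nat_lit 0x0)))) (Tr.node (Tr.node (Tr.leaf (nat_lit 0x9134217367762)) (Tr.leaf (nat_lit 0x0))) (Tr.node (Tr.leaf (nat_lit 0x15334323328217111)) (Tr.leaf (nat_lit 0x0)))))))) (Tr.node (Tr.node (Tr.node (Tr.node (Tr.node (Tr.node (Tr.leaf (nat_lit 0x134567321232677671)) (Tr.leaf (nat_lit 0x98451521182317717121))) (Tr.node (Tr.leaf (nat_lit 0x93421737717121)) (Tr.leaf (nat_lit 0x0)))) (Tr.node (Tr.node (Tr.leaf (nat_lit 0x582184132123766622)) (Tr.leaf (nat_lit 0x3156343313131221711))) (Tr.node (Tr.leaf (nat_lit 0x485134373363762)) (Tr.leaf (nat_lit 0x0))))) (Tr.node (Tr.node (Tr.node (Tr.leaf (nat_lit 0x7515328673767121221)) (Tr.leaf (nat_lit 0x463421731217))) (Tr.node (Tr.leaf (nat_lit 0x98513437336367717)) (Tr.leaf (nat_lit 0x0)))) (Tr.node (Tr.node (Tr.leaf (nat_lit 0x485134373363226766)) (Tr.leaf (nat_lit 0x543584773268226776))) (Tr.node (Tr.leaf (nat_lit 0x2586841782631)) (Tr.leaf (nat_lit 0x0)))))) (Tr.node (Tr.node (Tr.node (Tr.node (Tr.leaf (nat_lit 0x4534154231873677671)) (Tr.leaf (nat_lit 0x315634331313771711))) (Tr.node (Tr.leaf (nat_lit 0x88521348286713671221)) (Tr.leaf (nat_lit 0x0)))) (Tr.node (Tr.node (Tr.leaf (nat_lit 0x3156343313132671771)) (Tr.leaf (nat_lit 0x7186342218137717))) (Tr.node (Tr.leaf (nat_lit 0x53313412821287121221)) (Tr.leaf (nat_lit 0x0))))) (Tr.node (Tr.node (Tr.node (Tr.leaf (nat_lit 0x7592534787812376212)) (Tr.leaf (nat_lit 0x46342173766622))) (Tr.node (Tr.leaf (nat_lit 0x4121587876771712)) (Tr.leaf (nat_lit 0x0)))) (Tr.node (Tr.node (Tr.leaf (nat_lit 0x334532822367762)) (Tr.leaf (nat_lit 0x74152323122))) (Tr.node (Tr.leaf (nat_lit 0x4215878621771)) (Tr.leaf (nat_lit 0x0))))))) (Tr.node (Tr.node (Tr.node (Tr.node (Tr.node (Tr.leaf (nat_lit 0x533134128212817712)) (Tr.leaf (nat_lit 0x14342173762122))) (Tr.node (Tr.leaf (nat_lit 0x1153343233282217711)) (Tr.leaf (nat_lit 0x0)))) (Tr.node (Tr.node (Tr.leaf (nat_lit 0x74152323771771)) (Tr.leaf (nat_lit 0x7789346823236221217))) (Tr.node (Tr.leaf (nat_lit 0x4121587812212)) (Tr.leaf (nat_lit 0x0))))) (Tr.node (Tr.node (Tr.node (Tr.leaf (nat_lit 0x845845773623717712)) (Tr.leaf (nat_lit 0x2885684281217))) (Tr.node (Tr.leaf (nat_lit 0x5334323328226771)) (Tr.leaf (nat_lit 0x0)))) (Tr.node (Tr.node (Tr.leaf (nat_lit 0x88931512868226776)) (Tr.leaf (nat_lit 0x741523232212212))) (Tr.node (Tr.leaf (nat_lit 0x31563433131367621)) (Tr.leaf (nat_lit 0x0)))))) (Tr.node (Tr.node (Tr.node (Tr.node (Tr.leaf (nat_lit 0x93421732171)) (Tr.leaf (nat_lit 0x88521348286713262212))) (Tr.node (Tr.leaf (nat_lit 0x4571154877878762671)) (Tr.leaf (nat_lit 0x0)))) (Tr.node (Tr.node (Tr.leaf (nat_lit 0x115334323328666)) (Tr.leaf (nat_lit 0x11533432332862171))) (Tr.node (Tr.leaf (nat_lit 0x143421736712122)) (Tr.leaf (nat_lit 0x0))))) (Tr.node (Tr.node (Tr.node (Tr.leaf (nat_lit 0x3567134717821711)) (Tr.leaf (nat_lit 0x9595347731877171))) (Tr.node (Tr.leaf (nat_lit 0x4851343733637767766)) (Tr.leaf (nat_lit 0x0)))) (Tr.node (Tr.node (Tr.leaf (nat_lit 0x115334323328776662)) (Tr.leaf (nat_lit 0x0))) (Tr.node (Tr.leaf (nat_lit 0x75925347878123121)) (Tr.leaf (nat_lit 0x0)))))))))))) (Tr.node (Tr.node (Tr.node (Tr.node (Tr.node (Tr.node (Tr.node (Tr.node (Tr.node (Tr.node (Tr.leaf (nat_lit 0x67717121)) (Tr.leaf (nat_lit 0x8458457736232217121))) (Tr.node (Tr.leaf (nat_lit 0x58218413212367767121)) (Tr.leaf (nat_lit 0x0)))) (Tr.node (Tr.node (Tr.leaf (nat_lit 0x4851343733636221)) (Tr.leaf (nat_lit 0x4851343733637717711))) (Tr.node (Tr.leaf (nat_lit 0x313548771736221)) (Tr.leaf (nat_lit 0x0))))) (Tr.node (Tr.node (Tr.node (Tr.leaf (nat_lit 0x4817342131787712211)) (Tr.leaf (nat_lit 0x3135487717326217))) (Tr.node (Tr.leaf (nat_lit 0x3343151286811)) (Tr.leaf (nat_lit 0x0)))) (Tr.node (Tr.node (Tr.leaf (nat_lit 0x71863422181312212212)) (Tr.leaf (nat_lit 0x8562234788213767717))) (Tr.node (Tr.leaf (nat_lit 0x5432134878628226762)) (Tr.leaf (nat_lit 0x0)))))) (Tr.node (Tr.node (Tr.node (Tr.node (Tr.leaf (nat_lit 0x959534773186762)) (Tr.leaf (nat_lit 0x463421737121221))) (Tr.node (Tr.leaf (nat_lit 0x889315128687622)) (Tr.leaf (nat_lit 0x0)))) (Tr.node (Tr.node (Tr.leaf (nat_lit 0x174152323677671)) (Tr.leaf (nat_lit 0x75925347878123771711))) (Tr.node (Tr.leaf (nat_lit 0x31354877173767121)) (Tr.leaf (nat_lit 0x0))))) (Tr.node (Tr.node (Tr.node (Tr.leaf (nat_lit 0x481453481232822177)) (Tr.leaf (nat_lit 0x4534154231873662))) (Tr.node (Tr.leaf (nat_lit 0x88931512868212212)) (Tr.leaf (nat_lit 0x0)))) (Tr.node (Tr.node (Tr.leaf (nat_lit 0x9342173217111)) (Tr.leaf (nat_lit 0x75925347878123626))) (Tr.node (Tr.leaf (nat_lit 0x41342173712211)) (Tr.leaf (nat_lit 0x0))))))) (Tr.node (Tr.node (Tr.node (Tr.node (Tr.node (Tr.leaf (nat_lit 0x1845223178262)) (Tr.leaf (nat_lit 0x4134217317122))) (Tr.node (Tr.leaf (nat_lit 0x174152323121221)) (Tr.leaf (nat_lit 0x0)))) (Tr.node (Tr.node (Tr.leaf (nat_lit 0x98451521182367122)) (Tr.leaf (nat_lit 0x1845223178226226))) (Tr.node (Tr.leaf (nat_lit 0x434217362676)) (Tr.leaf (nat_lit 0x0))))) (Tr.node (Tr.node (Tr.node (Tr.leaf (nat_lit 0x9134217367717121)) (Tr.leaf (nat_lit 0x48173421317826776))) (Tr.node (Tr.leaf (nat_lit 0x5331341282128177121)) (Tr.leaf (nat_lit 0x0)))) (Tr.node (Tr.node (Tr.leaf (nat_lit 0x184522317826762)) (Tr.leaf (nat_lit 0x2885684287122111))) (Tr.node (Tr.leaf (nat_lit 0x759253478781232262671)) (Tr.leaf (nat_lit 0x0)))))) (Tr.node (Tr.node (Tr.node (Tr.node (Tr.leaf (nat_lit 0x93342673111)) (Tr.leaf (nat_lit 0x315634331313622622621))) (Tr.node (Tr.leaf (nat_lit 0x8458457736236221712)) (Tr.leaf (nat_lit 0x0)))) (Tr.node (Tr.node (Tr.leaf (nat_lit 0x143421737122)) (Tr.leaf (nat_lit 0x313548771731771711))) (Tr.node (Tr.leaf (nat_lit 0x8458457736237666)) (Tr.leaf (nat_lit 0x0))))) (Tr.node (Tr.node (Tr.node (Tr.leaf (nat_lit 0x8452231787171)) (Tr.leaf (nat_lit 0x59863467818262212212))) (Tr.node (Tr.leaf (nat_lit 0x28856842876226)) (Tr.leaf (nat_lit 0x0)))) (Tr.node (Tr.node (Tr.leaf (nat_lit 0x63456732123122122121)) (Tr.leaf (nat_lit 0x95953477318622671))) (Tr.node (Tr.leaf (nat_lit 0x75153286736221712)) (Tr.leaf (nat_lit 0x0)))))))) (Tr.node (Tr.node (Tr.node (Tr.node (Tr.node (Tr.node (Tr.leaf (nat_lit 0x4571323217121)) (Tr.leaf (nat_lit 0x41215878122121))) (Tr.node (Tr.leaf (nat_lit 0x778934682323671212)) (Tr.leaf (nat_lit 0x0)))) (Tr.node (Tr.node (Tr.leaf (nat_lit 0x7515328673622626)) (Tr.leaf (nat_lit 0x262154778817712))) (Tr.node (Tr.leaf (nat_lit 0x76754778867712)) (Tr.leaf (nat_lit 0x0))))) (Tr.node (Tr.node (Tr.node (Tr.leaf (nat_lit 0x14342173676221)) (Tr.leaf (nat_lit 0x7515328673717712))) (Tr.node (Tr.leaf (nat_lit 0x75925347878123762121)) (Tr.leaf (nat_lit 0x0)))) (Tr.node (Tr.node (Tr.leaf (nat_lit 0x91342173267)) (Tr.leaf (nat_lit 0x6845223178267121))) (Tr.node (Tr.leaf (nat_lit 0x845845773623762676)) (Tr.leaf (nat_lit 0x0)))))) (Tr.node (Tr.node (Tr.node (Tr.node (Tr.leaf (nat_lit 0x459534773187622122)) (Tr.leaf (nat_lit 0x4814534812328666))) (Tr.node (Tr.leaf (nat_lit 0x75153286736766)) (Tr.leaf (nat_lit 0x0)))) (Tr.node (Tr.node (Tr.leaf (nat_lit 0x7186342218137622122)) (Tr.leaf (nat_lit 0x659863467818262267))) (Tr.node (Tr.leaf (nat_lit 0x2586841782637677671)) (Tr.leaf (nat_lit 0x0))))) (Tr.node (Tr.node (Tr.node (Tr.leaf (nat_lit 0x4334267367121221)) (Tr.leaf (nat_lit 0x741523232262262))) (Tr.node (Tr.leaf (nat_lit 0x84522317877666)) (Tr.leaf (nat_lit 0x0)))) (Tr.node (Tr.node (Tr.leaf (nat_lit 0x7686342218136662)) (Tr.leaf (nat_lit 0x6533432332817717121))) (Tr.node (Tr.leaf (nat_lit 0x258684178263171221)) (Tr.leaf (nat_lit 0x0))))))) (Tr.node (Tr.node (Tr.node (Tr.node (Tr.node (Tr.leaf (nat_lit 0x4571154877878767121221)) (Tr.leaf (nat_lit 0x874315337677121))) (Tr.node (Tr.leaf (nat_lit 0x25868417826376226)) (Tr.leaf (nat_lit 0x0)))) (Tr.node (Tr.node (Tr.leaf (nat_lit 0x598634678187622121)) (Tr.leaf (nat_lit 0x76754778867122))) (Tr.node (Tr.leaf (nat_lit 0x18452231787171)) (Tr.leaf (nat_lit 0x0))))) (Tr.node (Tr.node (Tr.node (Tr.leaf (nat_lit 0x4571323776217)) (Tr.leaf (nat_lit 0x59863467818776267))) (Tr.node (Tr.leaf (nat_lit 0x433426732622621)) (Tr.leaf (nat_lit 0x0)))) (Tr.node (Tr.node (Tr.leaf (nat_lit 0x85622347882137622)) (Tr.leaf (nat_lit 0x421587876776712))) (Tr.node (Tr.leaf (nat_lit 0x48145348123287621221)) (Tr.leaf (nat_lit 0x0)))))) (Tr.node (Tr.node (Tr.node (Tr.node (Tr.leaf (nat_lit 0x345673212362262212)) (Tr.leaf (nat_lit 0x9134217322677))) (Tr.node (Tr.leaf (nat_lit 0x397315336771221)) (Tr.leaf (nat_lit 0x0)))) (Tr.node (Tr.node (Tr.leaf (nat_lit 0x413421732622621)) (Tr.leaf (nat_lit 0x143421736217))) (Tr.node (Tr.leaf (nat_lit 0x98451521182362171)) (Tr.leaf (nat_lit 0x0))))) (Tr.node (Tr.node (Tr.node (Tr.leaf (nat_lit 0x68452231786717)) (Tr.leaf (nat_lit 0x75153286737677621))) (Tr.node (Tr.leaf (nat_lit 0x8452231787712171)) (Tr.leaf (nat_lit 0x0)))) (Tr.node (Tr.node (Tr.leaf (nat_lit 0x8852134828671326766)) (Tr.leaf (nat_lit 0x0))) (Tr.node (Tr.leaf (nat_lit 0x3135487717377677)) (Tr.leaf (nat_lit 0x0))))))))) (Tr.node (Tr.node (Tr.node (Tr.node (Tr.node (Tr.node (Tr.node (Tr.leaf (nat_lit 0x412158787666)) (Tr.leaf (nat_lit 0x115334323328717717))) (Tr.node (Tr.leaf (nat_lit 0x4215878762676)) (Tr.leaf (nat_lit 0x0)))) (Tr.node (Tr.node (Tr.leaf (nat_lit 0x26215477887762)) (Tr.leaf (nat_lit 0x421587876))) (Tr.node (Tr.leaf (nat_lit 0x77893468232362122)) (Tr.leaf (nat_lit 0x0))))) (Tr.node (Tr.node (Tr.node (Tr.leaf (nat_lit 0x8852134828671367717121)) (Tr.leaf (nat_lit 0x582184132123677621))) (Tr.node (Tr.leaf (nat_lit 0x433426736776712)) (Tr.leaf (nat_lit 0x0)))) (Tr.node (Tr.node (Tr.leaf (nat_lit 0x315634331313122122121)) (Tr.leaf (nat_lit 0x88521348286713767717))) (Tr.node (Tr.leaf (nat_lit 0x8743153326771)) (Tr.leaf (nat_lit 0x0)))))) (Tr.node (Tr.node (Tr.node (Tr.node (Tr.leaf (nat_lit 0x77621)) (Tr.leaf (nat_lit 0x457115487787867))) (Tr.node (Tr.leaf (nat_lit 0x134567321236771771)) (Tr.leaf (nat_lit 0x0)))) (Tr.node (Tr.node (Tr.leaf (nat_lit 0x87431533717717121)) (Tr.leaf (nat_lit 0x153343233286221771))) (Tr.node (Tr.leaf (nat_lit 0x485134373363267622)) (Tr.leaf (nat_lit 0x0))))) (Tr.node (Tr.node (Tr.node (Tr.leaf (nat_lit 0x4342173677121)) (Tr.leaf (nat_lit 0x415713232122122121))) (Tr.node (Tr.leaf (nat_lit 0x4334267371771711)) (Tr.leaf (nat_lit 0x0)))) (Tr.node (Tr.node (Tr.leaf (nat_lit 0x3973153362262)) (Tr.leaf (nat_lit 0x463421737622))) (Tr.node (Tr.leaf (nat_lit 0x5331341282128262212)) (Tr.leaf (nat_lit 0x0))))))) (Tr.node (Tr.node (Tr.node (Tr.node (Tr.node (Tr.leaf (nat_lit 0x42158782122122)) (Tr.leaf (nat_lit 0x778934682323217712))) (Tr.node (Tr.leaf (nat_lit 0x184522317826712)) (Tr.leaf (nat_lit 0x0)))) (Tr.node (Tr.node (Tr.leaf (nat_lit 0x751532867326771)) (Tr.leaf (nat_lit 0x313548771732212212))) (Tr.node (Tr.leaf (nat_lit 0x88931512868217111)) (Tr.leaf (nat_lit 0x0))))) (Tr.node (Tr.node (Tr.node (Tr.leaf (nat_lit 0x88931512868767767)) (Tr.leaf (nat_lit 0x45953477318267717))) (Tr.node (Tr.leaf (nat_lit 0x959534773187762177)) (Tr.leaf (nat_lit 0x0)))) (Tr.node (Tr.node (Tr.leaf (nat_lit 0x76754778821221211)) (Tr.leaf (nat_lit 0x5435847732686712122))) (Tr.node (Tr.leaf (nat_lit 0x4157132377111)) (Tr.leaf (nat_lit 0x0)))))) (Tr.node (Tr.node (Tr.node (Tr.node (Tr.leaf (nat_lit 0x421587826771)) (Tr.leaf (nat_lit 0x485134373363712111))) (Tr.node (Tr.leaf (nat_lit 0x65334323328262177)) (Tr.leaf (nat_lit 0x0)))) (Tr.node (Tr.node (Tr.leaf (nat_lit 0x315634331313221217)) (Tr.leaf (nat_lit 0x11533432332871771711))) (Tr.node (Tr.leaf (nat_lit 0x48173421317876217)) (Tr.leaf (nat_lit 0x0))))) (Tr.node (Tr.node (Tr.node (Tr.leaf (nat_lit 0x93342673171221)) (Tr.leaf (nat_lit 0x315634331313622676))) (Tr.node (Tr.leaf (nat_lit 0x874315332622122)) (Tr.leaf (nat_lit 0x0)))) (Tr.node (Tr.node (Tr.leaf (nat_lit 0x7515328673766)) (Tr.leaf (nat_lit 0x0))) (Tr.node (Tr.leaf (nat_lit 0x26215477887767121)) (Tr.leaf (nat_lit 0x0)))))))) (Tr.node (Tr.node (Tr.node (Tr.node (Tr.node (Tr.node (Tr.leaf (nat_lit 0x4215878226762)) (Tr.leaf (nat_lit 0x8893151286817122))) (Tr.node (Tr.leaf (nat_lit 0x315634331313177177)) (Tr.leaf (nat_lit 0x0)))) (Tr.node (Tr.node (Tr.leaf (nat_lit 0x28856842812171)) (Tr.leaf (nat_lit 0x153343233286771712))) (Tr.node (Tr.leaf (nat_lit 0x485134373363776212)) (Tr.leaf (nat_lit 0x0))))) (Tr.node (Tr.node (Tr.node (Tr.leaf (nat_lit 0x258684178263677621)) (Tr.leaf (nat_lit 0x582184132123771712))) (Tr.node (Tr.leaf (nat_lit 0x8452231781221221)) (Tr.leaf (nat_lit 0x0)))) (Tr.node (Tr.node (Tr.leaf (nat_lit 0x288568428677626)) (Tr.leaf (nat_lit 0x2885684287671212))) (Tr.node (Tr.leaf (nat_lit 0x334315128681)) (Tr.leaf (nat_lit 0x0)))))) (Tr.node (Tr.node (Tr.node (Tr.node (Tr.leaf (nat_lit 0x31563433131312111)) (Tr.leaf (nat_lit 0x8452231787762671))) (Tr.node (Tr.leaf (nat_lit 0x543213487862876)) (Tr.leaf (nat_lit 0x0)))) (Tr.node (Tr.node (Tr.leaf (nat_lit 0x7636842213182267622)) (Tr.leaf (nat_lit 0x334532822377121))) (Tr.node (Tr.leaf (nat_lit 0x634567321236267762)) (Tr.leaf (nat_lit 0x0))))) (Tr.node (Tr.node (Tr.node (Tr.leaf (nat_lit 0x5432134878628767767121)) (Tr.leaf (nat_lit 0x53313412821281217))) (Tr.node (Tr.leaf (nat_lit 0x39731533171)) (Tr.leaf (nat_lit 0x0)))) (Tr.node (Tr.node (Tr.leaf (nat_lit 0x3973153376771712)) (Tr.leaf (nat_lit 0x4121587876712122))) (Tr.node (Tr.leaf (nat_lit 0x856223478821311)) (Tr.leaf (nat_lit 0x0))))))) (Tr.node (Tr.node (Tr.node (Tr.node (Tr.node (Tr.leaf (nat_lit 0x18452231786717)) (Tr.leaf (nat_lit 0x35671347178676221))) (Tr.node (Tr.leaf (nat_lit 0x48513437336312122)) (Tr.leaf (nat_lit 0x0)))) (Tr.node (Tr.node (Tr.leaf (nat_lit 0x58218413212322177)) (Tr.leaf (nat_lit 0x5334323328111))) (Tr.node (Tr.leaf (nat_lit 0x4342173677621)) (Tr.leaf (nat_lit 0x0))))) (Tr.node (Tr.node (Tr.node (Tr.leaf (nat_lit 0x4342173262262)) (Tr.leaf (nat_lit 0x62171))) (Tr.node (Tr.leaf (nat_lit 0x984515211823767767)) (Tr.leaf (nat_lit 0x0)))) (Tr.node (Tr.node (Tr.leaf (nat_lit 0x43342673677621)) (Tr.leaf (nat_lit 0x143421737712))) (Tr.node (Tr.leaf (nat_lit 0x153343233287677671)) (Tr.leaf (nat_lit 0x0)))))) (Tr.node (Tr.node (Tr.node (Tr.node (Tr.leaf (nat_lit 0x48173421317877122)) (Tr.leaf (nat_lit 0x484515211823671221))) (Tr.node (Tr.leaf (nat_lit 0x31354877173662)) (Tr.leaf (nat_lit 0x0)))) (Tr.node (Tr.node (Tr.leaf (nat_lit 0x395845773623767717121)) (Tr.leaf (nat_lit 0x76754778812171))) (Tr.node (Tr.leaf (nat_lit 0x3156343313131211)) (Tr.leaf (nat_lit 0x0))))) (Tr.node (Tr.node (Tr.node (Tr.leaf (nat_lit 0x415713236776)) (Tr.leaf (nat_lit 0x6345673212321221))) (Tr.node (Tr.leaf (nat_lit 0x889315128682622626)) (Tr.leaf (nat_lit 0x0)))) (Tr.node (Tr.node (Tr.leaf (nat_lit 0x174152323226766)) (Tr.leaf (nat_lit 0x0))) (Tr.node (Tr.leaf (nat_lit 0x9845152118237122111)) (Tr.leaf (nat_lit 0x0)))))))))) (Tr.node (Tr.node (Tr.node (Tr.node (Tr.node (Tr.node (Tr.node (Tr.node (Tr.leaf (nat_lit 0x885213482867136771712)) (Tr.leaf (nat_lit 0x4334267366))) (Tr.node (Tr.leaf (nat_lit 0x4571154877878771221)) (Tr.leaf (nat_lit 0x0)))) (Tr.node (Tr.node (Tr.leaf (nat_lit 0x334315128687671212)) (Tr.leaf (nat_lit 0x8852134828671377626))) (Tr.node (Tr.leaf (nat_lit 0x533134128212822677)) (Tr.leaf (nat_lit 0x0))))) (Tr.node (Tr.node (Tr.node (Tr.leaf (nat_lit 0x9334267322177)) (Tr.leaf (nat_lit 0x4534154231873717121))) (Tr.node (Tr.leaf (nat_lit 0x39584577362321221221)) (Tr.leaf (nat_lit 0x0)))) (Tr.node (Tr.node (Tr.leaf (nat_lit 0x4851343733632671221)) (Tr.leaf (nat_lit 0x3156343313137177))) (Tr.node (Tr.leaf (nat_lit 0x463421736221771)) (Tr.leaf (nat_lit 0x0)))))) (Tr.node (Tr.node (Tr.node (Tr.node (Tr.leaf (nat_lit 0x41342173767717)) (Tr.leaf (nat_lit 0x463421731111))) (Tr.node (Tr.leaf (nat_lit 0x6533432332862671)) (Tr.leaf (nat_lit 0x0)))) (Tr.node (Tr.node (Tr.leaf (nat_lit 0x543584773268767717)) (Tr.leaf (nat_lit 0x87431533677122))) (Tr.node (Tr.leaf (nat_lit 0x33431512868221771)) (Tr.leaf (nat_lit 0x0))))) (Tr.node (Tr.node (Tr.node (Tr.leaf (nat_lit 0x9595347731876776)) (Tr.leaf (nat_lit 0x356713471786267))) (Tr.node (Tr.leaf (nat_lit 0x39584577362362177)) (Tr.leaf (nat_lit 0x0)))) (Tr.node (Tr.node (Tr.leaf (nat_lit 0x48145348123287717121)) (Tr.leaf (nat_lit 0x8458457736236766))) (Tr.node (Tr.leaf (nat_lit 0x8452231787762171)) (Tr.leaf (nat_lit 0x0))))))) (Tr.node (Tr.node (Tr.node (Tr.node (Tr.node (Tr.leaf (nat_lit 0x415713237171)) (Tr.leaf (nat_lit 0x4817342131782262217))) (Tr.node (Tr.leaf (nat_lit 0x53343233287677171)) (Tr.leaf (nat_lit 0x0)))) (Tr.node (Tr.node (Tr.leaf (nat_lit 0x434217317717121)) (Tr.leaf (nat_lit 0x8452231782622122121))) (Tr.node (Tr.leaf (nat_lit 0x33453282237762)) (Tr.leaf (nat_lit 0x0))))) (Tr.node (Tr.node (Tr.node (Tr.leaf (nat_lit 0x53313412821287767121)) (Tr.leaf (nat_lit 0x415713232122171))) (Tr.node (Tr.leaf (nat_lit 0x95953477318121)) (Tr.leaf (nat_lit 0x0)))) (Tr.node (Tr.node (Tr.leaf (nat_lit 0x43342673111)) (Tr.leaf (nat_lit 0x415713232622622121))) (Tr.node (Tr.leaf (nat_lit 0x7415232312122)) (Tr.leaf (nat_lit 0x0)))))) (Tr.node (Tr.node (Tr.node (Tr.node (Tr.leaf (nat_lit 0x8743153371771712)) (Tr.leaf (nat_lit 0x5331341282128226717))) (Tr.node (Tr.leaf (nat_lit 0x741523232171221)) (Tr.leaf (nat_lit 0x0)))) (Tr.node (Tr.node (Tr.leaf (nat_lit 0x1434217367712)) (Tr.leaf (nat_lit 0x258684178263226717))) (Tr.node (Tr.leaf (nat_lit 0x959534773186776776)) (Tr.leaf (nat_lit 0x0))))) (Tr.node (Tr.node (Tr.node (Tr.leaf (nat_lit 0x985134373363677171)) (Tr.leaf (nat_lit 0x1741523232262262))) (Tr.node (Tr.leaf (nat_lit 0x9342173226771)) (Tr.leaf (nat_lit 0x0)))) (Tr.node (Tr.node (Tr.leaf (nat_lit 0x356713471787767121)) (Tr.leaf (nat_lit 0x413421731111))) (Tr.node (Tr.leaf (nat_lit 0x5334323328221771)) (Tr.leaf (nat_lit 0x0)))))))) (Tr.node (Tr.node (Tr.node (Tr.node (Tr.node (Tr.node (Tr.leaf (nat_lit 0x457132326712)) (Tr.leaf (nat_lit 0x288568428226776))) (Tr.node (Tr.leaf (nat_lit 0x759253478781232211)) (Tr.leaf (nat_lit 0x0)))) (Tr.node (Tr.node (Tr.leaf (nat_lit 0x778934682323776771)) (Tr.leaf (nat_lit 0x481734213178621771))) (Tr.node (Tr.leaf (nat_lit 0x5821841321237177171)) (Tr.leaf (nat_lit 0x0))))) (Tr.node (Tr.node (Tr.node (Tr.leaf (nat_lit 0x5331341282128677626)) (Tr.leaf (nat_lit 0x4134217367712))) (Tr.node (Tr.leaf (nat_lit 0x885213482867132622626)) (Tr.leaf (nat_lit 0x0)))) (Tr.node (Tr.node (Tr.leaf (nat_lit 0x31354877173217712)) (Tr.leaf (nat_lit 0x65334323328221771))) (Tr.node (Tr.leaf (nat_lit 0x8452231782622622121)) (Tr.leaf (nat_lit 0x0)))))) (Tr.node (Tr.node (Tr.node (Tr.node (Tr.leaf (nat_lit 0x412158787121711)) (Tr.leaf (nat_lit 0x413421736776712))) (Tr.node (Tr.leaf (nat_lit 0x889315128687677171)) (Tr.leaf (nat_lit 0x0)))) (Tr.node (Tr.node (Tr.leaf (nat_lit 0x434217321711)) (Tr.leaf (nat_lit 0x453415423187377677))) (Tr.node (Tr.leaf (nat_lit 0x28856842817712)) (Tr.leaf (nat_lit 0x0))))) (Tr.node (Tr.node (Tr.node (Tr.leaf (nat_lit 0x415713232626)) (Tr.leaf (nat_lit 0x5821841321237621221))) (Tr.node (Tr.leaf (nat_lit 0x7515328673621771)) (Tr.leaf (nat_lit 0x0)))) (Tr.node (Tr.node (Tr.leaf (nat_lit 0x5986346781821712)) (Tr.leaf (nat_lit 0x1741523237626))) (Tr.node (Tr.leaf (nat_lit 0x93421732622121)) (Tr.leaf (nat_lit 0x0))))))) (Tr.node (Tr.node (Tr.node (Tr.node (Tr.node (Tr.leaf (nat_lit 0x84522317822622)) (Tr.leaf (nat_lit 0x2586841782637671212))) (Tr.node (Tr.leaf (nat_lit 0x874315336766)) (Tr.leaf (nat_lit 0x0)))) (Tr.node (Tr.node (Tr.leaf (nat_lit 0x39584577362376771712)) (Tr.leaf (nat_lit 0x11533432332867762))) (Tr.node (Tr.leaf (nat_lit 0x5986346781877)) (Tr.leaf (nat_lit 0x0))))) (Tr.node (Tr.node (Tr.node (Tr.leaf (nat_lit 0x18452231782122171)) (Tr.leaf (nat_lit 0x35671347178666))) (Tr.node (Tr.leaf (nat_lit 0x84522317821712)) (Tr.leaf (nat_lit 0x0)))) (Tr.node (Tr.node (Tr.leaf (nat_lit 0x3567134717877621)) (Tr.leaf (nat_lit 0x959534773181221711))) (Tr.node (Tr.leaf (nat_lit 0x459534773186267762)) (Tr.leaf (nat_lit 0x0)))))) (Tr.node (Tr.node (Tr.node (Tr.node (Tr.leaf (nat_lit 0x4121587867)) (Tr.leaf (nat_lit 0x8458457736232177111))) (Tr.node (Tr.leaf (nat_lit 0x933426731111)) (Tr.leaf (nat_lit 0x0)))) (Tr.node (Tr.node (Tr.leaf (nat_lit 0x7789346823232677621)) (Tr.leaf (nat_lit 0x18452231782122122121))) (Tr.node (Tr.leaf (nat_lit 0x4334267367767121)) (Tr.leaf (nat_lit 0x0))))) (Tr.node (Tr.node (Tr.node (Tr.leaf (nat_lit 0x5821841321232217711)) (Tr.leaf (nat_lit 0x634567321232122111))) (Tr.node (Tr.leaf (nat_lit 0x115334323328676221)) (Tr.leaf (nat_lit 0x0)))) (Tr.node (Tr.node (Tr.leaf (nat_lit 0x45713237677122)) (Tr.leaf (nat_lit 0x0))) (Tr.node (Tr.leaf (nat_lit 0x313548771732622177)) (Tr.leaf (nat_lit 0x0))))))))) (Tr.node (Tr.node (Tr.node (Tr.node (Tr.node (Tr.node (Tr.node (Tr.leaf (nat_lit 0x543213487862821771)) (Tr.leaf (nat_lit 0x845223178177))) (Tr.node (Tr.leaf (nat_lit 0x258684178263267)) (Tr.leaf (nat_lit 0x0)))) (Tr.node (Tr.node (Tr.leaf (nat_lit 0x421587826717)) (Tr.leaf (nat_lit 0x84522317877))) (Tr.node (Tr.leaf (nat_lit 0x759253478781232671771)) (Tr.leaf (nat_lit 0x0))))) (Tr.node (Tr.node (Tr.node (Tr.leaf (nat_lit 0x4595347731812212212)) (Tr.leaf (nat_lit 0x885213482867137121221))) (Tr.node (Tr.leaf (nat_lit 0x7592534787812321221)) (Tr.leaf (nat_lit 0x0)))) (Tr.node (Tr.node (Tr.leaf (nat_lit 0x3156343313137762177)) (Tr.leaf (nat_lit 0x7789346823232262177))) (Tr.node (Tr.leaf (nat_lit 0x885213482867132171)) (Tr.leaf (nat_lit 0x0)))))) (Tr.node (Tr.node (Tr.node (Tr.node (Tr.leaf (nat_lit 0x412158782677)) (Tr.leaf (nat_lit 0x459534773181217712))) (Tr.node (Tr.leaf (nat_lit 0x93342673767717)) (Tr.leaf (nat_lit 0x0)))) (Tr.node (Tr.node (Tr.leaf (nat_lit 0x463421732671)) (Tr.leaf (nat_lit 0x7636842213187762177))) (Tr.node (Tr.leaf (nat_lit 0x759253478781232677671)) (Tr.leaf (nat_lit 0x0))))) (Tr.node (Tr.node (Tr.node (Tr.leaf (nat_lit 0x457132322122)) (Tr.leaf (nat_lit 0x453415423187376712))) (Tr.node (Tr.leaf (nat_lit 0x34567321236776771)) (Tr.leaf (nat_lit 0x0)))) (Tr.node (Tr.node (Tr.leaf (nat_lit 0x95953477318767766)) (Tr.leaf (nat_lit 0x174152323671771))) (Tr.node (Tr.leaf (nat_lit 0x1153343233287122)) (Tr.leaf (nat_lit 0x0))))))) (Tr.node (Tr.node (Tr.node (Tr.node (Tr.node (Tr.leaf (nat_lit 0x5432134878628221211)) (Tr.leaf (nat_lit 0x3567134717817717121))) (Tr.node (Tr.leaf (nat_lit 0x397315332177)) (Tr.leaf (nat_lit 0x0)))) (Tr.node (Tr.node (Tr.leaf (nat_lit 0x48145348123286771712)) (Tr.leaf (nat_lit 0x6533432332867762))) (Tr.node (Tr.leaf (nat_lit 0x7186342218136267712)) (Tr.leaf (nat_lit 0x0))))) (Tr.node (Tr.node (Tr.node (Tr.leaf (nat_lit 0x776712)) (Tr.leaf (nat_lit 0x21221211))) (Tr.node (Tr.leaf (nat_lit 0x7686342218132217122)) (Tr.leaf (nat_lit 0x0)))) (Tr.node (Tr.node (Tr.leaf (nat_lit 0x48145348123287177171)) (Tr.leaf (nat_lit 0x9845152118237712))) (Tr.node (Tr.leaf (nat_lit 0x313548771732676226)) (Tr.leaf (nat_lit 0x0)))))) (Tr.node (Tr.node (Tr.node (Tr.node (Tr.leaf (nat_lit 0x134567321232677171)) (Tr.leaf (nat_lit 0x93342673771712))) (Tr.node (Tr.leaf (nat_lit 0x845223178712212)) (Tr.leaf (nat_lit 0x0)))) (Tr.node (Tr.node (Tr.leaf (nat_lit 0x4845152118236712122)) (Tr.leaf (nat_lit 0x7789346823232))) (Tr.node (Tr.leaf (nat_lit 0x934217311)) (Tr.leaf (nat_lit 0x0))))) (Tr.node (Tr.node (Tr.node (Tr.leaf (nat_lit 0x4342173226771)) (Tr.leaf (nat_lit 0x85622347882131111))) (Tr.node (Tr.leaf (nat_lit 0x9845152118232676)) (Tr.leaf (nat_lit 0x0)))) (Tr.node (Tr.node (Tr.leaf (nat_lit 0x8852134828671317717121)) (Tr.leaf (nat_lit 0x0))) (Tr.node (Tr.leaf (nat_lit 0x288568428676221)) (Tr.leaf (nat_lit 0x0)))))))) (Tr.node (Tr.node (Tr.node (Tr.node (Tr.node (Tr.node (Tr.leaf (nat_lit 0x7762)) (Tr.leaf (nat_lit 0x31354877173712111))) (Tr.node (Tr.leaf (nat_lit 0x9845152118237717121)) (Tr.leaf (nat_lit 0x0)))) (Tr.node (Tr.node (Tr.leaf (nat_lit 0x262154778811)) (Tr.leaf (nat_lit 0x58218413212377621))) (Tr.node (Tr.leaf (nat_lit 0x74152323717121)) (Tr.leaf (nat_lit 0x0))))) (Tr.node (Tr.node (Tr.node (Tr.leaf (nat_lit 0x7515328673712171)) (Tr.leaf (nat_lit 0x15334323328676221))) (Tr.node (Tr.leaf (nat_lit 0x8743153376776712)) (Tr.leaf (nat_lit 0x0)))) (Tr.node (Tr.node (Tr.leaf (nat_lit 0x258684178263262177)) (Tr.leaf (nat_lit 0x54358477326821711))) (Tr.node (Tr.leaf (nat_lit 0x9334267367762)) (Tr.leaf (nat_lit 0x0)))))) (Tr.node (Tr.node (Tr.node (Tr.node (Tr.leaf (nat_lit 0x9595347731871212)) (Tr.leaf (nat_lit 0x43342673676226))) (Tr.node (Tr.leaf (nat_lit 0x77893468232321217)) (Tr.leaf (nat_lit 0x0)))) (Tr.node (Tr.node (Tr.leaf (nat_lit 0x463421737677171)) (Tr.leaf (nat_lit 0x4334267377621))) (Tr.node (Tr.leaf (nat_lit 0x76863422181367621)) (Tr.leaf (nat_lit 0x0))))) (Tr.node (Tr.node (Tr.node (Tr.leaf (nat_lit 0x84584577362362262)) (Tr.leaf (nat_lit 0x184522317871711))) (Tr.node (Tr.leaf (nat_lit 0x6598634678187767122)) (Tr.leaf (nat_lit 0x0)))) (Tr.node (Tr.node (Tr.leaf (nat_lit 0x7515328673717717121)) (Tr.leaf (nat_lit 0x543213487862877677171))) (Tr.node (Tr.leaf (nat_lit 0x59863467818776771712)) (Tr.leaf (nat_lit 0x0))))))) (Tr.node (Tr.node (Tr.node (Tr.node (Tr.node (Tr.leaf (nat_lit 0x421587867)) (Tr.leaf (nat_lit 0x718634221813677177))) (Tr.node (Tr.leaf (nat_lit 0x5334323328121711)) (Tr.leaf (nat_lit 0x0)))) (Tr.node (Tr.node (Tr.leaf (nat_lit 0x334532822367717121)) (Tr.leaf (nat_lit 0x5435847732681))) (Tr.node (Tr.leaf (nat_lit 0x913421737712)) (Tr.leaf (nat_lit 0x0))))) (Tr.node (Tr.node (Tr.node (Tr.leaf (nat_lit 0x41342173262177)) (Tr.leaf (nat_lit 0x7636842213182262171))) (Tr.node (Tr.leaf (nat_lit 0x3345328223767767)) (Tr.leaf (nat_lit 0x0)))) (Tr.node (Tr.node (Tr.leaf (nat_lit 0x98513437336376712)) (Tr.leaf (nat_lit 0x33431512868226717))) (Tr.node (Tr.leaf (nat_lit 0x48145348123281111)) (Tr.leaf (nat_lit 0x0)))))) (Tr.node (Tr.node (Tr.node (Tr.node (Tr.leaf (nat_lit 0x33431512868677121)) (Tr.leaf (nat_lit 0x98451521182321711))) (Tr.node (Tr.leaf (nat_lit 0x88521348286713221771)) (Tr.leaf (nat_lit 0x0)))) (Tr.node (Tr.node (Tr.leaf (nat_lit 0x3567134717826766)) (Tr.leaf (nat_lit 0x41342173771211))) (Tr.node (Tr.leaf (nat_lit 0x334532822326766)) (Tr.leaf (nat_lit 0x0))))) (Tr.node (Tr.node (Tr.node (Tr.leaf (nat_lit 0x457115487787826226221)) (Tr.leaf (nat_lit 0x543213487862876267))) (Tr.node (Tr.leaf (nat_lit 0x1153343233287767121)) (Tr.leaf (nat_lit 0x0)))) (Tr.node (Tr.node (Tr.leaf (nat_lit 0x84584577362321771)) (Tr.leaf (nat_lit 0x0))) (Tr.node (Tr.leaf (nat_lit 0x4817342131782177)) (Tr.leaf (nat_lit 0x0))))))))))) (Tr.node (Tr.node (Tr.node (Tr.node (Tr.node (Tr.node (Tr.node (Tr.node (Tr.node (Tr.leaf (nat_lit 0x84584577362371771712)) (Tr.leaf (nat_lit 0x98451521182377626))) (Tr.node (Tr.leaf (nat_lit 0x4595347731866226)) (Tr.leaf (nat_lit 0x0)))) (Tr.node (Tr.node (Tr.leaf (nat_lit 0x41571323177111)) (Tr.leaf (nat_lit 0x9595347731862262262))) (Tr.node (Tr.leaf (nat_lit 0x959534773186267762)) (Tr.leaf (nat_lit 0x0))))) (Tr.node (Tr.node (Tr.node (Tr.leaf (nat_lit 0x54358477326877626)) (Tr.leaf (nat_lit 0x143421732622626))) (Tr.node (Tr.leaf (nat_lit 0x48173421317817)) (Tr.leaf (nat_lit 0x0)))) (Tr.node (Tr.node (Tr.leaf (nat_lit 0x3135487717376712)) (Tr.leaf (nat_lit 0x413421736712122))) (Tr.node (Tr.leaf (nat_lit 0x533134128212867762)) (Tr.leaf (nat_lit 0x0)))))) (Tr.node (Tr.node (Tr.node (Tr.node (Tr.leaf (nat_lit 0x4851343733632677121)) (Tr.leaf (nat_lit 0x356713471787677671))) (Tr.node (Tr.leaf (nat_lit 0x4571154877878217711)) (Tr.leaf (nat_lit 0x0)))) (Tr.node (Tr.node (Tr.leaf (nat_lit 0x763684221318677177)) (Tr.leaf (nat_lit 0x75153286737712211))) (Tr.node (Tr.leaf (nat_lit 0x262154778866)) (Tr.leaf (nat_lit 0x0))))) (Tr.node (Tr.node (Tr.node (Tr.leaf (nat_lit 0x6598634678182622676)) (Tr.leaf (nat_lit 0x75153286731711))) (Tr.node (Tr.leaf (nat_lit 0x75153286732677)) (Tr.leaf (nat_lit 0x0)))) (Tr.node (Tr.node (Tr.leaf (nat_lit 0x984515211823121711)) (Tr.leaf (nat_lit 0x8458457736232212))) (Tr.node (Tr.leaf (nat_lit 0x4571154877878226762)) (Tr.leaf (nat_lit 0x0))))))) (Tr.node (Tr.node (Tr.node (Tr.node (Tr.node (Tr.leaf (nat_lit 0x415713232267717)) (Tr.leaf (nat_lit 0x9595347731862262212))) (Tr.node (Tr.leaf (nat_lit 0x684522317871711)) (Tr.leaf (nat_lit 0x0)))) (Tr.node (Tr.node (Tr.leaf (nat_lit 0x768634221813717711)) (Tr.leaf (nat_lit 0x845223178762677))) (Tr.node (Tr.leaf (nat_lit 0x751532867321221221)) (Tr.leaf (nat_lit 0x0))))) (Tr.node (Tr.node (Tr.node (Tr.leaf (nat_lit 0x41342173221771)) (Tr.leaf (nat_lit 0x5331341282128262177))) (Tr.node (Tr.leaf (nat_lit 0x453415423187362262171)) (Tr.leaf (nat_lit 0x0)))) (Tr.node (Tr.node (Tr.leaf (nat_lit 0x134567321232262671)) (Tr.leaf (nat_lit 0x395845773623677122))) (Tr.node (Tr.leaf (nat_lit 0x767547788226717)) (Tr.leaf (nat_lit 0x0)))))) (Tr.node (Tr.node (Tr.node (Tr.node (Tr.leaf (nat_lit 0x4634217367121221)) (Tr.leaf (nat_lit 0x88521348286713262177))) (Tr.node (Tr.leaf (nat_lit 0x767547788666)) (Tr.leaf (nat_lit 0x0)))) (Tr.node (Tr.node (Tr.leaf (nat_lit 0x9845152118237122)) (Tr.leaf (nat_lit 0x7675477887677671))) (Tr.node (Tr.leaf (nat_lit 0x598634678187622626)) (Tr.leaf (nat_lit 0x0))))) (Tr.node (Tr.node (Tr.node (Tr.leaf (nat_lit 0x68452231782622676)) (Tr.leaf (nat_lit 0x14342173771211))) (Tr.node (Tr.leaf (nat_lit 0x7636842213182677171)) (Tr.leaf (nat_lit 0x0)))) (Tr.node (Tr.node (Tr.leaf (nat_lit 0x63456732123622671)) (Tr.leaf (nat_lit 0x26215477887122111))) (Tr.node (Tr.leaf (nat_lit 0x4595347731877671)) (Tr.leaf (nat_lit 0x0)))))))) (Tr.node (Tr.node (Tr.node (Tr.node (Tr.node (Tr.node (Tr.leaf (nat_lit 0x4121587826226221)) (Tr.leaf (nat_lit 0x3973153362677))) (Tr.node (Tr.leaf (nat_lit 0x11533432332822677)) (Tr.leaf (nat_lit 0x0)))) (Tr.node (Tr.node (Tr.leaf (nat_lit 0x8562234788213121711)) (Tr.leaf (nat_lit 0x17415232326267))) (Tr.node (Tr.leaf (nat_lit 0x768634221813212211)) (Tr.leaf (nat_lit 0x0))))) (Tr.node (Tr.node (Tr.node (Tr.leaf (nat_lit 0x85622347882132622621)) (Tr.leaf (nat_lit 0x39584577362376))) (Tr.node (Tr.leaf (nat_lit 0x85622347882137621221)) (Tr.leaf (nat_lit 0x0)))) (Tr.node (Tr.node (Tr.leaf (nat_lit 0x54358477326876226)) (Tr.leaf (nat_lit 0x533432332821221211))) (Tr.node (Tr.leaf (nat_lit 0x4845152118236771712)) (Tr.leaf (nat_lit 0x0)))))) (Tr.node (Tr.node (Tr.node (Tr.node (Tr.leaf (nat_lit 0x934217317712)) (Tr.leaf (nat_lit 0x45713232622622121))) (Tr.node (Tr.leaf (nat_lit 0x759253478781232267622)) (Tr.leaf (nat_lit 0x0)))) (Tr.node (Tr.node (Tr.leaf (nat_lit 0x934217367717121)) (Tr.leaf (nat_lit 0x684522317817711))) (Tr.node (Tr.leaf (nat_lit 0x763684221318622171)) (Tr.leaf (nat_lit 0x0))))) (Tr.node (Tr.node (Tr.node (Tr.leaf (nat_lit 0x1741523232676226)) (Tr.leaf (nat_lit 0x395845773623776221))) (Tr.node (Tr.leaf (nat_lit 0x7677671)) (Tr.leaf (nat_lit 0x0)))) (Tr.node (Tr.node (Tr.leaf (nat_lit 0x5331341282128776662)) (Tr.leaf (nat_lit 0x7686342218132671771))) (Tr.node (Tr.leaf (nat_lit 0x45713237767717121)) (Tr.leaf (nat_lit 0x0))))))) (Tr.node (Tr.node (Tr.node (Tr.node (Tr.node (Tr.leaf (nat_lit 0x9334267367121221)) (Tr.leaf (nat_lit 0x3567134717867767121))) (Tr.node (Tr.leaf (nat_lit 0x5432134878628717717121)) (Tr.leaf (nat_lit 0x0)))) (Tr.node (Tr.node (Tr.leaf (nat_lit 0x3345328223226776)) (Tr.leaf (nat_lit 0x15334323328677621))) (Tr.node (Tr.leaf (nat_lit 0x7186342218132262171)) (Tr.leaf (nat_lit 0x0))))) (Tr.node (Tr.node (Tr.node (Tr.leaf (nat_lit 0x543584773268676221)) (Tr.leaf (nat_lit 0x1434217371221))) (Tr.node (Tr.leaf (nat_lit 0x18452231787622621)) (Tr.leaf (nat_lit 0x0)))) (Tr.node (Tr.node (Tr.leaf (nat_lit 0x543584773268262177)) (Tr.leaf (nat_lit 0x8893151286877621))) (Tr.node (Tr.leaf (nat_lit 0x7636842213181217712)) (Tr.leaf (nat_lit 0x0)))))) (Tr.node (Tr.node (Tr.node (Tr.node (Tr.leaf (nat_lit 0x45341542318732676226)) (Tr.leaf (nat_lit 0x397315337677621))) (Tr.node (Tr.leaf (nat_lit 0x45341542318732)) (Tr.leaf (nat_lit 0x0)))) (Tr.node (Tr.node (Tr.leaf (nat_lit 0x41215878622626)) (Tr.leaf (nat_lit 0x6845223178212212212))) (Tr.node (Tr.leaf (nat_lit 0x885213482867136)) (Tr.leaf (nat_lit 0x0))))) (Tr.node (Tr.node (Tr.node (Tr.leaf (nat_lit 0x6345673212312217)) (Tr.leaf (nat_lit 0x121711))) (Tr.node (Tr.leaf (nat_lit 0x48173421317821771)) (Tr.leaf (nat_lit 0x0)))) (Tr.node (Tr.node (Tr.leaf (nat_lit 0x65986346781867171)) (Tr.leaf (nat_lit 0x0))) (Tr.node (Tr.leaf (nat_lit 0x65986346781826762)) (Tr.leaf (nat_lit 0x0))))))))) (Tr.node (Tr.node (Tr.node (Tr.node (Tr.node (Tr.node (Tr.node (Tr.leaf (nat_lit 0x74152323262171)) (Tr.leaf (nat_lit 0x11533432332862671))) (Tr.node (Tr.leaf (nat_lit 0x5331341282128676226)) (Tr.leaf (nat_lit 0x0)))) (Tr.node (Tr.node (Tr.leaf (nat_lit 0x7686342218137677)) (Tr.leaf (nat_lit 0x75153286737177121))) (Tr.node (Tr.leaf (nat_lit 0x3567134717867122)) (Tr.leaf (nat_lit 0x0))))) (Tr.node (Tr.node (Tr.node (Tr.leaf (nat_lit 0x41571323677)) (Tr.leaf (nat_lit 0x5334323328177121))) (Tr.node (Tr.leaf (nat_lit 0x934217367712)) (Tr.leaf (nat_lit 0x0)))) (Tr.node (Tr.node (Tr.leaf (nat_lit 0x2621547788121711)) (Tr.leaf (nat_lit 0x334315128687712))) (Tr.node (Tr.leaf (nat_lit 0x143421737677671)) (Tr.leaf (nat_lit 0x0)))))) (Tr.node (Tr.node (Tr.node (Tr.node (Tr.leaf (nat_lit 0x3456732123122171)) (Tr.leaf (nat_lit 0x484515211823771712))) (Tr.node (Tr.leaf (nat_lit 0x9851343733632676221)) (Tr.leaf (nat_lit 0x0)))) (Tr.node (Tr.node (Tr.leaf (nat_lit 0x4634217317122)) (Tr.leaf (nat_lit 0x3343151286876221))) (Tr.node (Tr.leaf (nat_lit 0x767547788171221)) (Tr.leaf (nat_lit 0x0))))) (Tr.node (Tr.node (Tr.node (Tr.leaf (nat_lit 0x762122)) (Tr.leaf (nat_lit 0x288568428766622))) (Tr.node (Tr.leaf (nat_lit 0x4215878626771)) (Tr.leaf (nat_lit 0x0)))) (Tr.node (Tr.node (Tr.leaf (nat_lit 0x481453481232867767121)) (Tr.leaf (nat_lit 0x22177))) (Tr.node (Tr.leaf (nat_lit 0x48145348123282622121)) (Tr.leaf (nat_lit 0x0))))))) (Tr.node (Tr.node (Tr.node (Tr.node (Tr.node (Tr.leaf (nat_lit 0x39731533762671)) (Tr.leaf (nat_lit 0x4134217366))) (Tr.node (Tr.leaf (nat_lit 0x653343233282217711)) (Tr.leaf (nat_lit 0x0)))) (Tr.node (Tr.node (Tr.leaf (nat_lit 0x63456732123226)) (Tr.leaf (nat_lit 0x95953477318267767))) (Tr.node (Tr.leaf (nat_lit 0x6598634678187677122)) (Tr.leaf (nat_lit 0x0))))) (Tr.node (Tr.node (Tr.node (Tr.leaf (nat_lit 0x7415232326)) (Tr.leaf (nat_lit 0x684522317877666))) (Tr.node (Tr.leaf (nat_lit 0x262154778867121221)) (Tr.leaf (nat_lit 0x0)))) (Tr.node (Tr.node (Tr.leaf (nat_lit 0x8458457736237)) (Tr.leaf (nat_lit 0x84584577362317111))) (Tr.node (Tr.leaf (nat_lit 0x481734213178226762)) (Tr.leaf (nat_lit 0x0)))))) (Tr.node (Tr.node (Tr.node (Tr.node (Tr.leaf (nat_lit 0x8452231782622676)) (Tr.leaf (nat_lit 0x74152323621221))) (Tr.node (Tr.leaf (nat_lit 0x397315331221211)) (Tr.leaf (nat_lit 0x0)))) (Tr.node (Tr.node (Tr.leaf (nat_lit 0x4134217371771711)) (Tr.leaf (nat_lit 0x262154778871221))) (Tr.node (Tr.leaf (nat_lit 0x4134217367622)) (Tr.leaf (nat_lit 0x0))))) (Tr.node (Tr.node (Tr.node (Tr.leaf (nat_lit 0x413421732676)) (Tr.leaf (nat_lit 0x315634331313671712))) (Tr.node (Tr.leaf (nat_lit 0x345673212367626)) (Tr.leaf (nat_lit 0x0)))) (Tr.node (Tr.node (Tr.leaf (nat_lit 0x33431512868212212)) (Tr.leaf (nat_lit 0x0))) (Tr.node (Tr.leaf (nat_lit 0x582184132123212212)) (Tr.leaf (nat_lit 0x0)))))))) (Tr.node (Tr.node (Tr.node (Tr.node (Tr.node (Tr.node (Tr.leaf (nat_lit 0x7122)) (Tr.leaf (nat_lit 0x7592534787812322111))) (Tr.node (Tr.leaf (nat_lit 0x184522317821712)) (Tr.leaf (nat_lit 0x0)))) (Tr.node (Tr.node (Tr.leaf (nat_lit 0x7415232322676)) (Tr.leaf (nat_lit 0x959534773182267622))) (Tr.node (Tr.leaf (nat_lit 0x58218413212362676)) (Tr.leaf (nat_lit 0x0))))) (Tr.node (Tr.node (Tr.node (Tr.leaf (nat_lit 0x9595347731812111)) (Tr.leaf (nat_lit 0x3345328223262212))) (Tr.node (Tr.leaf (nat_lit 0x4595347731862212212)) (Tr.leaf (nat_lit 0x0)))) (Tr.node (Tr.node (Tr.leaf (nat_lit 0x313548771737621)) (Tr.leaf (nat_lit 0x33453282232622626))) (Tr.node (Tr.leaf (nat_lit 0x6598634678187671)) (Tr.leaf (nat_lit 0x0)))))) (Tr.node (Tr.node (Tr.node (Tr.node (Tr.leaf (nat_lit 0x459534773187677)) (Tr.leaf (nat_lit 0x395845773623267171))) (Tr.node (Tr.leaf (nat_lit 0x31563433131312212212)) (Tr.leaf (nat_lit 0x0)))) (Tr.node (Tr.node (Tr.leaf (nat_lit 0x985134373363776776)) (Tr.leaf (nat_lit 0x4571323712177))) (Tr.node (Tr.leaf (nat_lit 0x91342173262212)) (Tr.leaf (nat_lit 0x0))))) (Tr.node (Tr.node (Tr.node (Tr.leaf (nat_lit 0x459534773187177111)) (Tr.leaf (nat_lit 0x45953477318622671))) (Tr.node (Tr.leaf (nat_lit 0x741523231221)) (Tr.leaf (nat_lit 0x0)))) (Tr.node (Tr.node (Tr.leaf (nat_lit 0x9134217311)) (Tr.leaf (nat_lit 0x53343233286712122))) (Tr.node (Tr.leaf (nat_lit 0x457115487787822121)) (Tr.leaf (nat_lit 0x0))))))) (Tr.node (Tr.node (Tr.node (Tr.node (Tr.node (Tr.leaf (nat_lit 0x3345328223677621)) (Tr.leaf (nat_lit 0x39584577362362212))) (Tr.node (Tr.leaf (nat_lit 0x3156343313137717)) (Tr.leaf (nat_lit 0x0)))) (Tr.node (Tr.node (Tr.leaf (nat_lit 0x634567321236217712)) (Tr.leaf (nat_lit 0x41342173171221))) (Tr.node (Tr.leaf (nat_lit 0x91342173771211)) (Tr.leaf (nat_lit 0x0))))) (Tr.node (Tr.node (Tr.node (Tr.leaf (nat_lit 0x8743153322626)) (Tr.leaf (nat_lit 0x48451521182371221))) (Tr.node (Tr.leaf (nat_lit 0x53313412821282622121)) (Tr.leaf (nat_lit 0x0)))) (Tr.node (Tr.node (Tr.leaf (nat_lit 0x3345328223712122)) (Tr.leaf (nat_lit 0x1741523237121))) (Tr.node (Tr.leaf (nat_lit 0x453415423187312211)) (Tr.leaf (nat_lit 0x0)))))) (Tr.node (Tr.node (Tr.node (Tr.node (Tr.leaf (nat_lit 0x582184132123226776)) (Tr.leaf (nat_lit 0x959534773187767))) (Tr.node (Tr.leaf (nat_lit 0x2885684286267)) (Tr.leaf (nat_lit 0x0)))) (Tr.node (Tr.node (Tr.leaf (nat_lit 0x45953477318717711)) (Tr.leaf (nat_lit 0x459534773186267712))) (Tr.node (Tr.leaf (nat_lit 0x48451521182366)) (Tr.leaf (nat_lit 0x0))))) (Tr.node (Tr.node (Tr.node (Tr.leaf (nat_lit 0x4851343733636626)) (Tr.leaf (nat_lit 0x26215477881771211))) (Tr.node (Tr.leaf (nat_lit 0x453415423187367177)) (Tr.leaf (nat_lit 0x0)))) (Tr.node (Tr.node (Tr.leaf (nat_lit 0x763684221318762121)) (Tr.leaf (nat_lit 0x0))) (Tr.node (Tr.leaf (nat_lit 0x768634221813622171)) (Tr.leaf (nat_lit 0x0)))))))))) (Tr.node (Tr.node (Tr.node (Tr.node (Tr.node (Tr.node (Tr.node (Tr.node (Tr.leaf (nat_lit 0x3343151286867122)) (Tr.leaf (nat_lit 0x768634221813762121))) (Tr.node (Tr.leaf (nat_lit 0x313548771732171221)) (Tr.leaf (nat_lit 0x0)))) (Tr.node (Tr.node (Tr.leaf (nat_lit 0x74152323121221)) (Tr.leaf (nat_lit 0x395845773623626776))) (Tr.node (Tr.leaf (nat_lit 0x933426732122121)) (Tr.leaf (nat_lit 0x0))))) (Tr.node (Tr.node (Tr.node (Tr.leaf (nat_lit 0x934217322177)) (Tr.leaf (nat_lit 0x1345673212366226))) (Tr.node (Tr.leaf (nat_lit 0x718634221813171211)) (Tr.leaf (nat_lit 0x0)))) (Tr.node (Tr.node (Tr.leaf (nat_lit 0x313548771732177121)) (Tr.leaf (nat_lit 0x35671347178622177))) (Tr.node (Tr.leaf (nat_lit 0x984515211823217)) (Tr.leaf (nat_lit 0x0)))))) (Tr.node (Tr.node (Tr.node (Tr.node (Tr.leaf (nat_lit 0x845223178262267)) (Tr.leaf (nat_lit 0x53313412821286267))) (Tr.node (Tr.leaf (nat_lit 0x4814534812328771211)) (Tr.leaf (nat_lit 0x0)))) (Tr.node (Tr.node (Tr.leaf (nat_lit 0x45953477318622622621)) (Tr.leaf (nat_lit 0x7515328673676))) (Tr.node (Tr.leaf (nat_lit 0x763684221318621)) (Tr.leaf (nat_lit 0x0))))) (Tr.node (Tr.node (Tr.node (Tr.leaf (nat_lit 0x718634221813621)) (Tr.leaf (nat_lit 0x767547788771211))) (Tr.node (Tr.leaf (nat_lit 0x48145348123287121221)) (Tr.leaf (nat_lit 0x0)))) (Tr.node (Tr.node (Tr.leaf (nat_lit 0x34567321236267762)) (Tr.leaf (nat_lit 0x434217377626))) (Tr.node (Tr.leaf (nat_lit 0x7789346823237626)) (Tr.leaf (nat_lit 0x0))))))) (Tr.node (Tr.node (Tr.node (Tr.node (Tr.node (Tr.leaf (nat_lit 0x4134217326766)) (Tr.leaf (nat_lit 0x48451521182367767121))) (Tr.node (Tr.leaf (nat_lit 0x45341542318732267)) (Tr.leaf (nat_lit 0x0)))) (Tr.node (Tr.node (Tr.leaf (nat_lit 0x5432134878628622121)) (Tr.leaf (nat_lit 0x3567134717867622))) (Tr.node (Tr.leaf (nat_lit 0x53313412821282217711)) (Tr.leaf (nat_lit 0x0))))) (Tr.node (Tr.node (Tr.node (Tr.leaf (nat_lit 0x933426737677171)) (Tr.leaf (nat_lit 0x134567321236267712))) (Tr.node (Tr.leaf (nat_lit 0x6533432332817122)) (Tr.leaf (nat_lit 0x0)))) (Tr.node (Tr.node (Tr.leaf (nat_lit 0x345673212377671)) (Tr.leaf (nat_lit 0x43421731111))) (Tr.node (Tr.leaf (nat_lit 0x5821841321236217)) (Tr.leaf (nat_lit 0x0)))))) (Tr.node (Tr.node (Tr.node (Tr.node (Tr.leaf (nat_lit 0x3973153376776712)) (Tr.leaf (nat_lit 0x543584773268))) (Tr.node (Tr.leaf (nat_lit 0x889315128682622621)) (Tr.leaf (nat_lit 0x0)))) (Tr.node (Tr.node (Tr.leaf (nat_lit 0x14342173767767)) (Tr.leaf (nat_lit 0x31354877173177171))) (Tr.node (Tr.leaf (nat_lit 0x484515211823221771)) (Tr.leaf (nat_lit 0x0))))) (Tr.node (Tr.node (Tr.node (Tr.leaf (nat_lit 0x634567321237677)) (Tr.leaf (nat_lit 0x26215477887122))) (Tr.node (Tr.leaf (nat_lit 0x7686342218132212171)) (Tr.leaf (nat_lit 0x0)))) (Tr.node (Tr.node (Tr.leaf (nat_lit 0x76368422131876771)) (Tr.leaf (nat_lit 0x153343233282171))) (Tr.node (Tr.leaf (nat_lit 0x7186342218132122111)) (Tr.leaf (nat_lit 0x0)))))))) (Tr.node (Tr.node (Tr.node (Tr.node (Tr.node (Tr.node (Tr.leaf (nat_lit 0x412158782177)) (Tr.leaf (nat_lit 0x315634331313221111))) (Tr.node (Tr.leaf (nat_lit 0x395845773623177122)) (Tr.leaf (nat_lit 0x0)))) (Tr.node (Tr.node (Tr.leaf (nat_lit 0x4845152118236776712)) (Tr.leaf (nat_lit 0x77893468232367767))) (Tr.node (Tr.leaf (nat_lit 0x59863467818262262212)) (Tr.leaf (nat_lit 0x0))))) (Tr.node (Tr.node (Tr.node (Tr.leaf (nat_lit 0x48513437336366622)) (Tr.leaf (nat_lit 0x8562234788213776662))) (Tr.node (Tr.leaf (nat_lit 0x17415232317717)) (Tr.leaf (nat_lit 0x0)))) (Tr.node (Tr.node (Tr.leaf (nat_lit 0x262154778867712)) (Tr.leaf (nat_lit 0x934217371771711))) (Tr.node (Tr.leaf (nat_lit 0x5821841321237622)) (Tr.leaf (nat_lit 0x0)))))) (Tr.node (Tr.node (Tr.node (Tr.node (Tr.leaf (nat_lit 0x53313412821281111)) (Tr.leaf (nat_lit 0x484515211823217))) (Tr.node (Tr.leaf (nat_lit 0x433426737677171)) (Tr.leaf (nat_lit 0x0)))) (Tr.node (Tr.node (Tr.leaf (nat_lit 0x84584577362321221221)) (Tr.leaf (nat_lit 0x4342173776662))) (Tr.node (Tr.leaf (nat_lit 0x76368422131867621)) (Tr.leaf (nat_lit 0x0))))) (Tr.node (Tr.node (Tr.node (Tr.leaf (nat_lit 0x84584577362376776712)) (Tr.leaf (nat_lit 0x763684221318622676))) (Tr.node (Tr.leaf (nat_lit 0x4215878622626)) (Tr.leaf (nat_lit 0x0)))) (Tr.node (Tr.node (Tr.leaf (nat_lit 0x8743153376712122)) (Tr.leaf (nat_lit 0x457115487787822626))) (Tr.node (Tr.leaf (nat_lit 0x43342673212212)) (Tr.leaf (nat_lit 0x0))))))) (Tr.node (Tr.node (Tr.node (Tr.node (Tr.node (Tr.leaf (nat_lit 0x41571323622122)) (Tr.leaf (nat_lit 0x356713471782622621))) (Tr.node (Tr.leaf (nat_lit 0x48513437336321217)) (Tr.leaf (nat_lit 0x0)))) (Tr.node (Tr.node (Tr.leaf (nat_lit 0x659863467818177111)) (Tr.leaf (nat_lit 0x768634221813171211))) (Tr.node (Tr.leaf (nat_lit 0x5432134878628711)) (Tr.leaf (nat_lit 0x0))))) (Tr.node (Tr.node (Tr.node (Tr.leaf (nat_lit 0x7186342218132671212)) (Tr.leaf (nat_lit 0x7592534787812376771))) (Tr.node (Tr.leaf (nat_lit 0x433426737122)) (Tr.leaf (nat_lit 0x0)))) (Tr.node (Tr.node (Tr.leaf (nat_lit 0x77893468232367177)) (Tr.leaf (nat_lit 0x3456732123171211))) (Tr.node (Tr.leaf (nat_lit 0x26215477887677671)) (Tr.leaf (nat_lit 0x0)))))) (Tr.node (Tr.node (Tr.node (Tr.node (Tr.leaf (nat_lit 0x453415423187312212171)) (Tr.leaf (nat_lit 0x54321348786286221712))) (Tr.node (Tr.leaf (nat_lit 0x84584577362376267)) (Tr.leaf (nat_lit 0x0)))) (Tr.node (Tr.node (Tr.leaf (nat_lit 0x88521348286713776712)) (Tr.leaf (nat_lit 0x134567321236267762))) (Tr.node (Tr.leaf (nat_lit 0x484515211823676221)) (Tr.leaf (nat_lit 0x0))))) (Tr.node (Tr.node (Tr.node (Tr.leaf (nat_lit 0x985134373363122111)) (Tr.leaf (nat_lit 0x8743153362177))) (Tr.node (Tr.leaf (nat_lit 0x959534773186776771)) (Tr.leaf (nat_lit 0x0)))) (Tr.node (Tr.node (Tr.leaf (nat_lit 0x48513437336322671)) (Tr.leaf (nat_lit 0x0))) (Tr.node (Tr.leaf (nat_lit 0x7515328673767712)) (Tr.leaf (nat_lit 0x0))))))))) (Tr.node (Tr.node (Tr.node (Tr.node (Tr.node (Tr.node (Tr.node (Tr.leaf (nat_lit 0x7415232312211)) (Tr.leaf (nat_lit 0x15334323328712122))) (Tr.node (Tr.leaf (nat_lit 0x8852134828671367121221)) (Tr.leaf (nat_lit 0x0)))) (Tr.node (Tr.node (Tr.leaf (nat_lit 0x6712122)) (Tr.leaf (nat_lit 0x412158787677621))) (Tr.node (Tr.leaf (nat_lit 0x9342173771211)) (Tr.leaf (nat_lit 0x0))))) (Tr.node (Tr.node (Tr.node (Tr.leaf (nat_lit 0x676221)) (Tr.leaf (nat_lit 0x659863467818776771712))) (Tr.node (Tr.leaf (nat_lit 0x434217317122)) (Tr.leaf (nat_lit 0x0)))) (Tr.node (Tr.node (Tr.leaf (nat_lit 0x28856842867122)) (Tr.leaf (nat_lit 0x31354877173677171))) (Tr.node (Tr.leaf (nat_lit 0x7686342218137177)) (Tr.leaf (nat_lit 0x0)))))) (Tr.node (Tr.node (Tr.node (Tr.node (Tr.leaf (nat_lit 0x54321348786282262217)) (Tr.leaf (nat_lit 0x485134373363767121))) (Tr.node (Tr.leaf (nat_lit 0x8452231782267177)) (Tr.leaf (nat_lit 0x0)))) (Tr.node (Tr.node (Tr.leaf (nat_lit 0x4817342131781711)) (Tr.leaf (nat_lit 0x288568428776662))) (Tr.node (Tr.leaf (nat_lit 0x8562234788213671221)) (Tr.leaf (nat_lit 0x0))))) (Tr.node (Tr.node (Tr.node (Tr.leaf (nat_lit 0x39731533622121)) (Tr.leaf (nat_lit 0x6598634678182622122121))) (Tr.node (Tr.leaf (nat_lit 0x433426732622121)) (Tr.leaf (nat_lit 0x0)))) (Tr.node (Tr.node (Tr.leaf (nat_lit 0x33453282236221771)) (Tr.leaf (nat_lit 0x174152323622))) (Tr.node (Tr.leaf (nat_lit 0x5432134878628622626)) (Tr.leaf (nat_lit 0x0))))))) (Tr.node (Tr.node (Tr.node (Tr.node (Tr.node (Tr.leaf (nat_lit 0x459534773186776771)) (Tr.leaf (nat_lit 0x845845773623267171))) (Tr.node (Tr.leaf (nat_lit 0x913421737717121)) (Tr.leaf (nat_lit 0x0)))) (Tr.node (Tr.node (Tr.leaf (nat_lit 0x18452231787762676)) (Tr.leaf (nat_lit 0x485134373363212171))) (Tr.node (Tr.leaf (nat_lit 0x885213482867131771211)) (Tr.leaf (nat_lit 0x0))))) (Tr.node (Tr.node (Tr.node (Tr.leaf (nat_lit 0x1771712)) (Tr.leaf (nat_lit 0x463421732622621))) (Tr.node (Tr.leaf (nat_lit 0x845223178771217)) (Tr.leaf (nat_lit 0x0)))) (Tr.node (Tr.node (Tr.leaf (nat_lit 0x5986346781862121)) (Tr.leaf (nat_lit 0x3135487717362262171))) (Tr.node (Tr.leaf (nat_lit 0x484515211823262262)) (Tr.leaf (nat_lit 0x0)))))) (Tr.node (Tr.node (Tr.node (Tr.node (Tr.leaf (nat_lit 0x41342173217)) (Tr.leaf (nat_lit 0x7592534787812362262212))) (Tr.node (Tr.leaf (nat_lit 0x7686342218132122111)) (Tr.leaf (nat_lit 0x0)))) (Tr.node (Tr.node (Tr.leaf (nat_lit 0x9134217312171)) (Tr.leaf (nat_lit 0x4634217377621))) (Tr.node (Tr.leaf (nat_lit 0x4595347731812111)) (Tr.leaf (nat_lit 0x0))))) (Tr.node (Tr.node (Tr.node (Tr.leaf (nat_lit 0x53313412821281771211)) (Tr.leaf (nat_lit 0x845223178776267))) (Tr.node (Tr.leaf (nat_lit 0x356713471781771712)) (Tr.leaf (nat_lit 0x0)))) (Tr.node (Tr.node (Tr.leaf (nat_lit 0x334532822317122)) (Tr.leaf (nat_lit 0x0))) (Tr.node (Tr.leaf (nat_lit 0x59863467818717)) (Tr.leaf (nat_lit 0x0)))))))) (Tr.node (Tr.node (Tr.node (Tr.node (Tr.node (Tr.node (Tr.leaf (nat_lit 0x4571323626762)) (Tr.leaf (nat_lit 0x153343233281111))) (Tr.node (Tr.leaf (nat_lit 0x41215878621771)) (Tr.leaf (nat_lit 0x0)))) (Tr.node (Tr.node (Tr.leaf (nat_lit 0x933426737762)) (Tr.leaf (nat_lit 0x59863467818771217))) (Tr.node (Tr.leaf (nat_lit 0x933426732622626)) (Tr.leaf (nat_lit 0x0))))) (Tr.node (Tr.node (Tr.node (Tr.leaf (nat_lit 0x42158782677)) (Tr.leaf (nat_lit 0x41342173226717))) (Tr.node (Tr.leaf (nat_lit 0x68452231782212211)) (Tr.leaf (nat_lit 0x0)))) (Tr.node (Tr.node (Tr.leaf (nat_lit 0x68452231787621771)) (Tr.leaf (nat_lit 0x76368422131812217))) (Tr.node (Tr.leaf (nat_lit 0x4817342131786221712)) (Tr.leaf (nat_lit 0x0)))))) (Tr.node (Tr.node (Tr.node (Tr.node (Tr.leaf (nat_lit 0x4121587817111)) (Tr.leaf (nat_lit 0x74152323762217))) (Tr.node (Tr.leaf (nat_lit 0x874315332212)) (Tr.leaf (nat_lit 0x0)))) (Tr.node (Tr.node (Tr.leaf (nat_lit 0x76368422131822)) (Tr.leaf (nat_lit 0x84522317867766))) (Tr.node (Tr.leaf (nat_lit 0x3958457736232212)) (Tr.leaf (nat_lit 0x0))))) (Tr.node (Tr.node (Tr.node (Tr.leaf (nat_lit 0x1845223178762677)) (Tr.leaf (nat_lit 0x75925347878123767766))) (Tr.node (Tr.leaf (nat_lit 0x845845773623767762)) (Tr.leaf (nat_lit 0x0)))) (Tr.node (Tr.node (Tr.leaf (nat_lit 0x34567321231221711)) (Tr.leaf (nat_lit 0x7636842213182622))) (Tr.node (Tr.leaf (nat_lit 0x7515328673122121)) (Tr.leaf (nat_lit 0x0))))))) (Tr.node (Tr.node (Tr.node (Tr.node (Tr.node (Tr.leaf (nat_lit 0x413421737717121)) (Tr.leaf (nat_lit 0x115334323328221771))) (Tr.node (Tr.leaf (nat_lit 0x4571323776771712)) (Tr.leaf (nat_lit 0x0)))) (Tr.node (Tr.node (Tr.leaf (nat_lit 0x2586841782632122121)) (Tr.leaf (nat_lit 0x434217367712))) (Tr.node (Tr.leaf (nat_lit 0x65334323328212212)) (Tr.leaf (nat_lit 0x0))))) (Tr.node (Tr.node (Tr.node (Tr.leaf (nat_lit 0x395845773623717712)) (Tr.leaf (nat_lit 0x313548771737717711))) (Tr.node (Tr.leaf (nat_lit 0x174152323621221)) (Tr.leaf (nat_lit 0x0)))) (Tr.node (Tr.node (Tr.leaf (nat_lit 0x7675477886)) (Tr.leaf (nat_lit 0x1153343233286771712))) (Tr.node (Tr.leaf (nat_lit 0x134567321232122)) (Tr.leaf (nat_lit 0x0)))))) (Tr.node (Tr.node (Tr.node (Tr.node (Tr.leaf (nat_lit 0x43421737717121)) (Tr.leaf (nat_lit 0x93342673221771))) (Tr.node (Tr.leaf (nat_lit 0x7686342218132677171)) (Tr.leaf (nat_lit 0x0)))) (Tr.node (Tr.node (Tr.leaf (nat_lit 0x41342173262262)) (Tr.leaf (nat_lit 0x33431512868776712))) (Tr.node (Tr.leaf (nat_lit 0x463421736712122)) (Tr.leaf (nat_lit 0x0))))) (Tr.node (Tr.node (Tr.node (Tr.leaf (nat_lit 0x334315128682622626)) (Tr.leaf (nat_lit 0x3973153326717))) (Tr.node (Tr.leaf (nat_lit 0x1533432332817717121)) (Tr.leaf (nat_lit 0x0)))) (Tr.node (Tr.node (Tr.leaf (nat_lit 0x75925347878123221111)) (Tr.leaf (nat_lit 0x0))) (Tr.node (Tr.leaf (nat_lit 0x13456732123677177)) (Tr.leaf (nat_lit 0x0))))))))))))) (Tr.node (Tr.node (Tr.node (Tr.node (Tr.node (Tr.node (Tr.node (Tr.node (Tr.node (Tr.node (Tr.node (Tr.leaf (nat_lit 0x771712)) (Tr.leaf (nat_lit 0x7675477887622))) (Tr.node (Tr.leaf (nat_lit 0x76863422181367626)) (Tr.leaf (nat_lit 0x0)))) (Tr.node (Tr.node (Tr.leaf (nat_lit 0x143421737671212)) (Tr.leaf (nat_lit 0x28856842876221))) (Tr.node (Tr.leaf (nat_lit 0x7675477881217)) (Tr.leaf (nat_lit 0x0))))) (Tr.node (Tr.node (Tr.node (Tr.leaf (nat_lit 0x1345673212371212)) (Tr.leaf (nat_lit 0x763684221318677677))) (Tr.node (Tr.leaf (nat_lit 0x262154778821221211)) (Tr.leaf (nat_lit 0x0)))) (Tr.node (Tr.node (Tr.leaf (nat_lit 0x53313412821282676)) (Tr.leaf (nat_lit 0x4814534812328262177))) (Tr.node (Tr.leaf (nat_lit 0x985134373363177171)) (Tr.leaf (nat_lit 0x0)))))) (Tr.node (Tr.node (Tr.node (Tr.node (Tr.leaf (nat_lit 0x4817342131786766)) (Tr.leaf (nat_lit 0x6345673212362))) (Tr.node (Tr.leaf (nat_lit 0x98513437336312211)) (Tr.leaf (nat_lit 0x0)))) (Tr.node (Tr.node (Tr.leaf (nat_lit 0x68452231787762671)) (Tr.leaf (nat_lit 0x6345673212376212))) (Tr.node (Tr.leaf (nat_lit 0x874315337677621)) (Tr.leaf (nat_lit 0x0))))) (Tr.node (Tr.node (Tr.node (Tr.leaf (nat_lit 0x8893151286822177)) (Tr.leaf (nat_lit 0x11533432332812171))) (Tr.node (Tr.leaf (nat_lit 0x481734213178221211)) (Tr.leaf (nat_lit 0x0)))) (Tr.node (Tr.node (Tr.leaf (nat_lit 0x3135487717312212171)) (Tr.leaf (nat_lit 0x885213482867137671212))) (Tr.node (Tr.leaf (nat_lit 0x13456732123677677)) (Tr.leaf (nat_lit 0x0))))))) (Tr.node (Tr.node (Tr.node (Tr.node (Tr.node (Tr.leaf (nat_lit 0x41342173267)) (Tr.leaf (nat_lit 0x315634331313226217))) (Tr.node (Tr.leaf (nat_lit 0x48513437336376662)) (Tr.leaf (nat_lit 0x0)))) (Tr.node (Tr.node (Tr.leaf (nat_lit 0x4851343733632111)) (Tr.leaf (nat_lit 0x8743153362677))) (Tr.node (Tr.leaf (nat_lit 0x8452231787766)) (Tr.leaf (nat_lit 0x0))))) (Tr.node (Tr.node (Tr.node (Tr.leaf (nat_lit 0x3345328223111)) (Tr.leaf (nat_lit 0x856223478821362676))) (Tr.node (Tr.leaf (nat_lit 0x4634217321711)) (Tr.leaf (nat_lit 0x0)))) (Tr.node (Tr.node (Tr.leaf (nat_lit 0x415713232671712)) (Tr.leaf (nat_lit 0x434217376221))) (Tr.node (Tr.leaf (nat_lit 0x459534773186622)) (Tr.leaf (nat_lit 0x0)))))) (Tr.node (Tr.node (Tr.node (Tr.node (Tr.leaf (nat_lit 0x4121587822626)) (Tr.leaf (nat_lit 0x459534773182671212))) (Tr.node (Tr.leaf (nat_lit 0x17415232362212171)) (Tr.leaf (nat_lit 0x0)))) (Tr.node (Tr.node (Tr.leaf (nat_lit 0x5821841321236)) (Tr.leaf (nat_lit 0x659863467818762677))) (Tr.node (Tr.leaf (nat_lit 0x174152323217712)) (Tr.leaf (nat_lit 0x0))))) (Tr.node (Tr.node (Tr.node (Tr.leaf (nat_lit 0x93342673)) (Tr.leaf (nat_lit 0x54321348786282122122))) (Tr.node (Tr.leaf (nat_lit 0x659863467818771111)) (Tr.leaf (nat_lit 0x0)))) (Tr.node (Tr.node (Tr.leaf (nat_lit 0x14342173217)) (Tr.leaf (nat_lit 0x543584773268267))) (Tr.node (Tr.leaf (nat_lit 0x4817342131782622122)) (Tr.leaf (nat_lit 0x0)))))))) (Tr.node (Tr.node (Tr.node (Tr.node (Tr.node (Tr.node (Tr.leaf (nat_lit 0x412158787767717)) (Tr.leaf (nat_lit 0x9334267377621))) (Tr.node (Tr.leaf (nat_lit 0x3958457736237762122)) (Tr.leaf (nat_lit 0x0)))) (Tr.node (Tr.node (Tr.leaf (nat_lit 0x93421731)) (Tr.leaf (nat_lit 0x75925347878123717711))) (Tr.node (Tr.leaf (nat_lit 0x59863467818177)) (Tr.leaf (nat_lit 0x0))))) (Tr.node (Tr.node (Tr.node (Tr.leaf (nat_lit 0x634567321232671212)) (Tr.leaf (nat_lit 0x334315128687767121))) (Tr.node (Tr.leaf (nat_lit 0x659863467818677)) (Tr.leaf (nat_lit 0x0)))) (Tr.node (Tr.node (Tr.leaf (nat_lit 0x4814534812328226717)) (Tr.leaf (nat_lit 0x4634217376226))) (Tr.node (Tr.leaf (nat_lit 0x1345673212362262212)) (Tr.leaf (nat_lit 0x0)))))) (Tr.node (Tr.node (Tr.node (Tr.node (Tr.leaf (nat_lit 0x718634221813221111)) (Tr.leaf (nat_lit 0x543213487862867))) (Tr.node (Tr.leaf (nat_lit 0x874315332122122)) (Tr.leaf (nat_lit 0x0)))) (Tr.node (Tr.node (Tr.leaf (nat_lit 0x25868417826317712)) (Tr.leaf (nat_lit 0x1153343233286221771))) (Tr.node (Tr.leaf (nat_lit 0x9845152118231111)) (Tr.leaf (nat_lit 0x0))))) (Tr.node (Tr.node (Tr.node (Tr.leaf (nat_lit 0x54321348786287677121)) (Tr.leaf (nat_lit 0x85622347882137717121))) (Tr.node (Tr.leaf (nat_lit 0x934217312171)) (Tr.leaf (nat_lit 0x0)))) (Tr.node (Tr.node (Tr.leaf (nat_lit 0x48145348123282622621)) (Tr.leaf (nat_lit 0x7415232371211))) (Tr.node (Tr.leaf (nat_lit 0x913421732622621)) (Tr.leaf (nat_lit 0x0))))))) (Tr.node (Tr.node (Tr.node (Tr.node (Tr.node (Tr.leaf (nat_lit 0x87431533622626)) (Tr.leaf (nat_lit 0x1153343233282122121))) (Tr.node (Tr.leaf (nat_lit 0x6533432332877621)) (Tr.leaf (nat_lit 0x0)))) (Tr.node (Tr.node (Tr.leaf (nat_lit 0x41215878762671)) (Tr.leaf (nat_lit 0x42158782262217))) (Tr.node (Tr.leaf (nat_lit 0x533134128212876226)) (Tr.leaf (nat_lit 0x0))))) (Tr.node (Tr.node (Tr.node (Tr.leaf (nat_lit 0x6345673212317121)) (Tr.leaf (nat_lit 0x4634217362171))) (Tr.node (Tr.leaf (nat_lit 0x6845223178762177)) (Tr.leaf (nat_lit 0x0)))) (Tr.node (Tr.node (Tr.leaf (nat_lit 0x543213487862871)) (Tr.leaf (nat_lit 0x481453481232862171))) (Tr.node (Tr.leaf (nat_lit 0x48451521182367712)) (Tr.leaf (nat_lit 0x0)))))) (Tr.node (Tr.node (Tr.node (Tr.node (Tr.leaf (nat_lit 0x43342673217111)) (Tr.leaf (nat_lit 0x28856842862171))) (Tr.node (Tr.leaf (nat_lit 0x8452231782122122121)) (Tr.leaf (nat_lit 0x0)))) (Tr.node (Tr.node (Tr.leaf (nat_lit 0x41215878622621)) (Tr.leaf (nat_lit 0x93421732622621))) (Tr.node (Tr.leaf (nat_lit 0x48145348123282171)) (Tr.leaf (nat_lit 0x0))))) (Tr.node (Tr.node (Tr.node (Tr.leaf (nat_lit 0x356713471787122111)) (Tr.leaf (nat_lit 0x45711548778782212))) (Tr.node (Tr.leaf (nat_lit 0x45713232622671)) (Tr.leaf (nat_lit 0x0)))) (Tr.node (Tr.node (Tr.leaf (nat_lit 0x397315336717712)) (Tr.leaf (nat_lit 0x0))) (Tr.node (Tr.leaf (nat_lit 0x543584773268262262)) (Tr.leaf (nat_lit 0x0))))))))) (Tr.node (Tr.node (Tr.node (Tr.node (Tr.node (Tr.node (Tr.node (Tr.leaf (nat_lit 0x984515211823771712)) (Tr.leaf (nat_lit 0x11533432332826766))) (Tr.node (Tr.leaf (nat_lit 0x874315332267121)) (Tr.leaf (nat_lit 0x0)))) (Tr.node (Tr.node (Tr.leaf (nat_lit 0x76368422131862)) (Tr.leaf (nat_lit 0x54358477326877121))) (Tr.node (Tr.leaf (nat_lit 0x2621547788226771)) (Tr.leaf (nat_lit 0x0))))) (Tr.node (Tr.node (Tr.node (Tr.leaf (nat_lit 0x88931512868677626)) (Tr.leaf (nat_lit 0x751532867322121))) (Tr.node (Tr.leaf (nat_lit 0x5432134878628717712)) (Tr.leaf (nat_lit 0x0)))) (Tr.node (Tr.node (Tr.leaf (nat_lit 0x7686342218132177171)) (Tr.leaf (nat_lit 0x88931512868771712))) (Tr.node (Tr.leaf (nat_lit 0x48513437336326)) (Tr.leaf (nat_lit 0x0)))))) (Tr.node (Tr.node (Tr.node (Tr.node (Tr.leaf (nat_lit 0x434217326766)) (Tr.leaf (nat_lit 0x5334323328226717))) (Tr.node (Tr.leaf (nat_lit 0x13456732123221217)) (Tr.leaf (nat_lit 0x0)))) (Tr.node (Tr.node (Tr.leaf (nat_lit 0x54321348786282212)) (Tr.leaf (nat_lit 0x4534154231873122111))) (Tr.node (Tr.leaf (nat_lit 0x1345673212322111)) (Tr.leaf (nat_lit 0x0))))) (Tr.node (Tr.node (Tr.node (Tr.leaf (nat_lit 0x258684178263622177)) (Tr.leaf (nat_lit 0x115334323328762122))) (Tr.node (Tr.leaf (nat_lit 0x2586841782636221771)) (Tr.leaf (nat_lit 0x0)))) (Tr.node (Tr.node (Tr.leaf (nat_lit 0x4215878177122)) (Tr.leaf (nat_lit 0x1741523237621))) (Tr.node (Tr.leaf (nat_lit 0x6598634678187171)) (Tr.leaf (nat_lit 0x0))))))) (Tr.node (Tr.node (Tr.node (Tr.node (Tr.node (Tr.leaf (nat_lit 0x4571323267121)) (Tr.leaf (nat_lit 0x1845223178771))) (Tr.node (Tr.leaf (nat_lit 0x31354877173267122)) (Tr.leaf (nat_lit 0x0)))) (Tr.node (Tr.node (Tr.leaf (nat_lit 0x93421731771211)) (Tr.leaf (nat_lit 0x985134373363776771))) (Tr.node (Tr.leaf (nat_lit 0x5331341282128671221)) (Tr.leaf (nat_lit 0x0))))) (Tr.node (Tr.node (Tr.node (Tr.leaf (nat_lit 0x53343233281111)) (Tr.leaf (nat_lit 0x68452231782171211))) (Tr.node (Tr.leaf (nat_lit 0x31354877173262171)) (Tr.leaf (nat_lit 0x0)))) (Tr.node (Tr.node (Tr.leaf (nat_lit 0x484515211823212212)) (Tr.leaf (nat_lit 0x85622347882131))) (Tr.node (Tr.leaf (nat_lit 0x98513437336321)) (Tr.leaf (nat_lit 0x0)))))) (Tr.node (Tr.node (Tr.node (Tr.node (Tr.leaf (nat_lit 0x457115487787871771712)) (Tr.leaf (nat_lit 0x65334323328676221))) (Tr.node (Tr.leaf (nat_lit 0x582184132123762122)) (Tr.leaf (nat_lit 0x0)))) (Tr.node (Tr.node (Tr.leaf (nat_lit 0x6845223178771217)) (Tr.leaf (nat_lit 0x741523232))) (Tr.node (Tr.leaf (nat_lit 0x433426731771211)) (Tr.leaf (nat_lit 0x0))))) (Tr.node (Tr.node (Tr.node (Tr.leaf (nat_lit 0x845223178212217)) (Tr.leaf (nat_lit 0x913421737621221))) (Tr.node (Tr.leaf (nat_lit 0x43342673262262)) (Tr.leaf (nat_lit 0x0)))) (Tr.node (Tr.node (Tr.leaf (nat_lit 0x54358477326877621)) (Tr.leaf (nat_lit 0x0))) (Tr.node (Tr.leaf (nat_lit 0x4342173676226)) (Tr.leaf (nat_lit 0x0)))))))) (Tr.node (Tr.node (Tr.node (Tr.node (Tr.node (Tr.node (Tr.leaf (nat_lit 0x45713236221221)) (Tr.leaf (nat_lit 0x3973153362212))) (Tr.node (Tr.leaf (nat_lit 0x74152323767121)) (Tr.leaf (nat_lit 0x0)))) (Tr.node (Tr.node (Tr.leaf (nat_lit 0x874315336771221)) (Tr.leaf (nat_lit 0x98451521182367712))) (Tr.node (Tr.leaf (nat_lit 0x3456732123771711)) (Tr.leaf (nat_lit 0x0))))) (Tr.node (Tr.node (Tr.node (Tr.leaf (nat_lit 0x453415423187362212171)) (Tr.leaf (nat_lit 0x845223178771))) (Tr.node (Tr.leaf (nat_lit 0x481734213178226712)) (Tr.leaf (nat_lit 0x0)))) (Tr.node (Tr.node (Tr.leaf (nat_lit 0x543213487862862677)) (Tr.leaf (nat_lit 0x87431533766))) (Tr.node (Tr.leaf (nat_lit 0x26215477882122121)) (Tr.leaf (nat_lit 0x0)))))) (Tr.node (Tr.node (Tr.node (Tr.node (Tr.leaf (nat_lit 0x33453282232217711)) (Tr.leaf (nat_lit 0x334315128682676))) (Tr.node (Tr.leaf (nat_lit 0x39731533217711)) (Tr.leaf (nat_lit 0x0)))) (Tr.node (Tr.node (Tr.leaf (nat_lit 0x26215477882622621)) (Tr.leaf (nat_lit 0x75153286732622622))) (Tr.node (Tr.leaf (nat_lit 0x14342173771712)) (Tr.leaf (nat_lit 0x0))))) (Tr.node (Tr.node (Tr.node (Tr.leaf (nat_lit 0x14342173677621)) (Tr.leaf (nat_lit 0x778934682323217122))) (Tr.node (Tr.leaf (nat_lit 0x421587871217)) (Tr.leaf (nat_lit 0x0)))) (Tr.node (Tr.node (Tr.leaf (nat_lit 0x45953477318677677)) (Tr.leaf (nat_lit 0x31354877173776776))) (Tr.node (Tr.leaf (nat_lit 0x2885684282622121)) (Tr.leaf (nat_lit 0x0))))))) (Tr.node (Tr.node (Tr.node (Tr.node (Tr.node (Tr.leaf (nat_lit 0x4215878221712)) (Tr.leaf (nat_lit 0x413421731771211))) (Tr.node (Tr.leaf (nat_lit 0x288568428771211)) (Tr.leaf (nat_lit 0x0)))) (Tr.node (Tr.node (Tr.leaf (nat_lit 0x751532867312212)) (Tr.leaf (nat_lit 0x845845773623711))) (Tr.node (Tr.leaf (nat_lit 0x459534773181712)) (Tr.leaf (nat_lit 0x0))))) (Tr.node (Tr.node (Tr.node (Tr.leaf (nat_lit 0x2586841782632622626)) (Tr.leaf (nat_lit 0x5334323328666))) (Tr.node (Tr.leaf (nat_lit 0x3958457736237177121)) (Tr.leaf (nat_lit 0x0)))) (Tr.node (Tr.node (Tr.leaf (nat_lit 0x88521348286713171221)) (Tr.leaf (nat_lit 0x87431533177122))) (Tr.node (Tr.leaf (nat_lit 0x397315337762122)) (Tr.leaf (nat_lit 0x0)))))) (Tr.node (Tr.node (Tr.node (Tr.node (Tr.leaf (nat_lit 0x485134373363267762)) (Tr.leaf (nat_lit 0x1741523232671221))) (Tr.node (Tr.leaf (nat_lit 0x453415423187326267)) (Tr.leaf (nat_lit 0x0)))) (Tr.node (Tr.node (Tr.leaf (nat_lit 0x184522317822622)) (Tr.leaf (nat_lit 0x4121587871111))) (Tr.node (Tr.leaf (nat_lit 0x14342173677121)) (Tr.leaf (nat_lit 0x0))))) (Tr.node (Tr.node (Tr.node (Tr.leaf (nat_lit 0x43342673776712)) (Tr.leaf (nat_lit 0x53313412821287762))) (Tr.node (Tr.leaf (nat_lit 0x4342173226717)) (Tr.leaf (nat_lit 0x0)))) (Tr.node (Tr.node (Tr.leaf (nat_lit 0x26215477882217711)) (Tr.leaf (nat_lit 0x0))) (Tr.node (Tr.leaf (nat_lit 0x17415232371712)) (Tr.leaf (nat_lit 0x0)))))))))) (Tr.node (Tr.node (Tr.node (Tr.node (Tr.node (Tr.node (Tr.node (Tr.node (Tr.leaf (nat_lit 0x35671347178677626)) (Tr.leaf (nat_lit 0x533134128212821221211))) (Tr.node (Tr.leaf (nat_lit 0x856223478821367122)) (Tr.leaf (nat_lit 0x0)))) (Tr.node (Tr.node (Tr.leaf (nat_lit 0x115334323328671221)) (Tr.leaf (nat_lit 0x7636842213182177171))) (Tr.node (Tr.leaf (nat_lit 0x874315336717712)) (Tr.leaf (nat_lit 0x0))))) (Tr.node (Tr.node (Tr.node (Tr.leaf (nat_lit 0x45711548778782122122)) (Tr.leaf (nat_lit 0x45953477318221217))) (Tr.node (Tr.leaf (nat_lit 0x2885684281771712)) (Tr.leaf (nat_lit 0x0)))) (Tr.node (Tr.node (Tr.leaf (nat_lit 0x76368422131866226)) (Tr.leaf (nat_lit 0x77893468232312211))) (Tr.node (Tr.leaf (nat_lit 0x68452231782626)) (Tr.leaf (nat_lit 0x0)))))) (Tr.node (Tr.node (Tr.node (Tr.node (Tr.leaf (nat_lit 0x67122)) (Tr.leaf (nat_lit 0x763684221318226267))) (Tr.node (Tr.leaf (nat_lit 0x582184132123221771)) (Tr.leaf (nat_lit 0x0)))) (Tr.node (Tr.node (Tr.leaf (nat_lit 0x885213482867136712122)) (Tr.leaf (nat_lit 0x75925347878123622622121))) (Tr.node (Tr.leaf (nat_lit 0x11533432332811)) (Tr.leaf (nat_lit 0x0))))) (Tr.node (Tr.node (Tr.node (Tr.leaf (nat_lit 0x3567134717877626)) (Tr.leaf (nat_lit 0x54358477326822177))) (Tr.node (Tr.leaf (nat_lit 0x933426731217)) (Tr.leaf (nat_lit 0x0)))) (Tr.node (Tr.node (Tr.leaf (nat_lit 0x582184132123712122)) (Tr.leaf (nat_lit 0x98451521182377121))) (Tr.node (Tr.leaf (nat_lit 0x48173421317822121)) (Tr.leaf (nat_lit 0x0))))))) (Tr.node (Tr.node (Tr.node (Tr.node (Tr.node (Tr.leaf (nat_lit 0x345673212362217)) (Tr.leaf (nat_lit 0x48513437336322622121))) (Tr.node (Tr.leaf (nat_lit 0x4817342131782267121)) (Tr.leaf (nat_lit 0x0)))) (Tr.node (Tr.node (Tr.leaf (nat_lit 0x759253478781231221711)) (Tr.leaf (nat_lit 0x9342173262212))) (Tr.node (Tr.leaf (nat_lit 0x434217312171)) (Tr.leaf (nat_lit 0x0))))) (Tr.node (Tr.node (Tr.node (Tr.leaf (nat_lit 0x7675477882622621)) (Tr.leaf (nat_lit 0x95953477318212211))) (Tr.node (Tr.leaf (nat_lit 0x63456732123622171)) (Tr.leaf (nat_lit 0x0)))) (Tr.node (Tr.node (Tr.leaf (nat_lit 0x543213487862812177)) (Tr.leaf (nat_lit 0x53313412821282122121))) (Tr.node (Tr.leaf (nat_lit 0x134567321231217712)) (Tr.leaf (nat_lit 0x0)))))) (Tr.node (Tr.node (Tr.node (Tr.node (Tr.leaf (nat_lit 0x543213487862822621)) (Tr.leaf (nat_lit 0x433426736217))) (Tr.node (Tr.leaf (nat_lit 0x659863467818262217)) (Tr.leaf (nat_lit 0x0)))) (Tr.node (Tr.node (Tr.leaf (nat_lit 0x1741523236226267)) (Tr.leaf (nat_lit 0x77893468232376712))) (Tr.node (Tr.leaf (nat_lit 0x356713471787671212)) (Tr.leaf (nat_lit 0x0))))) (Tr.node (Tr.node (Tr.node (Tr.leaf (nat_lit 0x1434217367622)) (Tr.leaf (nat_lit 0x345673212326226))) (Tr.node (Tr.leaf (nat_lit 0x767547788221771)) (Tr.leaf (nat_lit 0x0)))) (Tr.node (Tr.node (Tr.leaf (nat_lit 0x582184132123226771)) (Tr.leaf (nat_lit 0x412158787177121))) (Tr.node (Tr.leaf (nat_lit 0x5331341282128776712)) (Tr.leaf (nat_lit 0x0)))))))) (Tr.node (Tr.node (Tr.node (Tr.node (Tr.node (Tr.node (Tr.leaf (nat_lit 0x13456732123767766)) (Tr.leaf (nat_lit 0x3345328223717717))) (Tr.node (Tr.leaf (nat_lit 0x767547788217111)) (Tr.leaf (nat_lit 0x0)))) (Tr.node (Tr.node (Tr.leaf (nat_lit 0x33453282237122111)) (Tr.leaf (nat_lit 0x262154778877621))) (Tr.node (Tr.leaf (nat_lit 0x7686342218137762212)) (Tr.leaf (nat_lit 0x0))))) (Tr.node (Tr.node (Tr.node (Tr.leaf (nat_lit 0x4634217326766)) (Tr.leaf (nat_lit 0x1845223178712212))) (Tr.node (Tr.leaf (nat_lit 0x8452231782621)) (Tr.leaf (nat_lit 0x0)))) (Tr.node (Tr.node (Tr.leaf (nat_lit 0x8852134828671321711)) (Tr.leaf (nat_lit 0x718634221813122122121))) (Tr.node (Tr.leaf (nat_lit 0x28856842862676)) (Tr.leaf (nat_lit 0x0)))))) (Tr.node (Tr.node (Tr.node (Tr.node (Tr.leaf (nat_lit 0x4121587876267)) (Tr.leaf (nat_lit 0x9845152118231))) (Tr.node (Tr.leaf (nat_lit 0x5331341282128767767)) (Tr.leaf (nat_lit 0x0)))) (Tr.node (Tr.node (Tr.leaf (nat_lit 0x751532867376771712)) (Tr.leaf (nat_lit 0x4817342131782262))) (Tr.node (Tr.leaf (nat_lit 0x5432134878628121771)) (Tr.leaf (nat_lit 0x0))))) (Tr.node (Tr.node (Tr.node (Tr.leaf (nat_lit 0x7515328673217711)) (Tr.leaf (nat_lit 0x48173421317812177))) (Tr.node (Tr.leaf (nat_lit 0x934217362171)) (Tr.leaf (nat_lit 0x0)))) (Tr.node (Tr.node (Tr.leaf (nat_lit 0x7515328673622121)) (Tr.leaf (nat_lit 0x3135487717322622621))) (Tr.node (Tr.leaf (nat_lit 0x93342673717717)) (Tr.leaf (nat_lit 0x0))))))) (Tr.node (Tr.node (Tr.node (Tr.node (Tr.node (Tr.leaf (nat_lit 0x93342673671221)) (Tr.leaf (nat_lit 0x25868417826362671))) (Tr.node (Tr.leaf (nat_lit 0x634567321232267122)) (Tr.leaf (nat_lit 0x0)))) (Tr.node (Tr.node (Tr.leaf (nat_lit 0x718634221813626)) (Tr.leaf (nat_lit 0x31354877173762217))) (Tr.node (Tr.leaf (nat_lit 0x759253478781236712)) (Tr.leaf (nat_lit 0x0))))) (Tr.node (Tr.node (Tr.node (Tr.leaf (nat_lit 0x741523236226267)) (Tr.leaf (nat_lit 0x463421732622626))) (Tr.node (Tr.leaf (nat_lit 0x2621547788262212)) (Tr.leaf (nat_lit 0x0)))) (Tr.node (Tr.node (Tr.leaf (nat_lit 0x34567321237677)) (Tr.leaf (nat_lit 0x53343233287762))) (Tr.node (Tr.leaf (nat_lit 0x76863422181362262262)) (Tr.leaf (nat_lit 0x0)))))) (Tr.node (Tr.node (Tr.node (Tr.node (Tr.leaf (nat_lit 0x677626)) (Tr.leaf (nat_lit 0x1345673212362267))) (Tr.node (Tr.leaf (nat_lit 0x481734213178622626)) (Tr.leaf (nat_lit 0x0)))) (Tr.node (Tr.node (Tr.leaf (nat_lit 0x395845773623676)) (Tr.leaf (nat_lit 0x3567134717811))) (Tr.node (Tr.leaf (nat_lit 0x54321348786287177121)) (Tr.leaf (nat_lit 0x0))))) (Tr.node (Tr.node (Tr.node (Tr.leaf (nat_lit 0x41342173717717)) (Tr.leaf (nat_lit 0x453415423187322122121))) (Tr.node (Tr.leaf (nat_lit 0x845223178267621)) (Tr.leaf (nat_lit 0x0)))) (Tr.node (Tr.node (Tr.leaf (nat_lit 0x174152323177171)) (Tr.leaf (nat_lit 0x0))) (Tr.node (Tr.leaf (nat_lit 0x9134217321221211)) (Tr.leaf (nat_lit 0x0))))))))) (Tr.node (Tr.node (Tr.node (Tr.node (Tr.node (Tr.node (Tr.node (Tr.leaf (nat_lit 0x741523237626)) (Tr.leaf (nat_lit 0x45713237622626))) (Tr.node (Tr.leaf (nat_lit 0x95953477318221)) (Tr.leaf (nat_lit 0x0)))) (Tr.node (Tr.node (Tr.leaf (nat_lit 0x457132322622)) (Tr.leaf (nat_lit 0x933426736267))) (Tr.node (Tr.leaf (nat_lit 0x315634331313622671)) (Tr.leaf (nat_lit 0x0))))) (Tr.node (Tr.node (Tr.node (Tr.leaf (nat_lit 0x5986346781826762)) (Tr.leaf (nat_lit 0x778934682323267762))) (Tr.node (Tr.leaf (nat_lit 0x3456732123267717)) (Tr.leaf (nat_lit 0x0)))) (Tr.node (Tr.node (Tr.leaf (nat_lit 0x75925347878123217717)) (Tr.leaf (nat_lit 0x634567321237762212))) (Tr.node (Tr.leaf (nat_lit 0x3345328223676221)) (Tr.leaf (nat_lit 0x0)))))) (Tr.node (Tr.node (Tr.node (Tr.node (Tr.leaf (nat_lit 0x13456732123717711)) (Tr.leaf (nat_lit 0x7186342218136267762))) (Tr.node (Tr.leaf (nat_lit 0x58218413212317717121)) (Tr.leaf (nat_lit 0x0)))) (Tr.node (Tr.node (Tr.leaf (nat_lit 0x63456732123717711)) (Tr.leaf (nat_lit 0x9595347731862217))) (Tr.node (Tr.leaf (nat_lit 0x14342173666)) (Tr.leaf (nat_lit 0x0))))) (Tr.node (Tr.node (Tr.node (Tr.leaf (nat_lit 0x421587822621)) (Tr.leaf (nat_lit 0x15334323328776712))) (Tr.node (Tr.leaf (nat_lit 0x45953477318226217)) (Tr.leaf (nat_lit 0x0)))) (Tr.node (Tr.node (Tr.leaf (nat_lit 0x48451521182317122)) (Tr.leaf (nat_lit 0x741523237677177))) (Tr.node (Tr.leaf (nat_lit 0x845845773623767122)) (Tr.leaf (nat_lit 0x0))))))) (Tr.node (Tr.node (Tr.node (Tr.node (Tr.node (Tr.leaf (nat_lit 0x67622)) (Tr.leaf (nat_lit 0x1153343233287717121))) (Tr.node (Tr.leaf (nat_lit 0x6533432332867767121)) (Tr.leaf (nat_lit 0x0)))) (Tr.node (Tr.node (Tr.leaf (nat_lit 0x4334267317717121)) (Tr.leaf (nat_lit 0x8852134828671371221))) (Tr.node (Tr.leaf (nat_lit 0x959534773182671771)) (Tr.leaf (nat_lit 0x0))))) (Tr.node (Tr.node (Tr.node (Tr.leaf (nat_lit 0x334532822367622)) (Tr.leaf (nat_lit 0x634567321236776771))) (Tr.node (Tr.leaf (nat_lit 0x39731533626776)) (Tr.leaf (nat_lit 0x0)))) (Tr.node (Tr.node (Tr.leaf (nat_lit 0x889315128687177171)) (Tr.leaf (nat_lit 0x87431533676))) (Tr.node (Tr.leaf (nat_lit 0x9851343733636626)) (Tr.leaf (nat_lit 0x0)))))) (Tr.node (Tr.node (Tr.node (Tr.node (Tr.leaf (nat_lit 0x4571323677)) (Tr.leaf (nat_lit 0x6598634678182626))) (Tr.node (Tr.leaf (nat_lit 0x115334323328262177)) (Tr.leaf (nat_lit 0x0)))) (Tr.node (Tr.node (Tr.leaf (nat_lit 0x4157132377)) (Tr.leaf (nat_lit 0x2621547788676226))) (Tr.node (Tr.leaf (nat_lit 0x288568428767767)) (Tr.leaf (nat_lit 0x0))))) (Tr.node (Tr.node (Tr.node (Tr.leaf (nat_lit 0x3345328223677121)) (Tr.leaf (nat_lit 0x3343151286877621))) (Tr.node (Tr.leaf (nat_lit 0x48513437336377177)) (Tr.leaf (nat_lit 0x0)))) (Tr.node (Tr.node (Tr.leaf (nat_lit 0x14342173717717)) (Tr.leaf (nat_lit 0x0))) (Tr.node (Tr.leaf (nat_lit 0x5432134878628767712)) (Tr.leaf (nat_lit 0x0)))))))) (Tr.node (Tr.node (Tr.node (Tr.node (Tr.node (Tr.node (Tr.leaf (nat_lit 0x845223178221221)) (Tr.leaf (nat_lit 0x8458457736232267621))) (Tr.node (Tr.leaf (nat_lit 0x3567134717871771711)) (Tr.leaf (nat_lit 0x0)))) (Tr.node (Tr.node (Tr.leaf (nat_lit 0x5821841321231771712)) (Tr.leaf (nat_lit 0x4571323212217))) (Tr.node (Tr.leaf (nat_lit 0x985134373363662)) (Tr.leaf (nat_lit 0x0))))) (Tr.node (Tr.node (Tr.node (Tr.leaf (nat_lit 0x412158782267621)) (Tr.leaf (nat_lit 0x31354877173211))) (Tr.node (Tr.leaf (nat_lit 0x543213487862826717)) (Tr.leaf (nat_lit 0x0)))) (Tr.node (Tr.node (Tr.leaf (nat_lit 0x453415423187326)) (Tr.leaf (nat_lit 0x4845152118237177171))) (Tr.node (Tr.leaf (nat_lit 0x87431533226762)) (Tr.leaf (nat_lit 0x0)))))) (Tr.node (Tr.node (Tr.node (Tr.node (Tr.leaf (nat_lit 0x3456732123767766)) (Tr.leaf (nat_lit 0x98513437336322676))) (Tr.node (Tr.leaf (nat_lit 0x889315128682671)) (Tr.leaf (nat_lit 0x0)))) (Tr.node (Tr.node (Tr.leaf (nat_lit 0x8852134828671322177)) (Tr.leaf (nat_lit 0x718634221813122171))) (Tr.node (Tr.leaf (nat_lit 0x1845223178177111)) (Tr.leaf (nat_lit 0x0))))) (Tr.node (Tr.node (Tr.node (Tr.leaf (nat_lit 0x46342173)) (Tr.leaf (nat_lit 0x415713232622676))) (Tr.node (Tr.leaf (nat_lit 0x15334323328666)) (Tr.leaf (nat_lit 0x0)))) (Tr.node (Tr.node (Tr.leaf (nat_lit 0x934217367122)) (Tr.leaf (nat_lit 0x41571323212217))) (Tr.node (Tr.leaf (nat_lit 0x93342673766622)) (Tr.leaf (nat_lit 0x0))))))) (Tr.node (Tr.node (Tr.node (Tr.node (Tr.node (Tr.leaf (nat_lit 0x76221)) (Tr.leaf (nat_lit 0x481453481232866))) (Tr.node (Tr.leaf (nat_lit 0x15334323328717717)) (Tr.leaf (nat_lit 0x0)))) (Tr.node (Tr.node (Tr.leaf (nat_lit 0x43342673712122)) (Tr.leaf (nat_lit 0x258684178263771712))) (Tr.node (Tr.leaf (nat_lit 0x913421736267)) (Tr.leaf (nat_lit 0x0))))) (Tr.node (Tr.node (Tr.node (Tr.leaf (nat_lit 0x33453282237767121)) (Tr.leaf (nat_lit 0x5435847732682676))) (Tr.node (Tr.leaf (nat_lit 0x874315337111)) (Tr.leaf (nat_lit 0x0)))) (Tr.node (Tr.node (Tr.leaf (nat_lit 0x759253478781232212171)) (Tr.leaf (nat_lit 0x778934682323712111))) (Tr.node (Tr.leaf (nat_lit 0x984515211823111)) (Tr.leaf (nat_lit 0x0)))))) (Tr.node (Tr.node (Tr.node (Tr.node (Tr.leaf (nat_lit 0x9845152118232171)) (Tr.leaf (nat_lit 0x174152323776776))) (Tr.node (Tr.leaf (nat_lit 0x741523232217)) (Tr.leaf (nat_lit 0x0)))) (Tr.node (Tr.node (Tr.leaf (nat_lit 0x14342173226771)) (Tr.leaf (nat_lit 0x8852134828671317712))) (Tr.node (Tr.leaf (nat_lit 0x453415423187367767)) (Tr.leaf (nat_lit 0x0))))) (Tr.node (Tr.node (Tr.node (Tr.leaf (nat_lit 0x751532867371)) (Tr.leaf (nat_lit 0x143421737762))) (Tr.node (Tr.leaf (nat_lit 0x763684221318267177)) (Tr.leaf (nat_lit 0x0)))) (Tr.node (Tr.node (Tr.leaf (nat_lit 0x48451521182317717121)) (Tr.leaf (nat_lit 0x0))) (Tr.node (Tr.leaf (nat_lit 0x533432332817122)) (Tr.leaf (nat_lit 0x0))))))))))) (Tr.node (Tr.node (Tr.node (Tr.node (Tr.node (Tr.node (Tr.node (Tr.node (Tr.node (Tr.leaf (nat_lit 0x41571323776)) (Tr.leaf (nat_lit 0x31354877173671771))) (Tr.node (Tr.leaf (nat_lit 0x115334323328766622)) (Tr.leaf (nat_lit 0x0)))) (Tr.node (Tr.node (Tr.leaf (nat_lit 0x41215878762676)) (Tr.leaf (nat_lit 0x153343233282676))) (Tr.node (Tr.leaf (nat_lit 0x845223178212)) (Tr.leaf (nat_lit 0x0))))) (Tr.node (Tr.node (Tr.node (Tr.leaf (nat_lit 0x885213482867132622621)) (Tr.leaf (nat_lit 0x481734213178121771))) (Tr.node (Tr.leaf (nat_lit 0x76863422181376776)) (Tr.leaf (nat_lit 0x0)))) (Tr.node (Tr.node (Tr.leaf (nat_lit 0x84584577362322121)) (Tr.leaf (nat_lit 0x3135487717322171))) (Tr.node (Tr.leaf (nat_lit 0x463421732676)) (Tr.leaf (nat_lit 0x0)))))) (Tr.node (Tr.node (Tr.node (Tr.node (Tr.leaf (nat_lit 0x718634221813267767)) (Tr.leaf (nat_lit 0x5821841321236267))) (Tr.node (Tr.leaf (nat_lit 0x1153343233281111)) (Tr.leaf (nat_lit 0x0)))) (Tr.node (Tr.node (Tr.leaf (nat_lit 0x9342173622177)) (Tr.leaf (nat_lit 0x28856842822177))) (Tr.node (Tr.leaf (nat_lit 0x7636842213186622)) (Tr.leaf (nat_lit 0x0))))) (Tr.node (Tr.node (Tr.node (Tr.leaf (nat_lit 0x2586841782637717121)) (Tr.leaf (nat_lit 0x7186342218132212171))) (Tr.node (Tr.leaf (nat_lit 0x874315337121711)) (Tr.leaf (nat_lit 0x0)))) (Tr.node (Tr.node (Tr.leaf (nat_lit 0x481453481232826766)) (Tr.leaf (nat_lit 0x4814534812328712211))) (Tr.node (Tr.leaf (nat_lit 0x634567321231712)) (Tr.leaf (nat_lit 0x0))))))) (Tr.node (Tr.node (Tr.node (Tr.node (Tr.node (Tr.leaf (nat_lit 0x776662)) (Tr.leaf (nat_lit 0x959534773182677671))) (Tr.node (Tr.leaf (nat_lit 0x463421731)) (Tr.leaf (nat_lit 0x0)))) (Tr.node (Tr.node (Tr.leaf (nat_lit 0x9342173767717)) (Tr.leaf (nat_lit 0x7415232376712))) (Tr.node (Tr.leaf (nat_lit 0x4571323712212)) (Tr.leaf (nat_lit 0x0))))) (Tr.node (Tr.node (Tr.node (Tr.leaf (nat_lit 0x4121587821771)) (Tr.leaf (nat_lit 0x356713471786))) (Tr.node (Tr.leaf (nat_lit 0x9595347731867621)) (Tr.leaf (nat_lit 0x0)))) (Tr.node (Tr.node (Tr.leaf (nat_lit 0x13456732123621)) (Tr.leaf (nat_lit 0x15334323328262177))) (Tr.node (Tr.leaf (nat_lit 0x4851343733631771711)) (Tr.leaf (nat_lit 0x0)))))) (Tr.node (Tr.node (Tr.node (Tr.node (Tr.leaf (nat_lit 0x985134373363671771)) (Tr.leaf (nat_lit 0x4814534812328776662))) (Tr.node (Tr.leaf (nat_lit 0x2885684287677671)) (Tr.leaf (nat_lit 0x0)))) (Tr.node (Tr.node (Tr.leaf (nat_lit 0x15334323328212212)) (Tr.leaf (nat_lit 0x76863422181362267))) (Tr.node (Tr.leaf (nat_lit 0x9342173712211)) (Tr.leaf (nat_lit 0x0))))) (Tr.node (Tr.node (Tr.node (Tr.leaf (nat_lit 0x463421731771712)) (Tr.leaf (nat_lit 0x93342673771211))) (Tr.node (Tr.leaf (nat_lit 0x598634678186776)) (Tr.leaf (nat_lit 0x0)))) (Tr.node (Tr.node (Tr.leaf (nat_lit 0x46342173226771)) (Tr.leaf (nat_lit 0x4121587871))) (Tr.node (Tr.leaf (nat_lit 0x3156343313136217712)) (Tr.leaf (nat_lit 0x0)))))))) (Tr.node (Tr.node (Tr.node (Tr.node (Tr.node (Tr.node (Tr.leaf (nat_lit 0x42158782217121)) (Tr.leaf (nat_lit 0x34567321237762212))) (Tr.node (Tr.leaf (nat_lit 0x77893468232362262171)) (Tr.leaf (nat_lit 0x0)))) (Tr.node (Tr.node (Tr.leaf (nat_lit 0x334315128681771211)) (Tr.leaf (nat_lit 0x53343233282676))) (Tr.node (Tr.leaf (nat_lit 0x9595347731822)) (Tr.leaf (nat_lit 0x0))))) (Tr.node (Tr.node (Tr.node (Tr.leaf (nat_lit 0x68452231782671712)) (Tr.leaf (nat_lit 0x2885684287762))) (Tr.node (Tr.leaf (nat_lit 0x288568428217111)) (Tr.leaf (nat_lit 0x0)))) (Tr.node (Tr.node (Tr.leaf (nat_lit 0x258684178263121711)) (Tr.leaf (nat_lit 0x5435847732686771712))) (Tr.node (Tr.leaf (nat_lit 0x313548771736626)) (Tr.leaf (nat_lit 0x0)))))) (Tr.node (Tr.node (Tr.node (Tr.node (Tr.leaf (nat_lit 0x1845223178771217)) (Tr.leaf (nat_lit 0x7186342218137762212))) (Tr.node (Tr.leaf (nat_lit 0x65334323328217111)) (Tr.leaf (nat_lit 0x0)))) (Tr.node (Tr.node (Tr.leaf (nat_lit 0x9595347731862)) (Tr.leaf (nat_lit 0x7675477882171))) (Tr.node (Tr.leaf (nat_lit 0x45953477318771711)) (Tr.leaf (nat_lit 0x0))))) (Tr.node (Tr.node (Tr.node (Tr.leaf (nat_lit 0x39584577362376217)) (Tr.leaf (nat_lit 0x17415232322622121))) (Tr.node (Tr.leaf (nat_lit 0x43421737122111)) (Tr.leaf (nat_lit 0x0)))) (Tr.node (Tr.node (Tr.leaf (nat_lit 0x9595347731877671)) (Tr.leaf (nat_lit 0x413421736))) (Tr.node (Tr.leaf (nat_lit 0x13456732123622171)) (Tr.leaf (nat_lit 0x0))))))) (Tr.node (Tr.node (Tr.node (Tr.node (Tr.node (Tr.leaf (nat_lit 0x1345673212377671)) (Tr.leaf (nat_lit 0x48173421317871771712))) (Tr.node (Tr.leaf (nat_lit 0x481453481232867622)) (Tr.leaf (nat_lit 0x0)))) (Tr.node (Tr.node (Tr.leaf (nat_lit 0x741523232177121)) (Tr.leaf (nat_lit 0x6533432332817712))) (Tr.node (Tr.leaf (nat_lit 0x8743153371111)) (Tr.leaf (nat_lit 0x0))))) (Tr.node (Tr.node (Tr.node (Tr.leaf (nat_lit 0x42158782262)) (Tr.leaf (nat_lit 0x5331341282128212212))) (Tr.node (Tr.leaf (nat_lit 0x313548771737767766)) (Tr.leaf (nat_lit 0x0)))) (Tr.node (Tr.node (Tr.leaf (nat_lit 0x45713237712171)) (Tr.leaf (nat_lit 0x653343233286771712))) (Tr.node (Tr.leaf (nat_lit 0x65334323328776662)) (Tr.leaf (nat_lit 0x0)))))) (Tr.node (Tr.node (Tr.node (Tr.node (Tr.leaf (nat_lit 0x415713236212)) (Tr.leaf (nat_lit 0x5334323328712122))) (Tr.node (Tr.leaf (nat_lit 0x4571323221221)) (Tr.leaf (nat_lit 0x0)))) (Tr.node (Tr.node (Tr.leaf (nat_lit 0x41571323776267)) (Tr.leaf (nat_lit 0x459534773182267122))) (Tr.node (Tr.leaf (nat_lit 0x4342173177121)) (Tr.leaf (nat_lit 0x0))))) (Tr.node (Tr.node (Tr.node (Tr.leaf (nat_lit 0x143421732217711)) (Tr.leaf (nat_lit 0x13456732123212211))) (Tr.node (Tr.leaf (nat_lit 0x485134373363671771)) (Tr.leaf (nat_lit 0x0)))) (Tr.node (Tr.node (Tr.leaf (nat_lit 0x31563433131317121)) (Tr.leaf (nat_lit 0x0))) (Tr.node (Tr.leaf (nat_lit 0x88931512868121711)) (Tr.leaf (nat_lit 0x0))))))))) (Tr.node (Tr.node (Tr.node (Tr.node (Tr.node (Tr.node (Tr.node (Tr.leaf (nat_lit 0x45713232622171)) (Tr.leaf (nat_lit 0x759253478781236776776))) (Tr.node (Tr.leaf (nat_lit 0x463421737671212)) (Tr.leaf (nat_lit 0x0)))) (Tr.node (Tr.node (Tr.leaf (nat_lit 0x39731533771221)) (Tr.leaf (nat_lit 0x984515211823262262))) (Tr.node (Tr.leaf (nat_lit 0x582184132123771211)) (Tr.leaf (nat_lit 0x0))))) (Tr.node (Tr.node (Tr.node (Tr.leaf (nat_lit 0x4121587876217)) (Tr.leaf (nat_lit 0x41215878766))) (Tr.node (Tr.leaf (nat_lit 0x6845223178712212)) (Tr.leaf (nat_lit 0x0)))) (Tr.node (Tr.node (Tr.leaf (nat_lit 0x9845152118231217)) (Tr.leaf (nat_lit 0x6598634678187766))) (Tr.node (Tr.leaf (nat_lit 0x74152323671212)) (Tr.leaf (nat_lit 0x0)))))) (Tr.node (Tr.node (Tr.node (Tr.node (Tr.leaf (nat_lit 0x43342673622177)) (Tr.leaf (nat_lit 0x31563433131326226))) (Tr.node (Tr.leaf (nat_lit 0x598634678187171)) (Tr.leaf (nat_lit 0x0)))) (Tr.node (Tr.node (Tr.leaf (nat_lit 0x985134373363671212)) (Tr.leaf (nat_lit 0x26215477882171))) (Tr.node (Tr.leaf (nat_lit 0x463421737712)) (Tr.leaf (nat_lit 0x0))))) (Tr.node (Tr.node (Tr.node (Tr.leaf (nat_lit 0x43421737621221)) (Tr.leaf (nat_lit 0x48173421317862177))) (Tr.node (Tr.leaf (nat_lit 0x34567321232267622)) (Tr.leaf (nat_lit 0x0)))) (Tr.node (Tr.node (Tr.leaf (nat_lit 0x433426731771712)) (Tr.leaf (nat_lit 0x3567134717812171))) (Tr.node (Tr.leaf (nat_lit 0x767547788622177)) (Tr.leaf (nat_lit 0x0))))))) (Tr.node (Tr.node (Tr.node (Tr.node (Tr.node (Tr.leaf (nat_lit 0x45953477318622622121)) (Tr.leaf (nat_lit 0x885213482867137717121))) (Tr.node (Tr.leaf (nat_lit 0x48145348123281771211)) (Tr.leaf (nat_lit 0x0)))) (Tr.node (Tr.node (Tr.leaf (nat_lit 0x71863422181367121)) (Tr.leaf (nat_lit 0x7592534787812367626))) (Tr.node (Tr.leaf (nat_lit 0x54358477326866)) (Tr.leaf (nat_lit 0x0))))) (Tr.node (Tr.node (Tr.node (Tr.leaf (nat_lit 0x543584773268762122)) (Tr.leaf (nat_lit 0x889315128686217))) (Tr.node (Tr.leaf (nat_lit 0x433426732622626)) (Tr.leaf (nat_lit 0x0)))) (Tr.node (Tr.node (Tr.leaf (nat_lit 0x1741523237622171)) (Tr.leaf (nat_lit 0x845223178762177))) (Tr.node (Tr.leaf (nat_lit 0x8743153367)) (Tr.leaf (nat_lit 0x0)))))) (Tr.node (Tr.node (Tr.node (Tr.node (Tr.leaf (nat_lit 0x933426731771712)) (Tr.leaf (nat_lit 0x39731533226762))) (Tr.node (Tr.leaf (nat_lit 0x45953477318767766)) (Tr.leaf (nat_lit 0x0)))) (Tr.node (Tr.node (Tr.leaf (nat_lit 0x3958457736232177111)) (Tr.leaf (nat_lit 0x345673212312))) (Tr.node (Tr.leaf (nat_lit 0x33453282237717121)) (Tr.leaf (nat_lit 0x0))))) (Tr.node (Tr.node (Tr.node (Tr.leaf (nat_lit 0x9134217367122)) (Tr.leaf (nat_lit 0x533432332826766))) (Tr.node (Tr.leaf (nat_lit 0x959534773186217712)) (Tr.leaf (nat_lit 0x0)))) (Tr.node (Tr.node (Tr.leaf (nat_lit 0x28856842822677)) (Tr.leaf (nat_lit 0x0))) (Tr.node (Tr.leaf (nat_lit 0x41342173262212)) (Tr.leaf (nat_lit 0x0)))))))) (Tr.node (Tr.node (Tr.node (Tr.node (Tr.node (Tr.node (Tr.leaf (nat_lit 0x412158782267121)) (Tr.leaf (nat_lit 0x481734213178267766))) (Tr.node (Tr.leaf (nat_lit 0x134567321232671771)) (Tr.leaf (nat_lit 0x0)))) (Tr.node (Tr.node (Tr.leaf (nat_lit 0x9134217322177)) (Tr.leaf (nat_lit 0x8452231782626))) (Tr.node (Tr.leaf (nat_lit 0x48173421317876)) (Tr.leaf (nat_lit 0x0))))) (Tr.node (Tr.node (Tr.node (Tr.leaf (nat_lit 0x48173421317877622)) (Tr.leaf (nat_lit 0x9845152118236712122))) (Tr.node (Tr.leaf (nat_lit 0x598634678182171211)) (Tr.leaf (nat_lit 0x0)))) (Tr.node (Tr.node (Tr.leaf (nat_lit 0x845845773623217711)) (Tr.leaf (nat_lit 0x258684178263226771))) (Tr.node (Tr.leaf (nat_lit 0x768634221813767766)) (Tr.leaf (nat_lit 0x0)))))) (Tr.node (Tr.node (Tr.node (Tr.node (Tr.leaf (nat_lit 0x7186342218131211)) (Tr.leaf (nat_lit 0x4845152118232122121))) (Tr.node (Tr.leaf (nat_lit 0x45953477318217717)) (Tr.leaf (nat_lit 0x0)))) (Tr.node (Tr.node (Tr.leaf (nat_lit 0x42158787111)) (Tr.leaf (nat_lit 0x9334267371221))) (Tr.node (Tr.leaf (nat_lit 0x1345673212362)) (Tr.leaf (nat_lit 0x0))))) (Tr.node (Tr.node (Tr.node (Tr.leaf (nat_lit 0x397315337177121)) (Tr.leaf (nat_lit 0x433426736))) (Tr.node (Tr.leaf (nat_lit 0x653343233281111)) (Tr.leaf (nat_lit 0x0)))) (Tr.node (Tr.node (Tr.leaf (nat_lit 0x457115487787876712122)) (Tr.leaf (nat_lit 0x2622621))) (Tr.node (Tr.leaf (nat_lit 0x3156343313132622)) (Tr.leaf (nat_lit 0x0))))))) (Tr.node (Tr.node (Tr.node (Tr.node (Tr.node (Tr.leaf (nat_lit 0x77121)) (Tr.leaf (nat_lit 0x71863422181367626))) (Tr.node (Tr.leaf (nat_lit 0x88931512868262212)) (Tr.leaf (nat_lit 0x0)))) (Tr.node (Tr.node (Tr.leaf (nat_lit 0x8562234788213771712)) (Tr.leaf (nat_lit 0x7675477886221771))) (Tr.node (Tr.leaf (nat_lit 0x533134128212871221)) (Tr.leaf (nat_lit 0x0))))) (Tr.node (Tr.node (Tr.node (Tr.leaf (nat_lit 0x485134373363177171)) (Tr.leaf (nat_lit 0x45711548778787677121))) (Tr.node (Tr.leaf (nat_lit 0x763684221318267767)) (Tr.leaf (nat_lit 0x0)))) (Tr.node (Tr.node (Tr.leaf (nat_lit 0x3958457736232217121)) (Tr.leaf (nat_lit 0x5821841321237677671))) (Tr.node (Tr.leaf (nat_lit 0x6598634678182622171)) (Tr.leaf (nat_lit 0x0)))))) (Tr.node (Tr.node (Tr.node (Tr.node (Tr.leaf (nat_lit 0x413421737671212)) (Tr.leaf (nat_lit 0x484515211823))) (Tr.node (Tr.leaf (nat_lit 0x87431533776221)) (Tr.leaf (nat_lit 0x0)))) (Tr.node (Tr.node (Tr.leaf (nat_lit 0x653343233281771211)) (Tr.leaf (nat_lit 0x598634678187762671))) (Tr.node (Tr.leaf (nat_lit 0x768634221813121)) (Tr.leaf (nat_lit 0x0))))) (Tr.node (Tr.node (Tr.node (Tr.leaf (nat_lit 0x845223178262)) (Tr.leaf (nat_lit 0x15334323328226717))) (Tr.node (Tr.leaf (nat_lit 0x7415232326217)) (Tr.leaf (nat_lit 0x0)))) (Tr.node (Tr.node (Tr.leaf (nat_lit 0x153343233286267)) (Tr.leaf (nat_lit 0x0))) (Tr.node (Tr.leaf (nat_lit 0x28856842871221)) (Tr.leaf (nat_lit 0x0)))))))))) (Tr.node (Tr.node (Tr.node (Tr.node (Tr.node (Tr.node (Tr.node (Tr.node (Tr.leaf (nat_lit 0x4215878121771)) (Tr.leaf (nat_lit 0x4595347731867621))) (Tr.node (Tr.leaf (nat_lit 0x75925347878123622171)) (Tr.leaf (nat_lit 0x0)))) (Tr.node (Tr.node (Tr.leaf (nat_lit 0x39731533226712)) (Tr.leaf (nat_lit 0x9845152118231771712))) (Tr.node (Tr.leaf (nat_lit 0x115334323328622177)) (Tr.leaf (nat_lit 0x0))))) (Tr.node (Tr.node (Tr.node (Tr.leaf (nat_lit 0x33431512868262212)) (Tr.leaf (nat_lit 0x4845152118237677171))) (Tr.node (Tr.leaf (nat_lit 0x25868417826311)) (Tr.leaf (nat_lit 0x0)))) (Tr.node (Tr.node (Tr.leaf (nat_lit 0x463421731771211)) (Tr.leaf (nat_lit 0x313548771732262262))) (Tr.node (Tr.leaf (nat_lit 0x35671347178712122)) (Tr.leaf (nat_lit 0x0)))))) (Tr.node (Tr.node (Tr.node (Tr.node (Tr.leaf (nat_lit 0x7122111)) (Tr.leaf (nat_lit 0x582184132123))) (Tr.node (Tr.leaf (nat_lit 0x6845223178177)) (Tr.leaf (nat_lit 0x0)))) (Tr.node (Tr.node (Tr.leaf (nat_lit 0x59863467818267121)) (Tr.leaf (nat_lit 0x7789346823232212212))) (Tr.node (Tr.leaf (nat_lit 0x533134128212821711)) (Tr.leaf (nat_lit 0x0))))) (Tr.node (Tr.node (Tr.node (Tr.leaf (nat_lit 0x8893151286821221211)) (Tr.leaf (nat_lit 0x48173421317862677))) (Tr.node (Tr.leaf (nat_lit 0x889315128687121221)) (Tr.leaf (nat_lit 0x0)))) (Tr.node (Tr.node (Tr.leaf (nat_lit 0x43342673771712)) (Tr.leaf (nat_lit 0x8458457736236771221))) (Tr.node (Tr.leaf (nat_lit 0x5334323328671221)) (Tr.leaf (nat_lit 0x0))))))) (Tr.node (Tr.node (Tr.node (Tr.node (Tr.node (Tr.leaf (nat_lit 0x1345673212376771)) (Tr.leaf (nat_lit 0x459534773186712))) (Tr.node (Tr.leaf (nat_lit 0x4571323762677)) (Tr.leaf (nat_lit 0x0)))) (Tr.node (Tr.node (Tr.leaf (nat_lit 0x751532867367)) (Tr.leaf (nat_lit 0x76754778877626))) (Tr.node (Tr.leaf (nat_lit 0x76754778862676)) (Tr.leaf (nat_lit 0x0))))) (Tr.node (Tr.node (Tr.node (Tr.leaf (nat_lit 0x8458457736237111)) (Tr.leaf (nat_lit 0x91342173221771))) (Tr.node (Tr.leaf (nat_lit 0x7789346823232622177)) (Tr.leaf (nat_lit 0x0)))) (Tr.node (Tr.node (Tr.leaf (nat_lit 0x48451521182367762)) (Tr.leaf (nat_lit 0x1153343233282622121))) (Tr.node (Tr.leaf (nat_lit 0x18452231781771)) (Tr.leaf (nat_lit 0x0)))))) (Tr.node (Tr.node (Tr.node (Tr.node (Tr.leaf (nat_lit 0x459534773187762212)) (Tr.leaf (nat_lit 0x1845223178226221))) (Tr.node (Tr.leaf (nat_lit 0x543584773268666)) (Tr.leaf (nat_lit 0x0)))) (Tr.node (Tr.node (Tr.leaf (nat_lit 0x533134128212867622)) (Tr.leaf (nat_lit 0x98513437336362212171))) (Tr.node (Tr.leaf (nat_lit 0x88521348286713226771)) (Tr.leaf (nat_lit 0x0))))) (Tr.node (Tr.node (Tr.node (Tr.leaf (nat_lit 0x8562234788213262262)) (Tr.leaf (nat_lit 0x68452231787767717121))) (Tr.node (Tr.leaf (nat_lit 0x582184132123121711)) (Tr.leaf (nat_lit 0x0)))) (Tr.node (Tr.node (Tr.leaf (nat_lit 0x7415232322171)) (Tr.leaf (nat_lit 0x41215878767712))) (Tr.node (Tr.leaf (nat_lit 0x2885684287717121)) (Tr.leaf (nat_lit 0x0)))))))) (Tr.node (Tr.node (Tr.node (Tr.node (Tr.node (Tr.node (Tr.leaf (nat_lit 0x4215878226712)) (Tr.leaf (nat_lit 0x88521348286713767767))) (Tr.node (Tr.leaf (nat_lit 0x778934682323267122)) (Tr.leaf (nat_lit 0x0)))) (Tr.node (Tr.node (Tr.leaf (nat_lit 0x313548771732111)) (Tr.leaf (nat_lit 0x76368422131821221))) (Tr.node (Tr.leaf (nat_lit 0x43342673677121)) (Tr.leaf (nat_lit 0x0))))) (Tr.node (Tr.node (Tr.node (Tr.leaf (nat_lit 0x1845223178712177)) (Tr.leaf (nat_lit 0x1153343233287671212))) (Tr.node (Tr.leaf (nat_lit 0x5821841321232622621)) (Tr.leaf (nat_lit 0x0)))) (Tr.node (Tr.node (Tr.leaf (nat_lit 0x7636842213181221711)) (Tr.leaf (nat_lit 0x8452231787762676))) (Tr.node (Tr.leaf (nat_lit 0x763684221318221111)) (Tr.leaf (nat_lit 0x0)))))) (Tr.node (Tr.node (Tr.node (Tr.node (Tr.leaf (nat_lit 0x95953477318717711)) (Tr.leaf (nat_lit 0x31563433131367626))) (Tr.node (Tr.leaf (nat_lit 0x741523232677121)) (Tr.leaf (nat_lit 0x0)))) (Tr.node (Tr.node (Tr.leaf (nat_lit 0x334532822366)) (Tr.leaf (nat_lit 0x15334323328171221))) (Tr.node (Tr.leaf (nat_lit 0x4595347731867121)) (Tr.leaf (nat_lit 0x0))))) (Tr.node (Tr.node (Tr.node (Tr.leaf (nat_lit 0x34567321232677671)) (Tr.leaf (nat_lit 0x543584773268111))) (Tr.node (Tr.leaf (nat_lit 0x4334267371221)) (Tr.leaf (nat_lit 0x0)))) (Tr.node (Tr.node (Tr.leaf (nat_lit 0x543213487862822121)) (Tr.leaf (nat_lit 0x1533432332826766))) (Tr.node (Tr.leaf (nat_lit 0x751532867362177)) (Tr.leaf (nat_lit 0x0))))))) (Tr.node (Tr.node (Tr.node (Tr.node (Tr.node (Tr.leaf (nat_lit 0x9134217367622)) (Tr.leaf (nat_lit 0x759253478781237177111))) (Tr.node (Tr.leaf (nat_lit 0x3343151286867622)) (Tr.leaf (nat_lit 0x0)))) (Tr.node (Tr.node (Tr.leaf (nat_lit 0x959534773187717)) (Tr.leaf (nat_lit 0x88931512868226717))) (Tr.node (Tr.leaf (nat_lit 0x4571154877878121771)) (Tr.leaf (nat_lit 0x0))))) (Tr.node (Tr.node (Tr.node (Tr.leaf (nat_lit 0x8893151286826766)) (Tr.leaf (nat_lit 0x459534773182622))) (Tr.node (Tr.leaf (nat_lit 0x3345328223221771)) (Tr.leaf (nat_lit 0x0)))) (Tr.node (Tr.node (Tr.leaf (nat_lit 0x433426736221771)) (Tr.leaf (nat_lit 0x39584577362322621))) (Tr.node (Tr.leaf (nat_lit 0x533432332817712)) (Tr.leaf (nat_lit 0x0)))))) (Tr.node (Tr.node (Tr.node (Tr.node (Tr.leaf (nat_lit 0x9595347731817121)) (Tr.leaf (nat_lit 0x5432134878628622621))) (Tr.node (Tr.leaf (nat_lit 0x13456732123622622121)) (Tr.leaf (nat_lit 0x0)))) (Tr.node (Tr.node (Tr.leaf (nat_lit 0x395845773623767762)) (Tr.leaf (nat_lit 0x39584577362367))) (Tr.node (Tr.leaf (nat_lit 0x39584577362371217)) (Tr.leaf (nat_lit 0x0))))) (Tr.node (Tr.node (Tr.node (Tr.leaf (nat_lit 0x8562234788213762122)) (Tr.leaf (nat_lit 0x1217))) (Tr.node (Tr.leaf (nat_lit 0x3135487717312211)) (Tr.leaf (nat_lit 0x0)))) (Tr.node (Tr.node (Tr.leaf (nat_lit 0x14342173776712)) (Tr.leaf (nat_lit 0x0))) (Tr.node (Tr.leaf (nat_lit 0x8452231786712212)) (Tr.leaf (nat_lit 0x0))))))))) (Tr.node (Tr.node (Tr.node (Tr.node (Tr.node (Tr.node (Tr.node (Tr.leaf (nat_lit 0x4215878767717121)) (Tr.leaf (nat_lit 0x93421736267))) (Tr.node (Tr.leaf (nat_lit 0x4814534812328111)) (Tr.leaf (nat_lit 0x0)))) (Tr.node (Tr.node (Tr.leaf (nat_lit 0x143421737717121)) (Tr.leaf (nat_lit 0x7675477887177171))) (Tr.node (Tr.leaf (nat_lit 0x28856842862671)) (Tr.leaf (nat_lit 0x0))))) (Tr.node (Tr.node (Tr.node (Tr.leaf (nat_lit 0x415713236771)) (Tr.leaf (nat_lit 0x463421737122))) (Tr.node (Tr.leaf (nat_lit 0x76863422181312)) (Tr.leaf (nat_lit 0x0)))) (Tr.node (Tr.node (Tr.leaf (nat_lit 0x457115487787871)) (Tr.leaf (nat_lit 0x4595347731821221))) (Tr.node (Tr.leaf (nat_lit 0x6598634678182121)) (Tr.leaf (nat_lit 0x0)))))) (Tr.node (Tr.node (Tr.node (Tr.node (Tr.leaf (nat_lit 0x421587877677171)) (Tr.leaf (nat_lit 0x1153343233287677171))) (Tr.node (Tr.leaf (nat_lit 0x481734213178267171)) (Tr.leaf (nat_lit 0x0)))) (Tr.node (Tr.node (Tr.leaf (nat_lit 0x18452231786712212)) (Tr.leaf (nat_lit 0x115334323328767717))) (Tr.node (Tr.leaf (nat_lit 0x4571154877878766)) (Tr.leaf (nat_lit 0x0))))) (Tr.node (Tr.node (Tr.node (Tr.leaf (nat_lit 0x4595347731871771)) (Tr.leaf (nat_lit 0x288568428712211))) (Tr.node (Tr.leaf (nat_lit 0x718634221813226267)) (Tr.leaf (nat_lit 0x0)))) (Tr.node (Tr.node (Tr.leaf (nat_lit 0x74152323217712)) (Tr.leaf (nat_lit 0x18452231787622626))) (Tr.node (Tr.leaf (nat_lit 0x334532822322677)) (Tr.leaf (nat_lit 0x0))))))) (Tr.node (Tr.node (Tr.node (Tr.node (Tr.node (Tr.leaf (nat_lit 0x59863467818622622)) (Tr.leaf (nat_lit 0x88931512868717717))) (Tr.node (Tr.leaf (nat_lit 0x4814534812328776712)) (Tr.leaf (nat_lit 0x0)))) (Tr.node (Tr.node (Tr.leaf (nat_lit 0x1741523232171221)) (Tr.leaf (nat_lit 0x53313412821282671))) (Tr.node (Tr.leaf (nat_lit 0x48145348123287122)) (Tr.leaf (nat_lit 0x0))))) (Tr.node (Tr.node (Tr.node (Tr.leaf (nat_lit 0x4215878676)) (Tr.leaf (nat_lit 0x634567321232212171))) (Tr.node (Tr.leaf (nat_lit 0x95953477318622622121)) (Tr.leaf (nat_lit 0x0)))) (Tr.node (Tr.node (Tr.leaf (nat_lit 0x4534154231873776771)) (Tr.leaf (nat_lit 0x11533432332817712))) (Tr.node (Tr.leaf (nat_lit 0x457115487787817)) (Tr.leaf (nat_lit 0x0)))))) (Tr.node (Tr.node (Tr.node (Tr.node (Tr.leaf (nat_lit 0x42158782622122)) (Tr.leaf (nat_lit 0x76863422181377171))) (Tr.node (Tr.leaf (nat_lit 0x74152323677671)) (Tr.leaf (nat_lit 0x0)))) (Tr.node (Tr.node (Tr.leaf (nat_lit 0x7415232321)) (Tr.leaf (nat_lit 0x481453481232867712))) (Tr.node (Tr.leaf (nat_lit 0x6598634678182622671)) (Tr.leaf (nat_lit 0x0))))) (Tr.node (Tr.node (Tr.node (Tr.leaf (nat_lit 0x46342173217111)) (Tr.leaf (nat_lit 0x397315336766))) (Tr.node (Tr.leaf (nat_lit 0x345673212321221)) (Tr.leaf (nat_lit 0x0)))) (Tr.node (Tr.node (Tr.leaf (nat_lit 0x4342173717717)) (Tr.leaf (nat_lit 0x0))) (Tr.node (Tr.leaf (nat_lit 0x459534773186762)) (Tr.leaf (nat_lit 0x0)))))))) (Tr.node (Tr.node (Tr.node (Tr.node (Tr.node (Tr.node (Tr.leaf (nat_lit 0x1345673212371771)) (Tr.leaf (nat_lit 0x98513437336377177))) (Tr.node (Tr.leaf (nat_lit 0x41215878121771)) (Tr.leaf (nat_lit 0x0)))) (Tr.node (Tr.node (Tr.leaf (nat_lit 0x11533432332876221)) (Tr.leaf (nat_lit 0x53343233287677671))) (Tr.node (Tr.leaf (nat_lit 0x7515328673221211)) (Tr.leaf (nat_lit 0x0))))) (Tr.node (Tr.node (Tr.node (Tr.leaf (nat_lit 0x43421732671)) (Tr.leaf (nat_lit 0x7675477881771211))) (Tr.node (Tr.leaf (nat_lit 0x46342173676226)) (Tr.leaf (nat_lit 0x0)))) (Tr.node (Tr.node (Tr.leaf (nat_lit 0x4817342131781221211)) (Tr.leaf (nat_lit 0x7789346823231771711))) (Tr.node (Tr.leaf (nat_lit 0x71863422181317121)) (Tr.leaf (nat_lit 0x0)))))) (Tr.node (Tr.node (Tr.node (Tr.node (Tr.leaf (nat_lit 0x33453282232676)) (Tr.leaf (nat_lit 0x345673212367121))) (Tr.node (Tr.leaf (nat_lit 0x48513437336367767)) (Tr.leaf (nat_lit 0x0)))) (Tr.node (Tr.node (Tr.leaf (nat_lit 0x41342173676221)) (Tr.leaf (nat_lit 0x653343233286267))) (Tr.node (Tr.leaf (nat_lit 0x759253478781236776771)) (Tr.leaf (nat_lit 0x0))))) (Tr.node (Tr.node (Tr.node (Tr.leaf (nat_lit 0x41342173771712)) (Tr.leaf (nat_lit 0x15334323328))) (Tr.node (Tr.leaf (nat_lit 0x484515211823767717)) (Tr.leaf (nat_lit 0x0)))) (Tr.node (Tr.node (Tr.leaf (nat_lit 0x43421736221771)) (Tr.leaf (nat_lit 0x174152323212171))) (Tr.node (Tr.leaf (nat_lit 0x93421736)) (Tr.leaf (nat_lit 0x0))))))) (Tr.node (Tr.node (Tr.node (Tr.node (Tr.node (Tr.leaf (nat_lit 0x143421732171)) (Tr.leaf (nat_lit 0x7789346823231221217))) (Tr.node (Tr.leaf (nat_lit 0x5331341282128226776)) (Tr.leaf (nat_lit 0x0)))) (Tr.node (Tr.node (Tr.leaf (nat_lit 0x889315128687122)) (Tr.leaf (nat_lit 0x2586841782632217711))) (Tr.node (Tr.leaf (nat_lit 0x856223478821367121221)) (Tr.leaf (nat_lit 0x0))))) (Tr.node (Tr.node (Tr.node (Tr.leaf (nat_lit 0x93342673226717)) (Tr.leaf (nat_lit 0x91342173226771))) (Tr.node (Tr.leaf (nat_lit 0x45711548778782267621)) (Tr.leaf (nat_lit 0x0)))) (Tr.node (Tr.node (Tr.leaf (nat_lit 0x4814534812328226776)) (Tr.leaf (nat_lit 0x4845152118237762))) (Tr.node (Tr.leaf (nat_lit 0x5432134878628177122)) (Tr.leaf (nat_lit 0x0)))))) (Tr.node (Tr.node (Tr.node (Tr.node (Tr.leaf (nat_lit 0x4121587826717)) (Tr.leaf (nat_lit 0x5435847732687762))) (Tr.node (Tr.leaf (nat_lit 0x397315332262217)) (Tr.leaf (nat_lit 0x0)))) (Tr.node (Tr.node (Tr.leaf (nat_lit 0x334315128686221771)) (Tr.leaf (nat_lit 0x984515211823677121))) (Tr.node (Tr.leaf (nat_lit 0x98513437336367177)) (Tr.leaf (nat_lit 0x0))))) (Tr.node (Tr.node (Tr.node (Tr.leaf (nat_lit 0x984515211823226776)) (Tr.leaf (nat_lit 0x6533432332812171))) (Tr.node (Tr.leaf (nat_lit 0x74152323662)) (Tr.leaf (nat_lit 0x0)))) (Tr.node (Tr.node (Tr.leaf (nat_lit 0x3343151286862676)) (Tr.leaf (nat_lit 0x0))) (Tr.node (Tr.leaf (nat_lit 0x481453481232862676)) (Tr.leaf (nat_lit 0x0)))))))))))) (Tr.node (Tr.node (Tr.node (Tr.node (Tr.node (Tr.node (Tr.node (Tr.node (Tr.node (Tr.node (Tr.leaf (nat_lit 0x45713237711)) (Tr.leaf (nat_lit 0x3456732123677677))) (Tr.node (Tr.leaf (nat_lit 0x26215477886)) (Tr.leaf (nat_lit 0x0)))) (Tr.node (Tr.node (Tr.leaf (nat_lit 0x543584773268717717)) (Tr.leaf (nat_lit 0x3973153312177))) (Tr.node (Tr.leaf (nat_lit 0x5331341282128226771)) (Tr.leaf (nat_lit 0x0))))) (Tr.node (Tr.node (Tr.node (Tr.leaf (nat_lit 0x7415232377677)) (Tr.leaf (nat_lit 0x9334267376226))) (Tr.node (Tr.leaf (nat_lit 0x13456732123122171)) (Tr.leaf (nat_lit 0x0)))) (Tr.node (Tr.node (Tr.leaf (nat_lit 0x7636842213181211)) (Tr.leaf (nat_lit 0x481453481232876221))) (Tr.node (Tr.leaf (nat_lit 0x87431533622121)) (Tr.leaf (nat_lit 0x0)))))) (Tr.node (Tr.node (Tr.node (Tr.node (Tr.leaf (nat_lit 0x45341542318736226217)) (Tr.leaf (nat_lit 0x3973153321221221))) (Tr.node (Tr.leaf (nat_lit 0x63456732123622622621)) (Tr.leaf (nat_lit 0x0)))) (Tr.node (Tr.node (Tr.leaf (nat_lit 0x288568428226771)) (Tr.leaf (nat_lit 0x933426732676))) (Tr.node (Tr.leaf (nat_lit 0x2586841782636267)) (Tr.leaf (nat_lit 0x0))))) (Tr.node (Tr.node (Tr.node (Tr.leaf (nat_lit 0x76754778811)) (Tr.leaf (nat_lit 0x434217367122))) (Tr.node (Tr.leaf (nat_lit 0x8852134828671362671)) (Tr.leaf (nat_lit 0x0)))) (Tr.node (Tr.node (Tr.leaf (nat_lit 0x4342173)) (Tr.leaf (nat_lit 0x759253478781231712))) (Tr.node (Tr.leaf (nat_lit 0x1845223178776)) (Tr.leaf (nat_lit 0x0))))))) (Tr.node (Tr.node (Tr.node (Tr.node (Tr.node (Tr.leaf (nat_lit 0x1845223178122122)) (Tr.leaf (nat_lit 0x85622347882131771712))) (Tr.node (Tr.leaf (nat_lit 0x5986346781817711)) (Tr.leaf (nat_lit 0x0)))) (Tr.node (Tr.node (Tr.leaf (nat_lit 0x17415232377677)) (Tr.leaf (nat_lit 0x9342173771712))) (Tr.node (Tr.leaf (nat_lit 0x21711)) (Tr.leaf (nat_lit 0x0))))) (Tr.node (Tr.node (Tr.node (Tr.leaf (nat_lit 0x134567321232177171)) (Tr.leaf (nat_lit 0x31563433131362267))) (Tr.node (Tr.leaf (nat_lit 0x1434217321711)) (Tr.leaf (nat_lit 0x0)))) (Tr.node (Tr.node (Tr.leaf (nat_lit 0x1845223178177)) (Tr.leaf (nat_lit 0x174152323122))) (Tr.node (Tr.leaf (nat_lit 0x985134373363267622)) (Tr.leaf (nat_lit 0x0)))))) (Tr.node (Tr.node (Tr.node (Tr.node (Tr.leaf (nat_lit 0x84522317862121)) (Tr.leaf (nat_lit 0x18452231782622171))) (Tr.node (Tr.leaf (nat_lit 0x4334267362676)) (Tr.leaf (nat_lit 0x0)))) (Tr.node (Tr.node (Tr.leaf (nat_lit 0x653343233281)) (Tr.leaf (nat_lit 0x334532822312171))) (Tr.node (Tr.leaf (nat_lit 0x98513437336322171)) (Tr.leaf (nat_lit 0x0))))) (Tr.node (Tr.node (Tr.node (Tr.leaf (nat_lit 0x143421731771712)) (Tr.leaf (nat_lit 0x53343233282622621))) (Tr.node (Tr.leaf (nat_lit 0x2621547788677626)) (Tr.leaf (nat_lit 0x0)))) (Tr.node (Tr.node (Tr.leaf (nat_lit 0x356713471787122)) (Tr.leaf (nat_lit 0x3156343313136622))) (Tr.node (Tr.leaf (nat_lit 0x845845773623676)) (Tr.leaf (nat_lit 0x0)))))))) (Tr.node (Tr.node (Tr.node (Tr.node (Tr.node (Tr.node (Tr.leaf (nat_lit 0x4157132326712)) (Tr.leaf (nat_lit 0x434217376226))) (Tr.node (Tr.leaf (nat_lit 0x184522317877111)) (Tr.leaf (nat_lit 0x0)))) (Tr.node (Tr.node (Tr.leaf (nat_lit 0x889315128681771211)) (Tr.leaf (nat_lit 0x5821841321237122))) (Tr.node (Tr.leaf (nat_lit 0x434217362671)) (Tr.leaf (nat_lit 0x0))))) (Tr.node (Tr.node (Tr.node (Tr.leaf (nat_lit 0x98513437336317717)) (Tr.leaf (nat_lit 0x684522317826712))) (Tr.node (Tr.leaf (nat_lit 0x582184132123622177)) (Tr.leaf (nat_lit 0x0)))) (Tr.node (Tr.node (Tr.leaf (nat_lit 0x7675477881)) (Tr.leaf (nat_lit 0x4334267377626))) (Tr.node (Tr.leaf (nat_lit 0x1533432332812171)) (Tr.leaf (nat_lit 0x0)))))) (Tr.node (Tr.node (Tr.node (Tr.node (Tr.leaf (nat_lit 0x68452231782677177)) (Tr.leaf (nat_lit 0x76368422131871212))) (Tr.node (Tr.leaf (nat_lit 0x767547788212212)) (Tr.leaf (nat_lit 0x0)))) (Tr.node (Tr.node (Tr.leaf (nat_lit 0x4851343733632677621)) (Tr.leaf (nat_lit 0x45341542318736221))) (Tr.node (Tr.leaf (nat_lit 0x39584577362362262)) (Tr.leaf (nat_lit 0x0))))) (Tr.node (Tr.node (Tr.node (Tr.leaf (nat_lit 0x48145348123281771712)) (Tr.leaf (nat_lit 0x15334323328766622))) (Tr.node (Tr.leaf (nat_lit 0x9334267377626)) (Tr.leaf (nat_lit 0x0)))) (Tr.node (Tr.node (Tr.leaf (nat_lit 0x395845773623767767121)) (Tr.leaf (nat_lit 0x17415232371211))) (Tr.node (Tr.leaf (nat_lit 0x6598634678187712171)) (Tr.leaf (nat_lit 0x0))))))) (Tr.node (Tr.node (Tr.node (Tr.node (Tr.node (Tr.leaf (nat_lit 0x4215878217711)) (Tr.leaf (nat_lit 0x1434217362676))) (Tr.node (Tr.leaf (nat_lit 0x7636842213182217122)) (Tr.leaf (nat_lit 0x0)))) (Tr.node (Tr.node (Tr.leaf (nat_lit 0x34567321232671212)) (Tr.leaf (nat_lit 0x26215477886267))) (Tr.node (Tr.leaf (nat_lit 0x9851343733637717711)) (Tr.leaf (nat_lit 0x0))))) (Tr.node (Tr.node (Tr.node (Tr.leaf (nat_lit 0x42158782212)) (Tr.leaf (nat_lit 0x684522317821712))) (Tr.node (Tr.leaf (nat_lit 0x5331341282128712211)) (Tr.leaf (nat_lit 0x0)))) (Tr.node (Tr.node (Tr.leaf (nat_lit 0x634567321236712)) (Tr.leaf (nat_lit 0x1533432332867762))) (Tr.node (Tr.leaf (nat_lit 0x39731533177122)) (Tr.leaf (nat_lit 0x0)))))) (Tr.node (Tr.node (Tr.node (Tr.node (Tr.leaf (nat_lit 0x433426732217711)) (Tr.leaf (nat_lit 0x74152323776212))) (Tr.node (Tr.leaf (nat_lit 0x845223178712177)) (Tr.leaf (nat_lit 0x0)))) (Tr.node (Tr.node (Tr.leaf (nat_lit 0x9134217362171)) (Tr.leaf (nat_lit 0x484515211823776712))) (Tr.node (Tr.leaf (nat_lit 0x77893468232312212171)) (Tr.leaf (nat_lit 0x0))))) (Tr.node (Tr.node (Tr.node (Tr.leaf (nat_lit 0x463421732217711)) (Tr.leaf (nat_lit 0x845845773623671))) (Tr.node (Tr.leaf (nat_lit 0x9595347731822111)) (Tr.leaf (nat_lit 0x0)))) (Tr.node (Tr.node (Tr.leaf (nat_lit 0x76863422181326226)) (Tr.leaf (nat_lit 0x0))) (Tr.node (Tr.leaf (nat_lit 0x34567321236662)) (Tr.leaf (nat_lit 0x0))))))))) (Tr.node (Tr.node (Tr.node (Tr.node (Tr.node (Tr.node (Tr.node (Tr.leaf (nat_lit 0x6598634678187121771)) (Tr.leaf (nat_lit 0x28856842877626))) (Tr.node (Tr.leaf (nat_lit 0x93342673677121)) (Tr.leaf (nat_lit 0x0)))) (Tr.node (Tr.node (Tr.leaf (nat_lit 0x845223178262212212)) (Tr.leaf (nat_lit 0x421587812177))) (Tr.node (Tr.leaf (nat_lit 0x4342173766622)) (Tr.leaf (nat_lit 0x0))))) (Tr.node (Tr.node (Tr.node (Tr.leaf (nat_lit 0x5435847732687671212)) (Tr.leaf (nat_lit 0x76368422131862262212))) (Tr.node (Tr.leaf (nat_lit 0x397315337666)) (Tr.leaf (nat_lit 0x0)))) (Tr.node (Tr.node (Tr.leaf (nat_lit 0x413421731217)) (Tr.leaf (nat_lit 0x84584577362312177))) (Tr.node (Tr.leaf (nat_lit 0x582184132123262212)) (Tr.leaf (nat_lit 0x0)))))) (Tr.node (Tr.node (Tr.node (Tr.node (Tr.leaf (nat_lit 0x415713236226221)) (Tr.leaf (nat_lit 0x4634217321221211))) (Tr.node (Tr.leaf (nat_lit 0x4134217376226)) (Tr.leaf (nat_lit 0x0)))) (Tr.node (Tr.node (Tr.leaf (nat_lit 0x63456732123267717)) (Tr.leaf (nat_lit 0x659863467818212212212))) (Tr.node (Tr.leaf (nat_lit 0x856223478821367717121)) (Tr.leaf (nat_lit 0x0))))) (Tr.node (Tr.node (Tr.node (Tr.leaf (nat_lit 0x65334323328671221)) (Tr.leaf (nat_lit 0x85622347882137712))) (Tr.node (Tr.leaf (nat_lit 0x345673212322111)) (Tr.leaf (nat_lit 0x0)))) (Tr.node (Tr.node (Tr.leaf (nat_lit 0x85622347882131771211)) (Tr.leaf (nat_lit 0x334532822362671))) (Tr.node (Tr.leaf (nat_lit 0x28856842867762)) (Tr.leaf (nat_lit 0x0))))))) (Tr.node (Tr.node (Tr.node (Tr.node (Tr.node (Tr.leaf (nat_lit 0x415713232171211)) (Tr.leaf (nat_lit 0x143421737622))) (Tr.node (Tr.leaf (nat_lit 0x984515211823771211)) (Tr.leaf (nat_lit 0x0)))) (Tr.node (Tr.node (Tr.leaf (nat_lit 0x4534154231873217712)) (Tr.leaf (nat_lit 0x8743153371))) (Tr.node (Tr.leaf (nat_lit 0x4814534812328217111)) (Tr.leaf (nat_lit 0x0))))) (Tr.node (Tr.node (Tr.node (Tr.leaf (nat_lit 0x4814534812328767767)) (Tr.leaf (nat_lit 0x3156343313132671212))) (Tr.node (Tr.leaf (nat_lit 0x53343233281217)) (Tr.leaf (nat_lit 0x0)))) (Tr.node (Tr.node (Tr.leaf (nat_lit 0x5331341282128712122)) (Tr.leaf (nat_lit 0x1533432332871221))) (Tr.node (Tr.leaf (nat_lit 0x4121587862677)) (Tr.leaf (nat_lit 0x0)))))) (Tr.node (Tr.node (Tr.node (Tr.node (Tr.leaf (nat_lit 0x677621)) (Tr.leaf (nat_lit 0x8452231787622626))) (Tr.node (Tr.leaf (nat_lit 0x485134373363712)) (Tr.leaf (nat_lit 0x0)))) (Tr.node (Tr.node (Tr.leaf (nat_lit 0x39731533767122)) (Tr.leaf (nat_lit 0x759253478781231217712))) (Tr.node (Tr.leaf (nat_lit 0x484515211823226776)) (Tr.leaf (nat_lit 0x0))))) (Tr.node (Tr.node (Tr.node (Tr.leaf (nat_lit 0x84522317822122)) (Tr.leaf (nat_lit 0x845845773623626771))) (Tr.node (Tr.leaf (nat_lit 0x48451521182326766)) (Tr.leaf (nat_lit 0x0)))) (Tr.node (Tr.node (Tr.leaf (nat_lit 0x45711548778787767717)) (Tr.leaf (nat_lit 0x0))) (Tr.node (Tr.leaf (nat_lit 0x71863422181376212)) (Tr.leaf (nat_lit 0x0)))))))) (Tr.node (Tr.node (Tr.node (Tr.node (Tr.node (Tr.node (Tr.leaf (nat_lit 0x412158782122122)) (Tr.leaf (nat_lit 0x9845152118236776712))) (Tr.node (Tr.leaf (nat_lit 0x913421732622121)) (Tr.leaf (nat_lit 0x0)))) (Tr.node (Tr.node (Tr.leaf (nat_lit 0x8452231787767717121)) (Tr.leaf (nat_lit 0x87431533626771))) (Tr.node (Tr.leaf (nat_lit 0x9845152118237767121)) (Tr.leaf (nat_lit 0x0))))) (Tr.node (Tr.node (Tr.node (Tr.leaf (nat_lit 0x7186342218132677171)) (Tr.leaf (nat_lit 0x115334323328677626))) (Tr.node (Tr.leaf (nat_lit 0x8852134828671367767121)) (Tr.leaf (nat_lit 0x0)))) (Tr.node (Tr.node (Tr.leaf (nat_lit 0x288568428111)) (Tr.leaf (nat_lit 0x759253478781231211))) (Tr.node (Tr.leaf (nat_lit 0x8562234788213676226)) (Tr.leaf (nat_lit 0x0)))))) (Tr.node (Tr.node (Tr.node (Tr.node (Tr.leaf (nat_lit 0x43342673262177)) (Tr.leaf (nat_lit 0x88521348286713121711))) (Tr.node (Tr.leaf (nat_lit 0x45713237762171)) (Tr.leaf (nat_lit 0x0)))) (Tr.node (Tr.node (Tr.leaf (nat_lit 0x53313412821287122)) (Tr.leaf (nat_lit 0x33431512868771211))) (Tr.node (Tr.leaf (nat_lit 0x9595347731826226)) (Tr.leaf (nat_lit 0x0))))) (Tr.node (Tr.node (Tr.node (Tr.leaf (nat_lit 0x63456732123762121)) (Tr.leaf (nat_lit 0x77893468232312122))) (Tr.node (Tr.leaf (nat_lit 0x45711548778787177121)) (Tr.leaf (nat_lit 0x0)))) (Tr.node (Tr.node (Tr.leaf (nat_lit 0x54321348786282267121)) (Tr.leaf (nat_lit 0x4121587876))) (Tr.node (Tr.leaf (nat_lit 0x959534773187762212)) (Tr.leaf (nat_lit 0x0))))))) (Tr.node (Tr.node (Tr.node (Tr.node (Tr.node (Tr.leaf (nat_lit 0x18452231786226221)) (Tr.leaf (nat_lit 0x88931512868776662))) (Tr.node (Tr.leaf (nat_lit 0x6533432332876221)) (Tr.leaf (nat_lit 0x0)))) (Tr.node (Tr.node (Tr.leaf (nat_lit 0x9334267326766)) (Tr.leaf (nat_lit 0x48145348123287671212))) (Tr.node (Tr.leaf (nat_lit 0x4157132377666)) (Tr.leaf (nat_lit 0x0))))) (Tr.node (Tr.node (Tr.node (Tr.leaf (nat_lit 0x6533432332877626)) (Tr.leaf (nat_lit 0x653343233287122))) (Tr.node (Tr.leaf (nat_lit 0x763684221318212211)) (Tr.leaf (nat_lit 0x0)))) (Tr.node (Tr.node (Tr.leaf (nat_lit 0x481734213178712171)) (Tr.leaf (nat_lit 0x63456732123671712))) (Tr.node (Tr.leaf (nat_lit 0x53313412821287677171)) (Tr.leaf (nat_lit 0x0)))))) (Tr.node (Tr.node (Tr.node (Tr.node (Tr.leaf (nat_lit 0x95953477318626)) (Tr.leaf (nat_lit 0x1741523232))) (Tr.node (Tr.leaf (nat_lit 0x48451521182367717121)) (Tr.leaf (nat_lit 0x0)))) (Tr.node (Tr.node (Tr.leaf (nat_lit 0x25868417826362171)) (Tr.leaf (nat_lit 0x6845223178217121))) (Tr.node (Tr.leaf (nat_lit 0x43342673171221)) (Tr.leaf (nat_lit 0x0))))) (Tr.node (Tr.node (Tr.node (Tr.leaf (nat_lit 0x34567321231217712)) (Tr.leaf (nat_lit 0x18452231787767717121))) (Tr.node (Tr.leaf (nat_lit 0x3135487717322671)) (Tr.leaf (nat_lit 0x0)))) (Tr.node (Tr.node (Tr.leaf (nat_lit 0x13456732123622122121)) (Tr.leaf (nat_lit 0x0))) (Tr.node (Tr.leaf (nat_lit 0x763684221318122122121)) (Tr.leaf (nat_lit 0x0)))))))))) (Tr.node (Tr.node (Tr.node (Tr.node (Tr.node (Tr.node (Tr.node (Tr.node (Tr.leaf (nat_lit 0x7592534787812362267)) (Tr.leaf (nat_lit 0x778934682323122))) (Tr.node (Tr.leaf (nat_lit 0x76863422181376771)) (Tr.leaf (nat_lit 0x0)))) (Tr.node (Tr.node (Tr.leaf (nat_lit 0x8562234788213766622)) (Tr.leaf (nat_lit 0x856223478821322177))) (Tr.node (Tr.leaf (nat_lit 0x1153343233281771712)) (Tr.leaf (nat_lit 0x0))))) (Tr.node (Tr.node (Tr.node (Tr.leaf (nat_lit 0x356713471782676)) (Tr.leaf (nat_lit 0x41342173666))) (Tr.node (Tr.leaf (nat_lit 0x54321348786281221211)) (Tr.leaf (nat_lit 0x0)))) (Tr.node (Tr.node (Tr.leaf (nat_lit 0x984515211823262177)) (Tr.leaf (nat_lit 0x4571154877878267171))) (Tr.node (Tr.leaf (nat_lit 0x634567321231221711)) (Tr.leaf (nat_lit 0x0)))))) (Tr.node (Tr.node (Tr.node (Tr.node (Tr.leaf (nat_lit 0x934217317717121)) (Tr.leaf (nat_lit 0x87431533267766))) (Tr.node (Tr.leaf (nat_lit 0x397315337767717)) (Tr.leaf (nat_lit 0x0)))) (Tr.node (Tr.node (Tr.leaf (nat_lit 0x43421737177171)) (Tr.leaf (nat_lit 0x98513437336322122121))) (Tr.node (Tr.leaf (nat_lit 0x413421732122121)) (Tr.leaf (nat_lit 0x0))))) (Tr.node (Tr.node (Tr.node (Tr.leaf (nat_lit 0x34567321232262171)) (Tr.leaf (nat_lit 0x95953477318622622621))) (Tr.node (Tr.leaf (nat_lit 0x334315128687121221)) (Tr.leaf (nat_lit 0x0)))) (Tr.node (Tr.node (Tr.leaf (nat_lit 0x8852134828671311)) (Tr.leaf (nat_lit 0x543584773268171221))) (Tr.node (Tr.leaf (nat_lit 0x885213482867136267)) (Tr.leaf (nat_lit 0x0))))))) (Tr.node (Tr.node (Tr.node (Tr.node (Tr.node (Tr.leaf (nat_lit 0x9134217317717121)) (Tr.leaf (nat_lit 0x48145348123286267))) (Tr.node (Tr.leaf (nat_lit 0x582184132123666)) (Tr.leaf (nat_lit 0x0)))) (Tr.node (Tr.node (Tr.leaf (nat_lit 0x28856842867767121)) (Tr.leaf (nat_lit 0x43421736217))) (Tr.node (Tr.leaf (nat_lit 0x87431533626776)) (Tr.leaf (nat_lit 0x0))))) (Tr.node (Tr.node (Tr.node (Tr.leaf (nat_lit 0x7186342218132217122)) (Tr.leaf (nat_lit 0x41215878767767121))) (Tr.node (Tr.leaf (nat_lit 0x153343233287671212)) (Tr.leaf (nat_lit 0x0)))) (Tr.node (Tr.node (Tr.leaf (nat_lit 0x7186342218131712)) (Tr.leaf (nat_lit 0x134567321231221711))) (Tr.node (Tr.leaf (nat_lit 0x91342173262262)) (Tr.leaf (nat_lit 0x0)))))) (Tr.node (Tr.node (Tr.node (Tr.node (Tr.leaf (nat_lit 0x457115487787876217)) (Tr.leaf (nat_lit 0x767547788))) (Tr.node (Tr.leaf (nat_lit 0x18452231782671712)) (Tr.leaf (nat_lit 0x0)))) (Tr.node (Tr.node (Tr.leaf (nat_lit 0x2885684286712122)) (Tr.leaf (nat_lit 0x26215477882676))) (Tr.node (Tr.leaf (nat_lit 0x35671347178776662)) (Tr.leaf (nat_lit 0x0))))) (Tr.node (Tr.node (Tr.node (Tr.leaf (nat_lit 0x4634217367622)) (Tr.leaf (nat_lit 0x3135487717322676))) (Tr.node (Tr.leaf (nat_lit 0x65334323328776712)) (Tr.leaf (nat_lit 0x0)))) (Tr.node (Tr.node (Tr.leaf (nat_lit 0x984515211823217111)) (Tr.leaf (nat_lit 0x4634217376221))) (Tr.node (Tr.leaf (nat_lit 0x3343151286866)) (Tr.leaf (nat_lit 0x0)))))))) (Tr.node (Tr.node (Tr.node (Tr.node (Tr.node (Tr.node (Tr.leaf (nat_lit 0x41571323626762)) (Tr.leaf (nat_lit 0x85622347882137762))) (Tr.node (Tr.leaf (nat_lit 0x6345673212312111)) (Tr.leaf (nat_lit 0x0)))) (Tr.node (Tr.node (Tr.leaf (nat_lit 0x659863467818267621)) (Tr.leaf (nat_lit 0x8893151286877626))) (Tr.node (Tr.leaf (nat_lit 0x258684178263767767)) (Tr.leaf (nat_lit 0x0))))) (Tr.node (Tr.node (Tr.node (Tr.leaf (nat_lit 0x1434217326766)) (Tr.leaf (nat_lit 0x634567321232671771))) (Tr.node (Tr.leaf (nat_lit 0x543584773268226717)) (Tr.leaf (nat_lit 0x0)))) (Tr.node (Tr.node (Tr.leaf (nat_lit 0x653343233281771712)) (Tr.leaf (nat_lit 0x15334323328676226))) (Tr.node (Tr.leaf (nat_lit 0x9851343733632262262)) (Tr.leaf (nat_lit 0x0)))))) (Tr.node (Tr.node (Tr.node (Tr.node (Tr.leaf (nat_lit 0x48451521182367122)) (Tr.leaf (nat_lit 0x4571154877878767122))) (Tr.node (Tr.leaf (nat_lit 0x31563433131377671)) (Tr.leaf (nat_lit 0x0)))) (Tr.node (Tr.node (Tr.leaf (nat_lit 0x421587821771)) (Tr.leaf (nat_lit 0x5334323328262262))) (Tr.node (Tr.leaf (nat_lit 0x288568428)) (Tr.leaf (nat_lit 0x0))))) (Tr.node (Tr.node (Tr.node (Tr.leaf (nat_lit 0x415713236717)) (Tr.leaf (nat_lit 0x3135487717326))) (Tr.node (Tr.leaf (nat_lit 0x9342173226717)) (Tr.leaf (nat_lit 0x0)))) (Tr.node (Tr.node (Tr.leaf (nat_lit 0x4595347731862262212)) (Tr.leaf (nat_lit 0x484515211823717717))) (Tr.node (Tr.leaf (nat_lit 0x412158786771221)) (Tr.leaf (nat_lit 0x0))))))) (Tr.node (Tr.node (Tr.node (Tr.node (Tr.node (Tr.leaf (nat_lit 0x226717)) (Tr.leaf (nat_lit 0x313548771731221))) (Tr.node (Tr.leaf (nat_lit 0x759253478781236267762)) (Tr.leaf (nat_lit 0x0)))) (Tr.node (Tr.node (Tr.leaf (nat_lit 0x48451521182311)) (Tr.leaf (nat_lit 0x334315128682171))) (Tr.node (Tr.leaf (nat_lit 0x959534773182677171)) (Tr.leaf (nat_lit 0x0))))) (Tr.node (Tr.node (Tr.node (Tr.leaf (nat_lit 0x345673212371771)) (Tr.leaf (nat_lit 0x134567321231771771))) (Tr.node (Tr.leaf (nat_lit 0x7636842213186267762)) (Tr.leaf (nat_lit 0x0)))) (Tr.node (Tr.node (Tr.leaf (nat_lit 0x889315128682171)) (Tr.leaf (nat_lit 0x54358477326867122))) (Tr.node (Tr.leaf (nat_lit 0x1153343233287177171)) (Tr.leaf (nat_lit 0x0)))))) (Tr.node (Tr.node (Tr.node (Tr.node (Tr.leaf (nat_lit 0x485134373363622)) (Tr.leaf (nat_lit 0x434217367717121))) (Tr.node (Tr.leaf (nat_lit 0x8452231781212)) (Tr.leaf (nat_lit 0x0)))) (Tr.node (Tr.node (Tr.leaf (nat_lit 0x653343233282622626)) (Tr.leaf (nat_lit 0x18452231787767712))) (Tr.node (Tr.leaf (nat_lit 0x48145348123286712122)) (Tr.leaf (nat_lit 0x0))))) (Tr.node (Tr.node (Tr.node (Tr.leaf (nat_lit 0x174152323771771)) (Tr.leaf (nat_lit 0x4134217377621))) (Tr.node (Tr.leaf (nat_lit 0x15334323328262212)) (Tr.leaf (nat_lit 0x0)))) (Tr.node (Tr.node (Tr.leaf (nat_lit 0x4534154231873211)) (Tr.leaf (nat_lit 0x0))) (Tr.node (Tr.leaf (nat_lit 0x533432332817717121)) (Tr.leaf (nat_lit 0x0))))))))) (Tr.node (Tr.node (Tr.node (Tr.node (Tr.node (Tr.node (Tr.node (Tr.leaf (nat_lit 0x48173421317826717)) (Tr.leaf (nat_lit 0x7592534787812326221))) (Tr.node (Tr.leaf (nat_lit 0x71863422181322111)) (Tr.leaf (nat_lit 0x0)))) (Tr.node (Tr.node (Tr.leaf (nat_lit 0x45341542318736626)) (Tr.leaf (nat_lit 0x75153286737677121))) (Tr.node (Tr.leaf (nat_lit 0x543584773268671221)) (Tr.leaf (nat_lit 0x0))))) (Tr.node (Tr.node (Tr.node (Tr.leaf (nat_lit 0x3973153371217)) (Tr.leaf (nat_lit 0x4571154877878676))) (Tr.node (Tr.leaf (nat_lit 0x543213487862876771712)) (Tr.leaf (nat_lit 0x0)))) (Tr.node (Tr.node (Tr.leaf (nat_lit 0x59863467818262267)) (Tr.leaf (nat_lit 0x258684178263776662))) (Tr.node (Tr.leaf (nat_lit 0x58218413212367622)) (Tr.leaf (nat_lit 0x0)))))) (Tr.node (Tr.node (Tr.node (Tr.node (Tr.leaf (nat_lit 0x4134217322677)) (Tr.leaf (nat_lit 0x543584773268676226))) (Tr.node (Tr.leaf (nat_lit 0x984515211823767717)) (Tr.leaf (nat_lit 0x0)))) (Tr.node (Tr.node (Tr.leaf (nat_lit 0x533134128212867712)) (Tr.leaf (nat_lit 0x481453481232867122))) (Tr.node (Tr.leaf (nat_lit 0x3156343313136267762)) (Tr.leaf (nat_lit 0x0))))) (Tr.node (Tr.node (Tr.node (Tr.leaf (nat_lit 0x421587822626)) (Tr.leaf (nat_lit 0x77893468232322676))) (Tr.node (Tr.leaf (nat_lit 0x356713471781111)) (Tr.leaf (nat_lit 0x0)))) (Tr.node (Tr.node (Tr.leaf (nat_lit 0x533134128212866)) (Tr.leaf (nat_lit 0x741523236226))) (Tr.node (Tr.leaf (nat_lit 0x76754778877121)) (Tr.leaf (nat_lit 0x0))))))) (Tr.node (Tr.node (Tr.node (Tr.node (Tr.node (Tr.leaf (nat_lit 0x87431533767121221)) (Tr.leaf (nat_lit 0x41342173677626))) (Tr.node (Tr.leaf (nat_lit 0x659863467818717)) (Tr.leaf (nat_lit 0x0)))) (Tr.node (Tr.node (Tr.leaf (nat_lit 0x718634221813226)) (Tr.leaf (nat_lit 0x28856842821221211))) (Tr.node (Tr.leaf (nat_lit 0x4334267367717121)) (Tr.leaf (nat_lit 0x0))))) (Tr.node (Tr.node (Tr.node (Tr.leaf (nat_lit 0x459534773182262171)) (Tr.leaf (nat_lit 0x212212))) (Tr.node (Tr.leaf (nat_lit 0x48451521182377621)) (Tr.leaf (nat_lit 0x0)))) (Tr.node (Tr.node (Tr.leaf (nat_lit 0x31563433131377171)) (Tr.leaf (nat_lit 0x88521348286713177121))) (Tr.node (Tr.leaf (nat_lit 0x262154778826766)) (Tr.leaf (nat_lit 0x0)))))) (Tr.node (Tr.node (Tr.node (Tr.node (Tr.leaf (nat_lit 0x134567321237177111)) (Tr.leaf (nat_lit 0x71863422181371212))) (Tr.node (Tr.leaf (nat_lit 0x75925347878123122171)) (Tr.leaf (nat_lit 0x0)))) (Tr.node (Tr.node (Tr.leaf (nat_lit 0x95953477318267717)) (Tr.leaf (nat_lit 0x59863467818212212212))) (Tr.node (Tr.leaf (nat_lit 0x7675477881111)) (Tr.leaf (nat_lit 0x0))))) (Tr.node (Tr.node (Tr.node (Tr.leaf (nat_lit 0x3456732123622671)) (Tr.leaf (nat_lit 0x76863422181322))) (Tr.node (Tr.leaf (nat_lit 0x76863422181366226)) (Tr.leaf (nat_lit 0x0)))) (Tr.node (Tr.node (Tr.leaf (nat_lit 0x874315332622622)) (Tr.leaf (nat_lit 0x0))) (Tr.node (Tr.leaf (nat_lit 0x1153343233286267)) (Tr.leaf (nat_lit 0x0)))))))) (Tr.node (Tr.node (Tr.node (Tr.node (Tr.node (Tr.node (Tr.leaf (nat_lit 0x9134217367121221)) (Tr.leaf (nat_lit 0x2621547788212212))) (Tr.node (Tr.leaf (nat_lit 0x3343151286871221)) (Tr.leaf (nat_lit 0x0)))) (Tr.node (Tr.node (Tr.leaf (nat_lit 0x8452231787767712)) (Tr.leaf (nat_lit 0x35671347178676226))) (Tr.node (Tr.leaf (nat_lit 0x7636842213182671771)) (Tr.leaf (nat_lit 0x0))))) (Tr.node (Tr.node (Tr.node (Tr.leaf (nat_lit 0x934217317122)) (Tr.leaf (nat_lit 0x87431533767122))) (Tr.node (Tr.leaf (nat_lit 0x14342173676226)) (Tr.leaf (nat_lit 0x0)))) (Tr.node (Tr.node (Tr.leaf (nat_lit 0x71863422181377171)) (Tr.leaf (nat_lit 0x33453282236217))) (Tr.node (Tr.leaf (nat_lit 0x845223178762212)) (Tr.leaf (nat_lit 0x0)))))) (Tr.node (Tr.node (Tr.node (Tr.node (Tr.leaf (nat_lit 0x5331341282128771211)) (Tr.leaf (nat_lit 0x533432332811))) (Tr.node (Tr.leaf (nat_lit 0x481453481232877121)) (Tr.leaf (nat_lit 0x0)))) (Tr.node (Tr.node (Tr.leaf (nat_lit 0x768634221813267177)) (Tr.leaf (nat_lit 0x415713237121771))) (Tr.node (Tr.leaf (nat_lit 0x39584577362312212)) (Tr.leaf (nat_lit 0x0))))) (Tr.node (Tr.node (Tr.node (Tr.leaf (nat_lit 0x6598634678186776)) (Tr.leaf (nat_lit 0x533432332862676))) (Tr.node (Tr.leaf (nat_lit 0x288568428712122)) (Tr.leaf (nat_lit 0x0)))) (Tr.node (Tr.node (Tr.leaf (nat_lit 0x43421732676)) (Tr.leaf (nat_lit 0x62676))) (Tr.node (Tr.leaf (nat_lit 0x45713236712212)) (Tr.leaf (nat_lit 0x0))))))) (Tr.node (Tr.node (Tr.node (Tr.node (Tr.node (Tr.leaf (nat_lit 0x463421732171)) (Tr.leaf (nat_lit 0x134567321232211))) (Tr.node (Tr.leaf (nat_lit 0x533134128212871771711)) (Tr.leaf (nat_lit 0x0)))) (Tr.node (Tr.node (Tr.leaf (nat_lit 0x134567321237717)) (Tr.leaf (nat_lit 0x4814534812328267))) (Tr.node (Tr.leaf (nat_lit 0x415713237712171)) (Tr.leaf (nat_lit 0x0))))) (Tr.node (Tr.node (Tr.node (Tr.leaf (nat_lit 0x1741523236226217)) (Tr.leaf (nat_lit 0x653343233287622))) (Tr.node (Tr.leaf (nat_lit 0x8452231787711)) (Tr.leaf (nat_lit 0x0)))) (Tr.node (Tr.node (Tr.leaf (nat_lit 0x533432332877621)) (Tr.leaf (nat_lit 0x4134217311))) (Tr.node (Tr.leaf (nat_lit 0x76754778826766)) (Tr.leaf (nat_lit 0x0)))))) (Tr.node (Tr.node (Tr.node (Tr.node (Tr.leaf (nat_lit 0x634567321232217122)) (Tr.leaf (nat_lit 0x934217321711))) (Tr.node (Tr.leaf (nat_lit 0x53343233287717121)) (Tr.leaf (nat_lit 0x0)))) (Tr.node (Tr.node (Tr.leaf (nat_lit 0x543213487862876776712)) (Tr.leaf (nat_lit 0x41342173676226))) (Tr.node (Tr.leaf (nat_lit 0x751532867362262)) (Tr.leaf (nat_lit 0x0))))) (Tr.node (Tr.node (Tr.node (Tr.leaf (nat_lit 0x93342673226776)) (Tr.leaf (nat_lit 0x1533432332876221))) (Tr.node (Tr.leaf (nat_lit 0x45341542318732262212)) (Tr.leaf (nat_lit 0x0)))) (Tr.node (Tr.node (Tr.leaf (nat_lit 0x5432134878628217711)) (Tr.leaf (nat_lit 0x0))) (Tr.node (Tr.leaf (nat_lit 0x3345328223262262)) (Tr.leaf (nat_lit 0x0))))))))))) (Tr.node (Tr.node (Tr.node (Tr.node (Tr.node (Tr.node (Tr.node (Tr.node (Tr.node (Tr.leaf (nat_lit 0x48145348123282217711)) (Tr.leaf (nat_lit 0x778934682323717121))) (Tr.node (Tr.leaf (nat_lit 0x2621547788262262)) (Tr.leaf (nat_lit 0x0)))) (Tr.node (Tr.node (Tr.leaf (nat_lit 0x43421737671212)) (Tr.leaf (nat_lit 0x28856842817122))) (Tr.node (Tr.leaf (nat_lit 0x34567321232122111)) (Tr.leaf (nat_lit 0x0))))) (Tr.node (Tr.node (Tr.node (Tr.leaf (nat_lit 0x17415232322676)) (Tr.leaf (nat_lit 0x5334323328676226))) (Tr.node (Tr.leaf (nat_lit 0x7789346823232262262)) (Tr.leaf (nat_lit 0x0)))) (Tr.node (Tr.node (Tr.leaf (nat_lit 0x134567321236622)) (Tr.leaf (nat_lit 0x9334267321221211))) (Tr.node (Tr.leaf (nat_lit 0x143421732676)) (Tr.leaf (nat_lit 0x0)))))) (Tr.node (Tr.node (Tr.node (Tr.node (Tr.leaf (nat_lit 0x481734213178677122)) (Tr.leaf (nat_lit 0x85622347882137677671))) (Tr.node (Tr.leaf (nat_lit 0x8562234788213677121)) (Tr.leaf (nat_lit 0x0)))) (Tr.node (Tr.node (Tr.leaf (nat_lit 0x845223178622122)) (Tr.leaf (nat_lit 0x659863467818262))) (Tr.node (Tr.leaf (nat_lit 0x759253478781236217712)) (Tr.leaf (nat_lit 0x0))))) (Tr.node (Tr.node (Tr.node (Tr.leaf (nat_lit 0x45953477318121)) (Tr.leaf (nat_lit 0x84584577362322621))) (Tr.node (Tr.leaf (nat_lit 0x98451521182367121221)) (Tr.leaf (nat_lit 0x0)))) (Tr.node (Tr.node (Tr.leaf (nat_lit 0x885213482867131217)) (Tr.leaf (nat_lit 0x174152323712))) (Tr.node (Tr.leaf (nat_lit 0x35671347178221771)) (Tr.leaf (nat_lit 0x0))))))) (Tr.node (Tr.node (Tr.node (Tr.node (Tr.node (Tr.leaf (nat_lit 0x345673212362262262)) (Tr.leaf (nat_lit 0x17415232362262171))) (Tr.node (Tr.leaf (nat_lit 0x8562234788213677626)) (Tr.leaf (nat_lit 0x0)))) (Tr.node (Tr.node (Tr.leaf (nat_lit 0x481734213178676)) (Tr.leaf (nat_lit 0x9342173212212))) (Tr.node (Tr.leaf (nat_lit 0x751532867312177)) (Tr.leaf (nat_lit 0x0))))) (Tr.node (Tr.node (Tr.node (Tr.leaf (nat_lit 0x8743153326226221)) (Tr.leaf (nat_lit 0x6345673212322111))) (Tr.node (Tr.leaf (nat_lit 0x258684178263677626)) (Tr.leaf (nat_lit 0x0)))) (Tr.node (Tr.node (Tr.leaf (nat_lit 0x18452231782171211)) (Tr.leaf (nat_lit 0x934217377121))) (Tr.node (Tr.leaf (nat_lit 0x7789346823232676226)) (Tr.leaf (nat_lit 0x0)))))) (Tr.node (Tr.node (Tr.node (Tr.node (Tr.leaf (nat_lit 0x415713231771)) (Tr.leaf (nat_lit 0x4817342131787121711))) (Tr.node (Tr.leaf (nat_lit 0x54358477326871221)) (Tr.leaf (nat_lit 0x0)))) (Tr.node (Tr.node (Tr.leaf (nat_lit 0x35671347178121711)) (Tr.leaf (nat_lit 0x7592534787812362))) (Tr.node (Tr.leaf (nat_lit 0x543584773268712122)) (Tr.leaf (nat_lit 0x0))))) (Tr.node (Tr.node (Tr.node (Tr.leaf (nat_lit 0x8562234788213267)) (Tr.leaf (nat_lit 0x315634331313226))) (Tr.node (Tr.leaf (nat_lit 0x7686342218132671212)) (Tr.leaf (nat_lit 0x0)))) (Tr.node (Tr.node (Tr.leaf (nat_lit 0x95953477318621)) (Tr.leaf (nat_lit 0x14342173776662))) (Tr.node (Tr.leaf (nat_lit 0x59863467818221221)) (Tr.leaf (nat_lit 0x0)))))))) (Tr.node (Tr.node (Tr.node (Tr.node (Tr.node (Tr.node (Tr.leaf (nat_lit 0x913421736771712)) (Tr.leaf (nat_lit 0x7686342218132622))) (Tr.node (Tr.leaf (nat_lit 0x45341542318731221)) (Tr.leaf (nat_lit 0x0)))) (Tr.node (Tr.node (Tr.leaf (nat_lit 0x4571154877878711)) (Tr.leaf (nat_lit 0x3456732123671712))) (Tr.node (Tr.leaf (nat_lit 0x75153286737767717)) (Tr.leaf (nat_lit 0x0))))) (Tr.node (Tr.node (Tr.node (Tr.leaf (nat_lit 0x6345673212376771)) (Tr.leaf (nat_lit 0x54321348786287121711))) (Tr.node (Tr.leaf (nat_lit 0x93421732671)) (Tr.leaf (nat_lit 0x0)))) (Tr.node (Tr.node (Tr.leaf (nat_lit 0x258684178263717717)) (Tr.leaf (nat_lit 0x26215477887621221))) (Tr.node (Tr.leaf (nat_lit 0x8458457736232677)) (Tr.leaf (nat_lit 0x0)))))) (Tr.node (Tr.node (Tr.node (Tr.node (Tr.leaf (nat_lit 0x41215878676)) (Tr.leaf (nat_lit 0x4814534812328762122))) (Tr.node (Tr.leaf (nat_lit 0x985134373363221711)) (Tr.leaf (nat_lit 0x0)))) (Tr.node (Tr.node (Tr.leaf (nat_lit 0x4571323717)) (Tr.leaf (nat_lit 0x4845152118232671))) (Tr.node (Tr.leaf (nat_lit 0x41342173121711)) (Tr.leaf (nat_lit 0x0))))) (Tr.node (Tr.node (Tr.node (Tr.leaf (nat_lit 0x9342173677621)) (Tr.leaf (nat_lit 0x5331341282128267))) (Tr.node (Tr.leaf (nat_lit 0x334532822321221211)) (Tr.leaf (nat_lit 0x0)))) (Tr.node (Tr.node (Tr.leaf (nat_lit 0x4534154231873677171)) (Tr.leaf (nat_lit 0x885213482867137622))) (Tr.node (Tr.leaf (nat_lit 0x4342173762122)) (Tr.leaf (nat_lit 0x0))))))) (Tr.node (Tr.node (Tr.node (Tr.node (Tr.node (Tr.leaf (nat_lit 0x76226)) (Tr.leaf (nat_lit 0x8562234788213676221))) (Tr.node (Tr.leaf (nat_lit 0x718634221813622622121)) (Tr.leaf (nat_lit 0x0)))) (Tr.node (Tr.node (Tr.leaf (nat_lit 0x31563433131362)) (Tr.leaf (nat_lit 0x356713471786776712))) (Tr.node (Tr.leaf (nat_lit 0x5435847732682622121)) (Tr.leaf (nat_lit 0x0))))) (Tr.node (Tr.node (Tr.node (Tr.leaf (nat_lit 0x31354877173267712)) (Tr.leaf (nat_lit 0x413421737762))) (Tr.node (Tr.leaf (nat_lit 0x2621547788)) (Tr.leaf (nat_lit 0x0)))) (Tr.node (Tr.node (Tr.leaf (nat_lit 0x313548771737622171)) (Tr.leaf (nat_lit 0x91342173771712))) (Tr.node (Tr.leaf (nat_lit 0x4814534812328171221)) (Tr.leaf (nat_lit 0x0)))))) (Tr.node (Tr.node (Tr.node (Tr.node (Tr.leaf (nat_lit 0x25868417826367121221)) (Tr.leaf (nat_lit 0x7686342218137622122))) (Tr.node (Tr.leaf (nat_lit 0x533134128212867717121)) (Tr.leaf (nat_lit 0x0)))) (Tr.node (Tr.node (Tr.leaf (nat_lit 0x413421732622626)) (Tr.leaf (nat_lit 0x54321348786282622622))) (Tr.node (Tr.leaf (nat_lit 0x48173421317821221221)) (Tr.leaf (nat_lit 0x0))))) (Tr.node (Tr.node (Tr.node (Tr.leaf (nat_lit 0x35671347178177121)) (Tr.leaf (nat_lit 0x598634678182121))) (Tr.node (Tr.leaf (nat_lit 0x88931512868676226)) (Tr.leaf (nat_lit 0x0)))) (Tr.node (Tr.node (Tr.leaf (nat_lit 0x3973153377622)) (Tr.leaf (nat_lit 0x0))) (Tr.node (Tr.leaf (nat_lit 0x485134373363771771)) (Tr.leaf (nat_lit 0x0))))))))) (Tr.node (Tr.node (Tr.node (Tr.node (Tr.node (Tr.node (Tr.node (Tr.leaf (nat_lit 0x17415232326217)) (Tr.leaf (nat_lit 0x4595347731812))) (Tr.node (Tr.leaf (nat_lit 0x48513437336376771771)) (Tr.leaf (nat_lit 0x0)))) (Tr.node (Tr.node (Tr.leaf (nat_lit 0x17415232367767)) (Tr.leaf (nat_lit 0x767767))) (Tr.node (Tr.leaf (nat_lit 0x1741523236226)) (Tr.leaf (nat_lit 0x0))))) (Tr.node (Tr.node (Tr.node (Tr.leaf (nat_lit 0x4342173767717)) (Tr.leaf (nat_lit 0x767547788262212))) (Tr.node (Tr.leaf (nat_lit 0x75153286732177111)) (Tr.leaf (nat_lit 0x0)))) (Tr.node (Tr.node (Tr.leaf (nat_lit 0x481734213178767767121)) (Tr.leaf (nat_lit 0x3567134717862676))) (Tr.node (Tr.leaf (nat_lit 0x8743153321221221)) (Tr.leaf (nat_lit 0x0)))))) (Tr.node (Tr.node (Tr.node (Tr.node (Tr.leaf (nat_lit 0x913421736776712)) (Tr.leaf (nat_lit 0x95953477318622171))) (Tr.node (Tr.leaf (nat_lit 0x87431533762676)) (Tr.leaf (nat_lit 0x0)))) (Tr.node (Tr.node (Tr.leaf (nat_lit 0x6845223178226221)) (Tr.leaf (nat_lit 0x653343233286221771))) (Tr.node (Tr.leaf (nat_lit 0x5435847732681771211)) (Tr.leaf (nat_lit 0x0))))) (Tr.node (Tr.node (Tr.node (Tr.leaf (nat_lit 0x34567321237762177)) (Tr.leaf (nat_lit 0x7686342218131221711))) (Tr.node (Tr.leaf (nat_lit 0x457132377)) (Tr.leaf (nat_lit 0x0)))) (Tr.node (Tr.node (Tr.leaf (nat_lit 0x7686342218136622)) (Tr.leaf (nat_lit 0x889315128686776712))) (Tr.node (Tr.leaf (nat_lit 0x6533432332821221211)) (Tr.leaf (nat_lit 0x0))))))) (Tr.node (Tr.node (Tr.node (Tr.node (Tr.node (Tr.leaf (nat_lit 0x4215878671)) (Tr.leaf (nat_lit 0x874315336221712))) (Tr.node (Tr.leaf (nat_lit 0x463421732622121)) (Tr.leaf (nat_lit 0x0)))) (Tr.node (Tr.node (Tr.leaf (nat_lit 0x35671347178262212)) (Tr.leaf (nat_lit 0x88521348286713771712))) (Tr.node (Tr.leaf (nat_lit 0x459534773186217712)) (Tr.leaf (nat_lit 0x0))))) (Tr.node (Tr.node (Tr.node (Tr.leaf (nat_lit 0x45341542318737717711)) (Tr.leaf (nat_lit 0x63456732123226217))) (Tr.node (Tr.leaf (nat_lit 0x8452231786212)) (Tr.leaf (nat_lit 0x0)))) (Tr.node (Tr.node (Tr.leaf (nat_lit 0x985134373363226766)) (Tr.leaf (nat_lit 0x76754778871771711))) (Tr.node (Tr.leaf (nat_lit 0x53313412821286217)) (Tr.leaf (nat_lit 0x0)))))) (Tr.node (Tr.node (Tr.node (Tr.node (Tr.leaf (nat_lit 0x9334267367622)) (Tr.leaf (nat_lit 0x58218413212317122))) (Tr.node (Tr.leaf (nat_lit 0x68452231787671)) (Tr.leaf (nat_lit 0x0)))) (Tr.node (Tr.node (Tr.leaf (nat_lit 0x413421737121221)) (Tr.leaf (nat_lit 0x88931512868676221))) (Tr.node (Tr.leaf (nat_lit 0x8458457736232262217)) (Tr.leaf (nat_lit 0x0))))) (Tr.node (Tr.node (Tr.node (Tr.leaf (nat_lit 0x413421736221771)) (Tr.leaf (nat_lit 0x98513437336312212171))) (Tr.node (Tr.leaf (nat_lit 0x85622347882136)) (Tr.leaf (nat_lit 0x0)))) (Tr.node (Tr.node (Tr.leaf (nat_lit 0x4817342131787762122)) (Tr.leaf (nat_lit 0x0))) (Tr.node (Tr.leaf (nat_lit 0x4595347731862267)) (Tr.leaf (nat_lit 0x0)))))))) (Tr.node (Tr.node (Tr.node (Tr.node (Tr.node (Tr.node (Tr.leaf (nat_lit 0x8452231782122171)) (Tr.leaf (nat_lit 0x453415423187322622121))) (Tr.node (Tr.leaf (nat_lit 0x184522317867766)) (Tr.leaf (nat_lit 0x0)))) (Tr.node (Tr.node (Tr.leaf (nat_lit 0x8852134828671322677)) (Tr.leaf (nat_lit 0x481453481232817712))) (Tr.node (Tr.leaf (nat_lit 0x933426737621221)) (Tr.leaf (nat_lit 0x0))))) (Tr.node (Tr.node (Tr.node (Tr.leaf (nat_lit 0x413421737177171)) (Tr.leaf (nat_lit 0x313548771731221217))) (Tr.node (Tr.leaf (nat_lit 0x3973153376217)) (Tr.leaf (nat_lit 0x0)))) (Tr.node (Tr.node (Tr.leaf (nat_lit 0x481734213178122121)) (Tr.leaf (nat_lit 0x7592534787812367121))) (Tr.node (Tr.leaf (nat_lit 0x4845152118231771211)) (Tr.leaf (nat_lit 0x0)))))) (Tr.node (Tr.node (Tr.node (Tr.node (Tr.leaf (nat_lit 0x4342173262177)) (Tr.leaf (nat_lit 0x9845152118232122121))) (Tr.node (Tr.leaf (nat_lit 0x35671347178767767)) (Tr.leaf (nat_lit 0x0)))) (Tr.node (Tr.node (Tr.leaf (nat_lit 0x313548771732262212)) (Tr.leaf (nat_lit 0x421587871))) (Tr.node (Tr.leaf (nat_lit 0x134567321236662)) (Tr.leaf (nat_lit 0x0))))) (Tr.node (Tr.node (Tr.node (Tr.leaf (nat_lit 0x4342173671221)) (Tr.leaf (nat_lit 0x153343233287177171))) (Tr.node (Tr.leaf (nat_lit 0x4571323762262)) (Tr.leaf (nat_lit 0x0)))) (Tr.node (Tr.node (Tr.leaf (nat_lit 0x93421736712122)) (Tr.leaf (nat_lit 0x18452231787122121))) (Tr.node (Tr.leaf (nat_lit 0x5821841321237762)) (Tr.leaf (nat_lit 0x0))))))) (Tr.node (Tr.node (Tr.node (Tr.node (Tr.node (Tr.leaf (nat_lit 0x4342173226776)) (Tr.leaf (nat_lit 0x5986346781822622))) (Tr.node (Tr.leaf (nat_lit 0x397315332267621)) (Tr.leaf (nat_lit 0x0)))) (Tr.node (Tr.node (Tr.leaf (nat_lit 0x934217326766)) (Tr.leaf (nat_lit 0x8458457736237677121))) (Tr.node (Tr.leaf (nat_lit 0x415713237762676)) (Tr.leaf (nat_lit 0x0))))) (Tr.node (Tr.node (Tr.node (Tr.leaf (nat_lit 0x75153286736717712)) (Tr.leaf (nat_lit 0x768634221813622676))) (Tr.node (Tr.leaf (nat_lit 0x35671347178)) (Tr.leaf (nat_lit 0x0)))) (Tr.node (Tr.node (Tr.leaf (nat_lit 0x41342173671221)) (Tr.leaf (nat_lit 0x1845223178762212))) (Tr.node (Tr.leaf (nat_lit 0x4595347731826221)) (Tr.leaf (nat_lit 0x0)))))) (Tr.node (Tr.node (Tr.node (Tr.node (Tr.leaf (nat_lit 0x933426732171)) (Tr.leaf (nat_lit 0x6598634678181771))) (Tr.node (Tr.leaf (nat_lit 0x75153286732267121)) (Tr.leaf (nat_lit 0x0)))) (Tr.node (Tr.node (Tr.leaf (nat_lit 0x985134373363621221)) (Tr.leaf (nat_lit 0x31563433131376771))) (Tr.node (Tr.leaf (nat_lit 0x95953477318762121)) (Tr.leaf (nat_lit 0x0))))) (Tr.node (Tr.node (Tr.node (Tr.leaf (nat_lit 0x543584773268771211)) (Tr.leaf (nat_lit 0x115334323328177121))) (Tr.node (Tr.leaf (nat_lit 0x3156343313132267622)) (Tr.leaf (nat_lit 0x0)))) (Tr.node (Tr.node (Tr.leaf (nat_lit 0x75925347878123622622621)) (Tr.leaf (nat_lit 0x0))) (Tr.node (Tr.leaf (nat_lit 0x88521348286713676221)) (Tr.leaf (nat_lit 0x0)))))))))) (Tr.node (Tr.node (Tr.node (Tr.node (Tr.node (Tr.node (Tr.node (Tr.node (Tr.leaf (nat_lit 0x53313412821281771712)) (Tr.leaf (nat_lit 0x7636842213187717))) (Tr.node (Tr.leaf (nat_lit 0x484515211823677621)) (Tr.leaf (nat_lit 0x0)))) (Tr.node (Tr.node (Tr.leaf (nat_lit 0x3456732123226267)) (Tr.leaf (nat_lit 0x33431512868762122))) (Tr.node (Tr.leaf (nat_lit 0x39584577362326221221)) (Tr.leaf (nat_lit 0x0))))) (Tr.node (Tr.node (Tr.node (Tr.leaf (nat_lit 0x7636842213186776776)) (Tr.leaf (nat_lit 0x659863467818771))) (Tr.node (Tr.leaf (nat_lit 0x634567321232211)) (Tr.leaf (nat_lit 0x0)))) (Tr.node (Tr.node (Tr.leaf (nat_lit 0x1533432332867712)) (Tr.leaf (nat_lit 0x485134373363776771))) (Tr.node (Tr.leaf (nat_lit 0x3343151286867712)) (Tr.leaf (nat_lit 0x0)))))) (Tr.node (Tr.node (Tr.node (Tr.node (Tr.leaf (nat_lit 0x93342673676221)) (Tr.leaf (nat_lit 0x913421737177171))) (Tr.node (Tr.leaf (nat_lit 0x598634678186717)) (Tr.leaf (nat_lit 0x0)))) (Tr.node (Tr.node (Tr.leaf (nat_lit 0x39731533762676)) (Tr.leaf (nat_lit 0x481734213178717712))) (Tr.node (Tr.leaf (nat_lit 0x48513437336326267)) (Tr.leaf (nat_lit 0x0))))) (Tr.node (Tr.node (Tr.node (Tr.leaf (nat_lit 0x4334267362671)) (Tr.leaf (nat_lit 0x8893151286862676))) (Tr.node (Tr.leaf (nat_lit 0x767547788776712)) (Tr.leaf (nat_lit 0x0)))) (Tr.node (Tr.node (Tr.leaf (nat_lit 0x4215878267171)) (Tr.leaf (nat_lit 0x17415232321217))) (Tr.node (Tr.leaf (nat_lit 0x33453282237177171)) (Tr.leaf (nat_lit 0x0))))))) (Tr.node (Tr.node (Tr.node (Tr.node (Tr.node (Tr.leaf (nat_lit 0x184522317867171)) (Tr.leaf (nat_lit 0x84584577362371217))) (Tr.node (Tr.leaf (nat_lit 0x87431533762671)) (Tr.leaf (nat_lit 0x0)))) (Tr.node (Tr.node (Tr.leaf (nat_lit 0x457132321211)) (Tr.leaf (nat_lit 0x5821841321237671212))) (Tr.node (Tr.leaf (nat_lit 0x65334323328177121)) (Tr.leaf (nat_lit 0x0))))) (Tr.node (Tr.node (Tr.node (Tr.leaf (nat_lit 0x3958457736237111)) (Tr.leaf (nat_lit 0x412158787))) (Tr.node (Tr.leaf (nat_lit 0x34567321232622)) (Tr.leaf (nat_lit 0x0)))) (Tr.node (Tr.node (Tr.leaf (nat_lit 0x5331341282128771712)) (Tr.leaf (nat_lit 0x759253478781231771771))) (Tr.node (Tr.leaf (nat_lit 0x356713471787677171)) (Tr.leaf (nat_lit 0x0)))))) (Tr.node (Tr.node (Tr.node (Tr.node (Tr.leaf (nat_lit 0x54321348786282267621)) (Tr.leaf (nat_lit 0x48145348123282676))) (Tr.node (Tr.leaf (nat_lit 0x885213482867136217)) (Tr.leaf (nat_lit 0x0)))) (Tr.node (Tr.node (Tr.leaf (nat_lit 0x6345673212366226)) (Tr.leaf (nat_lit 0x9342173776662))) (Tr.node (Tr.leaf (nat_lit 0x5821841321232671)) (Tr.leaf (nat_lit 0x0))))) (Tr.node (Tr.node (Tr.node (Tr.leaf (nat_lit 0x1345673212377171)) (Tr.leaf (nat_lit 0x33431512868712122))) (Tr.node (Tr.leaf (nat_lit 0x533432332812171)) (Tr.leaf (nat_lit 0x0)))) (Tr.node (Tr.node (Tr.leaf (nat_lit 0x8452231786717)) (Tr.leaf (nat_lit 0x622177))) (Tr.node (Tr.leaf (nat_lit 0x778934682323662)) (Tr.leaf (nat_lit 0x0)))))))) (Tr.node (Tr.node (Tr.node (Tr.node (Tr.node (Tr.node (Tr.leaf (nat_lit 0x4134217322177)) (Tr.leaf (nat_lit 0x4571154877878626771))) (Tr.node (Tr.leaf (nat_lit 0x46342173762122)) (Tr.leaf (nat_lit 0x0)))) (Tr.node (Tr.node (Tr.leaf (nat_lit 0x845845773623267766)) (Tr.leaf (nat_lit 0x1741523236221))) (Tr.node (Tr.leaf (nat_lit 0x48451521182321221211)) (Tr.leaf (nat_lit 0x0))))) (Tr.node (Tr.node (Tr.node (Tr.leaf (nat_lit 0x481734213178671)) (Tr.leaf (nat_lit 0x8852134828671371771711))) (Tr.node (Tr.leaf (nat_lit 0x2885684282217711)) (Tr.leaf (nat_lit 0x0)))) (Tr.node (Tr.node (Tr.leaf (nat_lit 0x1434217362671)) (Tr.leaf (nat_lit 0x4215878767712))) (Tr.node (Tr.leaf (nat_lit 0x11533432332871221)) (Tr.leaf (nat_lit 0x0)))))) (Tr.node (Tr.node (Tr.node (Tr.node (Tr.leaf (nat_lit 0x453415423187326217)) (Tr.leaf (nat_lit 0x5821841321236776712))) (Tr.node (Tr.leaf (nat_lit 0x345673212322)) (Tr.leaf (nat_lit 0x0)))) (Tr.node (Tr.node (Tr.leaf (nat_lit 0x31354877173712)) (Tr.leaf (nat_lit 0x5435847732682171))) (Tr.node (Tr.leaf (nat_lit 0x4851343733636221217)) (Tr.leaf (nat_lit 0x0))))) (Tr.node (Tr.node (Tr.node (Tr.leaf (nat_lit 0x6598634678186226221)) (Tr.leaf (nat_lit 0x397315332622622))) (Tr.node (Tr.leaf (nat_lit 0x3345328223212212)) (Tr.leaf (nat_lit 0x0)))) (Tr.node (Tr.node (Tr.leaf (nat_lit 0x457115487787871217)) (Tr.leaf (nat_lit 0x174152323122111))) (Tr.node (Tr.leaf (nat_lit 0x434217362171)) (Tr.leaf (nat_lit 0x0))))))) (Tr.node (Tr.node (Tr.node (Tr.node (Tr.node (Tr.leaf (nat_lit 0x45713236226226)) (Tr.leaf (nat_lit 0x5432134878628621771))) (Tr.node (Tr.leaf (nat_lit 0x5334323328677626)) (Tr.leaf (nat_lit 0x0)))) (Tr.node (Tr.node (Tr.leaf (nat_lit 0x7592534787812377171)) (Tr.leaf (nat_lit 0x395845773623622621))) (Tr.node (Tr.leaf (nat_lit 0x48145348123286217)) (Tr.leaf (nat_lit 0x0))))) (Tr.node (Tr.node (Tr.node (Tr.leaf (nat_lit 0x43342673226771)) (Tr.leaf (nat_lit 0x77893468232321111))) (Tr.node (Tr.leaf (nat_lit 0x1345673212321221)) (Tr.leaf (nat_lit 0x0)))) (Tr.node (Tr.node (Tr.leaf (nat_lit 0x258684178263212212)) (Tr.leaf (nat_lit 0x8852134828671366))) (Tr.node (Tr.leaf (nat_lit 0x98451521182371221)) (Tr.leaf (nat_lit 0x0)))))) (Tr.node (Tr.node (Tr.node (Tr.node (Tr.leaf (nat_lit 0x258684178263677121)) (Tr.leaf (nat_lit 0x48145348123286776712))) (Tr.node (Tr.leaf (nat_lit 0x15334323328121711)) (Tr.leaf (nat_lit 0x0)))) (Tr.node (Tr.node (Tr.leaf (nat_lit 0x421587876771712)) (Tr.leaf (nat_lit 0x415713236712212))) (Tr.node (Tr.leaf (nat_lit 0x6598634678186221221)) (Tr.leaf (nat_lit 0x0))))) (Tr.node (Tr.node (Tr.node (Tr.leaf (nat_lit 0x74152323226766)) (Tr.leaf (nat_lit 0x8562234788213226776))) (Tr.node (Tr.leaf (nat_lit 0x778934682323677171)) (Tr.leaf (nat_lit 0x0)))) (Tr.node (Tr.node (Tr.leaf (nat_lit 0x959534773182122111)) (Tr.leaf (nat_lit 0x0))) (Tr.node (Tr.leaf (nat_lit 0x84584577362317)) (Tr.leaf (nat_lit 0x0))))))))) (Tr.node (Tr.node (Tr.node (Tr.node (Tr.node (Tr.node (Tr.node (Tr.leaf (nat_lit 0x41215878767762)) (Tr.leaf (nat_lit 0x934217362676))) (Tr.node (Tr.leaf (nat_lit 0x7686342218136776776)) (Tr.leaf (nat_lit 0x0)))) (Tr.node (Tr.node (Tr.leaf (nat_lit 0x485134373363221711)) (Tr.leaf (nat_lit 0x54321348786287767717))) (Tr.node (Tr.leaf (nat_lit 0x582184132123267)) (Tr.leaf (nat_lit 0x0))))) (Tr.node (Tr.node (Tr.node (Tr.leaf (nat_lit 0x6845223178262267)) (Tr.leaf (nat_lit 0x3156343313132211))) (Tr.node (Tr.leaf (nat_lit 0x174152323762217)) (Tr.leaf (nat_lit 0x0)))) (Tr.node (Tr.node (Tr.leaf (nat_lit 0x959534773186622)) (Tr.leaf (nat_lit 0x143421736267))) (Tr.node (Tr.leaf (nat_lit 0x174152323717121)) (Tr.leaf (nat_lit 0x0)))))) (Tr.node (Tr.node (Tr.node (Tr.node (Tr.leaf (nat_lit 0x433426736771712)) (Tr.leaf (nat_lit 0x395845773623767712))) (Tr.node (Tr.leaf (nat_lit 0x8852134828671362171)) (Tr.leaf (nat_lit 0x0)))) (Tr.node (Tr.node (Tr.leaf (nat_lit 0x95953477318171211)) (Tr.leaf (nat_lit 0x6533432332871221))) (Tr.node (Tr.leaf (nat_lit 0x6533432332822177)) (Tr.leaf (nat_lit 0x0))))) (Tr.node (Tr.node (Tr.node (Tr.leaf (nat_lit 0x684522317862121)) (Tr.leaf (nat_lit 0x6845223178776))) (Tr.node (Tr.leaf (nat_lit 0x653343233287177171)) (Tr.leaf (nat_lit 0x0)))) (Tr.node (Tr.node (Tr.leaf (nat_lit 0x315634331313626)) (Tr.leaf (nat_lit 0x313548771737677177))) (Tr.node (Tr.leaf (nat_lit 0x395845773623122121)) (Tr.leaf (nat_lit 0x0))))))) (Tr.node (Tr.node (Tr.node (Tr.node (Tr.node (Tr.leaf (nat_lit 0x39731533767717121)) (Tr.leaf (nat_lit 0x13456732123221))) (Tr.node (Tr.leaf (nat_lit 0x4845152118237121221)) (Tr.leaf (nat_lit 0x0)))) (Tr.node (Tr.node (Tr.leaf (nat_lit 0x93342673677626)) (Tr.leaf (nat_lit 0x3135487717371712))) (Tr.node (Tr.leaf (nat_lit 0x313548771737626)) (Tr.leaf (nat_lit 0x0))))) (Tr.node (Tr.node (Tr.node (Tr.leaf (nat_lit 0x543213487862871111)) (Tr.leaf (nat_lit 0x6845223178267621))) (Tr.node (Tr.leaf (nat_lit 0x856223478821377621)) (Tr.leaf (nat_lit 0x0)))) (Tr.node (Tr.node (Tr.leaf (nat_lit 0x985134373363217122)) (Tr.leaf (nat_lit 0x68452231781771))) (Tr.node (Tr.leaf (nat_lit 0x767547788712122)) (Tr.leaf (nat_lit 0x0)))))) (Tr.node (Tr.node (Tr.node (Tr.node (Tr.leaf (nat_lit 0x41342173226771)) (Tr.leaf (nat_lit 0x395845773623217711))) (Tr.node (Tr.leaf (nat_lit 0x582184132123676221)) (Tr.leaf (nat_lit 0x0)))) (Tr.node (Tr.node (Tr.leaf (nat_lit 0x9134217377626)) (Tr.leaf (nat_lit 0x4814534812328177121))) (Tr.node (Tr.leaf (nat_lit 0x3156343313136771771)) (Tr.leaf (nat_lit 0x0))))) (Tr.node (Tr.node (Tr.node (Tr.leaf (nat_lit 0x14342173217111)) (Tr.leaf (nat_lit 0x262154778862676))) (Tr.node (Tr.leaf (nat_lit 0x889315128687712)) (Tr.leaf (nat_lit 0x0)))) (Tr.node (Tr.node (Tr.leaf (nat_lit 0x11533432332867622)) (Tr.leaf (nat_lit 0x0))) (Tr.node (Tr.leaf (nat_lit 0x65986346781822122)) (Tr.leaf (nat_lit 0x0)))))))) (Tr.node (Tr.node (Tr.node (Tr.node (Tr.node (Tr.node (Tr.leaf (nat_lit 0x4157132321712)) (Tr.leaf (nat_lit 0x9134217371771711))) (Tr.node (Tr.leaf (nat_lit 0x1345673212376212)) (Tr.leaf (nat_lit 0x0)))) (Tr.node (Tr.node (Tr.leaf (nat_lit 0x59863467818776)) (Tr.leaf (nat_lit 0x395845773623771221))) (Tr.node (Tr.leaf (nat_lit 0x217)) (Tr.leaf (nat_lit 0x0))))) (Tr.node (Tr.node (Tr.node (Tr.leaf (nat_lit 0x334532822367712)) (Tr.leaf (nat_lit 0x58218413212371771711))) (Tr.node (Tr.leaf (nat_lit 0x85622347882132622626)) (Tr.leaf (nat_lit 0x0)))) (Tr.node (Tr.node (Tr.leaf (nat_lit 0x415713232677177)) (Tr.leaf (nat_lit 0x3345328223121711))) (Tr.node (Tr.leaf (nat_lit 0x5334323328622177)) (Tr.leaf (nat_lit 0x0)))))) (Tr.node (Tr.node (Tr.node (Tr.node (Tr.leaf (nat_lit 0x415713232212211)) (Tr.leaf (nat_lit 0x459534773182262671))) (Tr.node (Tr.leaf (nat_lit 0x7515328673226712)) (Tr.leaf (nat_lit 0x0)))) (Tr.node (Tr.node (Tr.leaf (nat_lit 0x984515211823676221)) (Tr.leaf (nat_lit 0x4595347731817121))) (Tr.node (Tr.leaf (nat_lit 0x53313412821287717121)) (Tr.leaf (nat_lit 0x0))))) (Tr.node (Tr.node (Tr.node (Tr.leaf (nat_lit 0x77626)) (Tr.leaf (nat_lit 0x34567321237767))) (Tr.node (Tr.leaf (nat_lit 0x65334323328666)) (Tr.leaf (nat_lit 0x0)))) (Tr.node (Tr.node (Tr.leaf (nat_lit 0x46342173217)) (Tr.leaf (nat_lit 0x33453282237621221))) (Tr.node (Tr.leaf (nat_lit 0x889315128686771712)) (Tr.leaf (nat_lit 0x0))))))) (Tr.node (Tr.node (Tr.node (Tr.node (Tr.node (Tr.leaf (nat_lit 0x18452231787626771)) (Tr.leaf (nat_lit 0x39584577362326226221))) (Tr.node (Tr.leaf (nat_lit 0x59863467818762677)) (Tr.leaf (nat_lit 0x0)))) (Tr.node (Tr.node (Tr.leaf (nat_lit 0x1741523232217)) (Tr.leaf (nat_lit 0x481453481232867717121))) (Tr.node (Tr.leaf (nat_lit 0x25868417826367622)) (Tr.leaf (nat_lit 0x0))))) (Tr.node (Tr.node (Tr.node (Tr.leaf (nat_lit 0x3343151286822177)) (Tr.leaf (nat_lit 0x2885684287177171))) (Tr.node (Tr.leaf (nat_lit 0x288568428717717)) (Tr.leaf (nat_lit 0x0)))) (Tr.node (Tr.node (Tr.leaf (nat_lit 0x5435847732687122111)) (Tr.leaf (nat_lit 0x1741523237677177))) (Tr.node (Tr.leaf (nat_lit 0x48451521182321711)) (Tr.leaf (nat_lit 0x0)))))) (Tr.node (Tr.node (Tr.node (Tr.node (Tr.leaf (nat_lit 0x41571323177)) (Tr.leaf (nat_lit 0x35671347178267))) (Tr.node (Tr.leaf (nat_lit 0x4595347731822111)) (Tr.leaf (nat_lit 0x0)))) (Tr.node (Tr.node (Tr.leaf (nat_lit 0x31354877173671212)) (Tr.leaf (nat_lit 0x7636842213186712))) (Tr.node (Tr.leaf (nat_lit 0x68452231782622671)) (Tr.leaf (nat_lit 0x0))))) (Tr.node (Tr.node (Tr.node (Tr.leaf (nat_lit 0x4817342131782267621)) (Tr.leaf (nat_lit 0x2586841782637177171))) (Tr.node (Tr.leaf (nat_lit 0x88521348286713762122)) (Tr.leaf (nat_lit 0x0)))) (Tr.node (Tr.node (Tr.leaf (nat_lit 0x98513437336322622121)) (Tr.leaf (nat_lit 0x0))) (Tr.node (Tr.leaf (nat_lit 0x845845773623622626)) (Tr.leaf (nat_lit 0x0)))))))))))))) (Tr.node (Tr.node (Tr.node (Tr.node (Tr.node (Tr.node (Tr.node (Tr.node (Tr.node (Tr.node (Tr.node (Tr.node (Tr.leaf (nat_lit 0x712122)) (Tr.leaf (nat_lit 0x395845773623762671))) (Tr.node (Tr.leaf (nat_lit 0x88521348286713622177)) (Tr.leaf (nat_lit 0x0)))) (Tr.node (Tr.node (Tr.leaf (nat_lit 0x845223178122122)) (Tr.leaf (nat_lit 0x4134217367717121))) (Tr.node (Tr.leaf (nat_lit 0x751532867377677171)) (Tr.leaf (nat_lit 0x0))))) (Tr.node (Tr.node (Tr.node (Tr.leaf (nat_lit 0x913421731)) (Tr.leaf (nat_lit 0x4817342131782217121))) (Tr.node (Tr.leaf (nat_lit 0x485134373363662)) (Tr.leaf (nat_lit 0x0)))) (Tr.node (Tr.node (Tr.leaf (nat_lit 0x6845223178762262)) (Tr.leaf (nat_lit 0x653343233286217))) (Tr.node (Tr.leaf (nat_lit 0x459534773181771771)) (Tr.leaf (nat_lit 0x0)))))) (Tr.node (Tr.node (Tr.node (Tr.node (Tr.leaf (nat_lit 0x6345673212362262262)) (Tr.leaf (nat_lit 0x7592534787812366226))) (Tr.node (Tr.leaf (nat_lit 0x53343233282217711)) (Tr.leaf (nat_lit 0x0)))) (Tr.node (Tr.node (Tr.leaf (nat_lit 0x58218413212321221211)) (Tr.leaf (nat_lit 0x1434217367762))) (Tr.node (Tr.leaf (nat_lit 0x54358477326867712)) (Tr.leaf (nat_lit 0x0))))) (Tr.node (Tr.node (Tr.node (Tr.leaf (nat_lit 0x28856842871771711)) (Tr.leaf (nat_lit 0x2621547788712122))) (Tr.node (Tr.leaf (nat_lit 0x9342173767767)) (Tr.leaf (nat_lit 0x0)))) (Tr.node (Tr.node (Tr.leaf (nat_lit 0x659863467818212217)) (Tr.leaf (nat_lit 0x9845152118237677671))) (Tr.node (Tr.leaf (nat_lit 0x91342173776662)) (Tr.leaf (nat_lit 0x0))))))) (Tr.node (Tr.node (Tr.node (Tr.node (Tr.node (Tr.leaf (nat_lit 0x42158786717712)) (Tr.leaf (nat_lit 0x76754778867121221))) (Tr.node (Tr.leaf (nat_lit 0x88931512868267)) (Tr.leaf (nat_lit 0x0)))) (Tr.node (Tr.node (Tr.leaf (nat_lit 0x889315128686)) (Tr.leaf (nat_lit 0x7415232321217))) (Tr.node (Tr.leaf (nat_lit 0x93342673121711)) (Tr.leaf (nat_lit 0x0))))) (Tr.node (Tr.node (Tr.node (Tr.leaf (nat_lit 0x4334267322677)) (Tr.leaf (nat_lit 0x984515211823226717))) (Tr.node (Tr.leaf (nat_lit 0x45341542318732671221)) (Tr.leaf (nat_lit 0x0)))) (Tr.node (Tr.node (Tr.leaf (nat_lit 0x134567321232262171)) (Tr.leaf (nat_lit 0x6598634678187711))) (Tr.node (Tr.leaf (nat_lit 0x768634221813177177)) (Tr.leaf (nat_lit 0x0)))))) (Tr.node (Tr.node (Tr.node (Tr.node (Tr.leaf (nat_lit 0x4157132322122)) (Tr.leaf (nat_lit 0x6598634678182677177))) (Tr.node (Tr.leaf (nat_lit 0x3345328223762122)) (Tr.leaf (nat_lit 0x0)))) (Tr.node (Tr.node (Tr.leaf (nat_lit 0x25868417826367122)) (Tr.leaf (nat_lit 0x5435847732682122121))) (Tr.node (Tr.leaf (nat_lit 0x1741523232111)) (Tr.leaf (nat_lit 0x0))))) (Tr.node (Tr.node (Tr.node (Tr.leaf (nat_lit 0x41215878221211)) (Tr.leaf (nat_lit 0x7415232322622121))) (Tr.node (Tr.leaf (nat_lit 0x7592534787812376776)) (Tr.leaf (nat_lit 0x0)))) (Tr.node (Tr.node (Tr.leaf (nat_lit 0x71863422181376776)) (Tr.leaf (nat_lit 0x7789346823232267))) (Tr.node (Tr.leaf (nat_lit 0x334315128686771712)) (Tr.leaf (nat_lit 0x0)))))))) (Tr.node (Tr.node (Tr.node (Tr.node (Tr.node (Tr.node (Tr.leaf (nat_lit 0x666)) (Tr.leaf (nat_lit 0x934217377621))) (Tr.node (Tr.leaf (nat_lit 0x45953477318221)) (Tr.leaf (nat_lit 0x0)))) (Tr.node (Tr.node (Tr.leaf (nat_lit 0x68452231787626771)) (Tr.leaf (nat_lit 0x767547788111))) (Tr.node (Tr.leaf (nat_lit 0x3958457736236771221)) (Tr.leaf (nat_lit 0x0))))) (Tr.node (Tr.node (Tr.node (Tr.leaf (nat_lit 0x457115487787876267)) (Tr.leaf (nat_lit 0x4851343733632676221))) (Tr.node (Tr.leaf (nat_lit 0x845845773623622621)) (Tr.leaf (nat_lit 0x0)))) (Tr.node (Tr.node (Tr.leaf (nat_lit 0x65334323328622177)) (Tr.leaf (nat_lit 0x4571154877878767762))) (Tr.node (Tr.leaf (nat_lit 0x85622347882136267)) (Tr.leaf (nat_lit 0x0)))))) (Tr.node (Tr.node (Tr.node (Tr.node (Tr.leaf (nat_lit 0x3973153376)) (Tr.leaf (nat_lit 0x889315128682122121))) (Tr.node (Tr.leaf (nat_lit 0x874315332217121)) (Tr.leaf (nat_lit 0x0)))) (Tr.node (Tr.node (Tr.leaf (nat_lit 0x4634217322677)) (Tr.leaf (nat_lit 0x53343233286267))) (Tr.node (Tr.leaf (nat_lit 0x91342173217111)) (Tr.leaf (nat_lit 0x0))))) (Tr.node (Tr.node (Tr.node (Tr.leaf (nat_lit 0x4571154877878622626)) (Tr.leaf (nat_lit 0x598634678182622122121))) (Tr.node (Tr.leaf (nat_lit 0x481734213178626771)) (Tr.leaf (nat_lit 0x0)))) (Tr.node (Tr.node (Tr.leaf (nat_lit 0x741523232262177)) (Tr.leaf (nat_lit 0x634567321232122))) (Tr.node (Tr.leaf (nat_lit 0x751532867326226221)) (Tr.leaf (nat_lit 0x0))))))) (Tr.node (Tr.node (Tr.node (Tr.node (Tr.node (Tr.leaf (nat_lit 0x6845223178221221)) (Tr.leaf (nat_lit 0x31354877173267762))) (Tr.node (Tr.leaf (nat_lit 0x84584577362377122)) (Tr.leaf (nat_lit 0x0)))) (Tr.node (Tr.node (Tr.leaf (nat_lit 0x415713232121)) (Tr.leaf (nat_lit 0x85622347882136776712))) (Tr.node (Tr.leaf (nat_lit 0x2621547788171221)) (Tr.leaf (nat_lit 0x0))))) (Tr.node (Tr.node (Tr.node (Tr.leaf (nat_lit 0x45711548778782177111)) (Tr.leaf (nat_lit 0x9851343733632622177))) (Tr.node (Tr.leaf (nat_lit 0x45713237626771)) (Tr.leaf (nat_lit 0x0)))) (Tr.node (Tr.node (Tr.leaf (nat_lit 0x67767121)) (Tr.leaf (nat_lit 0x356713471781217))) (Tr.node (Tr.leaf (nat_lit 0x54321348786287111)) (Tr.leaf (nat_lit 0x0)))))) (Tr.node (Tr.node (Tr.node (Tr.node (Tr.leaf (nat_lit 0x4342173217111)) (Tr.leaf (nat_lit 0x874315337712211))) (Tr.node (Tr.leaf (nat_lit 0x45711548778782622122)) (Tr.leaf (nat_lit 0x0)))) (Tr.node (Tr.node (Tr.leaf (nat_lit 0x413421737122111)) (Tr.leaf (nat_lit 0x6845223178262212212))) (Tr.node (Tr.leaf (nat_lit 0x88931512868262262)) (Tr.leaf (nat_lit 0x0))))) (Tr.node (Tr.node (Tr.node (Tr.leaf (nat_lit 0x48173421317867)) (Tr.leaf (nat_lit 0x134567321237762177))) (Tr.node (Tr.leaf (nat_lit 0x34567321236622)) (Tr.leaf (nat_lit 0x0)))) (Tr.node (Tr.node (Tr.leaf (nat_lit 0x985134373363217712)) (Tr.leaf (nat_lit 0x0))) (Tr.node (Tr.leaf (nat_lit 0x4595347731812217)) (Tr.leaf (nat_lit 0x0))))))))) (Tr.node (Tr.node (Tr.node (Tr.node (Tr.node (Tr.node (Tr.node (Tr.leaf (nat_lit 0x3156343313132122)) (Tr.leaf (nat_lit 0x58218413212366))) (Tr.node (Tr.leaf (nat_lit 0x543213487862862262)) (Tr.leaf (nat_lit 0x0)))) (Tr.node (Tr.node (Tr.leaf (nat_lit 0x582184132123262177)) (Tr.leaf (nat_lit 0x7675477887621221))) (Tr.node (Tr.leaf (nat_lit 0x153343233281771211)) (Tr.leaf (nat_lit 0x0))))) (Tr.node (Tr.node (Tr.node (Tr.leaf (nat_lit 0x14342173767717)) (Tr.leaf (nat_lit 0x415713237626771))) (Tr.node (Tr.leaf (nat_lit 0x95953477318226)) (Tr.leaf (nat_lit 0x0)))) (Tr.node (Tr.node (Tr.leaf (nat_lit 0x46342173226717)) (Tr.leaf (nat_lit 0x395845773623171))) (Tr.node (Tr.leaf (nat_lit 0x88931512868766622)) (Tr.leaf (nat_lit 0x0)))))) (Tr.node (Tr.node (Tr.node (Tr.node (Tr.leaf (nat_lit 0x45713236771)) (Tr.leaf (nat_lit 0x9851343733632111))) (Tr.node (Tr.leaf (nat_lit 0x9134217362676)) (Tr.leaf (nat_lit 0x0)))) (Tr.node (Tr.node (Tr.leaf (nat_lit 0x1345673212367121)) (Tr.leaf (nat_lit 0x778934682323677671))) (Tr.node (Tr.leaf (nat_lit 0x6845223178776217)) (Tr.leaf (nat_lit 0x0))))) (Tr.node (Tr.node (Tr.node (Tr.leaf (nat_lit 0x48451521182362671)) (Tr.leaf (nat_lit 0x768634221813622671))) (Tr.node (Tr.leaf (nat_lit 0x453415423187367717)) (Tr.leaf (nat_lit 0x0)))) (Tr.node (Tr.node (Tr.leaf (nat_lit 0x457132367171)) (Tr.leaf (nat_lit 0x68452231782122122121))) (Tr.node (Tr.leaf (nat_lit 0x77893468232322622621)) (Tr.leaf (nat_lit 0x0))))))) (Tr.node (Tr.node (Tr.node (Tr.node (Tr.node (Tr.leaf (nat_lit 0x41215878226762)) (Tr.leaf (nat_lit 0x4121587862212))) (Tr.node (Tr.leaf (nat_lit 0x767547788262262)) (Tr.leaf (nat_lit 0x0)))) (Tr.node (Tr.node (Tr.leaf (nat_lit 0x4215878221211)) (Tr.leaf (nat_lit 0x262154778867122))) (Tr.node (Tr.leaf (nat_lit 0x33431512868217111)) (Tr.leaf (nat_lit 0x0))))) (Tr.node (Tr.node (Tr.node (Tr.leaf (nat_lit 0x53313412821287177171)) (Tr.leaf (nat_lit 0x7675477886776712))) (Tr.node (Tr.leaf (nat_lit 0x845223178177111)) (Tr.leaf (nat_lit 0x0)))) (Tr.node (Tr.node (Tr.leaf (nat_lit 0x75925347878123177177)) (Tr.leaf (nat_lit 0x84522317817711))) (Tr.node (Tr.leaf (nat_lit 0x334315128687622)) (Tr.leaf (nat_lit 0x0)))))) (Tr.node (Tr.node (Tr.node (Tr.node (Tr.leaf (nat_lit 0x85622347882132622121)) (Tr.leaf (nat_lit 0x5821841321237121221))) (Tr.node (Tr.leaf (nat_lit 0x25868417826322677)) (Tr.leaf (nat_lit 0x0)))) (Tr.node (Tr.node (Tr.leaf (nat_lit 0x959534773182211)) (Tr.leaf (nat_lit 0x43342673712211))) (Tr.node (Tr.leaf (nat_lit 0x1741523232262177)) (Tr.leaf (nat_lit 0x0))))) (Tr.node (Tr.node (Tr.node (Tr.leaf (nat_lit 0x75153286737121711)) (Tr.leaf (nat_lit 0x718634221813622122121))) (Tr.node (Tr.leaf (nat_lit 0x174152323262171)) (Tr.leaf (nat_lit 0x0)))) (Tr.node (Tr.node (Tr.leaf (nat_lit 0x885213482867132622121)) (Tr.leaf (nat_lit 0x0))) (Tr.node (Tr.leaf (nat_lit 0x258684178263762122)) (Tr.leaf (nat_lit 0x0)))))))) (Tr.node (Tr.node (Tr.node (Tr.node (Tr.node (Tr.node (Tr.leaf (nat_lit 0x457132326762)) (Tr.leaf (nat_lit 0x115334323328677621))) (Tr.node (Tr.leaf (nat_lit 0x45711548778782262)) (Tr.leaf (nat_lit 0x0)))) (Tr.node (Tr.node (Tr.leaf (nat_lit 0x543213487862826776)) (Tr.leaf (nat_lit 0x31354877173226766))) (Tr.node (Tr.leaf (nat_lit 0x95953477318226217)) (Tr.leaf (nat_lit 0x0))))) (Tr.node (Tr.node (Tr.node (Tr.leaf (nat_lit 0x684522317867171)) (Tr.leaf (nat_lit 0x4571154877878626776))) (Tr.node (Tr.leaf (nat_lit 0x934217322677)) (Tr.leaf (nat_lit 0x0)))) (Tr.node (Tr.node (Tr.leaf (nat_lit 0x5334323328712211)) (Tr.leaf (nat_lit 0x2586841782637712))) (Tr.node (Tr.leaf (nat_lit 0x889315128681)) (Tr.leaf (nat_lit 0x0)))))) (Tr.node (Tr.node (Tr.node (Tr.node (Tr.leaf (nat_lit 0x1434217317712)) (Tr.leaf (nat_lit 0x8562234788213226771))) (Tr.node (Tr.leaf (nat_lit 0x985134373363267122)) (Tr.leaf (nat_lit 0x0)))) (Tr.node (Tr.node (Tr.leaf (nat_lit 0x543584773268226771)) (Tr.leaf (nat_lit 0x2171))) (Tr.node (Tr.leaf (nat_lit 0x7186342218137767)) (Tr.leaf (nat_lit 0x0))))) (Tr.node (Tr.node (Tr.node (Tr.leaf (nat_lit 0x741523237622171)) (Tr.leaf (nat_lit 0x25868417826362676))) (Tr.node (Tr.leaf (nat_lit 0x45713232267177)) (Tr.leaf (nat_lit 0x0)))) (Tr.node (Tr.node (Tr.leaf (nat_lit 0x14342173171221)) (Tr.leaf (nat_lit 0x415713237767122))) (Tr.node (Tr.leaf (nat_lit 0x1153343233281217)) (Tr.leaf (nat_lit 0x0))))))) (Tr.node (Tr.node (Tr.node (Tr.node (Tr.node (Tr.leaf (nat_lit 0x421587821221221)) (Tr.leaf (nat_lit 0x28856842866))) (Tr.node (Tr.leaf (nat_lit 0x634567321232177171)) (Tr.leaf (nat_lit 0x0)))) (Tr.node (Tr.node (Tr.leaf (nat_lit 0x9334267366)) (Tr.leaf (nat_lit 0x653343233282671))) (Tr.node (Tr.leaf (nat_lit 0x76863422181321221)) (Tr.leaf (nat_lit 0x0))))) (Tr.node (Tr.node (Tr.node (Tr.leaf (nat_lit 0x484515211823226771)) (Tr.leaf (nat_lit 0x8452231781771))) (Tr.node (Tr.leaf (nat_lit 0x88521348286713776662)) (Tr.leaf (nat_lit 0x0)))) (Tr.node (Tr.node (Tr.leaf (nat_lit 0x65334323328771211)) (Tr.leaf (nat_lit 0x54321348786282677))) (Tr.node (Tr.leaf (nat_lit 0x31563433131371212)) (Tr.leaf (nat_lit 0x0)))))) (Tr.node (Tr.node (Tr.node (Tr.node (Tr.leaf (nat_lit 0x14342173226776)) (Tr.leaf (nat_lit 0x68452231787622626))) (Tr.node (Tr.leaf (nat_lit 0x434217321221211)) (Tr.leaf (nat_lit 0x0)))) (Tr.node (Tr.node (Tr.leaf (nat_lit 0x87431533717712)) (Tr.leaf (nat_lit 0x18452231781212))) (Tr.node (Tr.leaf (nat_lit 0x741523232677621)) (Tr.leaf (nat_lit 0x0))))) (Tr.node (Tr.node (Tr.node (Tr.leaf (nat_lit 0x4342173776712)) (Tr.leaf (nat_lit 0x1434217321221211))) (Tr.node (Tr.leaf (nat_lit 0x17415232312211)) (Tr.leaf (nat_lit 0x0)))) (Tr.node (Tr.node (Tr.leaf (nat_lit 0x4851343733637622171)) (Tr.leaf (nat_lit 0x0))) (Tr.node (Tr.leaf (nat_lit 0x65334323328267)) (Tr.leaf (nat_lit 0x0)))))))))) (Tr.node (Tr.node (Tr.node (Tr.node (Tr.node (Tr.node (Tr.node (Tr.node (Tr.leaf (nat_lit 0x45341542318732262177)) (Tr.leaf (nat_lit 0x7789346823237121))) (Tr.node (Tr.leaf (nat_lit 0x1741523232622177)) (Tr.leaf (nat_lit 0x0)))) (Tr.node (Tr.node (Tr.leaf (nat_lit 0x3456732123221111)) (Tr.leaf (nat_lit 0x767547788262177))) (Tr.node (Tr.leaf (nat_lit 0x35671347178212212)) (Tr.leaf (nat_lit 0x0))))) (Tr.node (Tr.node (Tr.node (Tr.leaf (nat_lit 0x5821841321232622121)) (Tr.leaf (nat_lit 0x2122121))) (Tr.node (Tr.leaf (nat_lit 0x453415423187377177)) (Tr.leaf (nat_lit 0x0)))) (Tr.node (Tr.node (Tr.leaf (nat_lit 0x153343233287677171)) (Tr.leaf (nat_lit 0x543584773268622177))) (Tr.node (Tr.leaf (nat_lit 0x959534773181712)) (Tr.leaf (nat_lit 0x0)))))) (Tr.node (Tr.node (Tr.node (Tr.node (Tr.leaf (nat_lit 0x68452231786226226)) (Tr.leaf (nat_lit 0x4817342131787111))) (Tr.node (Tr.leaf (nat_lit 0x4571154877878621771)) (Tr.leaf (nat_lit 0x0)))) (Tr.node (Tr.node (Tr.leaf (nat_lit 0x4851343733636226)) (Tr.leaf (nat_lit 0x7636842213187767))) (Tr.node (Tr.leaf (nat_lit 0x2885684282622621)) (Tr.leaf (nat_lit 0x0))))) (Tr.node (Tr.node (Tr.node (Tr.leaf (nat_lit 0x74152323267122)) (Tr.leaf (nat_lit 0x7636842213182267122))) (Tr.node (Tr.leaf (nat_lit 0x75925347878123621)) (Tr.leaf (nat_lit 0x0)))) (Tr.node (Tr.node (Tr.leaf (nat_lit 0x25868417826322177)) (Tr.leaf (nat_lit 0x48451521182377121))) (Tr.node (Tr.leaf (nat_lit 0x9851343733637626)) (Tr.leaf (nat_lit 0x0))))))) (Tr.node (Tr.node (Tr.node (Tr.node (Tr.node (Tr.leaf (nat_lit 0x3345328223666)) (Tr.leaf (nat_lit 0x143421737677171))) (Tr.node (Tr.leaf (nat_lit 0x153343233282217711)) (Tr.leaf (nat_lit 0x0)))) (Tr.node (Tr.node (Tr.leaf (nat_lit 0x77893468232322122121)) (Tr.leaf (nat_lit 0x4215878122121))) (Tr.node (Tr.leaf (nat_lit 0x334532822376221)) (Tr.leaf (nat_lit 0x0))))) (Tr.node (Tr.node (Tr.node (Tr.leaf (nat_lit 0x3958457736232262)) (Tr.leaf (nat_lit 0x634567321232267622))) (Tr.node (Tr.leaf (nat_lit 0x485134373363217712)) (Tr.leaf (nat_lit 0x0)))) (Tr.node (Tr.node (Tr.leaf (nat_lit 0x4121587877122)) (Tr.leaf (nat_lit 0x5334323328262177))) (Tr.node (Tr.leaf (nat_lit 0x913421737767121)) (Tr.leaf (nat_lit 0x0)))))) (Tr.node (Tr.node (Tr.node (Tr.node (Tr.leaf (nat_lit 0x671221)) (Tr.leaf (nat_lit 0x75925347878123267177))) (Tr.node (Tr.leaf (nat_lit 0x54358477326862676)) (Tr.leaf (nat_lit 0x0)))) (Tr.node (Tr.node (Tr.leaf (nat_lit 0x143421731)) (Tr.leaf (nat_lit 0x3135487717321217))) (Tr.node (Tr.leaf (nat_lit 0x659863467818762212)) (Tr.leaf (nat_lit 0x0))))) (Tr.node (Tr.node (Tr.node (Tr.leaf (nat_lit 0x59863467818622122)) (Tr.leaf (nat_lit 0x3345328223771211))) (Tr.node (Tr.leaf (nat_lit 0x59863467818122122)) (Tr.leaf (nat_lit 0x0)))) (Tr.node (Tr.node (Tr.leaf (nat_lit 0x18452231787712171)) (Tr.leaf (nat_lit 0x7415232326267))) (Tr.node (Tr.leaf (nat_lit 0x4634217367712)) (Tr.leaf (nat_lit 0x0)))))))) (Tr.node (Tr.node (Tr.node (Tr.node (Tr.node (Tr.node (Tr.leaf (nat_lit 0x91342173262177)) (Tr.leaf (nat_lit 0x741523232111))) (Tr.node (Tr.leaf (nat_lit 0x598634678182621)) (Tr.leaf (nat_lit 0x0)))) (Tr.node (Tr.node (Tr.leaf (nat_lit 0x1533432332862171)) (Tr.leaf (nat_lit 0x88931512868221771))) (Tr.node (Tr.leaf (nat_lit 0x34567321236771771)) (Tr.leaf (nat_lit 0x0))))) (Tr.node (Tr.node (Tr.node (Tr.leaf (nat_lit 0x45341542318732171221)) (Tr.leaf (nat_lit 0x71863422181312217))) (Tr.node (Tr.leaf (nat_lit 0x33453282236712122)) (Tr.leaf (nat_lit 0x0)))) (Tr.node (Tr.node (Tr.leaf (nat_lit 0x395845773623622121)) (Tr.leaf (nat_lit 0x76754778817717121))) (Tr.node (Tr.leaf (nat_lit 0x11533432332877121)) (Tr.leaf (nat_lit 0x0)))))) (Tr.node (Tr.node (Tr.node (Tr.node (Tr.leaf (nat_lit 0x41571323212)) (Tr.leaf (nat_lit 0x2621547788221771))) (Tr.node (Tr.leaf (nat_lit 0x334315128687677171)) (Tr.leaf (nat_lit 0x0)))) (Tr.node (Tr.node (Tr.leaf (nat_lit 0x93342673676226)) (Tr.leaf (nat_lit 0x984515211823717717))) (Tr.node (Tr.leaf (nat_lit 0x533432332876221)) (Tr.leaf (nat_lit 0x0))))) (Tr.node (Tr.node (Tr.node (Tr.leaf (nat_lit 0x7717121)) (Tr.leaf (nat_lit 0x7636842213182262671))) (Tr.node (Tr.leaf (nat_lit 0x3456732123177177)) (Tr.leaf (nat_lit 0x0)))) (Tr.node (Tr.node (Tr.leaf (nat_lit 0x93342673666)) (Tr.leaf (nat_lit 0x3958457736236766))) (Tr.node (Tr.leaf (nat_lit 0x7592534787812312111)) (Tr.leaf (nat_lit 0x0))))))) (Tr.node (Tr.node (Tr.node (Tr.node (Tr.node (Tr.leaf (nat_lit 0x9342173671221)) (Tr.leaf (nat_lit 0x8852134828671376226))) (Tr.node (Tr.leaf (nat_lit 0x459534773187762177)) (Tr.leaf (nat_lit 0x0)))) (Tr.node (Tr.node (Tr.leaf (nat_lit 0x4814534812328262212)) (Tr.leaf (nat_lit 0x76754778871221))) (Tr.node (Tr.leaf (nat_lit 0x6533432332866)) (Tr.leaf (nat_lit 0x0))))) (Tr.node (Tr.node (Tr.node (Tr.leaf (nat_lit 0x315634331313622622121)) (Tr.leaf (nat_lit 0x634567321232262171))) (Tr.node (Tr.leaf (nat_lit 0x31563433131362262212)) (Tr.leaf (nat_lit 0x0)))) (Tr.node (Tr.node (Tr.leaf (nat_lit 0x95953477318677177)) (Tr.leaf (nat_lit 0x53343233282171))) (Tr.node (Tr.leaf (nat_lit 0x71863422181362262262)) (Tr.leaf (nat_lit 0x0)))))) (Tr.node (Tr.node (Tr.node (Tr.node (Tr.leaf (nat_lit 0x14342173267)) (Tr.leaf (nat_lit 0x33431512868666))) (Tr.node (Tr.leaf (nat_lit 0x48513437336322676)) (Tr.leaf (nat_lit 0x0)))) (Tr.node (Tr.node (Tr.leaf (nat_lit 0x4121587871217)) (Tr.leaf (nat_lit 0x14342173212212))) (Tr.node (Tr.leaf (nat_lit 0x4571154877878622621)) (Tr.leaf (nat_lit 0x0))))) (Tr.node (Tr.node (Tr.node (Tr.leaf (nat_lit 0x45713236212)) (Tr.leaf (nat_lit 0x457115487787812177))) (Tr.node (Tr.leaf (nat_lit 0x45711548778787677621)) (Tr.leaf (nat_lit 0x0)))) (Tr.node (Tr.node (Tr.leaf (nat_lit 0x8452231787767122)) (Tr.leaf (nat_lit 0x0))) (Tr.node (Tr.leaf (nat_lit 0x985134373363771771)) (Tr.leaf (nat_lit 0x0))))))))) (Tr.node (Tr.node (Tr.node (Tr.node (Tr.node (Tr.node (Tr.node (Tr.leaf (nat_lit 0x484515211823712122)) (Tr.leaf (nat_lit 0x59863467818226221))) (Tr.node (Tr.leaf (nat_lit 0x356713471782622626)) (Tr.leaf (nat_lit 0x0)))) (Tr.node (Tr.node (Tr.leaf (nat_lit 0x459534773186662)) (Tr.leaf (nat_lit 0x33453282232622121))) (Tr.node (Tr.leaf (nat_lit 0x39731533622626)) (Tr.leaf (nat_lit 0x0))))) (Tr.node (Tr.node (Tr.node (Tr.leaf (nat_lit 0x3456732123226)) (Tr.leaf (nat_lit 0x88521348286713676226))) (Tr.node (Tr.leaf (nat_lit 0x1741523236626)) (Tr.leaf (nat_lit 0x0)))) (Tr.node (Tr.node (Tr.leaf (nat_lit 0x845845773623767121221)) (Tr.leaf (nat_lit 0x9334267376221))) (Tr.node (Tr.leaf (nat_lit 0x433426737677671)) (Tr.leaf (nat_lit 0x0)))))) (Tr.node (Tr.node (Tr.node (Tr.node (Tr.leaf (nat_lit 0x9134217317122)) (Tr.leaf (nat_lit 0x7636842213186217712))) (Tr.node (Tr.leaf (nat_lit 0x6345673212367626)) (Tr.leaf (nat_lit 0x0)))) (Tr.node (Tr.node (Tr.leaf (nat_lit 0x4571154877878717717121)) (Tr.leaf (nat_lit 0x4814534812328771712))) (Tr.node (Tr.leaf (nat_lit 0x48173421317876712122)) (Tr.leaf (nat_lit 0x0))))) (Tr.node (Tr.node (Tr.node (Tr.leaf (nat_lit 0x67762)) (Tr.leaf (nat_lit 0x76863422181362262212))) (Tr.node (Tr.leaf (nat_lit 0x3135487717321)) (Tr.leaf (nat_lit 0x0)))) (Tr.node (Tr.node (Tr.leaf (nat_lit 0x43421731771712)) (Tr.leaf (nat_lit 0x1741523232212212))) (Tr.node (Tr.leaf (nat_lit 0x7186342218132122)) (Tr.leaf (nat_lit 0x0))))))) (Tr.node (Tr.node (Tr.node (Tr.node (Tr.node (Tr.leaf (nat_lit 0x1345673212317121)) (Tr.leaf (nat_lit 0x759253478781232677171))) (Tr.node (Tr.leaf (nat_lit 0x58218413212362671)) (Tr.leaf (nat_lit 0x0)))) (Tr.node (Tr.node (Tr.leaf (nat_lit 0x3156343313137622122)) (Tr.leaf (nat_lit 0x3135487717312122))) (Tr.node (Tr.leaf (nat_lit 0x35671347178671221)) (Tr.leaf (nat_lit 0x0))))) (Tr.node (Tr.node (Tr.node (Tr.leaf (nat_lit 0x43342673767767)) (Tr.leaf (nat_lit 0x4634217377626))) (Tr.node (Tr.leaf (nat_lit 0x115334323328226717)) (Tr.leaf (nat_lit 0x0)))) (Tr.node (Tr.node (Tr.leaf (nat_lit 0x288568428771712)) (Tr.leaf (nat_lit 0x434217377121))) (Tr.node (Tr.leaf (nat_lit 0x75925347878123267717)) (Tr.leaf (nat_lit 0x0)))))) (Tr.node (Tr.node (Tr.node (Tr.node (Tr.leaf (nat_lit 0x41215878267766)) (Tr.leaf (nat_lit 0x457115487787821221221))) (Tr.node (Tr.leaf (nat_lit 0x457115487787862212)) (Tr.leaf (nat_lit 0x0)))) (Tr.node (Tr.node (Tr.leaf (nat_lit 0x41215878626771)) (Tr.leaf (nat_lit 0x45341542318732262262))) (Tr.node (Tr.leaf (nat_lit 0x5334323328776662)) (Tr.leaf (nat_lit 0x0))))) (Tr.node (Tr.node (Tr.node (Tr.leaf (nat_lit 0x43342673217)) (Tr.leaf (nat_lit 0x115334323328121711))) (Tr.node (Tr.leaf (nat_lit 0x889315128686221771)) (Tr.leaf (nat_lit 0x0)))) (Tr.node (Tr.node (Tr.leaf (nat_lit 0x8452231786226221)) (Tr.leaf (nat_lit 0x0))) (Tr.node (Tr.leaf (nat_lit 0x856223478821366)) (Tr.leaf (nat_lit 0x0)))))))) (Tr.node (Tr.node (Tr.node (Tr.node (Tr.node (Tr.node (Tr.leaf (nat_lit 0x7515328673767767121)) (Tr.leaf (nat_lit 0x543213487862862212))) (Tr.node (Tr.leaf (nat_lit 0x4571154877878671)) (Tr.leaf (nat_lit 0x0)))) (Tr.node (Tr.node (Tr.leaf (nat_lit 0x5334323328776712)) (Tr.leaf (nat_lit 0x9851343733631221217))) (Tr.node (Tr.leaf (nat_lit 0x8562234788213767767)) (Tr.leaf (nat_lit 0x0))))) (Tr.node (Tr.node (Tr.node (Tr.leaf (nat_lit 0x933426736776712)) (Tr.leaf (nat_lit 0x87431533267171))) (Tr.node (Tr.leaf (nat_lit 0x13456732123171211)) (Tr.leaf (nat_lit 0x0)))) (Tr.node (Tr.node (Tr.leaf (nat_lit 0x48513437336312212171)) (Tr.leaf (nat_lit 0x313548771732267))) (Tr.node (Tr.leaf (nat_lit 0x5432134878628122121)) (Tr.leaf (nat_lit 0x0)))))) (Tr.node (Tr.node (Tr.node (Tr.node (Tr.leaf (nat_lit 0x174152323267762)) (Tr.leaf (nat_lit 0x933426737677671))) (Tr.node (Tr.leaf (nat_lit 0x153343233281771712)) (Tr.leaf (nat_lit 0x0)))) (Tr.node (Tr.node (Tr.leaf (nat_lit 0x4571154877878221712)) (Tr.leaf (nat_lit 0x48173421317877677171))) (Tr.node (Tr.leaf (nat_lit 0x413421736217)) (Tr.leaf (nat_lit 0x0))))) (Tr.node (Tr.node (Tr.node (Tr.leaf (nat_lit 0x1741523232177121)) (Tr.leaf (nat_lit 0x415713232622122121))) (Tr.node (Tr.leaf (nat_lit 0x262154778817122)) (Tr.leaf (nat_lit 0x0)))) (Tr.node (Tr.node (Tr.leaf (nat_lit 0x8452231782622671)) (Tr.leaf (nat_lit 0x41571323262262212))) (Tr.node (Tr.leaf (nat_lit 0x397315331711)) (Tr.leaf (nat_lit 0x0))))))) (Tr.node (Tr.node (Tr.node (Tr.node (Tr.node (Tr.leaf (nat_lit 0x3456732123622676)) (Tr.leaf (nat_lit 0x659863467818626762))) (Tr.node (Tr.leaf (nat_lit 0x7686342218136771771)) (Tr.leaf (nat_lit 0x0)))) (Tr.node (Tr.node (Tr.leaf (nat_lit 0x4342173712122)) (Tr.leaf (nat_lit 0x4534154231873226766))) (Tr.node (Tr.leaf (nat_lit 0x184522317877666)) (Tr.leaf (nat_lit 0x0))))) (Tr.node (Tr.node (Tr.node (Tr.leaf (nat_lit 0x984515211823622177)) (Tr.leaf (nat_lit 0x533432332867767121))) (Tr.node (Tr.leaf (nat_lit 0x543584773268262212)) (Tr.leaf (nat_lit 0x0)))) (Tr.node (Tr.node (Tr.leaf (nat_lit 0x8458457736237677621)) (Tr.leaf (nat_lit 0x74152323262671))) (Tr.node (Tr.leaf (nat_lit 0x2621547788622177)) (Tr.leaf (nat_lit 0x0)))))) (Tr.node (Tr.node (Tr.node (Tr.node (Tr.leaf (nat_lit 0x2885684282676)) (Tr.leaf (nat_lit 0x9334267321711))) (Tr.node (Tr.leaf (nat_lit 0x3973153322626)) (Tr.leaf (nat_lit 0x0)))) (Tr.node (Tr.node (Tr.leaf (nat_lit 0x26215477881)) (Tr.leaf (nat_lit 0x48145348123287622))) (Tr.node (Tr.leaf (nat_lit 0x6598634678186771)) (Tr.leaf (nat_lit 0x0))))) (Tr.node (Tr.node (Tr.node (Tr.leaf (nat_lit 0x46342173776712)) (Tr.leaf (nat_lit 0x26215477887177171))) (Tr.node (Tr.leaf (nat_lit 0x984515211823177121)) (Tr.leaf (nat_lit 0x0)))) (Tr.node (Tr.node (Tr.leaf (nat_lit 0x39584577362321771)) (Tr.leaf (nat_lit 0x0))) (Tr.node (Tr.leaf (nat_lit 0x25868417826377121)) (Tr.leaf (nat_lit 0x0))))))))))) (Tr.node (Tr.node (Tr.node (Tr.node (Tr.node (Tr.node (Tr.node (Tr.node (Tr.node (Tr.leaf (nat_lit 0x87431533767717121)) (Tr.leaf (nat_lit 0x76754778822677))) (Tr.node (Tr.leaf (nat_lit 0x7636842213182677671)) (Tr.leaf (nat_lit 0x0)))) (Tr.node (Tr.node (Tr.leaf (nat_lit 0x415713232621)) (Tr.leaf (nat_lit 0x484515211823776662))) (Tr.node (Tr.leaf (nat_lit 0x11533432332821711)) (Tr.leaf (nat_lit 0x0))))) (Tr.node (Tr.node (Tr.node (Tr.leaf (nat_lit 0x4851343733632)) (Tr.leaf (nat_lit 0x48145348123287677671))) (Tr.node (Tr.leaf (nat_lit 0x8458457736232177)) (Tr.leaf (nat_lit 0x0)))) (Tr.node (Tr.node (Tr.leaf (nat_lit 0x959534773181217712)) (Tr.leaf (nat_lit 0x76754778877621))) (Tr.node (Tr.leaf (nat_lit 0x634567321237177)) (Tr.leaf (nat_lit 0x0)))))) (Tr.node (Tr.node (Tr.node (Tr.node (Tr.leaf (nat_lit 0x5331341282128666)) (Tr.leaf (nat_lit 0x41215878771221))) (Tr.node (Tr.leaf (nat_lit 0x33431512868677626)) (Tr.leaf (nat_lit 0x0)))) (Tr.node (Tr.node (Tr.leaf (nat_lit 0x985134373363767121)) (Tr.leaf (nat_lit 0x933426736221771))) (Tr.node (Tr.leaf (nat_lit 0x3343151286821221211)) (Tr.leaf (nat_lit 0x0))))) (Tr.node (Tr.node (Tr.node (Tr.leaf (nat_lit 0x453415423187322676)) (Tr.leaf (nat_lit 0x74152323712111))) (Tr.node (Tr.leaf (nat_lit 0x75153286737762122)) (Tr.leaf (nat_lit 0x0)))) (Tr.node (Tr.node (Tr.leaf (nat_lit 0x889315128682622121)) (Tr.leaf (nat_lit 0x26215477887717121))) (Tr.node (Tr.leaf (nat_lit 0x85622347882137122)) (Tr.leaf (nat_lit 0x0))))))) (Tr.node (Tr.node (Tr.node (Tr.node (Tr.node (Tr.leaf (nat_lit 0x433426732171)) (Tr.leaf (nat_lit 0x598634678187766))) (Tr.node (Tr.leaf (nat_lit 0x39731533622621)) (Tr.leaf (nat_lit 0x0)))) (Tr.node (Tr.node (Tr.leaf (nat_lit 0x45711548778786771221)) (Tr.leaf (nat_lit 0x48173421317871111))) (Tr.node (Tr.leaf (nat_lit 0x93421732122121)) (Tr.leaf (nat_lit 0x0))))) (Tr.node (Tr.node (Tr.node (Tr.leaf (nat_lit 0x4134217321711)) (Tr.leaf (nat_lit 0x59863467818762177))) (Tr.node (Tr.leaf (nat_lit 0x35671347178712211)) (Tr.leaf (nat_lit 0x0)))) (Tr.node (Tr.node (Tr.leaf (nat_lit 0x41571323712212)) (Tr.leaf (nat_lit 0x2586841782637677171))) (Tr.node (Tr.leaf (nat_lit 0x4534154231873622)) (Tr.leaf (nat_lit 0x0)))))) (Tr.node (Tr.node (Tr.node (Tr.node (Tr.leaf (nat_lit 0x4595347731862262262)) (Tr.leaf (nat_lit 0x8893151286821711))) (Tr.node (Tr.leaf (nat_lit 0x533432332877626)) (Tr.leaf (nat_lit 0x0)))) (Tr.node (Tr.node (Tr.leaf (nat_lit 0x2621547788712211)) (Tr.leaf (nat_lit 0x7789346823237622171))) (Tr.node (Tr.leaf (nat_lit 0x88931512868767717)) (Tr.leaf (nat_lit 0x0))))) (Tr.node (Tr.node (Tr.node (Tr.leaf (nat_lit 0x39731533762171)) (Tr.leaf (nat_lit 0x1153343233282622621))) (Tr.node (Tr.leaf (nat_lit 0x4851343733632217)) (Tr.leaf (nat_lit 0x0)))) (Tr.node (Tr.node (Tr.leaf (nat_lit 0x453415423187362262671)) (Tr.leaf (nat_lit 0x41571323712177))) (Tr.node (Tr.leaf (nat_lit 0x543213487862862177)) (Tr.leaf (nat_lit 0x0)))))))) (Tr.node (Tr.node (Tr.node (Tr.node (Tr.node (Tr.node (Tr.leaf (nat_lit 0x42158787767717)) (Tr.leaf (nat_lit 0x34567321232671771))) (Tr.node (Tr.leaf (nat_lit 0x889315128687717121)) (Tr.leaf (nat_lit 0x0)))) (Tr.node (Tr.node (Tr.leaf (nat_lit 0x984515211823666)) (Tr.leaf (nat_lit 0x58218413212317712))) (Tr.node (Tr.leaf (nat_lit 0x934217362671)) (Tr.leaf (nat_lit 0x0))))) (Tr.node (Tr.node (Tr.node (Tr.leaf (nat_lit 0x54321348786286717712)) (Tr.leaf (nat_lit 0x4342173771211))) (Tr.node (Tr.leaf (nat_lit 0x1741523237717711)) (Tr.leaf (nat_lit 0x0)))) (Tr.node (Tr.node (Tr.leaf (nat_lit 0x88521348286713712211)) (Tr.leaf (nat_lit 0x65986346781877))) (Tr.node (Tr.leaf (nat_lit 0x7592534787812312212212)) (Tr.leaf (nat_lit 0x0)))))) (Tr.node (Tr.node (Tr.node (Tr.node (Tr.leaf (nat_lit 0x41342173767767)) (Tr.leaf (nat_lit 0x115334323328226776))) (Tr.node (Tr.leaf (nat_lit 0x7186342218136217712)) (Tr.leaf (nat_lit 0x0)))) (Tr.node (Tr.node (Tr.leaf (nat_lit 0x35671347178677621)) (Tr.leaf (nat_lit 0x6533432332871771711))) (Tr.node (Tr.leaf (nat_lit 0x7686342218132677671)) (Tr.leaf (nat_lit 0x0))))) (Tr.node (Tr.node (Tr.node (Tr.leaf (nat_lit 0x459534773182677171)) (Tr.leaf (nat_lit 0x34567321232122))) (Tr.node (Tr.leaf (nat_lit 0x7677171)) (Tr.leaf (nat_lit 0x0)))) (Tr.node (Tr.node (Tr.leaf (nat_lit 0x598634678182622671)) (Tr.leaf (nat_lit 0x4334267377121))) (Tr.node (Tr.leaf (nat_lit 0x598634678182626)) (Tr.leaf (nat_lit 0x0))))))) (Tr.node (Tr.node (Tr.node (Tr.node (Tr.node (Tr.leaf (nat_lit 0x91342173111)) (Tr.leaf (nat_lit 0x582184132123677121))) (Tr.node (Tr.leaf (nat_lit 0x6345673212312)) (Tr.leaf (nat_lit 0x0)))) (Tr.node (Tr.node (Tr.leaf (nat_lit 0x759253478781232622)) (Tr.leaf (nat_lit 0x1434217311))) (Tr.node (Tr.leaf (nat_lit 0x1533432332866)) (Tr.leaf (nat_lit 0x0))))) (Tr.node (Tr.node (Tr.node (Tr.leaf (nat_lit 0x42158787121711)) (Tr.leaf (nat_lit 0x4634217371221))) (Tr.node (Tr.leaf (nat_lit 0x26215477881771712)) (Tr.leaf (nat_lit 0x0)))) (Tr.node (Tr.node (Tr.leaf (nat_lit 0x45713236717)) (Tr.leaf (nat_lit 0x2586841782631217))) (Tr.node (Tr.leaf (nat_lit 0x845845773623177122)) (Tr.leaf (nat_lit 0x0)))))) (Tr.node (Tr.node (Tr.node (Tr.node (Tr.leaf (nat_lit 0x766622)) (Tr.leaf (nat_lit 0x34567321236267712))) (Tr.node (Tr.leaf (nat_lit 0x45953477318621)) (Tr.leaf (nat_lit 0x0)))) (Tr.node (Tr.node (Tr.leaf (nat_lit 0x134567321236776776)) (Tr.leaf (nat_lit 0x718634221813622676))) (Tr.node (Tr.leaf (nat_lit 0x5821841321237717121)) (Tr.leaf (nat_lit 0x0))))) (Tr.node (Tr.node (Tr.node (Tr.leaf (nat_lit 0x718634221813267717)) (Tr.leaf (nat_lit 0x9134217371221))) (Tr.node (Tr.leaf (nat_lit 0x3135487717367177)) (Tr.leaf (nat_lit 0x0)))) (Tr.node (Tr.node (Tr.leaf (nat_lit 0x76368422131812111)) (Tr.leaf (nat_lit 0x0))) (Tr.node (Tr.leaf (nat_lit 0x153343233287622)) (Tr.leaf (nat_lit 0x0))))))))) (Tr.node (Tr.node (Tr.node (Tr.node (Tr.node (Tr.node (Tr.node (Tr.leaf (nat_lit 0x42158787677121)) (Tr.leaf (nat_lit 0x845845773623762171))) (Tr.node (Tr.leaf (nat_lit 0x45341542318732677621)) (Tr.leaf (nat_lit 0x0)))) (Tr.node (Tr.node (Tr.leaf (nat_lit 0x115334323328217)) (Tr.leaf (nat_lit 0x5435847732687621221))) (Tr.node (Tr.leaf (nat_lit 0x31354877173121221)) (Tr.leaf (nat_lit 0x0))))) (Tr.node (Tr.node (Tr.node (Tr.leaf (nat_lit 0x4157132321211)) (Tr.leaf (nat_lit 0x6598634678187626771))) (Tr.node (Tr.leaf (nat_lit 0x395845773623762171)) (Tr.leaf (nat_lit 0x0)))) (Tr.node (Tr.node (Tr.leaf (nat_lit 0x1153343233281)) (Tr.leaf (nat_lit 0x31563433131312217))) (Tr.node (Tr.leaf (nat_lit 0x288568428622177)) (Tr.leaf (nat_lit 0x0)))))) (Tr.node (Tr.node (Tr.node (Tr.node (Tr.leaf (nat_lit 0x4342173622177)) (Tr.leaf (nat_lit 0x767547788762122))) (Tr.node (Tr.leaf (nat_lit 0x1845223178267121)) (Tr.leaf (nat_lit 0x0)))) (Tr.node (Tr.node (Tr.leaf (nat_lit 0x459534773186776776)) (Tr.leaf (nat_lit 0x985134373363211))) (Tr.node (Tr.leaf (nat_lit 0x88521348286713217)) (Tr.leaf (nat_lit 0x0))))) (Tr.node (Tr.node (Tr.node (Tr.leaf (nat_lit 0x48173421317826221221)) (Tr.leaf (nat_lit 0x7686342218136776771))) (Tr.node (Tr.leaf (nat_lit 0x33453282231771712)) (Tr.leaf (nat_lit 0x0)))) (Tr.node (Tr.node (Tr.leaf (nat_lit 0x3156343313132177171)) (Tr.leaf (nat_lit 0x885213482867137762))) (Tr.node (Tr.leaf (nat_lit 0x9342173221771)) (Tr.leaf (nat_lit 0x0))))))) (Tr.node (Tr.node (Tr.node (Tr.node (Tr.node (Tr.leaf (nat_lit 0x143421736771712)) (Tr.leaf (nat_lit 0x767547788676226))) (Tr.node (Tr.leaf (nat_lit 0x53343233287712)) (Tr.leaf (nat_lit 0x0)))) (Tr.node (Tr.node (Tr.leaf (nat_lit 0x533134128212867122)) (Tr.leaf (nat_lit 0x65334323328111))) (Tr.node (Tr.leaf (nat_lit 0x315634331313122171)) (Tr.leaf (nat_lit 0x0))))) (Tr.node (Tr.node (Tr.node (Tr.leaf (nat_lit 0x315634331313762121)) (Tr.leaf (nat_lit 0x3135487717326267))) (Tr.node (Tr.leaf (nat_lit 0x718634221813221217)) (Tr.leaf (nat_lit 0x0)))) (Tr.node (Tr.node (Tr.leaf (nat_lit 0x174152323662)) (Tr.leaf (nat_lit 0x88931512868671221))) (Tr.node (Tr.leaf (nat_lit 0x4851343733637121)) (Tr.leaf (nat_lit 0x0)))))) (Tr.node (Tr.node (Tr.node (Tr.node (Tr.leaf (nat_lit 0x93421731771712)) (Tr.leaf (nat_lit 0x913421732671))) (Tr.node (Tr.leaf (nat_lit 0x1434217366)) (Tr.leaf (nat_lit 0x0)))) (Tr.node (Tr.node (Tr.leaf (nat_lit 0x4595347731867626)) (Tr.leaf (nat_lit 0x885213482867137177171))) (Tr.node (Tr.leaf (nat_lit 0x767547788226771)) (Tr.leaf (nat_lit 0x0))))) (Tr.node (Tr.node (Tr.node (Tr.leaf (nat_lit 0x13456732123267767)) (Tr.leaf (nat_lit 0x48173421317871))) (Tr.node (Tr.leaf (nat_lit 0x334315128686267)) (Tr.leaf (nat_lit 0x0)))) (Tr.node (Tr.node (Tr.leaf (nat_lit 0x356713471782671)) (Tr.leaf (nat_lit 0x0))) (Tr.node (Tr.leaf (nat_lit 0x84522317826712)) (Tr.leaf (nat_lit 0x0)))))))) (Tr.node (Tr.node (Tr.node (Tr.node (Tr.node (Tr.node (Tr.leaf (nat_lit 0x933426736771712)) (Tr.leaf (nat_lit 0x45711548778787762122))) (Tr.node (Tr.leaf (nat_lit 0x913421736217)) (Tr.leaf (nat_lit 0x0)))) (Tr.node (Tr.node (Tr.leaf (nat_lit 0x9851343733637677177)) (Tr.leaf (nat_lit 0x1153343233282671))) (Tr.node (Tr.leaf (nat_lit 0x153343233287712)) (Tr.leaf (nat_lit 0x0))))) (Tr.node (Tr.node (Tr.node (Tr.leaf (nat_lit 0x63456732123122171)) (Tr.leaf (nat_lit 0x262154778867717121))) (Tr.node (Tr.leaf (nat_lit 0x75153286736771221)) (Tr.leaf (nat_lit 0x0)))) (Tr.node (Tr.node (Tr.leaf (nat_lit 0x41342173677121)) (Tr.leaf (nat_lit 0x533134128212862671))) (Tr.node (Tr.leaf (nat_lit 0x9342173717717)) (Tr.leaf (nat_lit 0x0)))))) (Tr.node (Tr.node (Tr.node (Tr.node (Tr.leaf (nat_lit 0x39731533767762)) (Tr.leaf (nat_lit 0x8743153377677171))) (Tr.node (Tr.leaf (nat_lit 0x6598634678187622121)) (Tr.leaf (nat_lit 0x0)))) (Tr.node (Tr.node (Tr.leaf (nat_lit 0x184522317862121)) (Tr.leaf (nat_lit 0x39731533671))) (Tr.node (Tr.leaf (nat_lit 0x415713237622121)) (Tr.leaf (nat_lit 0x0))))) (Tr.node (Tr.node (Tr.node (Tr.leaf (nat_lit 0x4814534812328212212)) (Tr.leaf (nat_lit 0x71863422181362217))) (Tr.node (Tr.leaf (nat_lit 0x1153343233282622626)) (Tr.leaf (nat_lit 0x0)))) (Tr.node (Tr.node (Tr.leaf (nat_lit 0x85622347882132122121)) (Tr.leaf (nat_lit 0x2622121))) (Tr.node (Tr.leaf (nat_lit 0x763684221318171211)) (Tr.leaf (nat_lit 0x0))))))) (Tr.node (Tr.node (Tr.node (Tr.node (Tr.node (Tr.leaf (nat_lit 0x43342673267)) (Tr.leaf (nat_lit 0x3156343313132217122))) (Tr.node (Tr.leaf (nat_lit 0x463421737762)) (Tr.leaf (nat_lit 0x0)))) (Tr.node (Tr.node (Tr.leaf (nat_lit 0x98451521182326766)) (Tr.leaf (nat_lit 0x77893468232326267))) (Tr.node (Tr.leaf (nat_lit 0x959534773182671212)) (Tr.leaf (nat_lit 0x0))))) (Tr.node (Tr.node (Tr.node (Tr.leaf (nat_lit 0x4334267317712)) (Tr.leaf (nat_lit 0x15334323328677121))) (Tr.node (Tr.leaf (nat_lit 0x93421736221771)) (Tr.leaf (nat_lit 0x0)))) (Tr.node (Tr.node (Tr.leaf (nat_lit 0x7515328673221712)) (Tr.leaf (nat_lit 0x7415232322122121))) (Tr.node (Tr.leaf (nat_lit 0x718634221813677677)) (Tr.leaf (nat_lit 0x0)))))) (Tr.node (Tr.node (Tr.node (Tr.node (Tr.leaf (nat_lit 0x4571323767)) (Tr.leaf (nat_lit 0x76863422181312111))) (Tr.node (Tr.leaf (nat_lit 0x54321348786282177)) (Tr.leaf (nat_lit 0x0)))) (Tr.node (Tr.node (Tr.leaf (nat_lit 0x48173421317862212)) (Tr.leaf (nat_lit 0x39584577362377622))) (Tr.node (Tr.leaf (nat_lit 0x397315336221712)) (Tr.leaf (nat_lit 0x0))))) (Tr.node (Tr.node (Tr.node (Tr.leaf (nat_lit 0x741523232622177)) (Tr.leaf (nat_lit 0x68452231782622122121))) (Tr.node (Tr.leaf (nat_lit 0x43421731217)) (Tr.leaf (nat_lit 0x0)))) (Tr.node (Tr.node (Tr.leaf (nat_lit 0x7686342218137717)) (Tr.leaf (nat_lit 0x0))) (Tr.node (Tr.leaf (nat_lit 0x481734213178762671)) (Tr.leaf (nat_lit 0x0)))))))))) (Tr.node (Tr.node (Tr.node (Tr.node (Tr.node (Tr.node (Tr.node (Tr.node (Tr.leaf (nat_lit 0x457115487787826771)) (Tr.leaf (nat_lit 0x39731533676))) (Tr.node (Tr.leaf (nat_lit 0x7789346823232262212)) (Tr.leaf (nat_lit 0x0)))) (Tr.node (Tr.node (Tr.leaf (nat_lit 0x913421732171)) (Tr.leaf (nat_lit 0x7675477886712122))) (Tr.node (Tr.leaf (nat_lit 0x4814534812328677626)) (Tr.leaf (nat_lit 0x0))))) (Tr.node (Tr.node (Tr.node (Tr.leaf (nat_lit 0x85622347882132676)) (Tr.leaf (nat_lit 0x356713471786217))) (Tr.node (Tr.leaf (nat_lit 0x463421737177171)) (Tr.leaf (nat_lit 0x0)))) (Tr.node (Tr.node (Tr.leaf (nat_lit 0x334315128687177171)) (Tr.leaf (nat_lit 0x8893151286817717121))) (Tr.node (Tr.leaf (nat_lit 0x93342673217)) (Tr.leaf (nat_lit 0x0)))))) (Tr.node (Tr.node (Tr.node (Tr.node (Tr.leaf (nat_lit 0x457132371711)) (Tr.leaf (nat_lit 0x533432332871771711))) (Tr.node (Tr.leaf (nat_lit 0x543213487862877122)) (Tr.leaf (nat_lit 0x0)))) (Tr.node (Tr.node (Tr.leaf (nat_lit 0x34567321232211)) (Tr.leaf (nat_lit 0x93421737677671))) (Tr.node (Tr.leaf (nat_lit 0x68452231787122121)) (Tr.leaf (nat_lit 0x0))))) (Tr.node (Tr.node (Tr.node (Tr.leaf (nat_lit 0x153343233282622621)) (Tr.leaf (nat_lit 0x76863422181362))) (Tr.node (Tr.leaf (nat_lit 0x2885684282171)) (Tr.leaf (nat_lit 0x0)))) (Tr.node (Tr.node (Tr.leaf (nat_lit 0x4342173771712)) (Tr.leaf (nat_lit 0x153343233287121221))) (Tr.node (Tr.leaf (nat_lit 0x65986346781822622)) (Tr.leaf (nat_lit 0x0))))))) (Tr.node (Tr.node (Tr.node (Tr.node (Tr.node (Tr.leaf (nat_lit 0x91342173676221)) (Tr.leaf (nat_lit 0x76863422181326221))) (Tr.node (Tr.leaf (nat_lit 0x659863467818262212212)) (Tr.leaf (nat_lit 0x0)))) (Tr.node (Tr.node (Tr.leaf (nat_lit 0x48451521182317712)) (Tr.leaf (nat_lit 0x4814534812328217))) (Tr.node (Tr.leaf (nat_lit 0x39584577362377122)) (Tr.leaf (nat_lit 0x0))))) (Tr.node (Tr.node (Tr.node (Tr.leaf (nat_lit 0x65334323328217)) (Tr.leaf (nat_lit 0x41215878711))) (Tr.node (Tr.leaf (nat_lit 0x856223478821376226)) (Tr.leaf (nat_lit 0x0)))) (Tr.node (Tr.node (Tr.leaf (nat_lit 0x395845773623622626)) (Tr.leaf (nat_lit 0x58218413212377121))) (Tr.node (Tr.leaf (nat_lit 0x413421736267)) (Tr.leaf (nat_lit 0x0)))))) (Tr.node (Tr.node (Tr.node (Tr.node (Tr.leaf (nat_lit 0x14342173671221)) (Tr.leaf (nat_lit 0x35671347178226717))) (Tr.node (Tr.leaf (nat_lit 0x3456732123267177)) (Tr.leaf (nat_lit 0x0)))) (Tr.node (Tr.node (Tr.leaf (nat_lit 0x258684178263666)) (Tr.leaf (nat_lit 0x45953477318626))) (Tr.node (Tr.leaf (nat_lit 0x984515211823221771)) (Tr.leaf (nat_lit 0x0))))) (Tr.node (Tr.node (Tr.node (Tr.leaf (nat_lit 0x87431533622621)) (Tr.leaf (nat_lit 0x845845773623626776))) (Tr.node (Tr.leaf (nat_lit 0x5334323328217)) (Tr.leaf (nat_lit 0x0)))) (Tr.node (Tr.node (Tr.leaf (nat_lit 0x985134373363122)) (Tr.leaf (nat_lit 0x4215878767762))) (Tr.node (Tr.leaf (nat_lit 0x856223478821317122)) (Tr.leaf (nat_lit 0x0)))))))) (Tr.node (Tr.node (Tr.node (Tr.node (Tr.node (Tr.node (Tr.leaf (nat_lit 0x421587826221221)) (Tr.leaf (nat_lit 0x95953477318622676))) (Tr.node (Tr.leaf (nat_lit 0x4534154231873776212)) (Tr.leaf (nat_lit 0x0)))) (Tr.node (Tr.node (Tr.leaf (nat_lit 0x2885684282622626)) (Tr.leaf (nat_lit 0x845223178776217))) (Tr.node (Tr.leaf (nat_lit 0x184522317822122)) (Tr.leaf (nat_lit 0x0))))) (Tr.node (Tr.node (Tr.node (Tr.leaf (nat_lit 0x412158786766)) (Tr.leaf (nat_lit 0x778934682323762))) (Tr.node (Tr.leaf (nat_lit 0x7515328673711)) (Tr.leaf (nat_lit 0x0)))) (Tr.node (Tr.node (Tr.leaf (nat_lit 0x33431512868226776)) (Tr.leaf (nat_lit 0x3973153362177))) (Tr.node (Tr.leaf (nat_lit 0x5821841321236712122)) (Tr.leaf (nat_lit 0x0)))))) (Tr.node (Tr.node (Tr.node (Tr.node (Tr.leaf (nat_lit 0x3456732123217717)) (Tr.leaf (nat_lit 0x3973153326226221))) (Tr.node (Tr.leaf (nat_lit 0x74152323211)) (Tr.leaf (nat_lit 0x0)))) (Tr.node (Tr.node (Tr.leaf (nat_lit 0x43342673221771)) (Tr.leaf (nat_lit 0x71863422181326226))) (Tr.node (Tr.leaf (nat_lit 0x4134217367762)) (Tr.leaf (nat_lit 0x0))))) (Tr.node (Tr.node (Tr.node (Tr.leaf (nat_lit 0x17415232321111)) (Tr.leaf (nat_lit 0x84584577362362677))) (Tr.node (Tr.leaf (nat_lit 0x434217371221)) (Tr.leaf (nat_lit 0x0)))) (Tr.node (Tr.node (Tr.leaf (nat_lit 0x4634217367767121)) (Tr.leaf (nat_lit 0x8893151286867717121))) (Tr.node (Tr.leaf (nat_lit 0x933426736217)) (Tr.leaf (nat_lit 0x0))))))) (Tr.node (Tr.node (Tr.node (Tr.node (Tr.node (Tr.leaf (nat_lit 0x134567321237622122)) (Tr.leaf (nat_lit 0x6533432332867121221))) (Tr.node (Tr.leaf (nat_lit 0x115334323328767767)) (Tr.leaf (nat_lit 0x0)))) (Tr.node (Tr.node (Tr.leaf (nat_lit 0x4634217366)) (Tr.leaf (nat_lit 0x313548771737121))) (Tr.node (Tr.leaf (nat_lit 0x9595347731862212212)) (Tr.leaf (nat_lit 0x0))))) (Tr.node (Tr.node (Tr.node (Tr.leaf (nat_lit 0x1533432332867767121)) (Tr.leaf (nat_lit 0x153343233287621221))) (Tr.node (Tr.leaf (nat_lit 0x45341542318732111)) (Tr.leaf (nat_lit 0x0)))) (Tr.node (Tr.node (Tr.leaf (nat_lit 0x9845152118236221771)) (Tr.leaf (nat_lit 0x6533432332862676))) (Tr.node (Tr.leaf (nat_lit 0x485134373363262671)) (Tr.leaf (nat_lit 0x0)))))) (Tr.node (Tr.node (Tr.node (Tr.node (Tr.leaf (nat_lit 0x356713471787622)) (Tr.leaf (nat_lit 0x3958457736232622622))) (Tr.node (Tr.leaf (nat_lit 0x856223478821362671)) (Tr.leaf (nat_lit 0x0)))) (Tr.node (Tr.node (Tr.leaf (nat_lit 0x913421737122111)) (Tr.leaf (nat_lit 0x7789346823236626))) (Tr.node (Tr.leaf (nat_lit 0x459534773182177171)) (Tr.leaf (nat_lit 0x0))))) (Tr.node (Tr.node (Tr.node (Tr.leaf (nat_lit 0x984515211823267)) (Tr.leaf (nat_lit 0x9134217376221))) (Tr.node (Tr.leaf (nat_lit 0x77893468232326)) (Tr.leaf (nat_lit 0x0)))) (Tr.node (Tr.node (Tr.leaf (nat_lit 0x718634221813762121)) (Tr.leaf (nat_lit 0x0))) (Tr.node (Tr.leaf (nat_lit 0x598634678182212211)) (Tr.leaf (nat_lit 0x0))))))))) (Tr.node (Tr.node (Tr.node (Tr.node (Tr.node (Tr.node (Tr.node (Tr.leaf (nat_lit 0x1741523231221)) (Tr.leaf (nat_lit 0x45953477318622171))) (Tr.node (Tr.leaf (nat_lit 0x65986346781821712)) (Tr.leaf (nat_lit 0x0)))) (Tr.node (Tr.node (Tr.leaf (nat_lit 0x71863422181377671)) (Tr.leaf (nat_lit 0x717717))) (Tr.node (Tr.leaf (nat_lit 0x98513437336371712)) (Tr.leaf (nat_lit 0x0))))) (Tr.node (Tr.node (Tr.node (Tr.leaf (nat_lit 0x91342173677626)) (Tr.leaf (nat_lit 0x845223178677))) (Tr.node (Tr.leaf (nat_lit 0x71863422181312)) (Tr.leaf (nat_lit 0x0)))) (Tr.node (Tr.node (Tr.leaf (nat_lit 0x5821841321231111)) (Tr.leaf (nat_lit 0x778934682323776212))) (Tr.node (Tr.leaf (nat_lit 0x26215477887712)) (Tr.leaf (nat_lit 0x0)))))) (Tr.node (Tr.node (Tr.node (Tr.node (Tr.leaf (nat_lit 0x45713236226221)) (Tr.leaf (nat_lit 0x262154778871771711))) (Tr.node (Tr.leaf (nat_lit 0x985134373363712)) (Tr.leaf (nat_lit 0x0)))) (Tr.node (Tr.node (Tr.leaf (nat_lit 0x413421737767121)) (Tr.leaf (nat_lit 0x459534773182267622))) (Tr.node (Tr.leaf (nat_lit 0x5821841321231)) (Tr.leaf (nat_lit 0x0))))) (Tr.node (Tr.node (Tr.node (Tr.leaf (nat_lit 0x14342173111)) (Tr.leaf (nat_lit 0x959534773182262671))) (Tr.node (Tr.leaf (nat_lit 0x4814534812328717717)) (Tr.leaf (nat_lit 0x0)))) (Tr.node (Tr.node (Tr.leaf (nat_lit 0x7592534787812326226)) (Tr.leaf (nat_lit 0x412158787677121))) (Tr.node (Tr.leaf (nat_lit 0x434217377621)) (Tr.leaf (nat_lit 0x0))))))) (Tr.node (Tr.node (Tr.node (Tr.node (Tr.node (Tr.leaf (nat_lit 0x63456732123217717)) (Tr.leaf (nat_lit 0x763684221318626))) (Tr.node (Tr.leaf (nat_lit 0x5986346781822122)) (Tr.leaf (nat_lit 0x0)))) (Tr.node (Tr.node (Tr.leaf (nat_lit 0x68452231787622621)) (Tr.leaf (nat_lit 0x6845223178762212))) (Tr.node (Tr.leaf (nat_lit 0x582184132123767717)) (Tr.leaf (nat_lit 0x0))))) (Tr.node (Tr.node (Tr.node (Tr.leaf (nat_lit 0x4634217317712)) (Tr.leaf (nat_lit 0x48513437336362122))) (Tr.node (Tr.leaf (nat_lit 0x751532867322626)) (Tr.leaf (nat_lit 0x0)))) (Tr.node (Tr.node (Tr.leaf (nat_lit 0x7415232321111)) (Tr.leaf (nat_lit 0x6598634678187762676))) (Tr.node (Tr.leaf (nat_lit 0x4814534812328677121)) (Tr.leaf (nat_lit 0x0)))))) (Tr.node (Tr.node (Tr.node (Tr.node (Tr.leaf (nat_lit 0x4571323122122)) (Tr.leaf (nat_lit 0x45711548778787))) (Tr.node (Tr.leaf (nat_lit 0x397315332217121)) (Tr.leaf (nat_lit 0x0)))) (Tr.node (Tr.node (Tr.leaf (nat_lit 0x75925347878123622676)) (Tr.leaf (nat_lit 0x58218413212376226))) (Tr.node (Tr.leaf (nat_lit 0x2586841782637621221)) (Tr.leaf (nat_lit 0x0))))) (Tr.node (Tr.node (Tr.node (Tr.leaf (nat_lit 0x4534154231873217122)) (Tr.leaf (nat_lit 0x7636842213186762))) (Tr.node (Tr.leaf (nat_lit 0x33453282237671212)) (Tr.leaf (nat_lit 0x0)))) (Tr.node (Tr.node (Tr.leaf (nat_lit 0x1345673212367621)) (Tr.leaf (nat_lit 0x0))) (Tr.node (Tr.leaf (nat_lit 0x93342673177121)) (Tr.leaf (nat_lit 0x0)))))))) (Tr.node (Tr.node (Tr.node (Tr.node (Tr.node (Tr.node (Tr.leaf (nat_lit 0x91342173671221)) (Tr.leaf (nat_lit 0x3343151286862671))) (Tr.node (Tr.leaf (nat_lit 0x415713237766)) (Tr.leaf (nat_lit 0x0)))) (Tr.node (Tr.node (Tr.leaf (nat_lit 0x763684221318217717)) (Tr.leaf (nat_lit 0x54358477326867622))) (Tr.node (Tr.leaf (nat_lit 0x8743153317111)) (Tr.leaf (nat_lit 0x0))))) (Tr.node (Tr.node (Tr.node (Tr.leaf (nat_lit 0x845223178226221)) (Tr.leaf (nat_lit 0x7686342218136267762))) (Tr.node (Tr.leaf (nat_lit 0x3973153371771712)) (Tr.leaf (nat_lit 0x0)))) (Tr.node (Tr.node (Tr.leaf (nat_lit 0x634567321237762177)) (Tr.leaf (nat_lit 0x31354877173262671))) (Tr.node (Tr.leaf (nat_lit 0x533134128212817122)) (Tr.leaf (nat_lit 0x0)))))) (Tr.node (Tr.node (Tr.node (Tr.node (Tr.leaf (nat_lit 0x759253478781237767)) (Tr.leaf (nat_lit 0x543584773268771712))) (Tr.node (Tr.leaf (nat_lit 0x43342673677626)) (Tr.leaf (nat_lit 0x0)))) (Tr.node (Tr.node (Tr.leaf (nat_lit 0x54358477326821221211)) (Tr.leaf (nat_lit 0x395845773623221211))) (Tr.node (Tr.leaf (nat_lit 0x4534154231873762)) (Tr.leaf (nat_lit 0x0))))) (Tr.node (Tr.node (Tr.node (Tr.leaf (nat_lit 0x334532822321711)) (Tr.leaf (nat_lit 0x5821841321237677171))) (Tr.node (Tr.leaf (nat_lit 0x31354877173776212)) (Tr.leaf (nat_lit 0x0)))) (Tr.node (Tr.node (Tr.leaf (nat_lit 0x345673212362212212)) (Tr.leaf (nat_lit 0x412158782262217))) (Tr.node (Tr.leaf (nat_lit 0x421587871111)) (Tr.leaf (nat_lit 0x0))))))) (Tr.node (Tr.node (Tr.node (Tr.node (Tr.node (Tr.leaf (nat_lit 0x7186342218137677)) (Tr.leaf (nat_lit 0x88931512868712122))) (Tr.node (Tr.leaf (nat_lit 0x7186342218136771771)) (Tr.leaf (nat_lit 0x0)))) (Tr.node (Tr.node (Tr.leaf (nat_lit 0x84522317867171)) (Tr.leaf (nat_lit 0x4845152118236267))) (Tr.node (Tr.leaf (nat_lit 0x3958457736231711)) (Tr.leaf (nat_lit 0x0))))) (Tr.node (Tr.node (Tr.node (Tr.leaf (nat_lit 0x75925347878123226267)) (Tr.leaf (nat_lit 0x45953477318226))) (Tr.node (Tr.leaf (nat_lit 0x58218413212367717121)) (Tr.leaf (nat_lit 0x0)))) (Tr.node (Tr.node (Tr.leaf (nat_lit 0x9342173666)) (Tr.leaf (nat_lit 0x1741523232262212))) (Tr.node (Tr.leaf (nat_lit 0x6598634678182671712)) (Tr.leaf (nat_lit 0x0)))))) (Tr.node (Tr.node (Tr.node (Tr.node (Tr.leaf (nat_lit 0x4157132322622)) (Tr.leaf (nat_lit 0x2586841782632622121))) (Tr.node (Tr.leaf (nat_lit 0x7636842213182671212)) (Tr.leaf (nat_lit 0x0)))) (Tr.node (Tr.node (Tr.leaf (nat_lit 0x288568428262177)) (Tr.leaf (nat_lit 0x43342673262212))) (Tr.node (Tr.leaf (nat_lit 0x45953477318122122121)) (Tr.leaf (nat_lit 0x0))))) (Tr.node (Tr.node (Tr.node (Tr.leaf (nat_lit 0x288568428221771)) (Tr.leaf (nat_lit 0x8562234788213111))) (Tr.node (Tr.leaf (nat_lit 0x43342673)) (Tr.leaf (nat_lit 0x0)))) (Tr.node (Tr.node (Tr.leaf (nat_lit 0x2885684286217)) (Tr.leaf (nat_lit 0x0))) (Tr.node (Tr.leaf (nat_lit 0x31354877173221711)) (Tr.leaf (nat_lit 0x0)))))))))))) (Tr.node (Tr.node (Tr.node (Tr.node (Tr.node (Tr.node (Tr.node (Tr.node (Tr.node (Tr.node (Tr.leaf (nat_lit 0x4121587862177)) (Tr.leaf (nat_lit 0x985134373363762217))) (Tr.node (Tr.leaf (nat_lit 0x763684221318226)) (Tr.leaf (nat_lit 0x0)))) (Tr.node (Tr.node (Tr.leaf (nat_lit 0x885213482867136776712)) (Tr.leaf (nat_lit 0x4571154877878622121))) (Tr.node (Tr.leaf (nat_lit 0x459534773181211)) (Tr.leaf (nat_lit 0x0))))) (Tr.node (Tr.node (Tr.node (Tr.leaf (nat_lit 0x76368422131876776)) (Tr.leaf (nat_lit 0x74152323762))) (Tr.node (Tr.leaf (nat_lit 0x856223478821367622)) (Tr.leaf (nat_lit 0x0)))) (Tr.node (Tr.node (Tr.leaf (nat_lit 0x481734213178717717121)) (Tr.leaf (nat_lit 0x15334323328762122))) (Tr.node (Tr.leaf (nat_lit 0x6845223178226226)) (Tr.leaf (nat_lit 0x0)))))) (Tr.node (Tr.node (Tr.node (Tr.node (Tr.leaf (nat_lit 0x68452231782121)) (Tr.leaf (nat_lit 0x134567321236217712))) (Tr.node (Tr.leaf (nat_lit 0x48513437336321)) (Tr.leaf (nat_lit 0x0)))) (Tr.node (Tr.node (Tr.leaf (nat_lit 0x35671347178217)) (Tr.leaf (nat_lit 0x33453282232171))) (Tr.node (Tr.leaf (nat_lit 0x88521348286713766622)) (Tr.leaf (nat_lit 0x0))))) (Tr.node (Tr.node (Tr.node (Tr.leaf (nat_lit 0x598634678181771)) (Tr.leaf (nat_lit 0x889315128686712122))) (Tr.node (Tr.leaf (nat_lit 0x48513437336376712)) (Tr.leaf (nat_lit 0x0)))) (Tr.node (Tr.node (Tr.leaf (nat_lit 0x3156343313137762212)) (Tr.leaf (nat_lit 0x1153343233287121221))) (Tr.node (Tr.leaf (nat_lit 0x4121587862262)) (Tr.leaf (nat_lit 0x0))))))) (Tr.node (Tr.node (Tr.node (Tr.node (Tr.node (Tr.leaf (nat_lit 0x41342173226776)) (Tr.leaf (nat_lit 0x76368422131822111))) (Tr.node (Tr.leaf (nat_lit 0x75153286732212)) (Tr.leaf (nat_lit 0x0)))) (Tr.node (Tr.node (Tr.leaf (nat_lit 0x334315128686)) (Tr.leaf (nat_lit 0x4334267367762))) (Tr.node (Tr.leaf (nat_lit 0x33453282237712)) (Tr.leaf (nat_lit 0x0))))) (Tr.node (Tr.node (Tr.node (Tr.leaf (nat_lit 0x41571323717)) (Tr.leaf (nat_lit 0x543213487862826221221))) (Tr.node (Tr.leaf (nat_lit 0x71863422181376771)) (Tr.leaf (nat_lit 0x0)))) (Tr.node (Tr.node (Tr.leaf (nat_lit 0x4134217362676)) (Tr.leaf (nat_lit 0x28856842811))) (Tr.node (Tr.leaf (nat_lit 0x684522317877)) (Tr.leaf (nat_lit 0x0)))))) (Tr.node (Tr.node (Tr.node (Tr.node (Tr.leaf (nat_lit 0x7515328673622621)) (Tr.leaf (nat_lit 0x741523231221217))) (Tr.node (Tr.leaf (nat_lit 0x759253478781232262171)) (Tr.leaf (nat_lit 0x0)))) (Tr.node (Tr.node (Tr.leaf (nat_lit 0x913421737122)) (Tr.leaf (nat_lit 0x45341542318732212212))) (Tr.node (Tr.leaf (nat_lit 0x933426737177171)) (Tr.leaf (nat_lit 0x0))))) (Tr.node (Tr.node (Tr.node (Tr.leaf (nat_lit 0x59863467818626762)) (Tr.leaf (nat_lit 0x4571154877878677122))) (Tr.node (Tr.leaf (nat_lit 0x3156343313137677)) (Tr.leaf (nat_lit 0x0)))) (Tr.node (Tr.node (Tr.leaf (nat_lit 0x48173421317817111)) (Tr.leaf (nat_lit 0x3456732123626))) (Tr.node (Tr.leaf (nat_lit 0x54321348786281711)) (Tr.leaf (nat_lit 0x0)))))))) (Tr.node (Tr.node (Tr.node (Tr.node (Tr.node (Tr.node (Tr.leaf (nat_lit 0x4571323622622)) (Tr.leaf (nat_lit 0x7177171))) (Tr.node (Tr.leaf (nat_lit 0x75925347878123221217)) (Tr.leaf (nat_lit 0x0)))) (Tr.node (Tr.node (Tr.leaf (nat_lit 0x84522317871711)) (Tr.leaf (nat_lit 0x39584577362362677))) (Tr.node (Tr.leaf (nat_lit 0x184522317817711)) (Tr.leaf (nat_lit 0x0))))) (Tr.node (Tr.node (Tr.node (Tr.leaf (nat_lit 0x45953477318177177)) (Tr.leaf (nat_lit 0x913421736221771))) (Tr.node (Tr.leaf (nat_lit 0x3345328223217111)) (Tr.leaf (nat_lit 0x0)))) (Tr.node (Tr.node (Tr.leaf (nat_lit 0x39584577362376712122)) (Tr.leaf (nat_lit 0x39584577362312177))) (Tr.node (Tr.leaf (nat_lit 0x76863422181371212)) (Tr.leaf (nat_lit 0x0)))))) (Tr.node (Tr.node (Tr.node (Tr.node (Tr.leaf (nat_lit 0x395845773623712171)) (Tr.leaf (nat_lit 0x634567321236771771))) (Tr.node (Tr.leaf (nat_lit 0x39584577362322121)) (Tr.leaf (nat_lit 0x0)))) (Tr.node (Tr.node (Tr.leaf (nat_lit 0x1434217322677)) (Tr.leaf (nat_lit 0x4571323262262212))) (Tr.node (Tr.leaf (nat_lit 0x31354877173122111)) (Tr.leaf (nat_lit 0x0))))) (Tr.node (Tr.node (Tr.node (Tr.leaf (nat_lit 0x7415232312212171)) (Tr.leaf (nat_lit 0x934217376221))) (Tr.node (Tr.leaf (nat_lit 0x934217377626)) (Tr.leaf (nat_lit 0x0)))) (Tr.node (Tr.node (Tr.leaf (nat_lit 0x459534773187177)) (Tr.leaf (nat_lit 0x1533432332867122))) (Tr.node (Tr.leaf (nat_lit 0x2586841782637767121)) (Tr.leaf (nat_lit 0x0))))))) (Tr.node (Tr.node (Tr.node (Tr.node (Tr.node (Tr.leaf (nat_lit 0x63456732123767766)) (Tr.leaf (nat_lit 0x88521348286713267))) (Tr.node (Tr.leaf (nat_lit 0x5334323328767767)) (Tr.leaf (nat_lit 0x0)))) (Tr.node (Tr.node (Tr.leaf (nat_lit 0x174152323211)) (Tr.leaf (nat_lit 0x543584773268677121))) (Tr.node (Tr.leaf (nat_lit 0x3343151286862171)) (Tr.leaf (nat_lit 0x0))))) (Tr.node (Tr.node (Tr.node (Tr.leaf (nat_lit 0x421587876267)) (Tr.leaf (nat_lit 0x5432134878628171))) (Tr.node (Tr.leaf (nat_lit 0x3343151286867121221)) (Tr.leaf (nat_lit 0x0)))) (Tr.node (Tr.node (Tr.leaf (nat_lit 0x45711548778782177)) (Tr.leaf (nat_lit 0x313548771732677121))) (Tr.node (Tr.leaf (nat_lit 0x91342173776712)) (Tr.leaf (nat_lit 0x0)))))) (Tr.node (Tr.node (Tr.node (Tr.node (Tr.leaf (nat_lit 0x43421732217711)) (Tr.leaf (nat_lit 0x397315332212))) (Tr.node (Tr.leaf (nat_lit 0x933426737121221)) (Tr.leaf (nat_lit 0x0)))) (Tr.node (Tr.node (Tr.leaf (nat_lit 0x1845223178267621)) (Tr.leaf (nat_lit 0x415713237767717121))) (Tr.node (Tr.leaf (nat_lit 0x4334267362171)) (Tr.leaf (nat_lit 0x0))))) (Tr.node (Tr.node (Tr.node (Tr.leaf (nat_lit 0x45341542318736221217)) (Tr.leaf (nat_lit 0x54321348786286766))) (Tr.node (Tr.leaf (nat_lit 0x9851343733632677621)) (Tr.leaf (nat_lit 0x0)))) (Tr.node (Tr.node (Tr.leaf (nat_lit 0x34567321232212171)) (Tr.leaf (nat_lit 0x0))) (Tr.node (Tr.leaf (nat_lit 0x4595347731826226)) (Tr.leaf (nat_lit 0x0))))))))) (Tr.node (Tr.node (Tr.node (Tr.node (Tr.node (Tr.node (Tr.node (Tr.leaf (nat_lit 0x4121587876776712)) (Tr.leaf (nat_lit 0x18452231787671))) (Tr.node (Tr.leaf (nat_lit 0x9342173677121)) (Tr.leaf (nat_lit 0x0)))) (Tr.node (Tr.node (Tr.leaf (nat_lit 0x457115487787877677171)) (Tr.leaf (nat_lit 0x457132377666))) (Tr.node (Tr.leaf (nat_lit 0x659863467818776)) (Tr.leaf (nat_lit 0x0))))) (Tr.node (Tr.node (Tr.node (Tr.leaf (nat_lit 0x25868417826321711)) (Tr.leaf (nat_lit 0x115334323328771712))) (Tr.node (Tr.leaf (nat_lit 0x481453481232817717121)) (Tr.leaf (nat_lit 0x0)))) (Tr.node (Tr.node (Tr.leaf (nat_lit 0x543584773268677621)) (Tr.leaf (nat_lit 0x4845152118237677671))) (Tr.node (Tr.leaf (nat_lit 0x75153286737111)) (Tr.leaf (nat_lit 0x0)))))) (Tr.node (Tr.node (Tr.node (Tr.node (Tr.leaf (nat_lit 0x42158782177111)) (Tr.leaf (nat_lit 0x65334323328226776))) (Tr.node (Tr.leaf (nat_lit 0x41571323771217)) (Tr.leaf (nat_lit 0x0)))) (Tr.node (Tr.node (Tr.leaf (nat_lit 0x4571154877878762171)) (Tr.leaf (nat_lit 0x533134128212862676))) (Tr.node (Tr.leaf (nat_lit 0x984515211823671221)) (Tr.leaf (nat_lit 0x0))))) (Tr.node (Tr.node (Tr.node (Tr.leaf (nat_lit 0x4814534812328712122)) (Tr.leaf (nat_lit 0x415713232622671))) (Tr.node (Tr.leaf (nat_lit 0x3345328223262177)) (Tr.leaf (nat_lit 0x0)))) (Tr.node (Tr.node (Tr.leaf (nat_lit 0x68452231787171)) (Tr.leaf (nat_lit 0x741523236221))) (Tr.node (Tr.leaf (nat_lit 0x53343233282622121)) (Tr.leaf (nat_lit 0x0))))))) (Tr.node (Tr.node (Tr.node (Tr.node (Tr.node (Tr.leaf (nat_lit 0x42158782267121)) (Tr.leaf (nat_lit 0x481453481232871771711))) (Tr.node (Tr.leaf (nat_lit 0x26215477882671)) (Tr.leaf (nat_lit 0x0)))) (Tr.node (Tr.node (Tr.leaf (nat_lit 0x845223178762262)) (Tr.leaf (nat_lit 0x15334323328111))) (Tr.node (Tr.leaf (nat_lit 0x93421737762)) (Tr.leaf (nat_lit 0x0))))) (Tr.node (Tr.node (Tr.node (Tr.leaf (nat_lit 0x93421737122)) (Tr.leaf (nat_lit 0x3343151286867767121))) (Tr.node (Tr.leaf (nat_lit 0x98451521182367622)) (Tr.leaf (nat_lit 0x0)))) (Tr.node (Tr.node (Tr.leaf (nat_lit 0x984515211823212212)) (Tr.leaf (nat_lit 0x3567134717822177))) (Tr.node (Tr.leaf (nat_lit 0x41571323771)) (Tr.leaf (nat_lit 0x0)))))) (Tr.node (Tr.node (Tr.node (Tr.node (Tr.leaf (nat_lit 0x677121)) (Tr.leaf (nat_lit 0x48173421317826226221))) (Tr.node (Tr.leaf (nat_lit 0x88521348286713)) (Tr.leaf (nat_lit 0x0)))) (Tr.node (Tr.node (Tr.leaf (nat_lit 0x481453481232812171)) (Tr.leaf (nat_lit 0x8562234788213226717))) (Tr.node (Tr.leaf (nat_lit 0x8743153322621)) (Tr.leaf (nat_lit 0x0))))) (Tr.node (Tr.node (Tr.node (Tr.leaf (nat_lit 0x751532867376776712)) (Tr.leaf (nat_lit 0x76754778867717121))) (Tr.node (Tr.leaf (nat_lit 0x88931512868111)) (Tr.leaf (nat_lit 0x0)))) (Tr.node (Tr.node (Tr.leaf (nat_lit 0x5821841321232122121)) (Tr.leaf (nat_lit 0x0))) (Tr.node (Tr.leaf (nat_lit 0x3973153367)) (Tr.leaf (nat_lit 0x0)))))))) (Tr.node (Tr.node (Tr.node (Tr.node (Tr.node (Tr.node (Tr.leaf (nat_lit 0x41571323267121)) (Tr.leaf (nat_lit 0x262154778817717121))) (Tr.node (Tr.leaf (nat_lit 0x397315332622122)) (Tr.leaf (nat_lit 0x0)))) (Tr.node (Tr.node (Tr.leaf (nat_lit 0x334315128686217)) (Tr.leaf (nat_lit 0x889315128682676))) (Tr.node (Tr.leaf (nat_lit 0x2621547788771712)) (Tr.leaf (nat_lit 0x0))))) (Tr.node (Tr.node (Tr.node (Tr.leaf (nat_lit 0x5331341282128)) (Tr.leaf (nat_lit 0x76368422131817121))) (Tr.node (Tr.leaf (nat_lit 0x88931512868177121)) (Tr.leaf (nat_lit 0x0)))) (Tr.node (Tr.node (Tr.leaf (nat_lit 0x1153343233281771211)) (Tr.leaf (nat_lit 0x845845773623121771))) (Tr.node (Tr.leaf (nat_lit 0x17415232377177)) (Tr.leaf (nat_lit 0x0)))))) (Tr.node (Tr.node (Tr.node (Tr.node (Tr.leaf (nat_lit 0x6345673212377671)) (Tr.leaf (nat_lit 0x485134373363621221))) (Tr.node (Tr.leaf (nat_lit 0x8743153376267)) (Tr.leaf (nat_lit 0x0)))) (Tr.node (Tr.node (Tr.leaf (nat_lit 0x262154778867622)) (Tr.leaf (nat_lit 0x288568428262262))) (Tr.node (Tr.leaf (nat_lit 0x481734213178622121)) (Tr.leaf (nat_lit 0x0))))) (Tr.node (Tr.node (Tr.node (Tr.leaf (nat_lit 0x31563433131312)) (Tr.leaf (nat_lit 0x6598634678182622622121))) (Tr.node (Tr.leaf (nat_lit 0x31563433131322)) (Tr.leaf (nat_lit 0x0)))) (Tr.node (Tr.node (Tr.leaf (nat_lit 0x46342173171221)) (Tr.leaf (nat_lit 0x1845223178717))) (Tr.node (Tr.leaf (nat_lit 0x7592534787812362262262)) (Tr.leaf (nat_lit 0x0))))))) (Tr.node (Tr.node (Tr.node (Tr.node (Tr.node (Tr.leaf (nat_lit 0x413421732217711)) (Tr.leaf (nat_lit 0x48173421317862262))) (Tr.node (Tr.leaf (nat_lit 0x984515211823766622)) (Tr.leaf (nat_lit 0x0)))) (Tr.node (Tr.node (Tr.leaf (nat_lit 0x457115487787821771)) (Tr.leaf (nat_lit 0x889315128687671212))) (Tr.node (Tr.leaf (nat_lit 0x41215878767122)) (Tr.leaf (nat_lit 0x0))))) (Tr.node (Tr.node (Tr.node (Tr.leaf (nat_lit 0x48145348123287762)) (Tr.leaf (nat_lit 0x153343233287122))) (Tr.node (Tr.leaf (nat_lit 0x5334323328212212)) (Tr.leaf (nat_lit 0x0)))) (Tr.node (Tr.node (Tr.leaf (nat_lit 0x48513437336367717)) (Tr.leaf (nat_lit 0x17415232376771771))) (Tr.node (Tr.leaf (nat_lit 0x533432332862171)) (Tr.leaf (nat_lit 0x0)))))) (Tr.node (Tr.node (Tr.node (Tr.node (Tr.leaf (nat_lit 0x3567134717867762)) (Tr.leaf (nat_lit 0x598634678187622621))) (Tr.node (Tr.leaf (nat_lit 0x39584577362326771)) (Tr.leaf (nat_lit 0x0)))) (Tr.node (Tr.node (Tr.leaf (nat_lit 0x8852134828671376221)) (Tr.leaf (nat_lit 0x33431512868267))) (Tr.node (Tr.leaf (nat_lit 0x634567321237767)) (Tr.leaf (nat_lit 0x0))))) (Tr.node (Tr.node (Tr.node (Tr.leaf (nat_lit 0x334532822317717121)) (Tr.leaf (nat_lit 0x4134217377626))) (Tr.node (Tr.leaf (nat_lit 0x59863467818712212)) (Tr.leaf (nat_lit 0x0)))) (Tr.node (Tr.node (Tr.leaf (nat_lit 0x856223478821362171)) (Tr.leaf (nat_lit 0x0))) (Tr.node (Tr.leaf (nat_lit 0x7675477887677171)) (Tr.leaf (nat_lit 0x0)))))))))) (Tr.node (Tr.node (Tr.node (Tr.node (Tr.node (Tr.node (Tr.node (Tr.node (Tr.leaf (nat_lit 0x28856842867121221)) (Tr.leaf (nat_lit 0x885213482867131111))) (Tr.node (Tr.leaf (nat_lit 0x93421737671212)) (Tr.leaf (nat_lit 0x0)))) (Tr.node (Tr.node (Tr.leaf (nat_lit 0x8452231787622621)) (Tr.leaf (nat_lit 0x5435847732682622626))) (Tr.node (Tr.leaf (nat_lit 0x845223178622622)) (Tr.leaf (nat_lit 0x0))))) (Tr.node (Tr.node (Tr.node (Tr.leaf (nat_lit 0x1741523231771711)) (Tr.leaf (nat_lit 0x25868417826371771711))) (Tr.node (Tr.leaf (nat_lit 0x484515211823677626)) (Tr.leaf (nat_lit 0x0)))) (Tr.node (Tr.node (Tr.leaf (nat_lit 0x48173421317822621)) (Tr.leaf (nat_lit 0x134567321232267122))) (Tr.node (Tr.leaf (nat_lit 0x25868417826367712)) (Tr.leaf (nat_lit 0x0)))))) (Tr.node (Tr.node (Tr.node (Tr.node (Tr.leaf (nat_lit 0x18452231782267177)) (Tr.leaf (nat_lit 0x68452231781212))) (Tr.node (Tr.leaf (nat_lit 0x7675477882671)) (Tr.leaf (nat_lit 0x0)))) (Tr.node (Tr.node (Tr.leaf (nat_lit 0x7515328673771221)) (Tr.leaf (nat_lit 0x1153343233287762))) (Tr.node (Tr.leaf (nat_lit 0x463421732122121)) (Tr.leaf (nat_lit 0x0))))) (Tr.node (Tr.node (Tr.node (Tr.leaf (nat_lit 0x4342173111)) (Tr.leaf (nat_lit 0x1845223178762262))) (Tr.node (Tr.leaf (nat_lit 0x43342673226717)) (Tr.leaf (nat_lit 0x0)))) (Tr.node (Tr.node (Tr.leaf (nat_lit 0x6533432332867622)) (Tr.leaf (nat_lit 0x288568428767717))) (Tr.node (Tr.leaf (nat_lit 0x485134373363121221)) (Tr.leaf (nat_lit 0x0))))))) (Tr.node (Tr.node (Tr.node (Tr.node (Tr.node (Tr.leaf (nat_lit 0x4215878171)) (Tr.leaf (nat_lit 0x68452231787762676))) (Tr.node (Tr.leaf (nat_lit 0x53313412821286221771)) (Tr.leaf (nat_lit 0x0)))) (Tr.node (Tr.node (Tr.leaf (nat_lit 0x4534154231873776776)) (Tr.leaf (nat_lit 0x7515328673626771))) (Tr.node (Tr.leaf (nat_lit 0x42158781221211)) (Tr.leaf (nat_lit 0x0))))) (Tr.node (Tr.node (Tr.node (Tr.leaf (nat_lit 0x413421736771712)) (Tr.leaf (nat_lit 0x415713237621771))) (Tr.node (Tr.leaf (nat_lit 0x6845223178622622)) (Tr.leaf (nat_lit 0x0)))) (Tr.node (Tr.node (Tr.leaf (nat_lit 0x4814534812328622177)) (Tr.leaf (nat_lit 0x653343233287121221))) (Tr.node (Tr.leaf (nat_lit 0x463421737677671)) (Tr.leaf (nat_lit 0x0)))))) (Tr.node (Tr.node (Tr.node (Tr.node (Tr.leaf (nat_lit 0x85622347882132171)) (Tr.leaf (nat_lit 0x8893151286822677))) (Tr.node (Tr.leaf (nat_lit 0x356713471787712)) (Tr.leaf (nat_lit 0x0)))) (Tr.node (Tr.node (Tr.leaf (nat_lit 0x457115487787862677)) (Tr.leaf (nat_lit 0x481453481232871221))) (Tr.node (Tr.leaf (nat_lit 0x34567321237177111)) (Tr.leaf (nat_lit 0x0))))) (Tr.node (Tr.node (Tr.node (Tr.leaf (nat_lit 0x39731533717717121)) (Tr.leaf (nat_lit 0x759253478781236662))) (Tr.node (Tr.leaf (nat_lit 0x3343151286817717121)) (Tr.leaf (nat_lit 0x0)))) (Tr.node (Tr.node (Tr.leaf (nat_lit 0x2885684282671)) (Tr.leaf (nat_lit 0x42158787177121))) (Tr.node (Tr.leaf (nat_lit 0x3135487717362262671)) (Tr.leaf (nat_lit 0x0)))))))) (Tr.node (Tr.node (Tr.node (Tr.node (Tr.node (Tr.node (Tr.leaf (nat_lit 0x45713231221221)) (Tr.leaf (nat_lit 0x33431512868676221))) (Tr.node (Tr.leaf (nat_lit 0x1345673212312111)) (Tr.leaf (nat_lit 0x0)))) (Tr.node (Tr.node (Tr.leaf (nat_lit 0x7592534787812362212212)) (Tr.leaf (nat_lit 0x15334323328776662))) (Tr.node (Tr.leaf (nat_lit 0x768634221813622122121)) (Tr.leaf (nat_lit 0x0))))) (Tr.node (Tr.node (Tr.node (Tr.leaf (nat_lit 0x71863422181371771)) (Tr.leaf (nat_lit 0x71863422181362212212))) (Tr.node (Tr.leaf (nat_lit 0x258684178263262262)) (Tr.leaf (nat_lit 0x0)))) (Tr.node (Tr.node (Tr.leaf (nat_lit 0x768634221813217717)) (Tr.leaf (nat_lit 0x15334323328767717))) (Tr.node (Tr.leaf (nat_lit 0x75925347878123221)) (Tr.leaf (nat_lit 0x0)))))) (Tr.node (Tr.node (Tr.node (Tr.node (Tr.leaf (nat_lit 0x7622)) (Tr.leaf (nat_lit 0x582184132123712211))) (Tr.node (Tr.leaf (nat_lit 0x76754778876226)) (Tr.leaf (nat_lit 0x0)))) (Tr.node (Tr.node (Tr.leaf (nat_lit 0x4334267321711)) (Tr.leaf (nat_lit 0x43342673766622))) (Tr.node (Tr.leaf (nat_lit 0x115334323328677121)) (Tr.leaf (nat_lit 0x0))))) (Tr.node (Tr.node (Tr.node (Tr.leaf (nat_lit 0x41215878712171)) (Tr.leaf (nat_lit 0x767547788677121))) (Tr.node (Tr.leaf (nat_lit 0x84522317877111)) (Tr.leaf (nat_lit 0x0)))) (Tr.node (Tr.node (Tr.leaf (nat_lit 0x1434217367767121)) (Tr.leaf (nat_lit 0x741523237621))) (Tr.node (Tr.leaf (nat_lit 0x933426732622121)) (Tr.leaf (nat_lit 0x0))))))) (Tr.node (Tr.node (Tr.node (Tr.node (Tr.node (Tr.leaf (nat_lit 0x4121587826771)) (Tr.leaf (nat_lit 0x6845223178771))) (Tr.node (Tr.leaf (nat_lit 0x77893468232326217)) (Tr.leaf (nat_lit 0x0)))) (Tr.node (Tr.node (Tr.leaf (nat_lit 0x4342173676221)) (Tr.leaf (nat_lit 0x288568428666))) (Tr.node (Tr.leaf (nat_lit 0x98451521182376226)) (Tr.leaf (nat_lit 0x0))))) (Tr.node (Tr.node (Tr.node (Tr.leaf (nat_lit 0x959534773181771771)) (Tr.leaf (nat_lit 0x6845223178626762))) (Tr.node (Tr.leaf (nat_lit 0x6598634678187622626)) (Tr.leaf (nat_lit 0x0)))) (Tr.node (Tr.node (Tr.leaf (nat_lit 0x153343233286712122)) (Tr.leaf (nat_lit 0x84584577362377622))) (Tr.node (Tr.leaf (nat_lit 0x778934682323671771)) (Tr.leaf (nat_lit 0x0)))))) (Tr.node (Tr.node (Tr.node (Tr.node (Tr.leaf (nat_lit 0x18452231787767122)) (Tr.leaf (nat_lit 0x15334323328221771))) (Tr.node (Tr.leaf (nat_lit 0x751532867362212)) (Tr.leaf (nat_lit 0x0)))) (Tr.node (Tr.node (Tr.leaf (nat_lit 0x153343233282622626)) (Tr.leaf (nat_lit 0x53343233282671))) (Tr.node (Tr.leaf (nat_lit 0x7415232362262671)) (Tr.leaf (nat_lit 0x0))))) (Tr.node (Tr.node (Tr.node (Tr.leaf (nat_lit 0x93342673267)) (Tr.leaf (nat_lit 0x6217))) (Tr.node (Tr.leaf (nat_lit 0x345673212377171)) (Tr.leaf (nat_lit 0x0)))) (Tr.node (Tr.node (Tr.leaf (nat_lit 0x4215878677122)) (Tr.leaf (nat_lit 0x0))) (Tr.node (Tr.leaf (nat_lit 0x959534773182267122)) (Tr.leaf (nat_lit 0x0))))))))) (Tr.node (Tr.node (Tr.node (Tr.node (Tr.node (Tr.node (Tr.node (Tr.leaf (nat_lit 0x9851343733632262212)) (Tr.leaf (nat_lit 0x6533432332877121))) (Tr.node (Tr.leaf (nat_lit 0x533432332822677)) (Tr.leaf (nat_lit 0x0)))) (Tr.node (Tr.node (Tr.leaf (nat_lit 0x421587877622)) (Tr.leaf (nat_lit 0x93421737712))) (Tr.node (Tr.leaf (nat_lit 0x262154778876221)) (Tr.leaf (nat_lit 0x0))))) (Tr.node (Tr.node (Tr.node (Tr.leaf (nat_lit 0x985134373363212171)) (Tr.leaf (nat_lit 0x58218413212362171))) (Tr.node (Tr.leaf (nat_lit 0x334532822322177)) (Tr.leaf (nat_lit 0x0)))) (Tr.node (Tr.node (Tr.leaf (nat_lit 0x15334323328677626)) (Tr.leaf (nat_lit 0x7686342218136217712))) (Tr.node (Tr.leaf (nat_lit 0x3456732123226217)) (Tr.leaf (nat_lit 0x0)))))) (Tr.node (Tr.node (Tr.node (Tr.node (Tr.leaf (nat_lit 0x18452231782621)) (Tr.leaf (nat_lit 0x634567321236267712))) (Tr.node (Tr.leaf (nat_lit 0x356713471786221771)) (Tr.leaf (nat_lit 0x0)))) (Tr.node (Tr.node (Tr.leaf (nat_lit 0x2586841782636776712)) (Tr.leaf (nat_lit 0x634567321231211))) (Tr.node (Tr.leaf (nat_lit 0x5432134878628767122)) (Tr.leaf (nat_lit 0x0))))) (Tr.node (Tr.node (Tr.node (Tr.leaf (nat_lit 0x45713232621)) (Tr.leaf (nat_lit 0x484515211823262177))) (Tr.node (Tr.leaf (nat_lit 0x543584773268776712)) (Tr.leaf (nat_lit 0x0)))) (Tr.node (Tr.node (Tr.leaf (nat_lit 0x845845773623717717121)) (Tr.leaf (nat_lit 0x88521348286713771211))) (Tr.node (Tr.leaf (nat_lit 0x8852134828671312171)) (Tr.leaf (nat_lit 0x0))))))) (Tr.node (Tr.node (Tr.node (Tr.node (Tr.node (Tr.leaf (nat_lit 0x68452231782122171)) (Tr.leaf (nat_lit 0x5331341282128217))) (Tr.node (Tr.leaf (nat_lit 0x315634331313212211)) (Tr.leaf (nat_lit 0x0)))) (Tr.node (Tr.node (Tr.leaf (nat_lit 0x39731533711)) (Tr.leaf (nat_lit 0x2621547788111))) (Tr.node (Tr.leaf (nat_lit 0x98451521182367717121)) (Tr.leaf (nat_lit 0x0))))) (Tr.node (Tr.node (Tr.node (Tr.leaf (nat_lit 0x598634678187671)) (Tr.leaf (nat_lit 0x463421737122111))) (Tr.node (Tr.leaf (nat_lit 0x4342173666)) (Tr.leaf (nat_lit 0x0)))) (Tr.node (Tr.node (Tr.leaf (nat_lit 0x59863467818762212)) (Tr.leaf (nat_lit 0x2885684287712))) (Tr.node (Tr.leaf (nat_lit 0x63456732123677177)) (Tr.leaf (nat_lit 0x0)))))) (Tr.node (Tr.node (Tr.node (Tr.node (Tr.leaf (nat_lit 0x91342173171221)) (Tr.leaf (nat_lit 0x53313412821286712122))) (Tr.node (Tr.leaf (nat_lit 0x856223478821376221)) (Tr.leaf (nat_lit 0x0)))) (Tr.node (Tr.node (Tr.leaf (nat_lit 0x59863467818767)) (Tr.leaf (nat_lit 0x2622626))) (Tr.node (Tr.leaf (nat_lit 0x59863467818177111)) (Tr.leaf (nat_lit 0x0))))) (Tr.node (Tr.node (Tr.node (Tr.leaf (nat_lit 0x33453282231111)) (Tr.leaf (nat_lit 0x397315337712211))) (Tr.node (Tr.leaf (nat_lit 0x84584577362371111)) (Tr.leaf (nat_lit 0x0)))) (Tr.node (Tr.node (Tr.leaf (nat_lit 0x5435847732687677671)) (Tr.leaf (nat_lit 0x0))) (Tr.node (Tr.leaf (nat_lit 0x33431512868226771)) (Tr.leaf (nat_lit 0x0)))))))) (Tr.node (Tr.node (Tr.node (Tr.node (Tr.node (Tr.node (Tr.leaf (nat_lit 0x457132367766)) (Tr.leaf (nat_lit 0x6845223178677))) (Tr.node (Tr.leaf (nat_lit 0x856223478821371771711)) (Tr.leaf (nat_lit 0x0)))) (Tr.node (Tr.node (Tr.leaf (nat_lit 0x45711548778787121711)) (Tr.leaf (nat_lit 0x45711548778786221712))) (Tr.node (Tr.leaf (nat_lit 0x481734213178711)) (Tr.leaf (nat_lit 0x0))))) (Tr.node (Tr.node (Tr.node (Tr.leaf (nat_lit 0x8452231782622171)) (Tr.leaf (nat_lit 0x313548771732217))) (Tr.node (Tr.leaf (nat_lit 0x598634678186226221)) (Tr.leaf (nat_lit 0x0)))) (Tr.node (Tr.node (Tr.leaf (nat_lit 0x53313412821286771712)) (Tr.leaf (nat_lit 0x984515211823677626))) (Tr.node (Tr.leaf (nat_lit 0x751532867321771)) (Tr.leaf (nat_lit 0x0)))))) (Tr.node (Tr.node (Tr.node (Tr.node (Tr.leaf (nat_lit 0x845845773623622121)) (Tr.leaf (nat_lit 0x3343151286871771711))) (Tr.node (Tr.leaf (nat_lit 0x4845152118232217711)) (Tr.leaf (nat_lit 0x0)))) (Tr.node (Tr.node (Tr.leaf (nat_lit 0x718634221813267177)) (Tr.leaf (nat_lit 0x7789346823232111))) (Tr.node (Tr.leaf (nat_lit 0x459534773187767)) (Tr.leaf (nat_lit 0x0))))) (Tr.node (Tr.node (Tr.node (Tr.leaf (nat_lit 0x533134128212877621)) (Tr.leaf (nat_lit 0x11533432332862676))) (Tr.node (Tr.leaf (nat_lit 0x453415423187321111)) (Tr.leaf (nat_lit 0x0)))) (Tr.node (Tr.node (Tr.leaf (nat_lit 0x845223178226226)) (Tr.leaf (nat_lit 0x12171))) (Tr.node (Tr.leaf (nat_lit 0x45713237766)) (Tr.leaf (nat_lit 0x0))))))) (Tr.node (Tr.node (Tr.node (Tr.node (Tr.node (Tr.leaf (nat_lit 0x4534154231873267122)) (Tr.leaf (nat_lit 0x768634221813677177))) (Tr.node (Tr.leaf (nat_lit 0x7675477882622121)) (Tr.leaf (nat_lit 0x0)))) (Tr.node (Tr.node (Tr.leaf (nat_lit 0x913421731111)) (Tr.leaf (nat_lit 0x15334323328262262))) (Tr.node (Tr.leaf (nat_lit 0x13456732123177177)) (Tr.leaf (nat_lit 0x0))))) (Tr.node (Tr.node (Tr.node (Tr.leaf (nat_lit 0x718634221813221)) (Tr.leaf (nat_lit 0x28856842877121))) (Tr.node (Tr.leaf (nat_lit 0x4334267367712)) (Tr.leaf (nat_lit 0x0)))) (Tr.node (Tr.node (Tr.leaf (nat_lit 0x3958457736237677621)) (Tr.leaf (nat_lit 0x4215878767767121))) (Tr.node (Tr.leaf (nat_lit 0x653343233287677671)) (Tr.leaf (nat_lit 0x0)))))) (Tr.node (Tr.node (Tr.node (Tr.node (Tr.leaf (nat_lit 0x985134373363622)) (Tr.leaf (nat_lit 0x8562234788213776712))) (Tr.node (Tr.leaf (nat_lit 0x34567321232267122)) (Tr.leaf (nat_lit 0x0)))) (Tr.node (Tr.node (Tr.leaf (nat_lit 0x115334323328776712)) (Tr.leaf (nat_lit 0x62671))) (Tr.node (Tr.leaf (nat_lit 0x9334267311)) (Tr.leaf (nat_lit 0x0))))) (Tr.node (Tr.node (Tr.node (Tr.leaf (nat_lit 0x68452231787762171)) (Tr.leaf (nat_lit 0x31563433131322111))) (Tr.node (Tr.leaf (nat_lit 0x334315128686712122)) (Tr.leaf (nat_lit 0x0)))) (Tr.node (Tr.node (Tr.leaf (nat_lit 0x93342673776712)) (Tr.leaf (nat_lit 0x0))) (Tr.node (Tr.leaf (nat_lit 0x4817342131787677621)) (Tr.leaf (nat_lit 0x0))))))))))) (Tr.node (Tr.node (Tr.node (Tr.node (Tr.node (Tr.node (Tr.node (Tr.node (Tr.node (Tr.leaf (nat_lit 0x543584773268766622)) (Tr.leaf (nat_lit 0x334315128687122))) (Tr.node (Tr.leaf (nat_lit 0x889315128681111)) (Tr.leaf (nat_lit 0x0)))) (Tr.node (Tr.node (Tr.leaf (nat_lit 0x134567321231712)) (Tr.leaf (nat_lit 0x45713237767122))) (Tr.node (Tr.leaf (nat_lit 0x8852134828671317122)) (Tr.leaf (nat_lit 0x0))))) (Tr.node (Tr.node (Tr.node (Tr.leaf (nat_lit 0x874315332177)) (Tr.leaf (nat_lit 0x33431512868262177))) (Tr.node (Tr.leaf (nat_lit 0x76368422131871771)) (Tr.leaf (nat_lit 0x0)))) (Tr.node (Tr.node (Tr.leaf (nat_lit 0x68452231787712171)) (Tr.leaf (nat_lit 0x7686342218132267622))) (Tr.node (Tr.leaf (nat_lit 0x718634221813717711)) (Tr.leaf (nat_lit 0x0)))))) (Tr.node (Tr.node (Tr.node (Tr.node (Tr.leaf (nat_lit 0x6345673212362217)) (Tr.leaf (nat_lit 0x984515211823712122))) (Tr.node (Tr.leaf (nat_lit 0x65334323328717717)) (Tr.leaf (nat_lit 0x0)))) (Tr.node (Tr.node (Tr.leaf (nat_lit 0x74152323677171)) (Tr.leaf (nat_lit 0x11533432332867122))) (Tr.node (Tr.leaf (nat_lit 0x143421736221771)) (Tr.leaf (nat_lit 0x0))))) (Tr.node (Tr.node (Tr.node (Tr.leaf (nat_lit 0x313548771736226217)) (Tr.leaf (nat_lit 0x76754778862671))) (Tr.node (Tr.leaf (nat_lit 0x76754778867767121)) (Tr.leaf (nat_lit 0x0)))) (Tr.node (Tr.node (Tr.leaf (nat_lit 0x43342673121711)) (Tr.leaf (nat_lit 0x8452231787121771))) (Tr.node (Tr.leaf (nat_lit 0x933426737671212)) (Tr.leaf (nat_lit 0x0))))))) (Tr.node (Tr.node (Tr.node (Tr.node (Tr.node (Tr.leaf (nat_lit 0x334532822317712)) (Tr.leaf (nat_lit 0x143421731111))) (Tr.node (Tr.leaf (nat_lit 0x8743153321771)) (Tr.leaf (nat_lit 0x0)))) (Tr.node (Tr.node (Tr.leaf (nat_lit 0x15334323328622177)) (Tr.leaf (nat_lit 0x751532867322621))) (Tr.node (Tr.leaf (nat_lit 0x845223178776771712)) (Tr.leaf (nat_lit 0x0))))) (Tr.node (Tr.node (Tr.node (Tr.leaf (nat_lit 0x1845223178622622)) (Tr.leaf (nat_lit 0x1434217371771711))) (Tr.node (Tr.leaf (nat_lit 0x46342173221771)) (Tr.leaf (nat_lit 0x0)))) (Tr.node (Tr.node (Tr.leaf (nat_lit 0x4134217321221211)) (Tr.leaf (nat_lit 0x7675477886217))) (Tr.node (Tr.leaf (nat_lit 0x484515211823267)) (Tr.leaf (nat_lit 0x0)))))) (Tr.node (Tr.node (Tr.node (Tr.node (Tr.leaf (nat_lit 0x91342173677621)) (Tr.leaf (nat_lit 0x485134373363677171))) (Tr.node (Tr.leaf (nat_lit 0x3156343313131771771)) (Tr.leaf (nat_lit 0x0)))) (Tr.node (Tr.node (Tr.leaf (nat_lit 0x959534773187622122)) (Tr.leaf (nat_lit 0x33453282232122121))) (Tr.node (Tr.leaf (nat_lit 0x3156343313137767)) (Tr.leaf (nat_lit 0x0))))) (Tr.node (Tr.node (Tr.node (Tr.leaf (nat_lit 0x87431533767767121)) (Tr.leaf (nat_lit 0x543213487862871217))) (Tr.node (Tr.leaf (nat_lit 0x1153343233287622)) (Tr.leaf (nat_lit 0x0)))) (Tr.node (Tr.node (Tr.leaf (nat_lit 0x3567134717867712)) (Tr.leaf (nat_lit 0x7789346823232671221))) (Tr.node (Tr.leaf (nat_lit 0x43421731)) (Tr.leaf (nat_lit 0x0)))))))) (Tr.node (Tr.node (Tr.node (Tr.node (Tr.node (Tr.node (Tr.leaf (nat_lit 0x66)) (Tr.leaf (nat_lit 0x7186342218132622))) (Tr.node (Tr.leaf (nat_lit 0x33431512868111)) (Tr.leaf (nat_lit 0x0)))) (Tr.node (Tr.node (Tr.leaf (nat_lit 0x1345673212362262262)) (Tr.leaf (nat_lit 0x433426732122121))) (Tr.node (Tr.leaf (nat_lit 0x87431533621771)) (Tr.leaf (nat_lit 0x0))))) (Tr.node (Tr.node (Tr.node (Tr.leaf (nat_lit 0x457115487787876771712)) (Tr.leaf (nat_lit 0x4845152118237767121))) (Tr.node (Tr.leaf (nat_lit 0x98513437336366622)) (Tr.leaf (nat_lit 0x0)))) (Tr.node (Tr.node (Tr.leaf (nat_lit 0x4534154231873767121)) (Tr.leaf (nat_lit 0x75925347878123171211))) (Tr.node (Tr.leaf (nat_lit 0x5432134878628677122)) (Tr.leaf (nat_lit 0x0)))))) (Tr.node (Tr.node (Tr.node (Tr.node (Tr.leaf (nat_lit 0x9334267317712)) (Tr.leaf (nat_lit 0x4534154231873122))) (Tr.node (Tr.leaf (nat_lit 0x9334267371771711)) (Tr.leaf (nat_lit 0x0)))) (Tr.node (Tr.node (Tr.leaf (nat_lit 0x9334267367717121)) (Tr.leaf (nat_lit 0x1345673212326226))) (Tr.node (Tr.leaf (nat_lit 0x3156343313132267122)) (Tr.leaf (nat_lit 0x0))))) (Tr.node (Tr.node (Tr.node (Tr.leaf (nat_lit 0x434217367121221)) (Tr.leaf (nat_lit 0x767547788177121))) (Tr.node (Tr.leaf (nat_lit 0x4215878622621)) (Tr.leaf (nat_lit 0x0)))) (Tr.node (Tr.node (Tr.leaf (nat_lit 0x65986346781817711)) (Tr.leaf (nat_lit 0x11533432332817717121))) (Tr.node (Tr.leaf (nat_lit 0x1741523232267)) (Tr.leaf (nat_lit 0x0))))))) (Tr.node (Tr.node (Tr.node (Tr.node (Tr.node (Tr.leaf (nat_lit 0x457132362121)) (Tr.leaf (nat_lit 0x288568428171221))) (Tr.node (Tr.leaf (nat_lit 0x874315332262)) (Tr.leaf (nat_lit 0x0)))) (Tr.node (Tr.node (Tr.leaf (nat_lit 0x5432134878628767121221)) (Tr.leaf (nat_lit 0x45711548778787111))) (Tr.node (Tr.leaf (nat_lit 0x7686342218132262171)) (Tr.leaf (nat_lit 0x0))))) (Tr.node (Tr.node (Tr.node (Tr.leaf (nat_lit 0x659863467818762262)) (Tr.leaf (nat_lit 0x262212))) (Tr.node (Tr.leaf (nat_lit 0x42158786221712)) (Tr.leaf (nat_lit 0x0)))) (Tr.node (Tr.node (Tr.leaf (nat_lit 0x6598634678187122121)) (Tr.leaf (nat_lit 0x4571323262267))) (Tr.node (Tr.leaf (nat_lit 0x63456732123626)) (Tr.leaf (nat_lit 0x0)))))) (Tr.node (Tr.node (Tr.node (Tr.node (Tr.leaf (nat_lit 0x46342173267)) (Tr.leaf (nat_lit 0x93342673776662))) (Tr.node (Tr.leaf (nat_lit 0x258684178263676226)) (Tr.leaf (nat_lit 0x0)))) (Tr.node (Tr.node (Tr.leaf (nat_lit 0x18452231787766)) (Tr.leaf (nat_lit 0x463421736217))) (Tr.node (Tr.leaf (nat_lit 0x4851343733637621)) (Tr.leaf (nat_lit 0x0))))) (Tr.node (Tr.node (Tr.node (Tr.leaf (nat_lit 0x481734213178177122)) (Tr.leaf (nat_lit 0x63456732123121))) (Tr.node (Tr.leaf (nat_lit 0x763684221318671712)) (Tr.leaf (nat_lit 0x0)))) (Tr.node (Tr.node (Tr.leaf (nat_lit 0x1153343233282676)) (Tr.leaf (nat_lit 0x0))) (Tr.node (Tr.leaf (nat_lit 0x453415423187376771771)) (Tr.leaf (nat_lit 0x0))))))))) (Tr.node (Tr.node (Tr.node (Tr.node (Tr.node (Tr.node (Tr.node (Tr.leaf (nat_lit 0x741523232262212)) (Tr.leaf (nat_lit 0x93342673212212))) (Tr.node (Tr.leaf (nat_lit 0x7186342218136762)) (Tr.leaf (nat_lit 0x0)))) (Tr.node (Tr.node (Tr.leaf (nat_lit 0x8452231787626771)) (Tr.leaf (nat_lit 0x845223178267121))) (Tr.node (Tr.leaf (nat_lit 0x2885684286)) (Tr.leaf (nat_lit 0x0))))) (Tr.node (Tr.node (Tr.node (Tr.leaf (nat_lit 0x1345673212367626)) (Tr.leaf (nat_lit 0x334532822371771711))) (Tr.node (Tr.leaf (nat_lit 0x9334267367712)) (Tr.leaf (nat_lit 0x0)))) (Tr.node (Tr.node (Tr.leaf (nat_lit 0x58218413212367762)) (Tr.leaf (nat_lit 0x11533432332867717121))) (Tr.node (Tr.leaf (nat_lit 0x54358477326871771711)) (Tr.leaf (nat_lit 0x0)))))) (Tr.node (Tr.node (Tr.node (Tr.node (Tr.leaf (nat_lit 0x42158786766)) (Tr.leaf (nat_lit 0x598634678187767122))) (Tr.node (Tr.leaf (nat_lit 0x3973153321771)) (Tr.leaf (nat_lit 0x0)))) (Tr.node (Tr.node (Tr.leaf (nat_lit 0x5432134878628226712)) (Tr.leaf (nat_lit 0x481453481232867762))) (Tr.node (Tr.leaf (nat_lit 0x31563433131362212212)) (Tr.leaf (nat_lit 0x0))))) (Tr.node (Tr.node (Tr.node (Tr.leaf (nat_lit 0x33453282236771712)) (Tr.leaf (nat_lit 0x7789346823232177121))) (Tr.node (Tr.leaf (nat_lit 0x4215878711)) (Tr.leaf (nat_lit 0x0)))) (Tr.node (Tr.node (Tr.leaf (nat_lit 0x3973153371)) (Tr.leaf (nat_lit 0x453415423187371712))) (Tr.node (Tr.leaf (nat_lit 0x457115487787877122)) (Tr.leaf (nat_lit 0x0))))))) (Tr.node (Tr.node (Tr.node (Tr.node (Tr.node (Tr.leaf (nat_lit 0x463421736771712)) (Tr.leaf (nat_lit 0x54358477326867762))) (Tr.node (Tr.leaf (nat_lit 0x4845152118232622121)) (Tr.leaf (nat_lit 0x0)))) (Tr.node (Tr.node (Tr.leaf (nat_lit 0x4817342131787177121)) (Tr.leaf (nat_lit 0x7789346823232677121))) (Tr.node (Tr.leaf (nat_lit 0x31354877173217122)) (Tr.leaf (nat_lit 0x0))))) (Tr.node (Tr.node (Tr.node (Tr.leaf (nat_lit 0x74152323267762)) (Tr.leaf (nat_lit 0x874315332262217))) (Tr.node (Tr.leaf (nat_lit 0x45711548778781221211)) (Tr.leaf (nat_lit 0x0)))) (Tr.node (Tr.node (Tr.leaf (nat_lit 0x93342673767767)) (Tr.leaf (nat_lit 0x653343233282171))) (Tr.node (Tr.leaf (nat_lit 0x5331341282128221771)) (Tr.leaf (nat_lit 0x0)))))) (Tr.node (Tr.node (Tr.node (Tr.node (Tr.leaf (nat_lit 0x934217367622)) (Tr.leaf (nat_lit 0x53343233287622))) (Tr.node (Tr.leaf (nat_lit 0x5432134878628776221)) (Tr.leaf (nat_lit 0x0)))) (Tr.node (Tr.node (Tr.leaf (nat_lit 0x1845223178776217)) (Tr.leaf (nat_lit 0x6598634678187762671))) (Tr.node (Tr.leaf (nat_lit 0x1741523236221217)) (Tr.leaf (nat_lit 0x0))))) (Tr.node (Tr.node (Tr.node (Tr.leaf (nat_lit 0x18452231782626)) (Tr.leaf (nat_lit 0x481453481232817122))) (Tr.node (Tr.leaf (nat_lit 0x98451521182317712)) (Tr.leaf (nat_lit 0x0)))) (Tr.node (Tr.node (Tr.leaf (nat_lit 0x93421732217711)) (Tr.leaf (nat_lit 0x0))) (Tr.node (Tr.leaf (nat_lit 0x26215477881217)) (Tr.leaf (nat_lit 0x0)))))))) (Tr.node (Tr.node (Tr.node (Tr.node (Tr.node (Tr.node (Tr.leaf (nat_lit 0x7515328673762676)) (Tr.leaf (nat_lit 0x65986346781867766))) (Tr.node (Tr.leaf (nat_lit 0x4134217362171)) (Tr.leaf (nat_lit 0x0)))) (Tr.node (Tr.node (Tr.leaf (nat_lit 0x9595347731821221)) (Tr.leaf (nat_lit 0x5331341282128622177))) (Tr.node (Tr.leaf (nat_lit 0x4571154877878171)) (Tr.leaf (nat_lit 0x0))))) (Tr.node (Tr.node (Tr.node (Tr.leaf (nat_lit 0x6845223178622122)) (Tr.leaf (nat_lit 0x453415423187322622621))) (Tr.node (Tr.leaf (nat_lit 0x985134373363262171)) (Tr.leaf (nat_lit 0x0)))) (Tr.node (Tr.node (Tr.leaf (nat_lit 0x35671347178262177)) (Tr.leaf (nat_lit 0x653343233286))) (Tr.node (Tr.leaf (nat_lit 0x3958457736232122122)) (Tr.leaf (nat_lit 0x0)))))) (Tr.node (Tr.node (Tr.node (Tr.node (Tr.leaf (nat_lit 0x395845773623767121221)) (Tr.leaf (nat_lit 0x7675477882622626))) (Tr.node (Tr.leaf (nat_lit 0x7415232362262171)) (Tr.leaf (nat_lit 0x0)))) (Tr.node (Tr.node (Tr.leaf (nat_lit 0x46342173666)) (Tr.leaf (nat_lit 0x421587862677))) (Tr.node (Tr.leaf (nat_lit 0x415713237622621)) (Tr.leaf (nat_lit 0x0))))) (Tr.node (Tr.node (Tr.node (Tr.leaf (nat_lit 0x39584577362371771712)) (Tr.leaf (nat_lit 0x77893468232371211))) (Tr.node (Tr.leaf (nat_lit 0x13456732123671712)) (Tr.leaf (nat_lit 0x0)))) (Tr.node (Tr.node (Tr.leaf (nat_lit 0x134567321237767)) (Tr.leaf (nat_lit 0x653343233287122111))) (Tr.node (Tr.leaf (nat_lit 0x6598634678186712212)) (Tr.leaf (nat_lit 0x0))))))) (Tr.node (Tr.node (Tr.node (Tr.node (Tr.node (Tr.leaf (nat_lit 0x3456732123622122121)) (Tr.leaf (nat_lit 0x484515211823677121))) (Tr.node (Tr.leaf (nat_lit 0x481453481232811)) (Tr.leaf (nat_lit 0x0)))) (Tr.node (Tr.node (Tr.leaf (nat_lit 0x74152323221711)) (Tr.leaf (nat_lit 0x17415232362262671))) (Tr.node (Tr.leaf (nat_lit 0x134567321237762212)) (Tr.leaf (nat_lit 0x0))))) (Tr.node (Tr.node (Tr.node (Tr.leaf (nat_lit 0x484515211823622177)) (Tr.leaf (nat_lit 0x582184132123767767))) (Tr.node (Tr.leaf (nat_lit 0x34567321231771771)) (Tr.leaf (nat_lit 0x0)))) (Tr.node (Tr.node (Tr.leaf (nat_lit 0x53313412821287671212)) (Tr.leaf (nat_lit 0x582184132123776662))) (Tr.node (Tr.leaf (nat_lit 0x598634678187121771)) (Tr.leaf (nat_lit 0x0)))))) (Tr.node (Tr.node (Tr.node (Tr.node (Tr.leaf (nat_lit 0x45711548778782677)) (Tr.leaf (nat_lit 0x84584577362312212))) (Tr.node (Tr.leaf (nat_lit 0x3343151286812171)) (Tr.leaf (nat_lit 0x0)))) (Tr.node (Tr.node (Tr.leaf (nat_lit 0x334315128682622621)) (Tr.leaf (nat_lit 0x934217321221211))) (Tr.node (Tr.leaf (nat_lit 0x598634678187767712)) (Tr.leaf (nat_lit 0x0))))) (Tr.node (Tr.node (Tr.node (Tr.leaf (nat_lit 0x8852134828671321221211)) (Tr.leaf (nat_lit 0x313548771736226))) (Tr.node (Tr.leaf (nat_lit 0x763684221318622671)) (Tr.leaf (nat_lit 0x0)))) (Tr.node (Tr.node (Tr.leaf (nat_lit 0x7789346823237767766)) (Tr.leaf (nat_lit 0x0))) (Tr.node (Tr.leaf (nat_lit 0x653343233287762)) (Tr.leaf (nat_lit 0x0)))))))))) (Tr.node (Tr.node (Tr.node (Tr.node (Tr.node (Tr.node (Tr.node (Tr.node (Tr.leaf (nat_lit 0x4851343733637677177)) (Tr.leaf (nat_lit 0x3345328223766622))) (Tr.node (Tr.leaf (nat_lit 0x39584577362377677171)) (Tr.leaf (nat_lit 0x0)))) (Tr.node (Tr.node (Tr.leaf (nat_lit 0x885213482867132671)) (Tr.leaf (nat_lit 0x433426737712))) (Tr.node (Tr.leaf (nat_lit 0x98513437336362262671)) (Tr.leaf (nat_lit 0x0))))) (Tr.node (Tr.node (Tr.node (Tr.leaf (nat_lit 0x481734213178221712)) (Tr.leaf (nat_lit 0x53313412821282622621))) (Tr.node (Tr.leaf (nat_lit 0x48513437336322122121)) (Tr.leaf (nat_lit 0x0)))) (Tr.node (Tr.node (Tr.leaf (nat_lit 0x115334323328262212)) (Tr.leaf (nat_lit 0x889315128686267))) (Tr.node (Tr.leaf (nat_lit 0x8562234788213712122)) (Tr.leaf (nat_lit 0x0)))))) (Tr.node (Tr.node (Tr.node (Tr.node (Tr.leaf (nat_lit 0x9342173676221)) (Tr.leaf (nat_lit 0x6598634678182122122121))) (Tr.node (Tr.leaf (nat_lit 0x4845152118232676)) (Tr.leaf (nat_lit 0x0)))) (Tr.node (Tr.node (Tr.leaf (nat_lit 0x98513437336326267)) (Tr.leaf (nat_lit 0x48513437336322622621))) (Tr.node (Tr.leaf (nat_lit 0x8893151286871771711)) (Tr.leaf (nat_lit 0x0))))) (Tr.node (Tr.node (Tr.node (Tr.leaf (nat_lit 0x98451521182362671)) (Tr.leaf (nat_lit 0x874315337))) (Tr.node (Tr.leaf (nat_lit 0x598634678182622622121)) (Tr.leaf (nat_lit 0x0)))) (Tr.node (Tr.node (Tr.leaf (nat_lit 0x4571323226221)) (Tr.leaf (nat_lit 0x17415232322122121))) (Tr.node (Tr.leaf (nat_lit 0x2621547788217111)) (Tr.leaf (nat_lit 0x0))))))) (Tr.node (Tr.node (Tr.node (Tr.node (Tr.node (Tr.leaf (nat_lit 0x412158782177111)) (Tr.leaf (nat_lit 0x959534773182177171))) (Tr.node (Tr.leaf (nat_lit 0x759253478781232177171)) (Tr.leaf (nat_lit 0x0)))) (Tr.node (Tr.node (Tr.leaf (nat_lit 0x874315337762122)) (Tr.leaf (nat_lit 0x2586841782636217))) (Tr.node (Tr.leaf (nat_lit 0x7186342218131221711)) (Tr.leaf (nat_lit 0x0))))) (Tr.node (Tr.node (Tr.node (Tr.leaf (nat_lit 0x98513437336322671)) (Tr.leaf (nat_lit 0x41215878767121221))) (Tr.node (Tr.leaf (nat_lit 0x17415232367177)) (Tr.leaf (nat_lit 0x0)))) (Tr.node (Tr.node (Tr.leaf (nat_lit 0x84584577362326771)) (Tr.leaf (nat_lit 0x34567321237717))) (Tr.node (Tr.leaf (nat_lit 0x45711548778786766)) (Tr.leaf (nat_lit 0x0)))))) (Tr.node (Tr.node (Tr.node (Tr.node (Tr.leaf (nat_lit 0x46342173671221)) (Tr.leaf (nat_lit 0x35671347178776712))) (Tr.node (Tr.leaf (nat_lit 0x481453481232821711)) (Tr.leaf (nat_lit 0x0)))) (Tr.node (Tr.node (Tr.leaf (nat_lit 0x4851343733632262262)) (Tr.leaf (nat_lit 0x153343233287717121))) (Tr.node (Tr.leaf (nat_lit 0x2586841782632622621)) (Tr.leaf (nat_lit 0x0))))) (Tr.node (Tr.node (Tr.node (Tr.leaf (nat_lit 0x91342173666)) (Tr.leaf (nat_lit 0x11533432332867121221))) (Tr.node (Tr.leaf (nat_lit 0x2586841782637121221)) (Tr.leaf (nat_lit 0x0)))) (Tr.node (Tr.node (Tr.leaf (nat_lit 0x7415232377177)) (Tr.leaf (nat_lit 0x3135487717322622121))) (Tr.node (Tr.leaf (nat_lit 0x43342673771211)) (Tr.leaf (nat_lit 0x0)))))))) (Tr.node (Tr.node (Tr.node (Tr.node (Tr.node (Tr.node (Tr.leaf (nat_lit 0x18452231782121)) (Tr.leaf (nat_lit 0x2621547788766622))) (Tr.node (Tr.leaf (nat_lit 0x91342173762122)) (Tr.leaf (nat_lit 0x0)))) (Tr.node (Tr.node (Tr.leaf (nat_lit 0x5432134878628771221)) (Tr.leaf (nat_lit 0x659863467818212))) (Tr.node (Tr.leaf (nat_lit 0x397315332677)) (Tr.leaf (nat_lit 0x0))))) (Tr.node (Tr.node (Tr.node (Tr.leaf (nat_lit 0x63456732123622622121)) (Tr.leaf (nat_lit 0x75153286732262))) (Tr.node (Tr.leaf (nat_lit 0x35671347178217111)) (Tr.leaf (nat_lit 0x0)))) (Tr.node (Tr.node (Tr.leaf (nat_lit 0x4134217362671)) (Tr.leaf (nat_lit 0x31354877173776771))) (Tr.node (Tr.leaf (nat_lit 0x7636842213187622122)) (Tr.leaf (nat_lit 0x0)))))) (Tr.node (Tr.node (Tr.node (Tr.node (Tr.leaf (nat_lit 0x659863467818122122)) (Tr.leaf (nat_lit 0x59863467818262))) (Tr.node (Tr.leaf (nat_lit 0x3345328223671221)) (Tr.leaf (nat_lit 0x0)))) (Tr.node (Tr.node (Tr.leaf (nat_lit 0x659863467818217121)) (Tr.leaf (nat_lit 0x15334323328712211))) (Tr.node (Tr.leaf (nat_lit 0x889315128687762)) (Tr.leaf (nat_lit 0x0))))) (Tr.node (Tr.node (Tr.node (Tr.leaf (nat_lit 0x53313412821281)) (Tr.leaf (nat_lit 0x2621547788677121))) (Tr.node (Tr.leaf (nat_lit 0x415713232267177)) (Tr.leaf (nat_lit 0x0)))) (Tr.node (Tr.node (Tr.leaf (nat_lit 0x8562234788213217111)) (Tr.leaf (nat_lit 0x34567321231211))) (Tr.node (Tr.leaf (nat_lit 0x34567321236776776)) (Tr.leaf (nat_lit 0x0))))))) (Tr.node (Tr.node (Tr.node (Tr.node (Tr.node (Tr.leaf (nat_lit 0x457132321712)) (Tr.leaf (nat_lit 0x11533432332876226))) (Tr.node (Tr.leaf (nat_lit 0x33431512868767717)) (Tr.leaf (nat_lit 0x0)))) (Tr.node (Tr.node (Tr.leaf (nat_lit 0x453415423187317717)) (Tr.leaf (nat_lit 0x4595347731876212))) (Tr.node (Tr.leaf (nat_lit 0x3156343313132262671)) (Tr.leaf (nat_lit 0x0))))) (Tr.node (Tr.node (Tr.node (Tr.leaf (nat_lit 0x984515211823226771)) (Tr.leaf (nat_lit 0x58218413212377626))) (Tr.node (Tr.leaf (nat_lit 0x74152323622)) (Tr.leaf (nat_lit 0x0)))) (Tr.node (Tr.node (Tr.leaf (nat_lit 0x4845152118236221771)) (Tr.leaf (nat_lit 0x9342173766622))) (Tr.node (Tr.leaf (nat_lit 0x485134373363717121)) (Tr.leaf (nat_lit 0x0)))))) (Tr.node (Tr.node (Tr.node (Tr.node (Tr.leaf (nat_lit 0x46342173226776)) (Tr.leaf (nat_lit 0x315634331313217717))) (Tr.node (Tr.leaf (nat_lit 0x7686342218137767)) (Tr.leaf (nat_lit 0x0)))) (Tr.node (Tr.node (Tr.leaf (nat_lit 0x258684178263671221)) (Tr.leaf (nat_lit 0x913421737677671))) (Tr.node (Tr.leaf (nat_lit 0x34567321232677171)) (Tr.leaf (nat_lit 0x0))))) (Tr.node (Tr.node (Tr.node (Tr.leaf (nat_lit 0x634567321231217712)) (Tr.leaf (nat_lit 0x6845223178771111))) (Tr.node (Tr.leaf (nat_lit 0x543213487862821221221)) (Tr.leaf (nat_lit 0x0)))) (Tr.node (Tr.node (Tr.leaf (nat_lit 0x481734213178622621)) (Tr.leaf (nat_lit 0x0))) (Tr.node (Tr.leaf (nat_lit 0x5432134878628676)) (Tr.leaf (nat_lit 0x0))))))))) (Tr.node (Tr.node (Tr.node (Tr.node (Tr.node (Tr.node (Tr.node (Tr.leaf (nat_lit 0x226776)) (Tr.leaf (nat_lit 0x88931512868171221))) (Tr.node (Tr.leaf (nat_lit 0x7186342218136776776)) (Tr.leaf (nat_lit 0x0)))) (Tr.node (Tr.node (Tr.leaf (nat_lit 0x4571323177)) (Tr.leaf (nat_lit 0x4845152118237671212))) (Tr.node (Tr.leaf (nat_lit 0x598634678187762676)) (Tr.leaf (nat_lit 0x0))))) (Tr.node (Tr.node (Tr.node (Tr.leaf (nat_lit 0x543213487862822626)) (Tr.leaf (nat_lit 0x2621547788676221))) (Tr.node (Tr.leaf (nat_lit 0x484515211823666)) (Tr.leaf (nat_lit 0x0)))) (Tr.node (Tr.node (Tr.leaf (nat_lit 0x3958457736232267121)) (Tr.leaf (nat_lit 0x153343233287762))) (Tr.node (Tr.leaf (nat_lit 0x17415232367717)) (Tr.leaf (nat_lit 0x0)))))) (Tr.node (Tr.node (Tr.node (Tr.node (Tr.leaf (nat_lit 0x3156343313132677171)) (Tr.leaf (nat_lit 0x98451521182376221))) (Tr.node (Tr.leaf (nat_lit 0x48513437336371712)) (Tr.leaf (nat_lit 0x0)))) (Tr.node (Tr.node (Tr.leaf (nat_lit 0x3567134717876221)) (Tr.leaf (nat_lit 0x9845152118237622))) (Tr.node (Tr.leaf (nat_lit 0x778934682323622)) (Tr.leaf (nat_lit 0x0))))) (Tr.node (Tr.node (Tr.node (Tr.leaf (nat_lit 0x54321348786286771221)) (Tr.leaf (nat_lit 0x8852134828671377121))) (Tr.node (Tr.leaf (nat_lit 0x4814534812328)) (Tr.leaf (nat_lit 0x0)))) (Tr.node (Tr.node (Tr.leaf (nat_lit 0x543213487862876712122)) (Tr.leaf (nat_lit 0x5435847732681771712))) (Tr.node (Tr.leaf (nat_lit 0x315634331313622171)) (Tr.leaf (nat_lit 0x0))))))) (Tr.node (Tr.node (Tr.node (Tr.node (Tr.node (Tr.leaf (nat_lit 0x985134373363677671)) (Tr.leaf (nat_lit 0x31354877173717121))) (Tr.node (Tr.leaf (nat_lit 0x3973153377122)) (Tr.leaf (nat_lit 0x0)))) (Tr.node (Tr.node (Tr.leaf (nat_lit 0x9342173677626)) (Tr.leaf (nat_lit 0x84584577362326717))) (Tr.node (Tr.leaf (nat_lit 0x65986346781826712)) (Tr.leaf (nat_lit 0x0))))) (Tr.node (Tr.node (Tr.node (Tr.leaf (nat_lit 0x6771712)) (Tr.leaf (nat_lit 0x63456732123177177))) (Tr.node (Tr.leaf (nat_lit 0x45341542318732177121)) (Tr.leaf (nat_lit 0x0)))) (Tr.node (Tr.node (Tr.leaf (nat_lit 0x45953477318226267)) (Tr.leaf (nat_lit 0x31354877173762))) (Tr.node (Tr.leaf (nat_lit 0x653343233286712122)) (Tr.leaf (nat_lit 0x0)))))) (Tr.node (Tr.node (Tr.node (Tr.node (Tr.leaf (nat_lit 0x1845223178212)) (Tr.leaf (nat_lit 0x2885684282122121))) (Tr.node (Tr.leaf (nat_lit 0x53343233287122111)) (Tr.leaf (nat_lit 0x0)))) (Tr.node (Tr.node (Tr.leaf (nat_lit 0x13456732123226217)) (Tr.leaf (nat_lit 0x18452231782622671))) (Tr.node (Tr.leaf (nat_lit 0x9342173217)) (Tr.leaf (nat_lit 0x0))))) (Tr.node (Tr.node (Tr.node (Tr.leaf (nat_lit 0x7186342218137177)) (Tr.leaf (nat_lit 0x889315128681771712))) (Tr.node (Tr.leaf (nat_lit 0x1533432332877621)) (Tr.leaf (nat_lit 0x0)))) (Tr.node (Tr.node (Tr.leaf (nat_lit 0x3456732123221)) (Tr.leaf (nat_lit 0x0))) (Tr.node (Tr.leaf (nat_lit 0x543584773268767767)) (Tr.leaf (nat_lit 0x0)))))))) (Tr.node (Tr.node (Tr.node (Tr.node (Tr.node (Tr.node (Tr.leaf (nat_lit 0x4571323622122)) (Tr.leaf (nat_lit 0x45711548778786717712))) (Tr.node (Tr.leaf (nat_lit 0x913421736)) (Tr.leaf (nat_lit 0x0)))) (Tr.node (Tr.node (Tr.leaf (nat_lit 0x768634221813267767)) (Tr.leaf (nat_lit 0x115334323328111))) (Tr.node (Tr.leaf (nat_lit 0x45713232677177)) (Tr.leaf (nat_lit 0x0))))) (Tr.node (Tr.node (Tr.node (Tr.leaf (nat_lit 0x41571323122122)) (Tr.leaf (nat_lit 0x14342173226717))) (Tr.node (Tr.leaf (nat_lit 0x8743153362262)) (Tr.leaf (nat_lit 0x0)))) (Tr.node (Tr.node (Tr.leaf (nat_lit 0x913421732622626)) (Tr.leaf (nat_lit 0x262154778867762))) (Tr.node (Tr.leaf (nat_lit 0x778934682323226766)) (Tr.leaf (nat_lit 0x0)))))) (Tr.node (Tr.node (Tr.node (Tr.node (Tr.leaf (nat_lit 0x18452231787621771)) (Tr.leaf (nat_lit 0x598634678181212))) (Tr.node (Tr.leaf (nat_lit 0x48451521182322677)) (Tr.leaf (nat_lit 0x0)))) (Tr.node (Tr.node (Tr.leaf (nat_lit 0x11533432332817122)) (Tr.leaf (nat_lit 0x1153343233286712122))) (Tr.node (Tr.leaf (nat_lit 0x9845152118232622621)) (Tr.leaf (nat_lit 0x0))))) (Tr.node (Tr.node (Tr.node (Tr.leaf (nat_lit 0x41571323226221)) (Tr.leaf (nat_lit 0x885213482867131))) (Tr.node (Tr.leaf (nat_lit 0x41342173677621)) (Tr.leaf (nat_lit 0x0)))) (Tr.node (Tr.node (Tr.leaf (nat_lit 0x45341542318732676221)) (Tr.leaf (nat_lit 0x582184132123717717))) (Tr.node (Tr.leaf (nat_lit 0x845223178717)) (Tr.leaf (nat_lit 0x0))))))) (Tr.node (Tr.node (Tr.node (Tr.node (Tr.node (Tr.leaf (nat_lit 0x41215878171)) (Tr.leaf (nat_lit 0x453415423187366622))) (Tr.node (Tr.leaf (nat_lit 0x45341542318736226)) (Tr.leaf (nat_lit 0x0)))) (Tr.node (Tr.node (Tr.leaf (nat_lit 0x5435847732687712)) (Tr.leaf (nat_lit 0x6533432332867122))) (Tr.node (Tr.leaf (nat_lit 0x885213482867137621221)) (Tr.leaf (nat_lit 0x0))))) (Tr.node (Tr.node (Tr.node (Tr.leaf (nat_lit 0x433426731217)) (Tr.leaf (nat_lit 0x4814534812328676226))) (Tr.node (Tr.leaf (nat_lit 0x356713471782217711)) (Tr.leaf (nat_lit 0x0)))) (Tr.node (Tr.node (Tr.leaf (nat_lit 0x3156343313136776776)) (Tr.leaf (nat_lit 0x134567321232267622))) (Tr.node (Tr.leaf (nat_lit 0x481453481232877621)) (Tr.leaf (nat_lit 0x0)))))) (Tr.node (Tr.node (Tr.node (Tr.node (Tr.leaf (nat_lit 0x433426737717121)) (Tr.leaf (nat_lit 0x174152323671212))) (Tr.node (Tr.leaf (nat_lit 0x598634678187711)) (Tr.leaf (nat_lit 0x0)))) (Tr.node (Tr.node (Tr.leaf (nat_lit 0x8458457736237767717)) (Tr.leaf (nat_lit 0x93421737121221))) (Tr.node (Tr.leaf (nat_lit 0x54321348786282262)) (Tr.leaf (nat_lit 0x0))))) (Tr.node (Tr.node (Tr.node (Tr.leaf (nat_lit 0x9342173226776)) (Tr.leaf (nat_lit 0x98451521182367762))) (Tr.node (Tr.leaf (nat_lit 0x88931512868217)) (Tr.leaf (nat_lit 0x0)))) (Tr.node (Tr.node (Tr.leaf (nat_lit 0x75153286732217121)) (Tr.leaf (nat_lit 0x0))) (Tr.node (Tr.leaf (nat_lit 0x43421737762)) (Tr.leaf (nat_lit 0x0))))))))))))) (Tr.node (Tr.node (Tr.node (Tr.node (Tr.node (Tr.node (Tr.node (Tr.node (Tr.node (Tr.node (Tr.node (Tr.leaf (nat_lit 0x67121221)) (Tr.leaf (nat_lit 0x653343233287671212))) (Tr.node (Tr.leaf (nat_lit 0x53343233287621221)) (Tr.leaf (nat_lit 0x0)))) (Tr.node (Tr.node (Tr.leaf (nat_lit 0x8893151286817712)) (Tr.leaf (nat_lit 0x77893468232377177))) (Tr.node (Tr.leaf (nat_lit 0x9845152118236217)) (Tr.leaf (nat_lit 0x0))))) (Tr.node (Tr.node (Tr.node (Tr.leaf (nat_lit 0x4157132317711)) (Tr.leaf (nat_lit 0x7515328673776221))) (Tr.node (Tr.leaf (nat_lit 0x984515211823171221)) (Tr.leaf (nat_lit 0x0)))) (Tr.node (Tr.node (Tr.leaf (nat_lit 0x4134217317712)) (Tr.leaf (nat_lit 0x95953477318622122121))) (Tr.node (Tr.leaf (nat_lit 0x4634217367122)) (Tr.leaf (nat_lit 0x0)))))) (Tr.node (Tr.node (Tr.node (Tr.node (Tr.leaf (nat_lit 0x3567134717871221)) (Tr.leaf (nat_lit 0x913421737121221))) (Tr.node (Tr.leaf (nat_lit 0x767547788217)) (Tr.leaf (nat_lit 0x0)))) (Tr.node (Tr.node (Tr.leaf (nat_lit 0x93342673622177)) (Tr.leaf (nat_lit 0x4534154231873177171))) (Tr.node (Tr.leaf (nat_lit 0x18452231787677122)) (Tr.leaf (nat_lit 0x0))))) (Tr.node (Tr.node (Tr.node (Tr.leaf (nat_lit 0x9342173)) (Tr.leaf (nat_lit 0x334315128687762))) (Tr.node (Tr.leaf (nat_lit 0x763684221318622622621)) (Tr.leaf (nat_lit 0x0)))) (Tr.node (Tr.node (Tr.leaf (nat_lit 0x4595347731862)) (Tr.leaf (nat_lit 0x5432134878628762171))) (Tr.node (Tr.leaf (nat_lit 0x415713237762671)) (Tr.leaf (nat_lit 0x0))))))) (Tr.node (Tr.node (Tr.node (Tr.node (Tr.node (Tr.leaf (nat_lit 0x4121587826776)) (Tr.leaf (nat_lit 0x5435847732682622621))) (Tr.node (Tr.leaf (nat_lit 0x87431533171)) (Tr.leaf (nat_lit 0x0)))) (Tr.node (Tr.node (Tr.leaf (nat_lit 0x26215477882622121)) (Tr.leaf (nat_lit 0x6845223178717))) (Tr.node (Tr.leaf (nat_lit 0x45713232671712)) (Tr.leaf (nat_lit 0x0))))) (Tr.node (Tr.node (Tr.node (Tr.leaf (nat_lit 0x345673212362267)) (Tr.leaf (nat_lit 0x262154778877626))) (Tr.node (Tr.leaf (nat_lit 0x25868417826367717121)) (Tr.leaf (nat_lit 0x0)))) (Tr.node (Tr.node (Tr.leaf (nat_lit 0x4121587822121)) (Tr.leaf (nat_lit 0x45341542318737626))) (Tr.node (Tr.leaf (nat_lit 0x77893468232317717)) (Tr.leaf (nat_lit 0x0)))))) (Tr.node (Tr.node (Tr.node (Tr.node (Tr.leaf (nat_lit 0x9342173111)) (Tr.leaf (nat_lit 0x934217371221))) (Tr.node (Tr.leaf (nat_lit 0x653343233282122121)) (Tr.leaf (nat_lit 0x0)))) (Tr.node (Tr.node (Tr.leaf (nat_lit 0x481734213178762676)) (Tr.leaf (nat_lit 0x8893151286862171))) (Tr.node (Tr.leaf (nat_lit 0x6533432332821711)) (Tr.leaf (nat_lit 0x0))))) (Tr.node (Tr.node (Tr.node (Tr.leaf (nat_lit 0x75153286731221211)) (Tr.leaf (nat_lit 0x153343233287122111))) (Tr.node (Tr.leaf (nat_lit 0x45341542318737621)) (Tr.leaf (nat_lit 0x0)))) (Tr.node (Tr.node (Tr.leaf (nat_lit 0x485134373363122)) (Tr.leaf (nat_lit 0x43342673776662))) (Tr.node (Tr.leaf (nat_lit 0x76368422131867121)) (Tr.leaf (nat_lit 0x0)))))))) (Tr.node (Tr.node (Tr.node (Tr.node (Tr.node (Tr.node (Tr.leaf (nat_lit 0x111)) (Tr.leaf (nat_lit 0x84522317826762))) (Tr.node (Tr.leaf (nat_lit 0x143421737767121)) (Tr.leaf (nat_lit 0x0)))) (Tr.node (Tr.node (Tr.leaf (nat_lit 0x933426731)) (Tr.leaf (nat_lit 0x3156343313137177111))) (Tr.node (Tr.leaf (nat_lit 0x76754778862171)) (Tr.leaf (nat_lit 0x0))))) (Tr.node (Tr.node (Tr.node (Tr.leaf (nat_lit 0x598634678186221221)) (Tr.leaf (nat_lit 0x4845152118237122))) (Tr.node (Tr.leaf (nat_lit 0x4534154231873671212)) (Tr.leaf (nat_lit 0x0)))) (Tr.node (Tr.node (Tr.leaf (nat_lit 0x3973153377677171)) (Tr.leaf (nat_lit 0x1845223178212212212))) (Tr.node (Tr.leaf (nat_lit 0x457115487787871111)) (Tr.leaf (nat_lit 0x0)))))) (Tr.node (Tr.node (Tr.node (Tr.node (Tr.leaf (nat_lit 0x768634221813221111)) (Tr.leaf (nat_lit 0x31563433131376212))) (Tr.node (Tr.leaf (nat_lit 0x484515211823262212)) (Tr.leaf (nat_lit 0x0)))) (Tr.node (Tr.node (Tr.leaf (nat_lit 0x5331341282128111)) (Tr.leaf (nat_lit 0x7186342218131771771))) (Tr.node (Tr.leaf (nat_lit 0x453415423187312122)) (Tr.leaf (nat_lit 0x0))))) (Tr.node (Tr.node (Tr.node (Tr.leaf (nat_lit 0x315634331313267767)) (Tr.leaf (nat_lit 0x3456732123221217))) (Tr.node (Tr.leaf (nat_lit 0x7515328673121771)) (Tr.leaf (nat_lit 0x0)))) (Tr.node (Tr.node (Tr.leaf (nat_lit 0x39731533767712)) (Tr.leaf (nat_lit 0x315634331313717711))) (Tr.node (Tr.leaf (nat_lit 0x54358477326826766)) (Tr.leaf (nat_lit 0x0))))))) (Tr.node (Tr.node (Tr.node (Tr.node (Tr.node (Tr.leaf (nat_lit 0x856223478821321221211)) (Tr.leaf (nat_lit 0x15334323328177121))) (Tr.node (Tr.leaf (nat_lit 0x77893468232377677)) (Tr.leaf (nat_lit 0x0)))) (Tr.node (Tr.node (Tr.leaf (nat_lit 0x484515211823171221)) (Tr.leaf (nat_lit 0x87431533767712))) (Tr.node (Tr.leaf (nat_lit 0x8562234788213177121)) (Tr.leaf (nat_lit 0x0))))) (Tr.node (Tr.node (Tr.node (Tr.leaf (nat_lit 0x4571323212)) (Tr.leaf (nat_lit 0x63456732123226267))) (Tr.node (Tr.leaf (nat_lit 0x17415232376712)) (Tr.leaf (nat_lit 0x0)))) (Tr.node (Tr.node (Tr.leaf (nat_lit 0x8743153376217)) (Tr.leaf (nat_lit 0x718634221813212211))) (Tr.node (Tr.leaf (nat_lit 0x59863467818226226)) (Tr.leaf (nat_lit 0x0)))))) (Tr.node (Tr.node (Tr.node (Tr.node (Tr.leaf (nat_lit 0x33453282231771211)) (Tr.leaf (nat_lit 0x9851343733632212212))) (Tr.node (Tr.leaf (nat_lit 0x65986346781821211)) (Tr.leaf (nat_lit 0x0)))) (Tr.node (Tr.node (Tr.leaf (nat_lit 0x184522317877)) (Tr.leaf (nat_lit 0x959534773182262171))) (Tr.node (Tr.leaf (nat_lit 0x718634221813121)) (Tr.leaf (nat_lit 0x0))))) (Tr.node (Tr.node (Tr.node (Tr.leaf (nat_lit 0x959534773186712)) (Tr.leaf (nat_lit 0x4817342131782122122))) (Tr.node (Tr.leaf (nat_lit 0x91342173217)) (Tr.leaf (nat_lit 0x0)))) (Tr.node (Tr.node (Tr.leaf (nat_lit 0x7415232362122)) (Tr.leaf (nat_lit 0x0))) (Tr.node (Tr.leaf (nat_lit 0x6598634678187621771)) (Tr.leaf (nat_lit 0x0))))))))) (Tr.node (Tr.node (Tr.node (Tr.node (Tr.node (Tr.node (Tr.node (Tr.leaf (nat_lit 0x76368422131862212212)) (Tr.leaf (nat_lit 0x58218413212326766))) (Tr.node (Tr.leaf (nat_lit 0x45713237762671)) (Tr.leaf (nat_lit 0x0)))) (Tr.node (Tr.node (Tr.leaf (nat_lit 0x3156343313136762)) (Tr.leaf (nat_lit 0x4215878767122))) (Tr.node (Tr.leaf (nat_lit 0x33453282237121221)) (Tr.leaf (nat_lit 0x0))))) (Tr.node (Tr.node (Tr.node (Tr.leaf (nat_lit 0x48513437336312211)) (Tr.leaf (nat_lit 0x143421732622621))) (Tr.node (Tr.leaf (nat_lit 0x3156343313132677671)) (Tr.leaf (nat_lit 0x0)))) (Tr.node (Tr.node (Tr.leaf (nat_lit 0x76754778867622)) (Tr.leaf (nat_lit 0x485134373363267122))) (Tr.node (Tr.leaf (nat_lit 0x88521348286713262262)) (Tr.leaf (nat_lit 0x0)))))) (Tr.node (Tr.node (Tr.node (Tr.node (Tr.leaf (nat_lit 0x4334267326766)) (Tr.leaf (nat_lit 0x4814534812328677621))) (Tr.node (Tr.leaf (nat_lit 0x9134217377621)) (Tr.leaf (nat_lit 0x0)))) (Tr.node (Tr.node (Tr.leaf (nat_lit 0x68452231782622171)) (Tr.leaf (nat_lit 0x484515211823217111))) (Tr.node (Tr.leaf (nat_lit 0x543584773268121711)) (Tr.leaf (nat_lit 0x0))))) (Tr.node (Tr.node (Tr.node (Tr.leaf (nat_lit 0x5821841321237767121)) (Tr.leaf (nat_lit 0x5334323328762122))) (Tr.node (Tr.leaf (nat_lit 0x434217371771711)) (Tr.leaf (nat_lit 0x0)))) (Tr.node (Tr.node (Tr.leaf (nat_lit 0x985134373363762)) (Tr.leaf (nat_lit 0x484515211823712211))) (Tr.node (Tr.leaf (nat_lit 0x4334267376221)) (Tr.leaf (nat_lit 0x0))))))) (Tr.node (Tr.node (Tr.node (Tr.node (Tr.node (Tr.leaf (nat_lit 0x45713232267717)) (Tr.leaf (nat_lit 0x856223478821317717121))) (Tr.node (Tr.leaf (nat_lit 0x634567321231771771)) (Tr.leaf (nat_lit 0x0)))) (Tr.node (Tr.node (Tr.leaf (nat_lit 0x933426731771211)) (Tr.leaf (nat_lit 0x463421736))) (Tr.node (Tr.leaf (nat_lit 0x5334323328771712)) (Tr.leaf (nat_lit 0x0))))) (Tr.node (Tr.node (Tr.node (Tr.leaf (nat_lit 0x2885684287621221)) (Tr.leaf (nat_lit 0x88521348286713677626))) (Tr.node (Tr.leaf (nat_lit 0x484515211823766622)) (Tr.leaf (nat_lit 0x0)))) (Tr.node (Tr.node (Tr.leaf (nat_lit 0x39584577362326717)) (Tr.leaf (nat_lit 0x3456732123621))) (Tr.node (Tr.leaf (nat_lit 0x9342173776712)) (Tr.leaf (nat_lit 0x0)))))) (Tr.node (Tr.node (Tr.node (Tr.node (Tr.leaf (nat_lit 0x6345673212371771)) (Tr.leaf (nat_lit 0x88521348286713111))) (Tr.node (Tr.leaf (nat_lit 0x43421731771211)) (Tr.leaf (nat_lit 0x0)))) (Tr.node (Tr.node (Tr.leaf (nat_lit 0x54321348786287666)) (Tr.leaf (nat_lit 0x33453282237677671))) (Tr.node (Tr.leaf (nat_lit 0x485134373363671212)) (Tr.leaf (nat_lit 0x0))))) (Tr.node (Tr.node (Tr.node (Tr.leaf (nat_lit 0x9342173171221)) (Tr.leaf (nat_lit 0x54321348786282622122))) (Tr.node (Tr.leaf (nat_lit 0x15334323328767767)) (Tr.leaf (nat_lit 0x0)))) (Tr.node (Tr.node (Tr.leaf (nat_lit 0x87431533217711)) (Tr.leaf (nat_lit 0x0))) (Tr.node (Tr.leaf (nat_lit 0x54321348786287)) (Tr.leaf (nat_lit 0x0)))))))) (Tr.node (Tr.node (Tr.node (Tr.node (Tr.node (Tr.node (Tr.leaf (nat_lit 0x421587826226221)) (Tr.leaf (nat_lit 0x76863422181367121))) (Tr.node (Tr.leaf (nat_lit 0x46342173717717)) (Tr.leaf (nat_lit 0x0)))) (Tr.node (Tr.node (Tr.leaf (nat_lit 0x11533432332877621)) (Tr.leaf (nat_lit 0x115334323328712122))) (Tr.node (Tr.leaf (nat_lit 0x334532822367767121)) (Tr.leaf (nat_lit 0x0))))) (Tr.node (Tr.node (Tr.node (Tr.leaf (nat_lit 0x46342173622177)) (Tr.leaf (nat_lit 0x659863467818776217))) (Tr.node (Tr.leaf (nat_lit 0x7636842213181771771)) (Tr.leaf (nat_lit 0x0)))) (Tr.node (Tr.node (Tr.leaf (nat_lit 0x3567134717866)) (Tr.leaf (nat_lit 0x433426731111))) (Tr.node (Tr.leaf (nat_lit 0x98451521182317122)) (Tr.leaf (nat_lit 0x0)))))) (Tr.node (Tr.node (Tr.node (Tr.node (Tr.leaf (nat_lit 0x543213487862871771712)) (Tr.leaf (nat_lit 0x76368422131812212212))) (Tr.node (Tr.leaf (nat_lit 0x46342173677626)) (Tr.leaf (nat_lit 0x0)))) (Tr.node (Tr.node (Tr.leaf (nat_lit 0x153343233281217)) (Tr.leaf (nat_lit 0x43421736267))) (Tr.node (Tr.leaf (nat_lit 0x48513437336322171)) (Tr.leaf (nat_lit 0x0))))) (Tr.node (Tr.node (Tr.node (Tr.leaf (nat_lit 0x3345328223226771)) (Tr.leaf (nat_lit 0x13456732123122122121))) (Tr.node (Tr.leaf (nat_lit 0x767547788767767)) (Tr.leaf (nat_lit 0x0)))) (Tr.node (Tr.node (Tr.leaf (nat_lit 0x98513437336367767)) (Tr.leaf (nat_lit 0x26215477886712122))) (Tr.node (Tr.leaf (nat_lit 0x3343151286877626)) (Tr.leaf (nat_lit 0x0))))))) (Tr.node (Tr.node (Tr.node (Tr.node (Tr.node (Tr.leaf (nat_lit 0x41342173217111)) (Tr.leaf (nat_lit 0x3135487717371211))) (Tr.node (Tr.leaf (nat_lit 0x2621547788717717)) (Tr.leaf (nat_lit 0x0)))) (Tr.node (Tr.node (Tr.leaf (nat_lit 0x8452231787671)) (Tr.leaf (nat_lit 0x395845773623711))) (Tr.node (Tr.leaf (nat_lit 0x3958457736232177)) (Tr.leaf (nat_lit 0x0))))) (Tr.node (Tr.node (Tr.node (Tr.leaf (nat_lit 0x5821841321232676)) (Tr.leaf (nat_lit 0x85622347882137177171))) (Tr.node (Tr.leaf (nat_lit 0x767547788676221)) (Tr.leaf (nat_lit 0x0)))) (Tr.node (Tr.node (Tr.leaf (nat_lit 0x1741523232676221)) (Tr.leaf (nat_lit 0x98513437336376771771))) (Tr.node (Tr.leaf (nat_lit 0x768634221813677677)) (Tr.leaf (nat_lit 0x0)))))) (Tr.node (Tr.node (Tr.node (Tr.node (Tr.leaf (nat_lit 0x63456732123622676)) (Tr.leaf (nat_lit 0x9342173177121))) (Tr.node (Tr.leaf (nat_lit 0x288568428262212)) (Tr.leaf (nat_lit 0x0)))) (Tr.node (Tr.node (Tr.leaf (nat_lit 0x3135487717362122)) (Tr.leaf (nat_lit 0x143421736))) (Tr.node (Tr.leaf (nat_lit 0x5432134878628767717121)) (Tr.leaf (nat_lit 0x0))))) (Tr.node (Tr.node (Tr.node (Tr.leaf (nat_lit 0x7121221)) (Tr.leaf (nat_lit 0x4851343733631221217))) (Tr.node (Tr.leaf (nat_lit 0x53343233287177171)) (Tr.leaf (nat_lit 0x0)))) (Tr.node (Tr.node (Tr.leaf (nat_lit 0x98451521182311)) (Tr.leaf (nat_lit 0x0))) (Tr.node (Tr.leaf (nat_lit 0x751532867326717)) (Tr.leaf (nat_lit 0x0)))))))))) (Tr.node (Tr.node (Tr.node (Tr.node (Tr.node (Tr.node (Tr.node (Tr.node (Tr.leaf (nat_lit 0x5821841321236221771)) (Tr.leaf (nat_lit 0x718634221813622671))) (Tr.node (Tr.leaf (nat_lit 0x13456732123622676)) (Tr.leaf (nat_lit 0x0)))) (Tr.node (Tr.node (Tr.leaf (nat_lit 0x28856842817717121)) (Tr.leaf (nat_lit 0x5331341282128262262))) (Tr.node (Tr.leaf (nat_lit 0x4571154877878177122)) (Tr.leaf (nat_lit 0x0))))) (Tr.node (Tr.node (Tr.node (Tr.leaf (nat_lit 0x68452231782267177)) (Tr.leaf (nat_lit 0x4634217312171))) (Tr.node (Tr.leaf (nat_lit 0x313548771732671221)) (Tr.leaf (nat_lit 0x0)))) (Tr.node (Tr.node (Tr.leaf (nat_lit 0x2621547788666)) (Tr.leaf (nat_lit 0x4817342131782212))) (Tr.node (Tr.leaf (nat_lit 0x45341542318731221217)) (Tr.leaf (nat_lit 0x0)))))) (Tr.node (Tr.node (Tr.node (Tr.node (Tr.leaf (nat_lit 0x45713237171)) (Tr.leaf (nat_lit 0x3973153312212))) (Tr.node (Tr.leaf (nat_lit 0x1533432332862671)) (Tr.leaf (nat_lit 0x0)))) (Tr.node (Tr.node (Tr.leaf (nat_lit 0x2586841782632676)) (Tr.leaf (nat_lit 0x5432134878628267766))) (Tr.node (Tr.leaf (nat_lit 0x288568428671221)) (Tr.leaf (nat_lit 0x0))))) (Tr.node (Tr.node (Tr.node (Tr.leaf (nat_lit 0x1845223178221221)) (Tr.leaf (nat_lit 0x684522317867766))) (Tr.node (Tr.leaf (nat_lit 0x9851343733637767766)) (Tr.leaf (nat_lit 0x0)))) (Tr.node (Tr.node (Tr.leaf (nat_lit 0x434217367762)) (Tr.leaf (nat_lit 0x533432332821711))) (Tr.node (Tr.leaf (nat_lit 0x76368422131862262262)) (Tr.leaf (nat_lit 0x0))))))) (Tr.node (Tr.node (Tr.node (Tr.node (Tr.node (Tr.leaf (nat_lit 0x712211)) (Tr.leaf (nat_lit 0x6345673212322))) (Tr.node (Tr.leaf (nat_lit 0x7636842213187762212)) (Tr.leaf (nat_lit 0x0)))) (Tr.node (Tr.node (Tr.leaf (nat_lit 0x6598634678181212)) (Tr.leaf (nat_lit 0x217111))) (Tr.node (Tr.leaf (nat_lit 0x4334267312171)) (Tr.leaf (nat_lit 0x0))))) (Tr.node (Tr.node (Tr.node (Tr.leaf (nat_lit 0x9845152118232622626)) (Tr.leaf (nat_lit 0x68452231787121771))) (Tr.node (Tr.leaf (nat_lit 0x3567134717817712)) (Tr.leaf (nat_lit 0x0)))) (Tr.node (Tr.node (Tr.leaf (nat_lit 0x3156343313131217712)) (Tr.leaf (nat_lit 0x288568428677121))) (Tr.node (Tr.leaf (nat_lit 0x457115487787826717)) (Tr.leaf (nat_lit 0x0)))))) (Tr.node (Tr.node (Tr.node (Tr.node (Tr.leaf (nat_lit 0x6845223178262217)) (Tr.leaf (nat_lit 0x3343151286822677))) (Tr.node (Tr.leaf (nat_lit 0x3135487717362212171)) (Tr.leaf (nat_lit 0x0)))) (Tr.node (Tr.node (Tr.leaf (nat_lit 0x6345673212367121)) (Tr.leaf (nat_lit 0x7789346823236226))) (Tr.node (Tr.leaf (nat_lit 0x18452231782622676)) (Tr.leaf (nat_lit 0x0))))) (Tr.node (Tr.node (Tr.node (Tr.leaf (nat_lit 0x459534773186771771)) (Tr.leaf (nat_lit 0x4634217362671))) (Tr.node (Tr.leaf (nat_lit 0x74152323776776)) (Tr.leaf (nat_lit 0x0)))) (Tr.node (Tr.node (Tr.leaf (nat_lit 0x93342673217111)) (Tr.leaf (nat_lit 0x4134217377121))) (Tr.node (Tr.leaf (nat_lit 0x75925347878123677177)) (Tr.leaf (nat_lit 0x0)))))))) (Tr.node (Tr.node (Tr.node (Tr.node (Tr.node (Tr.node (Tr.leaf (nat_lit 0x41571323622622)) (Tr.leaf (nat_lit 0x1153343233287677671))) (Tr.node (Tr.leaf (nat_lit 0x7675477887762)) (Tr.leaf (nat_lit 0x0)))) (Tr.node (Tr.node (Tr.leaf (nat_lit 0x76368422131877671)) (Tr.leaf (nat_lit 0x153343233286))) (Tr.node (Tr.leaf (nat_lit 0x5334323328262212)) (Tr.leaf (nat_lit 0x0))))) (Tr.node (Tr.node (Tr.node (Tr.leaf (nat_lit 0x25868417826317717121)) (Tr.leaf (nat_lit 0x5331341282128217111))) (Tr.node (Tr.leaf (nat_lit 0x889315128687122111)) (Tr.leaf (nat_lit 0x0)))) (Tr.node (Tr.node (Tr.leaf (nat_lit 0x76754778876221)) (Tr.leaf (nat_lit 0x65986346781877111))) (Tr.node (Tr.leaf (nat_lit 0x334315128681217)) (Tr.leaf (nat_lit 0x0)))))) (Tr.node (Tr.node (Tr.node (Tr.node (Tr.leaf (nat_lit 0x41571323262)) (Tr.leaf (nat_lit 0x1153343233286))) (Tr.node (Tr.leaf (nat_lit 0x53343233286)) (Tr.leaf (nat_lit 0x0)))) (Tr.node (Tr.node (Tr.leaf (nat_lit 0x8452231782212211)) (Tr.leaf (nat_lit 0x533432332867622))) (Tr.node (Tr.leaf (nat_lit 0x35671347178111)) (Tr.leaf (nat_lit 0x0))))) (Tr.node (Tr.node (Tr.node (Tr.leaf (nat_lit 0x8452231787622121)) (Tr.leaf (nat_lit 0x718634221813622171))) (Tr.node (Tr.leaf (nat_lit 0x9334267362171)) (Tr.leaf (nat_lit 0x0)))) (Tr.node (Tr.node (Tr.leaf (nat_lit 0x845223178767)) (Tr.leaf (nat_lit 0x6345673212326226))) (Tr.node (Tr.leaf (nat_lit 0x9851343733636221217)) (Tr.leaf (nat_lit 0x0))))))) (Tr.node (Tr.node (Tr.node (Tr.node (Tr.node (Tr.leaf (nat_lit 0x751532867376712122)) (Tr.leaf (nat_lit 0x453415423187362122))) (Tr.node (Tr.leaf (nat_lit 0x54358477326817122)) (Tr.leaf (nat_lit 0x0)))) (Tr.node (Tr.node (Tr.leaf (nat_lit 0x768634221813626)) (Tr.leaf (nat_lit 0x76368422131862267))) (Tr.node (Tr.leaf (nat_lit 0x315634331313622122121)) (Tr.leaf (nat_lit 0x0))))) (Tr.node (Tr.node (Tr.node (Tr.leaf (nat_lit 0x356713471787177171)) (Tr.leaf (nat_lit 0x25868417826321221211))) (Tr.node (Tr.leaf (nat_lit 0x4571154877878717712)) (Tr.leaf (nat_lit 0x0)))) (Tr.node (Tr.node (Tr.leaf (nat_lit 0x54358477326876221)) (Tr.leaf (nat_lit 0x7675477887121221))) (Tr.node (Tr.leaf (nat_lit 0x4571323771111)) (Tr.leaf (nat_lit 0x0)))))) (Tr.node (Tr.node (Tr.node (Tr.node (Tr.leaf (nat_lit 0x41342173776712)) (Tr.leaf (nat_lit 0x45711548778787712211))) (Tr.node (Tr.leaf (nat_lit 0x93421731111)) (Tr.leaf (nat_lit 0x0)))) (Tr.node (Tr.node (Tr.leaf (nat_lit 0x85622347882136771712)) (Tr.leaf (nat_lit 0x6345673212326221))) (Tr.node (Tr.leaf (nat_lit 0x315634331313267717)) (Tr.leaf (nat_lit 0x0))))) (Tr.node (Tr.node (Tr.node (Tr.leaf (nat_lit 0x1845223178776267)) (Tr.leaf (nat_lit 0x4634217362676))) (Tr.node (Tr.leaf (nat_lit 0x659863467818712212)) (Tr.leaf (nat_lit 0x0)))) (Tr.node (Tr.node (Tr.leaf (nat_lit 0x17415232312122)) (Tr.leaf (nat_lit 0x0))) (Tr.node (Tr.leaf (nat_lit 0x33453282236267)) (Tr.leaf (nat_lit 0x0))))))))) (Tr.node (Tr.node (Tr.node (Tr.node (Tr.node (Tr.node (Tr.node (Tr.leaf (nat_lit 0x41571323262212212)) (Tr.leaf (nat_lit 0x91342173712211))) (Tr.node (Tr.leaf (nat_lit 0x77893468232322671)) (Tr.leaf (nat_lit 0x0)))) (Tr.node (Tr.node (Tr.leaf (nat_lit 0x45713232626)) (Tr.leaf (nat_lit 0x751532867362677))) (Tr.node (Tr.leaf (nat_lit 0x77893468232367717)) (Tr.leaf (nat_lit 0x0))))) (Tr.node (Tr.node (Tr.node (Tr.leaf (nat_lit 0x1434217317717121)) (Tr.leaf (nat_lit 0x95953477318177177))) (Tr.node (Tr.leaf (nat_lit 0x845845773623767767121)) (Tr.leaf (nat_lit 0x0)))) (Tr.node (Tr.node (Tr.leaf (nat_lit 0x5432134878628626771)) (Tr.leaf (nat_lit 0x6533432332826766))) (Tr.node (Tr.leaf (nat_lit 0x115334323328171221)) (Tr.leaf (nat_lit 0x0)))))) (Tr.node (Tr.node (Tr.node (Tr.node (Tr.leaf (nat_lit 0x413421732671)) (Tr.leaf (nat_lit 0x76863422181312212212))) (Tr.node (Tr.leaf (nat_lit 0x45711548778782267121)) (Tr.leaf (nat_lit 0x0)))) (Tr.node (Tr.node (Tr.leaf (nat_lit 0x4534154231873267622)) (Tr.leaf (nat_lit 0x8458457736237712211))) (Tr.node (Tr.leaf (nat_lit 0x65334323328677626)) (Tr.leaf (nat_lit 0x0))))) (Tr.node (Tr.node (Tr.node (Tr.leaf (nat_lit 0x42158787712211)) (Tr.leaf (nat_lit 0x53343233286217))) (Tr.node (Tr.leaf (nat_lit 0x3156343313132262171)) (Tr.leaf (nat_lit 0x0)))) (Tr.node (Tr.node (Tr.leaf (nat_lit 0x34567321237622122)) (Tr.leaf (nat_lit 0x48451521182376226))) (Tr.node (Tr.leaf (nat_lit 0x1533432332867622)) (Tr.leaf (nat_lit 0x0))))))) (Tr.node (Tr.node (Tr.node (Tr.node (Tr.node (Tr.leaf (nat_lit 0x262177)) (Tr.leaf (nat_lit 0x3135487717367717))) (Tr.node (Tr.leaf (nat_lit 0x7675477887767121)) (Tr.leaf (nat_lit 0x0)))) (Tr.node (Tr.node (Tr.leaf (nat_lit 0x7415232362212171)) (Tr.leaf (nat_lit 0x767547788677621))) (Tr.node (Tr.leaf (nat_lit 0x15334323328226776)) (Tr.leaf (nat_lit 0x0))))) (Tr.node (Tr.node (Tr.node (Tr.leaf (nat_lit 0x345673212366226)) (Tr.leaf (nat_lit 0x262262))) (Tr.node (Tr.leaf (nat_lit 0x9334267312171)) (Tr.leaf (nat_lit 0x0)))) (Tr.node (Tr.node (Tr.leaf (nat_lit 0x934217376226)) (Tr.leaf (nat_lit 0x845845773623226762))) (Tr.node (Tr.leaf (nat_lit 0x7675477882122121)) (Tr.leaf (nat_lit 0x0)))))) (Tr.node (Tr.node (Tr.node (Tr.node (Tr.leaf (nat_lit 0x9134217367767121)) (Tr.leaf (nat_lit 0x39731533776221))) (Tr.node (Tr.leaf (nat_lit 0x2885684286776712)) (Tr.leaf (nat_lit 0x0)))) (Tr.node (Tr.node (Tr.leaf (nat_lit 0x41215878626776)) (Tr.leaf (nat_lit 0x1434217376221))) (Tr.node (Tr.leaf (nat_lit 0x889315128682217711)) (Tr.leaf (nat_lit 0x0))))) (Tr.node (Tr.node (Tr.node (Tr.leaf (nat_lit 0x3456732123122122121)) (Tr.leaf (nat_lit 0x8452231786776))) (Tr.node (Tr.leaf (nat_lit 0x2621547788771211)) (Tr.leaf (nat_lit 0x0)))) (Tr.node (Tr.node (Tr.leaf (nat_lit 0x88931512868677621)) (Tr.leaf (nat_lit 0x0))) (Tr.node (Tr.leaf (nat_lit 0x115334323328)) (Tr.leaf (nat_lit 0x0)))))))) (Tr.node (Tr.node (Tr.node (Tr.node (Tr.node (Tr.node (Tr.leaf (nat_lit 0x41215878217711)) (Tr.leaf (nat_lit 0x8458457736232622622))) (Tr.node (Tr.leaf (nat_lit 0x2885684287121221)) (Tr.leaf (nat_lit 0x0)))) (Tr.node (Tr.node (Tr.leaf (nat_lit 0x7636842213182211)) (Tr.leaf (nat_lit 0x26215477886221771))) (Tr.node (Tr.leaf (nat_lit 0x63456732123221)) (Tr.leaf (nat_lit 0x0))))) (Tr.node (Tr.node (Tr.node (Tr.leaf (nat_lit 0x45713231212)) (Tr.leaf (nat_lit 0x262154778867767121))) (Tr.node (Tr.leaf (nat_lit 0x68452231787767712)) (Tr.leaf (nat_lit 0x0)))) (Tr.node (Tr.node (Tr.leaf (nat_lit 0x463421737621221)) (Tr.leaf (nat_lit 0x334315128686776712))) (Tr.node (Tr.leaf (nat_lit 0x934217367762)) (Tr.leaf (nat_lit 0x0)))))) (Tr.node (Tr.node (Tr.node (Tr.node (Tr.leaf (nat_lit 0x46342173111)) (Tr.leaf (nat_lit 0x39584577362371))) (Tr.node (Tr.leaf (nat_lit 0x4814534812328226771)) (Tr.leaf (nat_lit 0x0)))) (Tr.node (Tr.node (Tr.leaf (nat_lit 0x913421737677171)) (Tr.leaf (nat_lit 0x4334267311))) (Tr.node (Tr.leaf (nat_lit 0x41215878177122)) (Tr.leaf (nat_lit 0x0))))) (Tr.node (Tr.node (Tr.node (Tr.leaf (nat_lit 0x95953477318771711)) (Tr.leaf (nat_lit 0x48173421317822626))) (Tr.node (Tr.leaf (nat_lit 0x77893468232376662)) (Tr.leaf (nat_lit 0x0)))) (Tr.node (Tr.node (Tr.leaf (nat_lit 0x9334267367122)) (Tr.leaf (nat_lit 0x345673212376212))) (Tr.node (Tr.leaf (nat_lit 0x76863422181377671)) (Tr.leaf (nat_lit 0x0))))))) (Tr.node (Tr.node (Tr.node (Tr.node (Tr.node (Tr.leaf (nat_lit 0x41571323767)) (Tr.leaf (nat_lit 0x653343233287677171))) (Tr.node (Tr.leaf (nat_lit 0x763684221318771711)) (Tr.leaf (nat_lit 0x0)))) (Tr.node (Tr.node (Tr.leaf (nat_lit 0x7621221)) (Tr.leaf (nat_lit 0x93421732676))) (Tr.node (Tr.leaf (nat_lit 0x134567321232212171)) (Tr.leaf (nat_lit 0x0))))) (Tr.node (Tr.node (Tr.node (Tr.leaf (nat_lit 0x5331341282128767717)) (Tr.leaf (nat_lit 0x481734213178766))) (Tr.node (Tr.leaf (nat_lit 0x433426731)) (Tr.leaf (nat_lit 0x0)))) (Tr.node (Tr.node (Tr.leaf (nat_lit 0x933426737712)) (Tr.leaf (nat_lit 0x1153343233286217))) (Tr.node (Tr.leaf (nat_lit 0x3343151286817712)) (Tr.leaf (nat_lit 0x0)))))) (Tr.node (Tr.node (Tr.node (Tr.node (Tr.leaf (nat_lit 0x85622347882137121221)) (Tr.leaf (nat_lit 0x288568428267))) (Tr.node (Tr.leaf (nat_lit 0x95953477318671712)) (Tr.leaf (nat_lit 0x0)))) (Tr.node (Tr.node (Tr.leaf (nat_lit 0x759253478781232267122)) (Tr.leaf (nat_lit 0x2621547788267))) (Tr.node (Tr.leaf (nat_lit 0x7592534787812371212)) (Tr.leaf (nat_lit 0x0))))) (Tr.node (Tr.node (Tr.node (Tr.leaf (nat_lit 0x582184132123262262)) (Tr.leaf (nat_lit 0x653343233286776712))) (Tr.node (Tr.leaf (nat_lit 0x767547788121711)) (Tr.leaf (nat_lit 0x0)))) (Tr.node (Tr.node (Tr.leaf (nat_lit 0x543213487862877622)) (Tr.leaf (nat_lit 0x0))) (Tr.node (Tr.leaf (nat_lit 0x767547788717717)) (Tr.leaf (nat_lit 0x0))))))))))) (Tr.node (Tr.node (Tr.node (Tr.node (Tr.node (Tr.node (Tr.node (Tr.node (Tr.node (Tr.leaf (nat_lit 0x39584577362376776712)) (Tr.leaf (nat_lit 0x262154778821711))) (Tr.node (Tr.leaf (nat_lit 0x59863467818771111)) (Tr.leaf (nat_lit 0x0)))) (Tr.node (Tr.node (Tr.leaf (nat_lit 0x91342173677121)) (Tr.leaf (nat_lit 0x54358477326817717121))) (Tr.node (Tr.leaf (nat_lit 0x856223478821312171)) (Tr.leaf (nat_lit 0x0))))) (Tr.node (Tr.node (Tr.node (Tr.leaf (nat_lit 0x258684178263262212)) (Tr.leaf (nat_lit 0x33453282231217))) (Tr.node (Tr.leaf (nat_lit 0x1533432332822677)) (Tr.leaf (nat_lit 0x0)))) (Tr.node (Tr.node (Tr.leaf (nat_lit 0x659863467818622622)) (Tr.leaf (nat_lit 0x457115487787822621))) (Tr.node (Tr.leaf (nat_lit 0x2586841782636712122)) (Tr.leaf (nat_lit 0x0)))))) (Tr.node (Tr.node (Tr.node (Tr.node (Tr.leaf (nat_lit 0x1434217322177)) (Tr.leaf (nat_lit 0x45711548778781711))) (Tr.node (Tr.leaf (nat_lit 0x48145348123286)) (Tr.leaf (nat_lit 0x0)))) (Tr.node (Tr.node (Tr.leaf (nat_lit 0x4817342131786717712)) (Tr.leaf (nat_lit 0x8452231786221221))) (Tr.node (Tr.leaf (nat_lit 0x3156343313136662)) (Tr.leaf (nat_lit 0x0))))) (Tr.node (Tr.node (Tr.node (Tr.leaf (nat_lit 0x5435847732681217)) (Tr.leaf (nat_lit 0x14342173262262))) (Tr.node (Tr.leaf (nat_lit 0x48451521182367121221)) (Tr.leaf (nat_lit 0x0)))) (Tr.node (Tr.node (Tr.leaf (nat_lit 0x7186342218136662)) (Tr.leaf (nat_lit 0x485134373363217122))) (Tr.node (Tr.leaf (nat_lit 0x5821841321236771712)) (Tr.leaf (nat_lit 0x0))))))) (Tr.node (Tr.node (Tr.node (Tr.node (Tr.node (Tr.leaf (nat_lit 0x42158782177)) (Tr.leaf (nat_lit 0x3567134717862671))) (Tr.node (Tr.leaf (nat_lit 0x54321348786287712211)) (Tr.leaf (nat_lit 0x0)))) (Tr.node (Tr.node (Tr.leaf (nat_lit 0x84584577362326776)) (Tr.leaf (nat_lit 0x763684221318221217))) (Tr.node (Tr.leaf (nat_lit 0x267)) (Tr.leaf (nat_lit 0x0))))) (Tr.node (Tr.node (Tr.node (Tr.leaf (nat_lit 0x184522317821211)) (Tr.leaf (nat_lit 0x258684178263111))) (Tr.node (Tr.leaf (nat_lit 0x684522317821211)) (Tr.leaf (nat_lit 0x0)))) (Tr.node (Tr.node (Tr.leaf (nat_lit 0x913421731217)) (Tr.leaf (nat_lit 0x768634221813122171))) (Tr.node (Tr.leaf (nat_lit 0x5986346781867171)) (Tr.leaf (nat_lit 0x0)))))) (Tr.node (Tr.node (Tr.node (Tr.node (Tr.leaf (nat_lit 0x397315337121711)) (Tr.leaf (nat_lit 0x65334323328226717))) (Tr.node (Tr.leaf (nat_lit 0x88931512868622177)) (Tr.leaf (nat_lit 0x0)))) (Tr.node (Tr.node (Tr.leaf (nat_lit 0x5986346781877111)) (Tr.leaf (nat_lit 0x5334323328676221))) (Tr.node (Tr.leaf (nat_lit 0x4814534812328767717)) (Tr.leaf (nat_lit 0x0))))) (Tr.node (Tr.node (Tr.node (Tr.leaf (nat_lit 0x5432134878628267171)) (Tr.leaf (nat_lit 0x4534154231873621221))) (Tr.node (Tr.leaf (nat_lit 0x5821841321237122111)) (Tr.leaf (nat_lit 0x0)))) (Tr.node (Tr.node (Tr.leaf (nat_lit 0x258684178263177121)) (Tr.leaf (nat_lit 0x334315128687621221))) (Tr.node (Tr.leaf (nat_lit 0x7186342218136712)) (Tr.leaf (nat_lit 0x0)))))))) (Tr.node (Tr.node (Tr.node (Tr.node (Tr.node (Tr.node (Tr.leaf (nat_lit 0x4157132326762)) (Tr.leaf (nat_lit 0x315634331313267177))) (Tr.node (Tr.leaf (nat_lit 0x262154778877121)) (Tr.leaf (nat_lit 0x0)))) (Tr.node (Tr.node (Tr.leaf (nat_lit 0x17415232322671)) (Tr.leaf (nat_lit 0x768634221813226217))) (Tr.node (Tr.leaf (nat_lit 0x65334323328712211)) (Tr.leaf (nat_lit 0x0))))) (Tr.node (Tr.node (Tr.node (Tr.leaf (nat_lit 0x8743153362212)) (Tr.leaf (nat_lit 0x3135487717377177))) (Tr.node (Tr.leaf (nat_lit 0x9845152118232671)) (Tr.leaf (nat_lit 0x0)))) (Tr.node (Tr.node (Tr.leaf (nat_lit 0x421587862177)) (Tr.leaf (nat_lit 0x7789346823232676221))) (Tr.node (Tr.leaf (nat_lit 0x3958457736232677)) (Tr.leaf (nat_lit 0x0)))))) (Tr.node (Tr.node (Tr.node (Tr.node (Tr.leaf (nat_lit 0x41215878671)) (Tr.leaf (nat_lit 0x533134128212822177))) (Tr.node (Tr.leaf (nat_lit 0x845845773623766)) (Tr.leaf (nat_lit 0x0)))) (Tr.node (Tr.node (Tr.leaf (nat_lit 0x68452231781221221)) (Tr.leaf (nat_lit 0x659863467818221221))) (Tr.node (Tr.leaf (nat_lit 0x334315128682217711)) (Tr.leaf (nat_lit 0x0))))) (Tr.node (Tr.node (Tr.node (Tr.leaf (nat_lit 0x68452231787622121)) (Tr.leaf (nat_lit 0x33431512868776662))) (Tr.node (Tr.leaf (nat_lit 0x433426737122111)) (Tr.leaf (nat_lit 0x0)))) (Tr.node (Tr.node (Tr.leaf (nat_lit 0x845845773623122121)) (Tr.leaf (nat_lit 0x22677))) (Tr.node (Tr.leaf (nat_lit 0x9342173762122)) (Tr.leaf (nat_lit 0x0))))))) (Tr.node (Tr.node (Tr.node (Tr.node (Tr.node (Tr.leaf (nat_lit 0x934217367121221)) (Tr.leaf (nat_lit 0x598634678182622171))) (Tr.node (Tr.leaf (nat_lit 0x653343233287767121)) (Tr.leaf (nat_lit 0x0)))) (Tr.node (Tr.node (Tr.leaf (nat_lit 0x14342173677626)) (Tr.leaf (nat_lit 0x759253478781237622122))) (Tr.node (Tr.leaf (nat_lit 0x91342173767767)) (Tr.leaf (nat_lit 0x0))))) (Tr.node (Tr.node (Tr.node (Tr.leaf (nat_lit 0x17122)) (Tr.leaf (nat_lit 0x7186342218136776771))) (Tr.node (Tr.leaf (nat_lit 0x4845152118237621221)) (Tr.leaf (nat_lit 0x0)))) (Tr.node (Tr.node (Tr.leaf (nat_lit 0x4215878762171)) (Tr.leaf (nat_lit 0x3567134717817122))) (Tr.node (Tr.leaf (nat_lit 0x258684178263712211)) (Tr.leaf (nat_lit 0x0)))))) (Tr.node (Tr.node (Tr.node (Tr.node (Tr.leaf (nat_lit 0x421587817111)) (Tr.leaf (nat_lit 0x763684221318267717))) (Tr.node (Tr.leaf (nat_lit 0x4215878771221)) (Tr.leaf (nat_lit 0x0)))) (Tr.node (Tr.node (Tr.leaf (nat_lit 0x4134217371221)) (Tr.leaf (nat_lit 0x421587862212))) (Tr.node (Tr.leaf (nat_lit 0x65334323328171221)) (Tr.leaf (nat_lit 0x0))))) (Tr.node (Tr.node (Tr.node (Tr.leaf (nat_lit 0x4851343733632177121)) (Tr.leaf (nat_lit 0x6267))) (Tr.node (Tr.leaf (nat_lit 0x533432332867712)) (Tr.leaf (nat_lit 0x0)))) (Tr.node (Tr.node (Tr.leaf (nat_lit 0x2621547788226717)) (Tr.leaf (nat_lit 0x0))) (Tr.node (Tr.leaf (nat_lit 0x31354877173677671)) (Tr.leaf (nat_lit 0x0))))))))) (Tr.node (Tr.node (Tr.node (Tr.node (Tr.node (Tr.node (Tr.node (Tr.leaf (nat_lit 0x88931512868262177)) (Tr.leaf (nat_lit 0x48145348123287122111))) (Tr.node (Tr.leaf (nat_lit 0x2586841782631111)) (Tr.leaf (nat_lit 0x0)))) (Tr.node (Tr.node (Tr.leaf (nat_lit 0x93342673762122)) (Tr.leaf (nat_lit 0x65334323328767717))) (Tr.node (Tr.leaf (nat_lit 0x4571154877878767712)) (Tr.leaf (nat_lit 0x0))))) (Tr.node (Tr.node (Tr.node (Tr.leaf (nat_lit 0x913421731771211)) (Tr.leaf (nat_lit 0x412158786221712))) (Tr.node (Tr.leaf (nat_lit 0x174152323267622)) (Tr.leaf (nat_lit 0x0)))) (Tr.node (Tr.node (Tr.leaf (nat_lit 0x778934682323771771)) (Tr.leaf (nat_lit 0x4134217367122))) (Tr.node (Tr.leaf (nat_lit 0x8452231782267717)) (Tr.leaf (nat_lit 0x0)))))) (Tr.node (Tr.node (Tr.node (Tr.node (Tr.leaf (nat_lit 0x3345328223)) (Tr.leaf (nat_lit 0x91342173712122))) (Tr.node (Tr.leaf (nat_lit 0x459534773182212171)) (Tr.leaf (nat_lit 0x0)))) (Tr.node (Tr.node (Tr.leaf (nat_lit 0x39731533767767121)) (Tr.leaf (nat_lit 0x984515211823776662))) (Tr.node (Tr.leaf (nat_lit 0x768634221813267717)) (Tr.leaf (nat_lit 0x0))))) (Tr.node (Tr.node (Tr.node (Tr.leaf (nat_lit 0x433426737621221)) (Tr.leaf (nat_lit 0x33453282237677171))) (Tr.node (Tr.leaf (nat_lit 0x45713237621771)) (Tr.leaf (nat_lit 0x0)))) (Tr.node (Tr.node (Tr.leaf (nat_lit 0x741523236221217)) (Tr.leaf (nat_lit 0x2217711))) (Tr.node (Tr.leaf (nat_lit 0x93421737767121)) (Tr.leaf (nat_lit 0x0))))))) (Tr.node (Tr.node (Tr.node (Tr.node (Tr.node (Tr.leaf (nat_lit 0x98513437336326217)) (Tr.leaf (nat_lit 0x4215878717717121))) (Tr.node (Tr.leaf (nat_lit 0x457115487787817111)) (Tr.leaf (nat_lit 0x0)))) (Tr.node (Tr.node (Tr.leaf (nat_lit 0x4851343733632262212)) (Tr.leaf (nat_lit 0x984515211823712211))) (Tr.node (Tr.leaf (nat_lit 0x5435847732687677171)) (Tr.leaf (nat_lit 0x0))))) (Tr.node (Tr.node (Tr.node (Tr.leaf (nat_lit 0x345673212317121)) (Tr.leaf (nat_lit 0x1434217312171))) (Tr.node (Tr.leaf (nat_lit 0x763684221318622122121)) (Tr.leaf (nat_lit 0x0)))) (Tr.node (Tr.node (Tr.leaf (nat_lit 0x653343233282676)) (Tr.leaf (nat_lit 0x39584577362317111))) (Tr.node (Tr.leaf (nat_lit 0x15334323328226771)) (Tr.leaf (nat_lit 0x0)))))) (Tr.node (Tr.node (Tr.node (Tr.node (Tr.leaf (nat_lit 0x7515328673762671)) (Tr.leaf (nat_lit 0x7415232317717))) (Tr.node (Tr.leaf (nat_lit 0x98513437336376662)) (Tr.leaf (nat_lit 0x0)))) (Tr.node (Tr.node (Tr.leaf (nat_lit 0x434217317712)) (Tr.leaf (nat_lit 0x315634331313221))) (Tr.node (Tr.leaf (nat_lit 0x5331341282128717717)) (Tr.leaf (nat_lit 0x0))))) (Tr.node (Tr.node (Tr.node (Tr.leaf (nat_lit 0x134567321237177)) (Tr.leaf (nat_lit 0x767547788771712))) (Tr.node (Tr.leaf (nat_lit 0x345673212326221)) (Tr.leaf (nat_lit 0x0)))) (Tr.node (Tr.node (Tr.leaf (nat_lit 0x9845152118232217711)) (Tr.leaf (nat_lit 0x0))) (Tr.node (Tr.leaf (nat_lit 0x115334323328212212)) (Tr.leaf (nat_lit 0x0)))))))) (Tr.node (Tr.node (Tr.node (Tr.node (Tr.node (Tr.node (Tr.leaf (nat_lit 0x45713237671)) (Tr.leaf (nat_lit 0x77893468232362262671))) (Tr.node (Tr.leaf (nat_lit 0x41342173212212)) (Tr.leaf (nat_lit 0x0)))) (Tr.node (Tr.node (Tr.leaf (nat_lit 0x39731533221211)) (Tr.leaf (nat_lit 0x85622347882136217))) (Tr.node (Tr.leaf (nat_lit 0x334532822377621)) (Tr.leaf (nat_lit 0x0))))) (Tr.node (Tr.node (Tr.node (Tr.leaf (nat_lit 0x356713471781771211)) (Tr.leaf (nat_lit 0x481734213178217711))) (Tr.node (Tr.leaf (nat_lit 0x1434217367717121)) (Tr.leaf (nat_lit 0x0)))) (Tr.node (Tr.node (Tr.leaf (nat_lit 0x45953477318171211)) (Tr.leaf (nat_lit 0x3135487717321111))) (Tr.node (Tr.leaf (nat_lit 0x77893468232376771771)) (Tr.leaf (nat_lit 0x0)))))) (Tr.node (Tr.node (Tr.node (Tr.node (Tr.leaf (nat_lit 0x7686342218131211)) (Tr.leaf (nat_lit 0x7515328673671))) (Tr.node (Tr.leaf (nat_lit 0x93421737622)) (Tr.leaf (nat_lit 0x0)))) (Tr.node (Tr.node (Tr.leaf (nat_lit 0x33431512868121711)) (Tr.leaf (nat_lit 0x457132377111))) (Tr.node (Tr.leaf (nat_lit 0x41215878776221)) (Tr.leaf (nat_lit 0x0))))) (Tr.node (Tr.node (Tr.node (Tr.leaf (nat_lit 0x768634221813621)) (Tr.leaf (nat_lit 0x845845773623771221))) (Tr.node (Tr.leaf (nat_lit 0x759253478781236762)) (Tr.leaf (nat_lit 0x0)))) (Tr.node (Tr.node (Tr.leaf (nat_lit 0x634567321237177111)) (Tr.leaf (nat_lit 0x463421736267))) (Tr.node (Tr.leaf (nat_lit 0x2621547788762122)) (Tr.leaf (nat_lit 0x0))))))) (Tr.node (Tr.node (Tr.node (Tr.node (Tr.node (Tr.leaf (nat_lit 0x421587826776)) (Tr.leaf (nat_lit 0x45953477318762121))) (Tr.node (Tr.leaf (nat_lit 0x543213487862817111)) (Tr.leaf (nat_lit 0x0)))) (Tr.node (Tr.node (Tr.leaf (nat_lit 0x9851343733631221)) (Tr.leaf (nat_lit 0x3345328223776712))) (Tr.node (Tr.leaf (nat_lit 0x7592534787812312217)) (Tr.leaf (nat_lit 0x0))))) (Tr.node (Tr.node (Tr.node (Tr.leaf (nat_lit 0x48173421317876267)) (Tr.leaf (nat_lit 0x8562234788213771211))) (Tr.node (Tr.leaf (nat_lit 0x2621547788767767)) (Tr.leaf (nat_lit 0x0)))) (Tr.node (Tr.node (Tr.leaf (nat_lit 0x7675477882217711)) (Tr.leaf (nat_lit 0x4814534812328121711))) (Tr.node (Tr.leaf (nat_lit 0x45713232622122121)) (Tr.leaf (nat_lit 0x0)))))) (Tr.node (Tr.node (Tr.node (Tr.node (Tr.leaf (nat_lit 0x18452231787762171)) (Tr.leaf (nat_lit 0x1741523232677621))) (Tr.node (Tr.leaf (nat_lit 0x115334323328771211)) (Tr.leaf (nat_lit 0x0)))) (Tr.node (Tr.node (Tr.leaf (nat_lit 0x75925347878123267767)) (Tr.leaf (nat_lit 0x258684178263767717))) (Tr.node (Tr.leaf (nat_lit 0x4342173171221)) (Tr.leaf (nat_lit 0x0))))) (Tr.node (Tr.node (Tr.node (Tr.leaf (nat_lit 0x88931512868712211)) (Tr.leaf (nat_lit 0x76368422131862217))) (Tr.node (Tr.leaf (nat_lit 0x93421731217)) (Tr.leaf (nat_lit 0x0)))) (Tr.node (Tr.node (Tr.leaf (nat_lit 0x33453282237122)) (Tr.leaf (nat_lit 0x0))) (Tr.node (Tr.leaf (nat_lit 0x778934682323267712)) (Tr.leaf (nat_lit 0x0)))))))))) (Tr.node (Tr.node (Tr.node (Tr.node (Tr.node (Tr.node (Tr.node (Tr.node (Tr.leaf (nat_lit 0x41571323262267)) (Tr.leaf (nat_lit 0x2621547788217))) (Tr.node (Tr.leaf (nat_lit 0x65986346781871711)) (Tr.leaf (nat_lit 0x0)))) (Tr.node (Tr.node (Tr.leaf (nat_lit 0x741523231771711)) (Tr.leaf (nat_lit 0x9334267362671))) (Tr.node (Tr.leaf (nat_lit 0x84584577362326221221)) (Tr.leaf (nat_lit 0x0))))) (Tr.node (Tr.node (Tr.node (Tr.leaf (nat_lit 0x98513437336312122)) (Tr.leaf (nat_lit 0x598634678187712171))) (Tr.node (Tr.leaf (nat_lit 0x5331341282128171221)) (Tr.leaf (nat_lit 0x0)))) (Tr.node (Tr.node (Tr.leaf (nat_lit 0x6845223178767)) (Tr.leaf (nat_lit 0x874315337666))) (Tr.node (Tr.leaf (nat_lit 0x28856842826766)) (Tr.leaf (nat_lit 0x0)))))) (Tr.node (Tr.node (Tr.node (Tr.node (Tr.leaf (nat_lit 0x751532867376217)) (Tr.leaf (nat_lit 0x115334323328267))) (Tr.node (Tr.leaf (nat_lit 0x134567321232122111)) (Tr.leaf (nat_lit 0x0)))) (Tr.node (Tr.node (Tr.leaf (nat_lit 0x143421736776712)) (Tr.leaf (nat_lit 0x65986346781862121))) (Tr.node (Tr.leaf (nat_lit 0x48173421317876771712)) (Tr.leaf (nat_lit 0x0))))) (Tr.node (Tr.node (Tr.node (Tr.leaf (nat_lit 0x48145348123282671)) (Tr.leaf (nat_lit 0x533432332871221))) (Tr.node (Tr.leaf (nat_lit 0x9342173712122)) (Tr.leaf (nat_lit 0x0)))) (Tr.node (Tr.node (Tr.leaf (nat_lit 0x334532822367121221)) (Tr.leaf (nat_lit 0x17415232366622))) (Tr.node (Tr.leaf (nat_lit 0x4534154231873771771)) (Tr.leaf (nat_lit 0x0))))))) (Tr.node (Tr.node (Tr.node (Tr.node (Tr.node (Tr.leaf (nat_lit 0x415713236221221)) (Tr.leaf (nat_lit 0x4342173677626))) (Tr.node (Tr.leaf (nat_lit 0x91342173767717)) (Tr.leaf (nat_lit 0x0)))) (Tr.node (Tr.node (Tr.leaf (nat_lit 0x8458457736232622122)) (Tr.leaf (nat_lit 0x31563433131362217))) (Tr.node (Tr.leaf (nat_lit 0x98451521182312171)) (Tr.leaf (nat_lit 0x0))))) (Tr.node (Tr.node (Tr.node (Tr.leaf (nat_lit 0x759253478781236267712)) (Tr.leaf (nat_lit 0x415713232622171))) (Tr.node (Tr.leaf (nat_lit 0x1533432332817122)) (Tr.leaf (nat_lit 0x0)))) (Tr.node (Tr.node (Tr.leaf (nat_lit 0x598634678187677122)) (Tr.leaf (nat_lit 0x48513437336362262171))) (Tr.node (Tr.leaf (nat_lit 0x41215878677122)) (Tr.leaf (nat_lit 0x0)))))) (Tr.node (Tr.node (Tr.node (Tr.node (Tr.leaf (nat_lit 0x9851343733631771711)) (Tr.leaf (nat_lit 0x34567321232262671))) (Tr.node (Tr.leaf (nat_lit 0x356713471787621221)) (Tr.leaf (nat_lit 0x0)))) (Tr.node (Tr.node (Tr.leaf (nat_lit 0x71863422181367621)) (Tr.leaf (nat_lit 0x598634678182671712))) (Tr.node (Tr.leaf (nat_lit 0x778934682323262171)) (Tr.leaf (nat_lit 0x0))))) (Tr.node (Tr.node (Tr.node (Tr.leaf (nat_lit 0x4571154877878767767121)) (Tr.leaf (nat_lit 0x684522317826762))) (Tr.node (Tr.leaf (nat_lit 0x7789346823237677177)) (Tr.leaf (nat_lit 0x0)))) (Tr.node (Tr.node (Tr.leaf (nat_lit 0x4817342131786771221)) (Tr.leaf (nat_lit 0x1434217377121))) (Tr.node (Tr.leaf (nat_lit 0x7789346823232171221)) (Tr.leaf (nat_lit 0x0)))))))) (Tr.node (Tr.node (Tr.node (Tr.node (Tr.node (Tr.node (Tr.leaf (nat_lit 0x413421732171)) (Tr.leaf (nat_lit 0x345673212312111))) (Tr.node (Tr.leaf (nat_lit 0x45953477318122171)) (Tr.leaf (nat_lit 0x0)))) (Tr.node (Tr.node (Tr.leaf (nat_lit 0x395845773623267766)) (Tr.leaf (nat_lit 0x6598634678187622621))) (Tr.node (Tr.leaf (nat_lit 0x93421737621221)) (Tr.leaf (nat_lit 0x0))))) (Tr.node (Tr.node (Tr.node (Tr.leaf (nat_lit 0x45713236776)) (Tr.leaf (nat_lit 0x33431512868676226))) (Tr.node (Tr.leaf (nat_lit 0x9334267322677)) (Tr.leaf (nat_lit 0x0)))) (Tr.node (Tr.node (Tr.leaf (nat_lit 0x3156343313136267712)) (Tr.leaf (nat_lit 0x1345673212362212212))) (Tr.node (Tr.leaf (nat_lit 0x26215477881111)) (Tr.leaf (nat_lit 0x0)))))) (Tr.node (Tr.node (Tr.node (Tr.node (Tr.leaf (nat_lit 0x845845773623767717121)) (Tr.leaf (nat_lit 0x6598634678182212211))) (Tr.node (Tr.leaf (nat_lit 0x43421737677171)) (Tr.leaf (nat_lit 0x0)))) (Tr.node (Tr.node (Tr.leaf (nat_lit 0x3456732123622171)) (Tr.leaf (nat_lit 0x25868417826377621))) (Tr.node (Tr.leaf (nat_lit 0x3135487717376662)) (Tr.leaf (nat_lit 0x0))))) (Tr.node (Tr.node (Tr.node (Tr.leaf (nat_lit 0x9595347731876771)) (Tr.leaf (nat_lit 0x6845223178262262212))) (Tr.node (Tr.leaf (nat_lit 0x7671212)) (Tr.leaf (nat_lit 0x0)))) (Tr.node (Tr.node (Tr.leaf (nat_lit 0x6845223178212217)) (Tr.leaf (nat_lit 0x7415232376662))) (Tr.node (Tr.leaf (nat_lit 0x4342173212212)) (Tr.leaf (nat_lit 0x0))))))) (Tr.node (Tr.node (Tr.node (Tr.node (Tr.node (Tr.leaf (nat_lit 0x134567321237677)) (Tr.leaf (nat_lit 0x459534773187717))) (Tr.node (Tr.leaf (nat_lit 0x45341542318732677121)) (Tr.leaf (nat_lit 0x0)))) (Tr.node (Tr.node (Tr.leaf (nat_lit 0x8458457736231221211)) (Tr.leaf (nat_lit 0x48513437336362262671))) (Tr.node (Tr.leaf (nat_lit 0x28856842867717121)) (Tr.leaf (nat_lit 0x0))))) (Tr.node (Tr.node (Tr.node (Tr.leaf (nat_lit 0x48145348123286221771)) (Tr.leaf (nat_lit 0x98451521182371771711))) (Tr.node (Tr.leaf (nat_lit 0x48513437336317717)) (Tr.leaf (nat_lit 0x0)))) (Tr.node (Tr.node (Tr.leaf (nat_lit 0x885213482867132217711)) (Tr.leaf (nat_lit 0x39584577362371111))) (Tr.node (Tr.leaf (nat_lit 0x28856842877621)) (Tr.leaf (nat_lit 0x0)))))) (Tr.node (Tr.node (Tr.node (Tr.node (Tr.leaf (nat_lit 0x6845223178262)) (Tr.leaf (nat_lit 0x87431533221712))) (Tr.node (Tr.leaf (nat_lit 0x45711548778787666)) (Tr.leaf (nat_lit 0x0)))) (Tr.node (Tr.node (Tr.leaf (nat_lit 0x76754778817122)) (Tr.leaf (nat_lit 0x91342173766622))) (Tr.node (Tr.leaf (nat_lit 0x434217367767121)) (Tr.leaf (nat_lit 0x0))))) (Tr.node (Tr.node (Tr.node (Tr.leaf (nat_lit 0x3343151286867762)) (Tr.leaf (nat_lit 0x6845223178776771712))) (Tr.node (Tr.leaf (nat_lit 0x7515328673626776)) (Tr.leaf (nat_lit 0x0)))) (Tr.node (Tr.node (Tr.leaf (nat_lit 0x17717121)) (Tr.leaf (nat_lit 0x0))) (Tr.node (Tr.leaf (nat_lit 0x39584577362317)) (Tr.leaf (nat_lit 0x0))))))))) (Tr.node (Tr.node (Tr.node (Tr.node (Tr.node (Tr.node (Tr.node (Tr.leaf (nat_lit 0x17415232322622621)) (Tr.leaf (nat_lit 0x54358477326862171))) (Tr.node (Tr.leaf (nat_lit 0x65334323328767767)) (Tr.leaf (nat_lit 0x0)))) (Tr.node (Tr.node (Tr.leaf (nat_lit 0x6776712)) (Tr.leaf (nat_lit 0x31563433131366226))) (Tr.node (Tr.leaf (nat_lit 0x45711548778782262217)) (Tr.leaf (nat_lit 0x0))))) (Tr.node (Tr.node (Tr.node (Tr.leaf (nat_lit 0x134567321236762)) (Tr.leaf (nat_lit 0x778934682323211))) (Tr.node (Tr.leaf (nat_lit 0x395845773623717717121)) (Tr.leaf (nat_lit 0x0)))) (Tr.node (Tr.node (Tr.leaf (nat_lit 0x356713471786712122)) (Tr.leaf (nat_lit 0x93342673712211))) (Tr.node (Tr.leaf (nat_lit 0x39731533677122)) (Tr.leaf (nat_lit 0x0)))))) (Tr.node (Tr.node (Tr.node (Tr.node (Tr.leaf (nat_lit 0x42158787762122)) (Tr.leaf (nat_lit 0x26215477887671212))) (Tr.node (Tr.leaf (nat_lit 0x763684221318622622121)) (Tr.leaf (nat_lit 0x0)))) (Tr.node (Tr.node (Tr.leaf (nat_lit 0x6345673212312212212)) (Tr.leaf (nat_lit 0x5334323328677621))) (Tr.node (Tr.leaf (nat_lit 0x3567134717867717121)) (Tr.leaf (nat_lit 0x0))))) (Tr.node (Tr.node (Tr.node (Tr.leaf (nat_lit 0x9851343733637121)) (Tr.leaf (nat_lit 0x4534154231873121221))) (Tr.node (Tr.leaf (nat_lit 0x9845152118232622121)) (Tr.leaf (nat_lit 0x0)))) (Tr.node (Tr.node (Tr.leaf (nat_lit 0x143421731771211)) (Tr.leaf (nat_lit 0x533432332867762))) (Tr.node (Tr.leaf (nat_lit 0x45953477318622676)) (Tr.leaf (nat_lit 0x0))))))) (Tr.node (Tr.node (Tr.node (Tr.node (Tr.node (Tr.leaf (nat_lit 0x14342173262177)) (Tr.leaf (nat_lit 0x959534773182217122))) (Tr.node (Tr.leaf (nat_lit 0x9851343733636226)) (Tr.leaf (nat_lit 0x0)))) (Tr.node (Tr.node (Tr.leaf (nat_lit 0x413421737677171)) (Tr.leaf (nat_lit 0x481734213178767121221))) (Tr.node (Tr.leaf (nat_lit 0x65334323328121711)) (Tr.leaf (nat_lit 0x0))))) (Tr.node (Tr.node (Tr.node (Tr.leaf (nat_lit 0x4215878267766)) (Tr.leaf (nat_lit 0x4817342131782677))) (Tr.node (Tr.leaf (nat_lit 0x543213487862876217)) (Tr.leaf (nat_lit 0x0)))) (Tr.node (Tr.node (Tr.leaf (nat_lit 0x25868417826326766)) (Tr.leaf (nat_lit 0x48173421317826771))) (Tr.node (Tr.leaf (nat_lit 0x65334323328226771)) (Tr.leaf (nat_lit 0x0)))))) (Tr.node (Tr.node (Tr.node (Tr.node (Tr.leaf (nat_lit 0x42158782267621)) (Tr.leaf (nat_lit 0x778934682323776776))) (Tr.node (Tr.leaf (nat_lit 0x7415232371712)) (Tr.leaf (nat_lit 0x0)))) (Tr.node (Tr.node (Tr.leaf (nat_lit 0x3345328223767717)) (Tr.leaf (nat_lit 0x288568428226717))) (Tr.node (Tr.leaf (nat_lit 0x313548771736221217)) (Tr.leaf (nat_lit 0x0))))) (Tr.node (Tr.node (Tr.node (Tr.leaf (nat_lit 0x2586841782631771712)) (Tr.leaf (nat_lit 0x933426737622))) (Tr.node (Tr.leaf (nat_lit 0x5435847732682217711)) (Tr.leaf (nat_lit 0x0)))) (Tr.node (Tr.node (Tr.leaf (nat_lit 0x43342673717717)) (Tr.leaf (nat_lit 0x0))) (Tr.node (Tr.leaf (nat_lit 0x9845152118237121221)) (Tr.leaf (nat_lit 0x0)))))))) (Tr.node (Tr.node (Tr.node (Tr.node (Tr.node (Tr.node (Tr.leaf (nat_lit 0x415713231221221)) (Tr.leaf (nat_lit 0x3135487717322122121))) (Tr.node (Tr.leaf (nat_lit 0x41571323771111)) (Tr.leaf (nat_lit 0x0)))) (Tr.node (Tr.node (Tr.leaf (nat_lit 0x397315337677121)) (Tr.leaf (nat_lit 0x288568428121711))) (Tr.node (Tr.leaf (nat_lit 0x93421732622626)) (Tr.leaf (nat_lit 0x0))))) (Tr.node (Tr.node (Tr.node (Tr.leaf (nat_lit 0x433426732671)) (Tr.leaf (nat_lit 0x31563433131376776))) (Tr.node (Tr.leaf (nat_lit 0x54321348786282217121)) (Tr.leaf (nat_lit 0x0)))) (Tr.node (Tr.node (Tr.leaf (nat_lit 0x959534773182122)) (Tr.leaf (nat_lit 0x74152323212171))) (Tr.node (Tr.leaf (nat_lit 0x4851343733632212212)) (Tr.leaf (nat_lit 0x0)))))) (Tr.node (Tr.node (Tr.node (Tr.node (Tr.leaf (nat_lit 0x413421737621221)) (Tr.leaf (nat_lit 0x741523236626))) (Tr.node (Tr.leaf (nat_lit 0x481734213178762171)) (Tr.leaf (nat_lit 0x0)))) (Tr.node (Tr.node (Tr.leaf (nat_lit 0x58218413212322677)) (Tr.leaf (nat_lit 0x845223178626762))) (Tr.node (Tr.leaf (nat_lit 0x4845152118232622621)) (Tr.leaf (nat_lit 0x0))))) (Tr.node (Tr.node (Tr.node (Tr.leaf (nat_lit 0x4121587817)) (Tr.leaf (nat_lit 0x65334323328))) (Tr.node (Tr.leaf (nat_lit 0x543213487862826226221)) (Tr.leaf (nat_lit 0x0)))) (Tr.node (Tr.node (Tr.leaf (nat_lit 0x33453282231)) (Tr.leaf (nat_lit 0x1533432332877121))) (Tr.node (Tr.leaf (nat_lit 0x933426736)) (Tr.leaf (nat_lit 0x0))))))) (Tr.node (Tr.node (Tr.node (Tr.node (Tr.node (Tr.leaf (nat_lit 0x67712)) (Tr.leaf (nat_lit 0x2621547788776662))) (Tr.node (Tr.leaf (nat_lit 0x6598634678187767712)) (Tr.leaf (nat_lit 0x0)))) (Tr.node (Tr.node (Tr.leaf (nat_lit 0x88521348286713212212)) (Tr.leaf (nat_lit 0x582184132123776712))) (Tr.node (Tr.leaf (nat_lit 0x778934682323762217)) (Tr.leaf (nat_lit 0x0))))) (Tr.node (Tr.node (Tr.node (Tr.leaf (nat_lit 0x985134373363717121)) (Tr.leaf (nat_lit 0x759253478781236622))) (Tr.node (Tr.leaf (nat_lit 0x68452231786712212)) (Tr.leaf (nat_lit 0x0)))) (Tr.node (Tr.node (Tr.leaf (nat_lit 0x59863467818677)) (Tr.leaf (nat_lit 0x767547788767717))) (Tr.node (Tr.leaf (nat_lit 0x68452231786776)) (Tr.leaf (nat_lit 0x0)))))) (Tr.node (Tr.node (Tr.node (Tr.node (Tr.leaf (nat_lit 0x771211)) (Tr.leaf (nat_lit 0x75153286737666))) (Tr.node (Tr.leaf (nat_lit 0x9334267377121)) (Tr.leaf (nat_lit 0x0)))) (Tr.node (Tr.node (Tr.leaf (nat_lit 0x46342173262262)) (Tr.leaf (nat_lit 0x778934682323621221))) (Tr.node (Tr.leaf (nat_lit 0x39731533712171)) (Tr.leaf (nat_lit 0x0))))) (Tr.node (Tr.node (Tr.node (Tr.leaf (nat_lit 0x856223478821321711)) (Tr.leaf (nat_lit 0x4814534812328676221))) (Tr.node (Tr.leaf (nat_lit 0x11533432332867712)) (Tr.leaf (nat_lit 0x0)))) (Tr.node (Tr.node (Tr.leaf (nat_lit 0x845223178212212212)) (Tr.leaf (nat_lit 0x0))) (Tr.node (Tr.leaf (nat_lit 0x54358477326817712)) (Tr.leaf (nat_lit 0x0)))))))))))) (Tr.node (Tr.node (Tr.node (Tr.node (Tr.node (Tr.node (Tr.node (Tr.node (Tr.node (Tr.node (Tr.leaf (nat_lit 0x42158787)) (Tr.leaf (nat_lit 0x53343233282622626))) (Tr.node (Tr.leaf (nat_lit 0x659863467818622122)) (Tr.leaf (nat_lit 0x0)))) (Tr.node (Tr.node (Tr.leaf (nat_lit 0x8743153326221221)) (Tr.leaf (nat_lit 0x7686342218131217712))) (Tr.node (Tr.leaf (nat_lit 0x345673212376776)) (Tr.leaf (nat_lit 0x0))))) (Tr.node (Tr.node (Tr.node (Tr.leaf (nat_lit 0x8452231782121)) (Tr.leaf (nat_lit 0x634567321232622))) (Tr.node (Tr.leaf (nat_lit 0x4571154877878776221)) (Tr.leaf (nat_lit 0x0)))) (Tr.node (Tr.node (Tr.leaf (nat_lit 0x889315128687677671)) (Tr.leaf (nat_lit 0x3973153317))) (Tr.node (Tr.leaf (nat_lit 0x8562234788213262212)) (Tr.leaf (nat_lit 0x0)))))) (Tr.node (Tr.node (Tr.node (Tr.node (Tr.leaf (nat_lit 0x4634217322177)) (Tr.leaf (nat_lit 0x415713237122121))) (Tr.node (Tr.leaf (nat_lit 0x262154778822677)) (Tr.leaf (nat_lit 0x0)))) (Tr.node (Tr.node (Tr.leaf (nat_lit 0x8562234788213217)) (Tr.leaf (nat_lit 0x75153286737))) (Tr.node (Tr.leaf (nat_lit 0x76754778817712)) (Tr.leaf (nat_lit 0x0))))) (Tr.node (Tr.node (Tr.node (Tr.leaf (nat_lit 0x315634331313677177)) (Tr.leaf (nat_lit 0x77893468232371712))) (Tr.node (Tr.leaf (nat_lit 0x25868417826376221)) (Tr.leaf (nat_lit 0x0)))) (Tr.node (Tr.node (Tr.leaf (nat_lit 0x5435847732686)) (Tr.leaf (nat_lit 0x63456732123267177))) (Tr.node (Tr.leaf (nat_lit 0x9851343733632262177)) (Tr.leaf (nat_lit 0x0))))))) (Tr.node (Tr.node (Tr.node (Tr.node (Tr.node (Tr.leaf (nat_lit 0x41215878226712)) (Tr.leaf (nat_lit 0x2621547788262177))) (Tr.node (Tr.leaf (nat_lit 0x4595347731876771)) (Tr.leaf (nat_lit 0x0)))) (Tr.node (Tr.node (Tr.leaf (nat_lit 0x8562234788213171221)) (Tr.leaf (nat_lit 0x598634678182122122121))) (Tr.node (Tr.leaf (nat_lit 0x41571323762262)) (Tr.leaf (nat_lit 0x0))))) (Tr.node (Tr.node (Tr.node (Tr.leaf (nat_lit 0x91342173676226)) (Tr.leaf (nat_lit 0x2621547788776712))) (Tr.node (Tr.leaf (nat_lit 0x41342173762122)) (Tr.leaf (nat_lit 0x0)))) (Tr.node (Tr.node (Tr.leaf (nat_lit 0x412158787712211)) (Tr.leaf (nat_lit 0x778934682323177171))) (Tr.node (Tr.leaf (nat_lit 0x88931512868776712)) (Tr.leaf (nat_lit 0x0)))))) (Tr.node (Tr.node (Tr.node (Tr.node (Tr.leaf (nat_lit 0x5986346781826712)) (Tr.leaf (nat_lit 0x959534773186771771))) (Tr.node (Tr.leaf (nat_lit 0x33431512868622177)) (Tr.leaf (nat_lit 0x0)))) (Tr.node (Tr.node (Tr.leaf (nat_lit 0x7592534787812317121)) (Tr.leaf (nat_lit 0x53343233286771712))) (Tr.node (Tr.leaf (nat_lit 0x3958457736237666)) (Tr.leaf (nat_lit 0x0))))) (Tr.node (Tr.node (Tr.node (Tr.leaf (nat_lit 0x45953477318622122121)) (Tr.leaf (nat_lit 0x76368422131826221))) (Tr.node (Tr.leaf (nat_lit 0x395845773623621771)) (Tr.leaf (nat_lit 0x0)))) (Tr.node (Tr.node (Tr.leaf (nat_lit 0x9595347731867626)) (Tr.leaf (nat_lit 0x14342173766622))) (Tr.node (Tr.leaf (nat_lit 0x5432134878628712171)) (Tr.leaf (nat_lit 0x0)))))))) (Tr.node (Tr.node (Tr.node (Tr.node (Tr.node (Tr.node (Tr.leaf (nat_lit 0x11)) (Tr.leaf (nat_lit 0x4334267376226))) (Tr.node (Tr.leaf (nat_lit 0x684522317877111)) (Tr.leaf (nat_lit 0x0)))) (Tr.node (Tr.node (Tr.leaf (nat_lit 0x485134373363267712)) (Tr.leaf (nat_lit 0x1153343233287122111))) (Tr.node (Tr.leaf (nat_lit 0x42158786771221)) (Tr.leaf (nat_lit 0x0))))) (Tr.node (Tr.node (Tr.node (Tr.leaf (nat_lit 0x3973153376712122)) (Tr.leaf (nat_lit 0x88521348286713677121))) (Tr.node (Tr.leaf (nat_lit 0x4571154877878267766)) (Tr.leaf (nat_lit 0x0)))) (Tr.node (Tr.node (Tr.leaf (nat_lit 0x9845152118236)) (Tr.leaf (nat_lit 0x889315128687767121))) (Tr.node (Tr.leaf (nat_lit 0x334532822376226)) (Tr.leaf (nat_lit 0x0)))))) (Tr.node (Tr.node (Tr.node (Tr.node (Tr.leaf (nat_lit 0x174152323267122)) (Tr.leaf (nat_lit 0x53313412821287677671))) (Tr.node (Tr.leaf (nat_lit 0x984515211823262212)) (Tr.leaf (nat_lit 0x0)))) (Tr.node (Tr.node (Tr.leaf (nat_lit 0x6345673212362267)) (Tr.leaf (nat_lit 0x45953477318671712))) (Tr.node (Tr.leaf (nat_lit 0x767547788766622)) (Tr.leaf (nat_lit 0x0))))) (Tr.node (Tr.node (Tr.node (Tr.leaf (nat_lit 0x3973153371111)) (Tr.leaf (nat_lit 0x659863467818776267))) (Tr.node (Tr.leaf (nat_lit 0x7515328673767762)) (Tr.leaf (nat_lit 0x0)))) (Tr.node (Tr.node (Tr.leaf (nat_lit 0x434217367622)) (Tr.leaf (nat_lit 0x9851343733636226217))) (Tr.node (Tr.leaf (nat_lit 0x885213482867137677671)) (Tr.leaf (nat_lit 0x0))))))) (Tr.node (Tr.node (Tr.node (Tr.node (Tr.node (Tr.leaf (nat_lit 0x1771211)) (Tr.leaf (nat_lit 0x98451521182362676))) (Tr.node (Tr.leaf (nat_lit 0x7186342218132267622)) (Tr.leaf (nat_lit 0x0)))) (Tr.node (Tr.node (Tr.leaf (nat_lit 0x84584577362376712122)) (Tr.leaf (nat_lit 0x58218413212367712))) (Tr.node (Tr.leaf (nat_lit 0x4634217311)) (Tr.leaf (nat_lit 0x0))))) (Tr.node (Tr.node (Tr.node (Tr.leaf (nat_lit 0x4571323262)) (Tr.leaf (nat_lit 0x8743153317))) (Tr.node (Tr.leaf (nat_lit 0x288568428676226)) (Tr.leaf (nat_lit 0x0)))) (Tr.node (Tr.node (Tr.leaf (nat_lit 0x45713237762676)) (Tr.leaf (nat_lit 0x7789346823236221))) (Tr.node (Tr.leaf (nat_lit 0x484515211823762122)) (Tr.leaf (nat_lit 0x0)))))) (Tr.node (Tr.node (Tr.node (Tr.node (Tr.leaf (nat_lit 0x33453282236)) (Tr.leaf (nat_lit 0x9595347731826221))) (Tr.node (Tr.leaf (nat_lit 0x17415232362122)) (Tr.leaf (nat_lit 0x0)))) (Tr.node (Tr.node (Tr.leaf (nat_lit 0x13456732123226267)) (Tr.leaf (nat_lit 0x88521348286713717717))) (Tr.node (Tr.leaf (nat_lit 0x48451521182362171)) (Tr.leaf (nat_lit 0x0))))) (Tr.node (Tr.node (Tr.node (Tr.leaf (nat_lit 0x25868417826367762)) (Tr.leaf (nat_lit 0x5432134878628762676))) (Tr.node (Tr.leaf (nat_lit 0x8893151286866)) (Tr.leaf (nat_lit 0x0)))) (Tr.node (Tr.node (Tr.leaf (nat_lit 0x533432332876226)) (Tr.leaf (nat_lit 0x0))) (Tr.node (Tr.leaf (nat_lit 0x54358477326867717121)) (Tr.leaf (nat_lit 0x0))))))))) (Tr.node (Tr.node (Tr.node (Tr.node (Tr.node (Tr.node (Tr.node (Tr.leaf (nat_lit 0x71863422181362262212)) (Tr.leaf (nat_lit 0x856223478821322677))) (Tr.node (Tr.leaf (nat_lit 0x7515328673267766)) (Tr.leaf (nat_lit 0x0)))) (Tr.node (Tr.node (Tr.leaf (nat_lit 0x6598634678182621)) (Tr.leaf (nat_lit 0x42158787666))) (Tr.node (Tr.leaf (nat_lit 0x453415423187371211)) (Tr.leaf (nat_lit 0x0))))) (Tr.node (Tr.node (Tr.node (Tr.leaf (nat_lit 0x874315337767717)) (Tr.leaf (nat_lit 0x15334323328771712))) (Tr.node (Tr.leaf (nat_lit 0x7186342218132211)) (Tr.leaf (nat_lit 0x0)))) (Tr.node (Tr.node (Tr.leaf (nat_lit 0x143421731217)) (Tr.leaf (nat_lit 0x84584577362367))) (Tr.node (Tr.leaf (nat_lit 0x457115487787826221221)) (Tr.leaf (nat_lit 0x0)))))) (Tr.node (Tr.node (Tr.node (Tr.node (Tr.leaf (nat_lit 0x3345328223677626)) (Tr.leaf (nat_lit 0x582184132123217111))) (Tr.node (Tr.leaf (nat_lit 0x41215878622121)) (Tr.leaf (nat_lit 0x0)))) (Tr.node (Tr.node (Tr.leaf (nat_lit 0x598634678182267717)) (Tr.leaf (nat_lit 0x4571323762177))) (Tr.node (Tr.leaf (nat_lit 0x42158787677621)) (Tr.leaf (nat_lit 0x0))))) (Tr.node (Tr.node (Tr.node (Tr.leaf (nat_lit 0x88521348286713666)) (Tr.leaf (nat_lit 0x45711548778782217121))) (Tr.node (Tr.leaf (nat_lit 0x43421737121221)) (Tr.leaf (nat_lit 0x0)))) (Tr.node (Tr.node (Tr.leaf (nat_lit 0x457115487787812212)) (Tr.leaf (nat_lit 0x68452231786771))) (Tr.node (Tr.leaf (nat_lit 0x41571323776771712)) (Tr.leaf (nat_lit 0x0))))))) (Tr.node (Tr.node (Tr.node (Tr.node (Tr.node (Tr.leaf (nat_lit 0x4121587877677171)) (Tr.leaf (nat_lit 0x913421737622))) (Tr.node (Tr.leaf (nat_lit 0x3343151286876226)) (Tr.leaf (nat_lit 0x0)))) (Tr.node (Tr.node (Tr.leaf (nat_lit 0x46342173767717)) (Tr.leaf (nat_lit 0x768634221813226267))) (Tr.node (Tr.leaf (nat_lit 0x598634678187762171)) (Tr.leaf (nat_lit 0x0))))) (Tr.node (Tr.node (Tr.node (Tr.leaf (nat_lit 0x598634678187122121)) (Tr.leaf (nat_lit 0x143421732622121))) (Tr.node (Tr.leaf (nat_lit 0x8458457736237121711)) (Tr.leaf (nat_lit 0x0)))) (Tr.node (Tr.node (Tr.leaf (nat_lit 0x4134217367121221)) (Tr.leaf (nat_lit 0x8893151286862671))) (Tr.node (Tr.leaf (nat_lit 0x4817342131787666)) (Tr.leaf (nat_lit 0x0)))))) (Tr.node (Tr.node (Tr.node (Tr.node (Tr.leaf (nat_lit 0x91342173)) (Tr.leaf (nat_lit 0x8562234788213712211))) (Tr.node (Tr.leaf (nat_lit 0x4817342131787767717)) (Tr.leaf (nat_lit 0x0)))) (Tr.node (Tr.node (Tr.leaf (nat_lit 0x718634221813671712)) (Tr.leaf (nat_lit 0x985134373363776212))) (Tr.node (Tr.leaf (nat_lit 0x75153286732267621)) (Tr.leaf (nat_lit 0x0))))) (Tr.node (Tr.node (Tr.node (Tr.leaf (nat_lit 0x4571323177111)) (Tr.leaf (nat_lit 0x543584773268217111))) (Tr.node (Tr.leaf (nat_lit 0x1533432332877626)) (Tr.leaf (nat_lit 0x0)))) (Tr.node (Tr.node (Tr.leaf (nat_lit 0x6845223178776267)) (Tr.leaf (nat_lit 0x0))) (Tr.node (Tr.leaf (nat_lit 0x39584577362322626)) (Tr.leaf (nat_lit 0x0)))))))) (Tr.node (Tr.node (Tr.node (Tr.node (Tr.node (Tr.node (Tr.leaf (nat_lit 0x1)) (Tr.leaf (nat_lit 0x3343151286817122))) (Tr.node (Tr.leaf (nat_lit 0x41571323762212)) (Tr.leaf (nat_lit 0x0)))) (Tr.node (Tr.node (Tr.leaf (nat_lit 0x75925347878123226)) (Tr.leaf (nat_lit 0x75153286732122122))) (Tr.node (Tr.leaf (nat_lit 0x845845773623221211)) (Tr.leaf (nat_lit 0x0))))) (Tr.node (Tr.node (Tr.node (Tr.leaf (nat_lit 0x14342173622177)) (Tr.leaf (nat_lit 0x459534773182122))) (Tr.node (Tr.leaf (nat_lit 0x258684178263217)) (Tr.leaf (nat_lit 0x0)))) (Tr.node (Tr.node (Tr.leaf (nat_lit 0x334315128682671)) (Tr.leaf (nat_lit 0x433426737762))) (Tr.node (Tr.leaf (nat_lit 0x1345673212312217)) (Tr.leaf (nat_lit 0x0)))))) (Tr.node (Tr.node (Tr.node (Tr.node (Tr.leaf (nat_lit 0x74152323217122)) (Tr.leaf (nat_lit 0x258684178263766622))) (Tr.node (Tr.leaf (nat_lit 0x4215878762671)) (Tr.leaf (nat_lit 0x0)))) (Tr.node (Tr.node (Tr.leaf (nat_lit 0x9845152118236771712)) (Tr.leaf (nat_lit 0x88521348286713712122))) (Tr.node (Tr.leaf (nat_lit 0x6845223178762677)) (Tr.leaf (nat_lit 0x0))))) (Tr.node (Tr.node (Tr.node (Tr.leaf (nat_lit 0x43342673671221)) (Tr.leaf (nat_lit 0x2586841782637122111))) (Tr.node (Tr.leaf (nat_lit 0x845223178217121)) (Tr.leaf (nat_lit 0x0)))) (Tr.node (Tr.node (Tr.leaf (nat_lit 0x684522317822122)) (Tr.leaf (nat_lit 0x4121587871771712))) (Tr.node (Tr.leaf (nat_lit 0x885213482867137767121)) (Tr.leaf (nat_lit 0x0))))))) (Tr.node (Tr.node (Tr.node (Tr.node (Tr.node (Tr.leaf (nat_lit 0x412158786717712)) (Tr.leaf (nat_lit 0x4851343733636226217))) (Tr.node (Tr.leaf (nat_lit 0x3958457736236221712)) (Tr.leaf (nat_lit 0x0)))) (Tr.node (Tr.node (Tr.leaf (nat_lit 0x174152323776771)) (Tr.leaf (nat_lit 0x34567321237177))) (Tr.node (Tr.leaf (nat_lit 0x4121587812177)) (Tr.leaf (nat_lit 0x0))))) (Tr.node (Tr.node (Tr.node (Tr.leaf (nat_lit 0x8852134828671367622)) (Tr.leaf (nat_lit 0x5432134878628762671))) (Tr.node (Tr.leaf (nat_lit 0x45953477318221111)) (Tr.leaf (nat_lit 0x0)))) (Tr.node (Tr.node (Tr.leaf (nat_lit 0x87431533221211)) (Tr.leaf (nat_lit 0x74152323712))) (Tr.node (Tr.leaf (nat_lit 0x582184132123676226)) (Tr.leaf (nat_lit 0x0)))))) (Tr.node (Tr.node (Tr.node (Tr.node (Tr.leaf (nat_lit 0x6845223178122122)) (Tr.leaf (nat_lit 0x4814534812328262262))) (Tr.node (Tr.leaf (nat_lit 0x74152323776771)) (Tr.leaf (nat_lit 0x0)))) (Tr.node (Tr.node (Tr.leaf (nat_lit 0x767547788677626)) (Tr.leaf (nat_lit 0x4845152118237122111))) (Tr.node (Tr.leaf (nat_lit 0x741523232671221)) (Tr.leaf (nat_lit 0x0))))) (Tr.node (Tr.node (Tr.node (Tr.leaf (nat_lit 0x481734213178776221)) (Tr.leaf (nat_lit 0x95953477318221217))) (Tr.node (Tr.leaf (nat_lit 0x48451521182371771711)) (Tr.leaf (nat_lit 0x0)))) (Tr.node (Tr.node (Tr.leaf (nat_lit 0x457115487787876)) (Tr.leaf (nat_lit 0x0))) (Tr.node (Tr.leaf (nat_lit 0x25868417826366)) (Tr.leaf (nat_lit 0x0)))))))))) (Tr.node (Tr.node (Tr.node (Tr.node (Tr.node (Tr.node (Tr.node (Tr.node (Tr.leaf (nat_lit 0x258684178263217111)) (Tr.leaf (nat_lit 0x2586841782637762))) (Tr.node (Tr.leaf (nat_lit 0x1533432332822177)) (Tr.leaf (nat_lit 0x0)))) (Tr.node (Tr.node (Tr.leaf (nat_lit 0x7592534787812362217)) (Tr.leaf (nat_lit 0x53343233286221771))) (Tr.node (Tr.leaf (nat_lit 0x53343233281771712)) (Tr.leaf (nat_lit 0x0))))) (Tr.node (Tr.node (Tr.node (Tr.leaf (nat_lit 0x2885684286221771)) (Tr.leaf (nat_lit 0x8458457736231711))) (Tr.node (Tr.leaf (nat_lit 0x874315332267621)) (Tr.leaf (nat_lit 0x0)))) (Tr.node (Tr.node (Tr.leaf (nat_lit 0x85622347882136712122)) (Tr.leaf (nat_lit 0x4845152118237622))) (Tr.node (Tr.leaf (nat_lit 0x959534773186662)) (Tr.leaf (nat_lit 0x0)))))) (Tr.node (Tr.node (Tr.node (Tr.node (Tr.leaf (nat_lit 0x9334267317717121)) (Tr.leaf (nat_lit 0x856223478821367712))) (Tr.node (Tr.leaf (nat_lit 0x3156343313131712)) (Tr.leaf (nat_lit 0x0)))) (Tr.node (Tr.node (Tr.leaf (nat_lit 0x433426737177171)) (Tr.leaf (nat_lit 0x3973153322121))) (Tr.node (Tr.leaf (nat_lit 0x3135487717317717)) (Tr.leaf (nat_lit 0x0))))) (Tr.node (Tr.node (Tr.node (Tr.leaf (nat_lit 0x54358477326811)) (Tr.leaf (nat_lit 0x63456732123621))) (Tr.node (Tr.leaf (nat_lit 0x5331341282128121711)) (Tr.leaf (nat_lit 0x0)))) (Tr.node (Tr.node (Tr.leaf (nat_lit 0x48513437336371211)) (Tr.leaf (nat_lit 0x7515328673267171))) (Tr.node (Tr.leaf (nat_lit 0x2586841782637622)) (Tr.leaf (nat_lit 0x0))))))) (Tr.node (Tr.node (Tr.node (Tr.node (Tr.node (Tr.leaf (nat_lit 0x4157132371711)) (Tr.leaf (nat_lit 0x39731533626771))) (Tr.node (Tr.leaf (nat_lit 0x115334323328217111)) (Tr.leaf (nat_lit 0x0)))) (Tr.node (Tr.node (Tr.leaf (nat_lit 0x31354877173267622)) (Tr.leaf (nat_lit 0x3345328223226717))) (Tr.node (Tr.leaf (nat_lit 0x48451521182312171)) (Tr.leaf (nat_lit 0x0))))) (Tr.node (Tr.node (Tr.node (Tr.leaf (nat_lit 0x17415232321)) (Tr.leaf (nat_lit 0x4134217367767121))) (Tr.node (Tr.leaf (nat_lit 0x481453481232877626)) (Tr.leaf (nat_lit 0x0)))) (Tr.node (Tr.node (Tr.leaf (nat_lit 0x7686342218131712)) (Tr.leaf (nat_lit 0x4571323262212212))) (Tr.node (Tr.leaf (nat_lit 0x415713237622626)) (Tr.leaf (nat_lit 0x0)))))) (Tr.node (Tr.node (Tr.node (Tr.node (Tr.leaf (nat_lit 0x634567321232677671)) (Tr.leaf (nat_lit 0x6598634678182122171))) (Tr.node (Tr.leaf (nat_lit 0x959534773187177)) (Tr.leaf (nat_lit 0x0)))) (Tr.node (Tr.node (Tr.leaf (nat_lit 0x4534154231873267712)) (Tr.leaf (nat_lit 0x1153343233282171))) (Tr.node (Tr.leaf (nat_lit 0x1533432332867717121)) (Tr.leaf (nat_lit 0x0))))) (Tr.node (Tr.node (Tr.node (Tr.leaf (nat_lit 0x54321348786287762122)) (Tr.leaf (nat_lit 0x889315128687621221))) (Tr.node (Tr.leaf (nat_lit 0x582184132123677626)) (Tr.leaf (nat_lit 0x0)))) (Tr.node (Tr.node (Tr.leaf (nat_lit 0x85622347882137767121)) (Tr.leaf (nat_lit 0x54358477326867767121))) (Tr.node (Tr.leaf (nat_lit 0x71863422181362267)) (Tr.leaf (nat_lit 0x0)))))))) (Tr.node (Tr.node (Tr.node (Tr.node (Tr.node (Tr.node (Tr.leaf (nat_lit 0x6)) (Tr.leaf (nat_lit 0x759253478781232217122))) (Tr.node (Tr.leaf (nat_lit 0x4845152118232171)) (Tr.leaf (nat_lit 0x0)))) (Tr.node (Tr.node (Tr.leaf (nat_lit 0x43421732622121)) (Tr.leaf (nat_lit 0x45713237767712))) (Tr.node (Tr.leaf (nat_lit 0x533432332867121221)) (Tr.leaf (nat_lit 0x0))))) (Tr.node (Tr.node (Tr.node (Tr.leaf (nat_lit 0x177121)) (Tr.leaf (nat_lit 0x5331341282128676221))) (Tr.node (Tr.leaf (nat_lit 0x174152323776212)) (Tr.leaf (nat_lit 0x0)))) (Tr.node (Tr.node (Tr.leaf (nat_lit 0x759253478781237177)) (Tr.leaf (nat_lit 0x174152323262671))) (Tr.node (Tr.leaf (nat_lit 0x913421732217711)) (Tr.leaf (nat_lit 0x0)))))) (Tr.node (Tr.node (Tr.node (Tr.node (Tr.leaf (nat_lit 0x59863467818762262)) (Tr.leaf (nat_lit 0x653343233281217))) (Tr.node (Tr.leaf (nat_lit 0x5435847732687121221)) (Tr.leaf (nat_lit 0x0)))) (Tr.node (Tr.node (Tr.leaf (nat_lit 0x3456732123622622621)) (Tr.leaf (nat_lit 0x288568428177121))) (Tr.node (Tr.leaf (nat_lit 0x3343151286826766)) (Tr.leaf (nat_lit 0x0))))) (Tr.node (Tr.node (Tr.node (Tr.leaf (nat_lit 0x41215878762171)) (Tr.leaf (nat_lit 0x778934682323712))) (Tr.node (Tr.leaf (nat_lit 0x75153286732262217)) (Tr.leaf (nat_lit 0x0)))) (Tr.node (Tr.node (Tr.leaf (nat_lit 0x985134373363262671)) (Tr.leaf (nat_lit 0x46342173712211))) (Tr.node (Tr.leaf (nat_lit 0x26766)) (Tr.leaf (nat_lit 0x0))))))) (Tr.node (Tr.node (Tr.node (Tr.node (Tr.node (Tr.leaf (nat_lit 0x45713231771)) (Tr.leaf (nat_lit 0x3958457736231221211))) (Tr.node (Tr.leaf (nat_lit 0x6845223178712177)) (Tr.leaf (nat_lit 0x0)))) (Tr.node (Tr.node (Tr.leaf (nat_lit 0x1741523232677121)) (Tr.leaf (nat_lit 0x46342173177121))) (Tr.node (Tr.leaf (nat_lit 0x3567134717862171)) (Tr.leaf (nat_lit 0x0))))) (Tr.node (Tr.node (Tr.node (Tr.leaf (nat_lit 0x543584773268712211)) (Tr.leaf (nat_lit 0x4134217376221))) (Tr.node (Tr.leaf (nat_lit 0x767547788671221)) (Tr.leaf (nat_lit 0x0)))) (Tr.node (Tr.node (Tr.leaf (nat_lit 0x4814534812328221771)) (Tr.leaf (nat_lit 0x2621547788767717))) (Tr.node (Tr.leaf (nat_lit 0x33431512868171221)) (Tr.leaf (nat_lit 0x0)))))) (Tr.node (Tr.node (Tr.node (Tr.node (Tr.leaf (nat_lit 0x63456732123622122121)) (Tr.leaf (nat_lit 0x45341542318732622177))) (Tr.node (Tr.leaf (nat_lit 0x262154778822177)) (Tr.leaf (nat_lit 0x0)))) (Tr.node (Tr.node (Tr.leaf (nat_lit 0x48145348123287677171)) (Tr.leaf (nat_lit 0x598634678186712212))) (Tr.node (Tr.leaf (nat_lit 0x39731533766)) (Tr.leaf (nat_lit 0x0))))) (Tr.node (Tr.node (Tr.node (Tr.leaf (nat_lit 0x35671347178762122)) (Tr.leaf (nat_lit 0x18452231782622622121))) (Tr.node (Tr.leaf (nat_lit 0x334315128687122111)) (Tr.leaf (nat_lit 0x0)))) (Tr.node (Tr.node (Tr.leaf (nat_lit 0x258684178263676221)) (Tr.leaf (nat_lit 0x0))) (Tr.node (Tr.leaf (nat_lit 0x2885684281)) (Tr.leaf (nat_lit 0x0))))))))) (Tr.node (Tr.node (Tr.node (Tr.node (Tr.node (Tr.node (Tr.node (Tr.leaf (nat_lit 0x76863422181362212212)) (Tr.leaf (nat_lit 0x543584773268217))) (Tr.node (Tr.leaf (nat_lit 0x634567321236762)) (Tr.leaf (nat_lit 0x0)))) (Tr.node (Tr.node (Tr.leaf (nat_lit 0x25868417826317122)) (Tr.leaf (nat_lit 0x43421737622))) (Tr.node (Tr.leaf (nat_lit 0x653343233282622621)) (Tr.leaf (nat_lit 0x0))))) (Tr.node (Tr.node (Tr.node (Tr.leaf (nat_lit 0x4634217317717121)) (Tr.leaf (nat_lit 0x1845223178212217))) (Tr.node (Tr.leaf (nat_lit 0x315634331313121)) (Tr.leaf (nat_lit 0x0)))) (Tr.node (Tr.node (Tr.leaf (nat_lit 0x984515211823)) (Tr.leaf (nat_lit 0x6598634678182267177))) (Tr.node (Tr.leaf (nat_lit 0x76368422131812)) (Tr.leaf (nat_lit 0x0)))))) (Tr.node (Tr.node (Tr.node (Tr.node (Tr.leaf (nat_lit 0x18452231781221221)) (Tr.leaf (nat_lit 0x87431533671))) (Tr.node (Tr.leaf (nat_lit 0x85622347882136221771)) (Tr.leaf (nat_lit 0x0)))) (Tr.node (Tr.node (Tr.leaf (nat_lit 0x718634221813767766)) (Tr.leaf (nat_lit 0x653343233287717121))) (Tr.node (Tr.leaf (nat_lit 0x1533432332817712)) (Tr.leaf (nat_lit 0x0))))) (Tr.node (Tr.node (Tr.node (Tr.leaf (nat_lit 0x421587877122)) (Tr.leaf (nat_lit 0x35671347178171221))) (Tr.node (Tr.leaf (nat_lit 0x1533432332862676)) (Tr.leaf (nat_lit 0x0)))) (Tr.node (Tr.node (Tr.leaf (nat_lit 0x6598634678182267717)) (Tr.leaf (nat_lit 0x41342173776662))) (Tr.node (Tr.leaf (nat_lit 0x6533432332822677)) (Tr.leaf (nat_lit 0x0))))))) (Tr.node (Tr.node (Tr.node (Tr.node (Tr.node (Tr.leaf (nat_lit 0x856223478821326766)) (Tr.leaf (nat_lit 0x718634221813622622621))) (Tr.node (Tr.leaf (nat_lit 0x5432134878628766)) (Tr.leaf (nat_lit 0x0)))) (Tr.node (Tr.node (Tr.leaf (nat_lit 0x768634221813226)) (Tr.leaf (nat_lit 0x28856842867622))) (Tr.node (Tr.leaf (nat_lit 0x77893468232322622121)) (Tr.leaf (nat_lit 0x0))))) (Tr.node (Tr.node (Tr.node (Tr.leaf (nat_lit 0x9851343733632676226)) (Tr.leaf (nat_lit 0x413421737712))) (Tr.node (Tr.leaf (nat_lit 0x15334323328217)) (Tr.leaf (nat_lit 0x0)))) (Tr.node (Tr.node (Tr.leaf (nat_lit 0x5435847732687767121)) (Tr.leaf (nat_lit 0x885213482867137677171))) (Tr.node (Tr.leaf (nat_lit 0x98451521182377621)) (Tr.leaf (nat_lit 0x0)))))) (Tr.node (Tr.node (Tr.node (Tr.node (Tr.leaf (nat_lit 0x415713236226226)) (Tr.leaf (nat_lit 0x85622347882131217))) (Tr.node (Tr.leaf (nat_lit 0x985134373363267712)) (Tr.leaf (nat_lit 0x0)))) (Tr.node (Tr.node (Tr.leaf (nat_lit 0x845845773623762671)) (Tr.leaf (nat_lit 0x11533432332821221211))) (Tr.node (Tr.leaf (nat_lit 0x5435847732687122)) (Tr.leaf (nat_lit 0x0))))) (Tr.node (Tr.node (Tr.node (Tr.leaf (nat_lit 0x71221)) (Tr.leaf (nat_lit 0x5334323328))) (Tr.node (Tr.leaf (nat_lit 0x1533432332811)) (Tr.leaf (nat_lit 0x0)))) (Tr.node (Tr.node (Tr.leaf (nat_lit 0x751532867377122)) (Tr.leaf (nat_lit 0x0))) (Tr.node (Tr.leaf (nat_lit 0x11533432332867767121)) (Tr.leaf (nat_lit 0x0)))))))) (Tr.node (Tr.node (Tr.node (Tr.node (Tr.node (Tr.node (Tr.leaf (nat_lit 0x4157132362121)) (Tr.leaf (nat_lit 0x53313412821287122111))) (Tr.node (Tr.leaf (nat_lit 0x98513437336321111)) (Tr.leaf (nat_lit 0x0)))) (Tr.node (Tr.node (Tr.leaf (nat_lit 0x6598634678181221221)) (Tr.leaf (nat_lit 0x2885684281111))) (Tr.node (Tr.leaf (nat_lit 0x8452231787621771)) (Tr.leaf (nat_lit 0x0))))) (Tr.node (Tr.node (Tr.node (Tr.leaf (nat_lit 0x9334267317122)) (Tr.leaf (nat_lit 0x4571154877878221211))) (Tr.node (Tr.leaf (nat_lit 0x45953477318677177)) (Tr.leaf (nat_lit 0x0)))) (Tr.node (Tr.node (Tr.leaf (nat_lit 0x143421737621221)) (Tr.leaf (nat_lit 0x4851343733632622177))) (Tr.node (Tr.leaf (nat_lit 0x4534154231873762217)) (Tr.leaf (nat_lit 0x0)))))) (Tr.node (Tr.node (Tr.node (Tr.node (Tr.leaf (nat_lit 0x659863467818177)) (Tr.leaf (nat_lit 0x7675477887122))) (Tr.node (Tr.leaf (nat_lit 0x653343233287712)) (Tr.leaf (nat_lit 0x0)))) (Tr.node (Tr.node (Tr.leaf (nat_lit 0x7675477881771712)) (Tr.leaf (nat_lit 0x3973153317111))) (Tr.node (Tr.leaf (nat_lit 0x3456732123762121)) (Tr.leaf (nat_lit 0x0))))) (Tr.node (Tr.node (Tr.node (Tr.leaf (nat_lit 0x45341542318731771711)) (Tr.leaf (nat_lit 0x856223478821377626))) (Tr.node (Tr.leaf (nat_lit 0x41215878717712)) (Tr.leaf (nat_lit 0x0)))) (Tr.node (Tr.node (Tr.leaf (nat_lit 0x433426732676)) (Tr.leaf (nat_lit 0x7686342218137762177))) (Tr.node (Tr.leaf (nat_lit 0x4215878766)) (Tr.leaf (nat_lit 0x0))))))) (Tr.node (Tr.node (Tr.node (Tr.node (Tr.node (Tr.leaf (nat_lit 0x2586841782636771712)) (Tr.leaf (nat_lit 0x45713232122171))) (Tr.node (Tr.leaf (nat_lit 0x58218413212367122)) (Tr.leaf (nat_lit 0x0)))) (Tr.node (Tr.node (Tr.leaf (nat_lit 0x7636842213187177)) (Tr.leaf (nat_lit 0x9845152118236267))) (Tr.node (Tr.leaf (nat_lit 0x413421737622)) (Tr.leaf (nat_lit 0x0))))) (Tr.node (Tr.node (Tr.node (Tr.leaf (nat_lit 0x65334323328262212)) (Tr.leaf (nat_lit 0x53343233287671212))) (Tr.node (Tr.leaf (nat_lit 0x8562234788213622177)) (Tr.leaf (nat_lit 0x0)))) (Tr.node (Tr.node (Tr.leaf (nat_lit 0x2885684287677171)) (Tr.leaf (nat_lit 0x68452231782622622121))) (Tr.node (Tr.leaf (nat_lit 0x3973153326221221)) (Tr.leaf (nat_lit 0x0)))))) (Tr.node (Tr.node (Tr.node (Tr.node (Tr.leaf (nat_lit 0x7415232322671)) (Tr.leaf (nat_lit 0x43342673762122))) (Tr.node (Tr.leaf (nat_lit 0x58218413212367121221)) (Tr.leaf (nat_lit 0x0)))) (Tr.node (Tr.node (Tr.leaf (nat_lit 0x288568428212212)) (Tr.leaf (nat_lit 0x54358477326822677))) (Tr.node (Tr.leaf (nat_lit 0x59863467818267621)) (Tr.leaf (nat_lit 0x0))))) (Tr.node (Tr.node (Tr.node (Tr.leaf (nat_lit 0x174152323677171)) (Tr.leaf (nat_lit 0x9845152118237762))) (Tr.node (Tr.leaf (nat_lit 0x334532822362171)) (Tr.leaf (nat_lit 0x0)))) (Tr.node (Tr.node (Tr.leaf (nat_lit 0x87431533771221)) (Tr.leaf (nat_lit 0x0))) (Tr.node (Tr.leaf (nat_lit 0x53313412821282622626)) (Tr.leaf (nat_lit 0x0))))))))))) (Tr.node (Tr.node (Tr.node (Tr.node (Tr.node (Tr.node (Tr.node (Tr.node (Tr.node (Tr.leaf (nat_lit 0x9595347731871771)) (Tr.leaf (nat_lit 0x71863422181366226))) (Tr.node (Tr.leaf (nat_lit 0x984515211823676226)) (Tr.leaf (nat_lit 0x0)))) (Tr.node (Tr.node (Tr.leaf (nat_lit 0x433426737671212)) (Tr.leaf (nat_lit 0x31354877173771771))) (Tr.node (Tr.leaf (nat_lit 0x7686342218132262671)) (Tr.leaf (nat_lit 0x0))))) (Tr.node (Tr.node (Tr.node (Tr.leaf (nat_lit 0x463421737717121)) (Tr.leaf (nat_lit 0x4534154231873712))) (Tr.node (Tr.leaf (nat_lit 0x75925347878123622671)) (Tr.leaf (nat_lit 0x0)))) (Tr.node (Tr.node (Tr.leaf (nat_lit 0x39731533221712)) (Tr.leaf (nat_lit 0x153343233287767121))) (Tr.node (Tr.leaf (nat_lit 0x6345673212362212212)) (Tr.leaf (nat_lit 0x0)))))) (Tr.node (Tr.node (Tr.node (Tr.node (Tr.leaf (nat_lit 0x35671347178677121)) (Tr.leaf (nat_lit 0x33431512868766622))) (Tr.node (Tr.leaf (nat_lit 0x4134217317717121)) (Tr.leaf (nat_lit 0x0)))) (Tr.node (Tr.node (Tr.leaf (nat_lit 0x143421737177171)) (Tr.leaf (nat_lit 0x768634221813771711))) (Tr.node (Tr.leaf (nat_lit 0x356713471782171)) (Tr.leaf (nat_lit 0x0))))) (Tr.node (Tr.node (Tr.node (Tr.leaf (nat_lit 0x9342173267)) (Tr.leaf (nat_lit 0x395845773623121771))) (Tr.node (Tr.leaf (nat_lit 0x6533432332876226)) (Tr.leaf (nat_lit 0x0)))) (Tr.node (Tr.node (Tr.leaf (nat_lit 0x7789346823236226217)) (Tr.leaf (nat_lit 0x741523237121))) (Tr.node (Tr.leaf (nat_lit 0x9845152118237671212)) (Tr.leaf (nat_lit 0x0))))))) (Tr.node (Tr.node (Tr.node (Tr.node (Tr.node (Tr.leaf (nat_lit 0x434217322177)) (Tr.leaf (nat_lit 0x63456732123171211))) (Tr.node (Tr.leaf (nat_lit 0x4571154877878122121)) (Tr.leaf (nat_lit 0x0)))) (Tr.node (Tr.node (Tr.leaf (nat_lit 0x3345328223177121)) (Tr.leaf (nat_lit 0x2676))) (Tr.node (Tr.leaf (nat_lit 0x845223178771111)) (Tr.leaf (nat_lit 0x0))))) (Tr.node (Tr.node (Tr.node (Tr.leaf (nat_lit 0x4845152118232622626)) (Tr.leaf (nat_lit 0x143421737121221))) (Tr.node (Tr.leaf (nat_lit 0x7186342218132677671)) (Tr.leaf (nat_lit 0x0)))) (Tr.node (Tr.node (Tr.leaf (nat_lit 0x4134217312171)) (Tr.leaf (nat_lit 0x598634678182267177))) (Tr.node (Tr.leaf (nat_lit 0x4595347731862217)) (Tr.leaf (nat_lit 0x0)))))) (Tr.node (Tr.node (Tr.node (Tr.node (Tr.leaf (nat_lit 0x134567321236712)) (Tr.leaf (nat_lit 0x65334323328262262))) (Tr.node (Tr.leaf (nat_lit 0x45341542318732217)) (Tr.leaf (nat_lit 0x0)))) (Tr.node (Tr.node (Tr.leaf (nat_lit 0x18452231782677177)) (Tr.leaf (nat_lit 0x7675477887122111))) (Tr.node (Tr.leaf (nat_lit 0x45341542318737767766)) (Tr.leaf (nat_lit 0x0))))) (Tr.node (Tr.node (Tr.node (Tr.leaf (nat_lit 0x4571154877878762676)) (Tr.leaf (nat_lit 0x54358477326867121221))) (Tr.node (Tr.leaf (nat_lit 0x334315128687677671)) (Tr.leaf (nat_lit 0x0)))) (Tr.node (Tr.node (Tr.leaf (nat_lit 0x68452231782267717)) (Tr.leaf (nat_lit 0x533432332867122))) (Tr.node (Tr.leaf (nat_lit 0x1741523231221217)) (Tr.leaf (nat_lit 0x0)))))))) (Tr.node (Tr.node (Tr.node (Tr.node (Tr.node (Tr.node (Tr.leaf (nat_lit 0x415713237671)) (Tr.leaf (nat_lit 0x39584577362326776))) (Tr.node (Tr.leaf (nat_lit 0x485134373363677671)) (Tr.leaf (nat_lit 0x0)))) (Tr.node (Tr.node (Tr.leaf (nat_lit 0x845845773623712171)) (Tr.leaf (nat_lit 0x34567321231712))) (Tr.node (Tr.leaf (nat_lit 0x95953477318217717)) (Tr.leaf (nat_lit 0x0))))) (Tr.node (Tr.node (Tr.node (Tr.leaf (nat_lit 0x9134217366)) (Tr.leaf (nat_lit 0x84584577362376))) (Tr.node (Tr.leaf (nat_lit 0x43421737767121)) (Tr.leaf (nat_lit 0x0)))) (Tr.node (Tr.node (Tr.leaf (nat_lit 0x68452231787766)) (Tr.leaf (nat_lit 0x768634221813122122121))) (Tr.node (Tr.leaf (nat_lit 0x543213487862826771)) (Tr.leaf (nat_lit 0x0)))))) (Tr.node (Tr.node (Tr.node (Tr.node (Tr.leaf (nat_lit 0x751532867326776)) (Tr.leaf (nat_lit 0x5334323328226776))) (Tr.node (Tr.leaf (nat_lit 0x395845773623766)) (Tr.leaf (nat_lit 0x0)))) (Tr.node (Tr.node (Tr.leaf (nat_lit 0x751532867376267)) (Tr.leaf (nat_lit 0x6345673212367621))) (Tr.node (Tr.leaf (nat_lit 0x14342173121711)) (Tr.leaf (nat_lit 0x0))))) (Tr.node (Tr.node (Tr.node (Tr.leaf (nat_lit 0x93342673677621)) (Tr.leaf (nat_lit 0x3343151286867717121))) (Tr.node (Tr.leaf (nat_lit 0x43421732622621)) (Tr.leaf (nat_lit 0x0)))) (Tr.node (Tr.node (Tr.leaf (nat_lit 0x759253478781237717)) (Tr.leaf (nat_lit 0x2621547788677621))) (Tr.node (Tr.leaf (nat_lit 0x659863467818712177)) (Tr.leaf (nat_lit 0x0))))))) (Tr.node (Tr.node (Tr.node (Tr.node (Tr.node (Tr.leaf (nat_lit 0x751532867371217)) (Tr.leaf (nat_lit 0x77893468232366622))) (Tr.node (Tr.leaf (nat_lit 0x768634221813622622121)) (Tr.leaf (nat_lit 0x0)))) (Tr.node (Tr.node (Tr.leaf (nat_lit 0x63456732123771711)) (Tr.leaf (nat_lit 0x778934682323122111))) (Tr.node (Tr.leaf (nat_lit 0x48173421317871217)) (Tr.leaf (nat_lit 0x0))))) (Tr.node (Tr.node (Tr.node (Tr.leaf (nat_lit 0x459534773182677671)) (Tr.leaf (nat_lit 0x1845223178262262212))) (Tr.node (Tr.leaf (nat_lit 0x48513437336326217)) (Tr.leaf (nat_lit 0x0)))) (Tr.node (Tr.node (Tr.leaf (nat_lit 0x35671347178767717)) (Tr.leaf (nat_lit 0x8562234788213717717))) (Tr.node (Tr.leaf (nat_lit 0x65334323328712122)) (Tr.leaf (nat_lit 0x0)))))) (Tr.node (Tr.node (Tr.node (Tr.node (Tr.leaf (nat_lit 0x5331341282128677621)) (Tr.leaf (nat_lit 0x5986346781877666))) (Tr.node (Tr.leaf (nat_lit 0x718634221813771711)) (Tr.leaf (nat_lit 0x0)))) (Tr.node (Tr.node (Tr.leaf (nat_lit 0x1845223178626762)) (Tr.leaf (nat_lit 0x68452231787711))) (Tr.node (Tr.leaf (nat_lit 0x985134373363712111)) (Tr.leaf (nat_lit 0x0))))) (Tr.node (Tr.node (Tr.node (Tr.leaf (nat_lit 0x959534773181211)) (Tr.leaf (nat_lit 0x98513437336377677))) (Tr.node (Tr.leaf (nat_lit 0x7636842213186771771)) (Tr.leaf (nat_lit 0x0)))) (Tr.node (Tr.node (Tr.leaf (nat_lit 0x933426737767121)) (Tr.leaf (nat_lit 0x0))) (Tr.node (Tr.leaf (nat_lit 0x433426736712122)) (Tr.leaf (nat_lit 0x0))))))))) (Tr.node (Tr.node (Tr.node (Tr.node (Tr.node (Tr.node (Tr.node (Tr.leaf (nat_lit 0x59863467818712177)) (Tr.leaf (nat_lit 0x9851343733636226267))) (Tr.node (Tr.leaf (nat_lit 0x63456732123221111)) (Tr.leaf (nat_lit 0x0)))) (Tr.node (Tr.node (Tr.leaf (nat_lit 0x174152323767121)) (Tr.leaf (nat_lit 0x43421737122))) (Tr.node (Tr.leaf (nat_lit 0x7515328673767122)) (Tr.leaf (nat_lit 0x0))))) (Tr.node (Tr.node (Tr.node (Tr.leaf (nat_lit 0x43342673767717)) (Tr.leaf (nat_lit 0x759253478781237677))) (Tr.node (Tr.leaf (nat_lit 0x48451521182367622)) (Tr.leaf (nat_lit 0x0)))) (Tr.node (Tr.node (Tr.leaf (nat_lit 0x14342173)) (Tr.leaf (nat_lit 0x845845773623171))) (Tr.node (Tr.leaf (nat_lit 0x7515328673177122)) (Tr.leaf (nat_lit 0x0)))))) (Tr.node (Tr.node (Tr.node (Tr.node (Tr.leaf (nat_lit 0x415713231212)) (Tr.leaf (nat_lit 0x845845773623677122))) (Tr.node (Tr.leaf (nat_lit 0x85622347882137122111)) (Tr.leaf (nat_lit 0x0)))) (Tr.node (Tr.node (Tr.leaf (nat_lit 0x87431533122121)) (Tr.leaf (nat_lit 0x6533432332867717121))) (Tr.node (Tr.leaf (nat_lit 0x262154778862171)) (Tr.leaf (nat_lit 0x0))))) (Tr.node (Tr.node (Tr.node (Tr.leaf (nat_lit 0x45713232212211)) (Tr.leaf (nat_lit 0x334315128687717121))) (Tr.node (Tr.leaf (nat_lit 0x4215878626776)) (Tr.leaf (nat_lit 0x0)))) (Tr.node (Tr.node (Tr.leaf (nat_lit 0x45953477318267767)) (Tr.leaf (nat_lit 0x153343233282671))) (Tr.node (Tr.leaf (nat_lit 0x33453282232622621)) (Tr.leaf (nat_lit 0x0))))))) (Tr.node (Tr.node (Tr.node (Tr.node (Tr.node (Tr.leaf (nat_lit 0x9134217317712)) (Tr.leaf (nat_lit 0x7686342218136762))) (Tr.node (Tr.leaf (nat_lit 0x413421732622121)) (Tr.leaf (nat_lit 0x0)))) (Tr.node (Tr.node (Tr.leaf (nat_lit 0x95953477318221111)) (Tr.leaf (nat_lit 0x421587871771712))) (Tr.node (Tr.leaf (nat_lit 0x9342173262262)) (Tr.leaf (nat_lit 0x0))))) (Tr.node (Tr.node (Tr.node (Tr.leaf (nat_lit 0x2586841782632671)) (Tr.leaf (nat_lit 0x59863467818776217))) (Tr.node (Tr.leaf (nat_lit 0x412158787111)) (Tr.leaf (nat_lit 0x0)))) (Tr.node (Tr.node (Tr.leaf (nat_lit 0x3958457736237)) (Tr.leaf (nat_lit 0x7675477887671212))) (Tr.node (Tr.leaf (nat_lit 0x6598634678187767717121)) (Tr.leaf (nat_lit 0x0)))))) (Tr.node (Tr.node (Tr.node (Tr.node (Tr.leaf (nat_lit 0x7515328673767717121)) (Tr.leaf (nat_lit 0x7636842213186662))) (Tr.node (Tr.leaf (nat_lit 0x874315332677)) (Tr.leaf (nat_lit 0x0)))) (Tr.node (Tr.node (Tr.leaf (nat_lit 0x18452231787121771)) (Tr.leaf (nat_lit 0x26215477886771712))) (Tr.node (Tr.leaf (nat_lit 0x75925347878123226217)) (Tr.leaf (nat_lit 0x0))))) (Tr.node (Tr.node (Tr.node (Tr.leaf (nat_lit 0x18452231786221221)) (Tr.leaf (nat_lit 0x8893151286867767121))) (Tr.node (Tr.leaf (nat_lit 0x33431512868671221)) (Tr.leaf (nat_lit 0x0)))) (Tr.node (Tr.node (Tr.leaf (nat_lit 0x7636842213186776771)) (Tr.leaf (nat_lit 0x0))) (Tr.node (Tr.leaf (nat_lit 0x8452231786771)) (Tr.leaf (nat_lit 0x0)))))))) (Tr.node (Tr.node (Tr.node (Tr.node (Tr.node (Tr.node (Tr.leaf (nat_lit 0x9342173262177)) (Tr.leaf (nat_lit 0x313548771736226267))) (Tr.node (Tr.leaf (nat_lit 0x4121587877622)) (Tr.leaf (nat_lit 0x0)))) (Tr.node (Tr.node (Tr.leaf (nat_lit 0x34567321236217712)) (Tr.leaf (nat_lit 0x11533432332822177))) (Tr.node (Tr.leaf (nat_lit 0x2885684287767121)) (Tr.leaf (nat_lit 0x0))))) (Tr.node (Tr.node (Tr.node (Tr.leaf (nat_lit 0x18452231787762671)) (Tr.leaf (nat_lit 0x3958457736236717712))) (Tr.node (Tr.leaf (nat_lit 0x4634217367717121)) (Tr.leaf (nat_lit 0x0)))) (Tr.node (Tr.node (Tr.leaf (nat_lit 0x7636842213181712)) (Tr.leaf (nat_lit 0x7415232366622))) (Tr.node (Tr.leaf (nat_lit 0x751532867317)) (Tr.leaf (nat_lit 0x0)))))) (Tr.node (Tr.node (Tr.node (Tr.node (Tr.leaf (nat_lit 0x4845152118236)) (Tr.leaf (nat_lit 0x7186342218132267122))) (Tr.node (Tr.leaf (nat_lit 0x1845223178262267)) (Tr.leaf (nat_lit 0x0)))) (Tr.node (Tr.node (Tr.leaf (nat_lit 0x153343233281)) (Tr.leaf (nat_lit 0x48513437336362212171))) (Tr.node (Tr.leaf (nat_lit 0x9134217362671)) (Tr.leaf (nat_lit 0x0))))) (Tr.node (Tr.node (Tr.node (Tr.leaf (nat_lit 0x4845152118231111)) (Tr.leaf (nat_lit 0x88931512868))) (Tr.node (Tr.leaf (nat_lit 0x933426737122111)) (Tr.leaf (nat_lit 0x0)))) (Tr.node (Tr.node (Tr.leaf (nat_lit 0x933426736712122)) (Tr.leaf (nat_lit 0x415713237767712))) (Tr.node (Tr.leaf (nat_lit 0x76368422131876212)) (Tr.leaf (nat_lit 0x0))))))) (Tr.node (Tr.node (Tr.node (Tr.node (Tr.node (Tr.leaf (nat_lit 0x43342673226776)) (Tr.leaf (nat_lit 0x453415423187376662))) (Tr.node (Tr.leaf (nat_lit 0x63456732123677677)) (Tr.leaf (nat_lit 0x0)))) (Tr.node (Tr.node (Tr.leaf (nat_lit 0x41571323221221)) (Tr.leaf (nat_lit 0x533432332877121))) (Tr.node (Tr.leaf (nat_lit 0x413421737122)) (Tr.leaf (nat_lit 0x0))))) (Tr.node (Tr.node (Tr.node (Tr.leaf (nat_lit 0x395845773623226762)) (Tr.leaf (nat_lit 0x5334323328677121))) (Tr.node (Tr.leaf (nat_lit 0x885213482867137712)) (Tr.leaf (nat_lit 0x0)))) (Tr.node (Tr.node (Tr.leaf (nat_lit 0x7186342218136622)) (Tr.leaf (nat_lit 0x7415232376771771))) (Tr.node (Tr.leaf (nat_lit 0x9851343733636221)) (Tr.leaf (nat_lit 0x0)))))) (Tr.node (Tr.node (Tr.node (Tr.node (Tr.leaf (nat_lit 0x1741523237767766)) (Tr.leaf (nat_lit 0x7592534787812377671))) (Tr.node (Tr.leaf (nat_lit 0x98513437336322622621)) (Tr.leaf (nat_lit 0x0)))) (Tr.node (Tr.node (Tr.leaf (nat_lit 0x763684221318221)) (Tr.leaf (nat_lit 0x959534773182212171))) (Tr.node (Tr.leaf (nat_lit 0x84584577362362212)) (Tr.leaf (nat_lit 0x0))))) (Tr.node (Tr.node (Tr.node (Tr.leaf (nat_lit 0x8743153326776)) (Tr.leaf (nat_lit 0x153343233286776712))) (Tr.node (Tr.leaf (nat_lit 0x2621547788177121)) (Tr.leaf (nat_lit 0x0)))) (Tr.node (Tr.node (Tr.leaf (nat_lit 0x6598634678182171211)) (Tr.leaf (nat_lit 0x0))) (Tr.node (Tr.leaf (nat_lit 0x14342173177121)) (Tr.leaf (nat_lit 0x0)))))))))) (Tr.node (Tr.node (Tr.node (Tr.node (Tr.node (Tr.node (Tr.node (Tr.node (Tr.leaf (nat_lit 0x221771)) (Tr.leaf (nat_lit 0x84522317821211))) (Tr.node (Tr.leaf (nat_lit 0x751532867317111)) (Tr.leaf (nat_lit 0x0)))) (Tr.node (Tr.node (Tr.leaf (nat_lit 0x7686342218132122)) (Tr.leaf (nat_lit 0x533134128212862171))) (Tr.node (Tr.leaf (nat_lit 0x13456732123221111)) (Tr.leaf (nat_lit 0x0))))) (Tr.node (Tr.node (Tr.node (Tr.leaf (nat_lit 0x7415232367767)) (Tr.leaf (nat_lit 0x598634678187626771))) (Tr.node (Tr.leaf (nat_lit 0x481734213178767762)) (Tr.leaf (nat_lit 0x0)))) (Tr.node (Tr.node (Tr.leaf (nat_lit 0x87431533767762)) (Tr.leaf (nat_lit 0x88931512868771211))) (Tr.node (Tr.leaf (nat_lit 0x741523232267)) (Tr.leaf (nat_lit 0x0)))))) (Tr.node (Tr.node (Tr.node (Tr.node (Tr.leaf (nat_lit 0x751532867371771712)) (Tr.leaf (nat_lit 0x453415423187322171))) (Tr.node (Tr.leaf (nat_lit 0x9595347731866226)) (Tr.leaf (nat_lit 0x0)))) (Tr.node (Tr.node (Tr.leaf (nat_lit 0x463421736776712)) (Tr.leaf (nat_lit 0x77893468232322171))) (Tr.node (Tr.leaf (nat_lit 0x8458457736232262)) (Tr.leaf (nat_lit 0x0))))) (Tr.node (Tr.node (Tr.node (Tr.leaf (nat_lit 0x8852134828671362676)) (Tr.leaf (nat_lit 0x48513437336377677))) (Tr.node (Tr.leaf (nat_lit 0x31563433131321221)) (Tr.leaf (nat_lit 0x0)))) (Tr.node (Tr.node (Tr.leaf (nat_lit 0x4215878776221)) (Tr.leaf (nat_lit 0x7415232367177))) (Tr.node (Tr.leaf (nat_lit 0x98451521182321221211)) (Tr.leaf (nat_lit 0x0))))))) (Tr.node (Tr.node (Tr.node (Tr.node (Tr.node (Tr.leaf (nat_lit 0x41342173622177)) (Tr.leaf (nat_lit 0x415713237762171))) (Tr.node (Tr.leaf (nat_lit 0x5334323328217111)) (Tr.leaf (nat_lit 0x0)))) (Tr.node (Tr.node (Tr.leaf (nat_lit 0x4571323771217)) (Tr.leaf (nat_lit 0x481453481232876226))) (Tr.node (Tr.leaf (nat_lit 0x84584577362376771712)) (Tr.leaf (nat_lit 0x0))))) (Tr.node (Tr.node (Tr.node (Tr.leaf (nat_lit 0x43342673676221)) (Tr.leaf (nat_lit 0x48145348123281217))) (Tr.node (Tr.leaf (nat_lit 0x4571323762212)) (Tr.leaf (nat_lit 0x0)))) (Tr.node (Tr.node (Tr.leaf (nat_lit 0x6598634678186212)) (Tr.leaf (nat_lit 0x778934682323267622))) (Tr.node (Tr.leaf (nat_lit 0x288568428762122)) (Tr.leaf (nat_lit 0x0)))))) (Tr.node (Tr.node (Tr.node (Tr.node (Tr.leaf (nat_lit 0x684522317822622)) (Tr.leaf (nat_lit 0x48451521182362676))) (Tr.node (Tr.leaf (nat_lit 0x7789346823236226267)) (Tr.leaf (nat_lit 0x0)))) (Tr.node (Tr.node (Tr.leaf (nat_lit 0x4817342131787677121)) (Tr.leaf (nat_lit 0x767717))) (Tr.node (Tr.leaf (nat_lit 0x4342173262212)) (Tr.leaf (nat_lit 0x0))))) (Tr.node (Tr.node (Tr.node (Tr.leaf (nat_lit 0x934217367767121)) (Tr.leaf (nat_lit 0x43421736))) (Tr.node (Tr.leaf (nat_lit 0x71863422181362)) (Tr.leaf (nat_lit 0x0)))) (Tr.node (Tr.node (Tr.leaf (nat_lit 0x8893151286876221)) (Tr.leaf (nat_lit 0x226771))) (Tr.node (Tr.leaf (nat_lit 0x484515211823771211)) (Tr.leaf (nat_lit 0x0)))))))) (Tr.node (Tr.node (Tr.node (Tr.node (Tr.node (Tr.node (Tr.leaf (nat_lit 0x18452231786226226)) (Tr.leaf (nat_lit 0x659863467818771217))) (Tr.node (Tr.leaf (nat_lit 0x85622347882137677171)) (Tr.leaf (nat_lit 0x0)))) (Tr.node (Tr.node (Tr.leaf (nat_lit 0x741523237767766)) (Tr.leaf (nat_lit 0x43421737712))) (Tr.node (Tr.leaf (nat_lit 0x15334323328671221)) (Tr.leaf (nat_lit 0x0))))) (Tr.node (Tr.node (Tr.node (Tr.leaf (nat_lit 0x35671347178766622)) (Tr.leaf (nat_lit 0x3456732123121))) (Tr.node (Tr.leaf (nat_lit 0x33431512868262262)) (Tr.leaf (nat_lit 0x0)))) (Tr.node (Tr.node (Tr.leaf (nat_lit 0x3567134717821221211)) (Tr.leaf (nat_lit 0x76368422131826226))) (Tr.node (Tr.leaf (nat_lit 0x59863467818771)) (Tr.leaf (nat_lit 0x0)))))) (Tr.node (Tr.node (Tr.node (Tr.node (Tr.leaf (nat_lit 0x759253478781232122111)) (Tr.leaf (nat_lit 0x35671347178226771))) (Tr.node (Tr.leaf (nat_lit 0x5986346781871711)) (Tr.leaf (nat_lit 0x0)))) (Tr.node (Tr.node (Tr.leaf (nat_lit 0x6845223178177111)) (Tr.leaf (nat_lit 0x4571323212212212))) (Tr.node (Tr.leaf (nat_lit 0x46342173771712)) (Tr.leaf (nat_lit 0x0))))) (Tr.node (Tr.node (Tr.node (Tr.leaf (nat_lit 0x4534154231873671771)) (Tr.leaf (nat_lit 0x18452231782212211))) (Tr.node (Tr.leaf (nat_lit 0x43421732622626)) (Tr.leaf (nat_lit 0x0)))) (Tr.node (Tr.node (Tr.leaf (nat_lit 0x634567321232677171)) (Tr.leaf (nat_lit 0x763684221318122171))) (Tr.node (Tr.leaf (nat_lit 0x3345328223776662)) (Tr.leaf (nat_lit 0x0))))))) (Tr.node (Tr.node (Tr.node (Tr.node (Tr.node (Tr.leaf (nat_lit 0x41571323267621)) (Tr.leaf (nat_lit 0x356713471781))) (Tr.node (Tr.leaf (nat_lit 0x4534154231873262171)) (Tr.leaf (nat_lit 0x0)))) (Tr.node (Tr.node (Tr.leaf (nat_lit 0x3345328223217)) (Tr.leaf (nat_lit 0x4534154231873712111))) (Tr.node (Tr.leaf (nat_lit 0x39731533621771)) (Tr.leaf (nat_lit 0x0))))) (Tr.node (Tr.node (Tr.node (Tr.leaf (nat_lit 0x88521348286713226776)) (Tr.leaf (nat_lit 0x8852134828671377621))) (Tr.node (Tr.leaf (nat_lit 0x45713237122121)) (Tr.leaf (nat_lit 0x0)))) (Tr.node (Tr.node (Tr.leaf (nat_lit 0x58218413212321711)) (Tr.leaf (nat_lit 0x9134217321711))) (Tr.node (Tr.leaf (nat_lit 0x65334323328766622)) (Tr.leaf (nat_lit 0x0)))))) (Tr.node (Tr.node (Tr.node (Tr.node (Tr.leaf (nat_lit 0x533134128212811)) (Tr.leaf (nat_lit 0x397315337))) (Tr.node (Tr.leaf (nat_lit 0x7789346823237717711)) (Tr.leaf (nat_lit 0x0)))) (Tr.node (Tr.node (Tr.leaf (nat_lit 0x41342173111)) (Tr.leaf (nat_lit 0x41215878717717121))) (Tr.node (Tr.leaf (nat_lit 0x4534154231873262671)) (Tr.leaf (nat_lit 0x0))))) (Tr.node (Tr.node (Tr.node (Tr.leaf (nat_lit 0x415713237677122)) (Tr.leaf (nat_lit 0x457115487787862177))) (Tr.node (Tr.leaf (nat_lit 0x6598634678186717)) (Tr.leaf (nat_lit 0x0)))) (Tr.node (Tr.node (Tr.leaf (nat_lit 0x68452231787767122)) (Tr.leaf (nat_lit 0x0))) (Tr.node (Tr.leaf (nat_lit 0x53343233287767121)) (Tr.leaf (nat_lit 0x0))))))))) (Tr.node (Tr.node (Tr.node (Tr.node (Tr.node (Tr.node (Tr.node (Tr.leaf (nat_lit 0x0)) (Tr.leaf (nat_lit 0x9334267362676))) (Tr.node (Tr.leaf (nat_lit 0x13456732123226)) (Tr.leaf (nat_lit 0x0)))) (Tr.node (Tr.node (Tr.leaf (nat_lit 0x48173421317812212)) (Tr.leaf (nat_lit 0x8458457736237177121))) (Tr.node (Tr.leaf (nat_lit 0x11533432332866)) (Tr.leaf (nat_lit 0x0))))) (Tr.node (Tr.node (Tr.node (Tr.leaf (nat_lit 0x8743153376771712)) (Tr.leaf (nat_lit 0x288568428677621))) (Tr.node (Tr.leaf (nat_lit 0x3456732123717711)) (Tr.leaf (nat_lit 0x0)))) (Tr.node (Tr.node (Tr.leaf (nat_lit 0x8562234788213262177)) (Tr.leaf (nat_lit 0x63456732123221217))) (Tr.node (Tr.leaf (nat_lit 0x8893151286867762)) (Tr.leaf (nat_lit 0x0)))))) (Tr.node (Tr.node (Tr.node (Tr.node (Tr.leaf (nat_lit 0x741523236226217)) (Tr.leaf (nat_lit 0x9134217377121))) (Tr.node (Tr.leaf (nat_lit 0x25868417826371221)) (Tr.leaf (nat_lit 0x0)))) (Tr.node (Tr.node (Tr.leaf (nat_lit 0x68452231782621)) (Tr.leaf (nat_lit 0x397315332267121))) (Tr.node (Tr.leaf (nat_lit 0x48145348123287712)) (Tr.leaf (nat_lit 0x0))))) (Tr.node (Tr.node (Tr.node (Tr.leaf (nat_lit 0x874315332177111)) (Tr.leaf (nat_lit 0x3456732123267767))) (Tr.node (Tr.leaf (nat_lit 0x885213482867131771712)) (Tr.leaf (nat_lit 0x0)))) (Tr.node (Tr.node (Tr.leaf (nat_lit 0x6345673212377171)) (Tr.leaf (nat_lit 0x14342173262212))) (Tr.node (Tr.leaf (nat_lit 0x1533432332876226)) (Tr.leaf (nat_lit 0x0))))))) (Tr.node (Tr.node (Tr.node (Tr.node (Tr.node (Tr.leaf (nat_lit 0x46342173262177)) (Tr.leaf (nat_lit 0x1533432332871771711))) (Tr.node (Tr.leaf (nat_lit 0x598634678187621771)) (Tr.leaf (nat_lit 0x0)))) (Tr.node (Tr.node (Tr.leaf (nat_lit 0x7767121)) (Tr.leaf (nat_lit 0x1345673212322))) (Tr.node (Tr.leaf (nat_lit 0x5435847732686221771)) (Tr.leaf (nat_lit 0x0))))) (Tr.node (Tr.node (Tr.node (Tr.leaf (nat_lit 0x87431533712171)) (Tr.leaf (nat_lit 0x1434217362171))) (Tr.node (Tr.leaf (nat_lit 0x13456732123622622621)) (Tr.leaf (nat_lit 0x0)))) (Tr.node (Tr.node (Tr.leaf (nat_lit 0x39731533267766)) (Tr.leaf (nat_lit 0x7675477886771712))) (Tr.node (Tr.leaf (nat_lit 0x3973153326776)) (Tr.leaf (nat_lit 0x0)))))) (Tr.node (Tr.node (Tr.node (Tr.node (Tr.leaf (nat_lit 0x18452231782267717)) (Tr.leaf (nat_lit 0x741523237717711))) (Tr.node (Tr.leaf (nat_lit 0x763684221318121)) (Tr.leaf (nat_lit 0x0)))) (Tr.node (Tr.node (Tr.leaf (nat_lit 0x134567321236776771)) (Tr.leaf (nat_lit 0x8893151286812171))) (Tr.node (Tr.leaf (nat_lit 0x5435847732681111)) (Tr.leaf (nat_lit 0x0))))) (Tr.node (Tr.node (Tr.node (Tr.leaf (nat_lit 0x485134373363122111)) (Tr.leaf (nat_lit 0x9845152118231771211))) (Tr.node (Tr.leaf (nat_lit 0x4814534812328671221)) (Tr.leaf (nat_lit 0x0)))) (Tr.node (Tr.node (Tr.leaf (nat_lit 0x2885684286771712)) (Tr.leaf (nat_lit 0x0))) (Tr.node (Tr.leaf (nat_lit 0x313548771732676221)) (Tr.leaf (nat_lit 0x0)))))))) (Tr.node (Tr.node (Tr.node (Tr.node (Tr.node (Tr.node (Tr.leaf (nat_lit 0x4121587821221221)) (Tr.leaf (nat_lit 0x4634217371771711))) (Tr.node (Tr.leaf (nat_lit 0x4817342131787)) (Tr.leaf (nat_lit 0x0)))) (Tr.node (Tr.node (Tr.leaf (nat_lit 0x4595347731822)) (Tr.leaf (nat_lit 0x7675477886267))) (Tr.node (Tr.leaf (nat_lit 0x845223178262262212)) (Tr.leaf (nat_lit 0x0))))) (Tr.node (Tr.node (Tr.node (Tr.leaf (nat_lit 0x345673212312212212)) (Tr.leaf (nat_lit 0x7636842213182122))) (Tr.node (Tr.leaf (nat_lit 0x457115487787876776712)) (Tr.leaf (nat_lit 0x0)))) (Tr.node (Tr.node (Tr.leaf (nat_lit 0x13456732123121)) (Tr.leaf (nat_lit 0x3345328223771712))) (Tr.node (Tr.leaf (nat_lit 0x71863422181322)) (Tr.leaf (nat_lit 0x0)))))) (Tr.node (Tr.node (Tr.node (Tr.node (Tr.leaf (nat_lit 0x7712)) (Tr.leaf (nat_lit 0x9851343733632171221))) (Tr.node (Tr.leaf (nat_lit 0x76754778822177)) (Tr.leaf (nat_lit 0x0)))) (Tr.node (Tr.node (Tr.leaf (nat_lit 0x856223478821367767121)) (Tr.leaf (nat_lit 0x984515211823762122))) (Tr.node (Tr.leaf (nat_lit 0x413421731771712)) (Tr.leaf (nat_lit 0x0))))) (Tr.node (Tr.node (Tr.node (Tr.leaf (nat_lit 0x41215878267171)) (Tr.leaf (nat_lit 0x768634221813622622621))) (Tr.node (Tr.leaf (nat_lit 0x76754778866)) (Tr.leaf (nat_lit 0x0)))) (Tr.node (Tr.node (Tr.leaf (nat_lit 0x25868417826367767121)) (Tr.leaf (nat_lit 0x8743153377122))) (Tr.node (Tr.leaf (nat_lit 0x4851343733636226267)) (Tr.leaf (nat_lit 0x0))))))) (Tr.node (Tr.node (Tr.node (Tr.node (Tr.node (Tr.leaf (nat_lit 0x457132317711)) (Tr.leaf (nat_lit 0x5986346781821211))) (Tr.node (Tr.leaf (nat_lit 0x45953477318212211)) (Tr.leaf (nat_lit 0x0)))) (Tr.node (Tr.node (Tr.leaf (nat_lit 0x46342173712122)) (Tr.leaf (nat_lit 0x397315337111))) (Tr.node (Tr.leaf (nat_lit 0x4215878767121221)) (Tr.leaf (nat_lit 0x0))))) (Tr.node (Tr.node (Tr.node (Tr.leaf (nat_lit 0x533134128212877626)) (Tr.leaf (nat_lit 0x959534773186267712))) (Tr.node (Tr.leaf (nat_lit 0x85622347882132217711)) (Tr.leaf (nat_lit 0x0)))) (Tr.node (Tr.node (Tr.leaf (nat_lit 0x4534154231873221711)) (Tr.leaf (nat_lit 0x46342173771211))) (Tr.node (Tr.leaf (nat_lit 0x59863467818212)) (Tr.leaf (nat_lit 0x0)))))) (Tr.node (Tr.node (Tr.node (Tr.node (Tr.leaf (nat_lit 0x33453282236776712)) (Tr.leaf (nat_lit 0x334315128682622121))) (Tr.node (Tr.leaf (nat_lit 0x334532822371221)) (Tr.leaf (nat_lit 0x0)))) (Tr.node (Tr.node (Tr.leaf (nat_lit 0x11533432332877626)) (Tr.leaf (nat_lit 0x3156343313132212171))) (Tr.node (Tr.leaf (nat_lit 0x63456732123267767)) (Tr.leaf (nat_lit 0x0))))) (Tr.node (Tr.node (Tr.node (Tr.leaf (nat_lit 0x763684221318177177)) (Tr.leaf (nat_lit 0x315634331313226267))) (Tr.node (Tr.leaf (nat_lit 0x8743153312177)) (Tr.leaf (nat_lit 0x0)))) (Tr.node (Tr.node (Tr.leaf (nat_lit 0x91342173226776)) (Tr.leaf (nat_lit 0x0))) (Tr.node (Tr.leaf (nat_lit 0x153343233282122121)) (Tr.leaf (nat_lit 0x0)))))))))))))))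

/-- The word of an element. -/
noncomputable def ws (i : Nat) : List Nat := dw (wT.get i)

/-- The generators. -/
abbrev gs : List (List Nat) := gensT.getD 2 []

/-- The cells. -/
noncomputable def cT : Tr Nat :=
  (Tr.node (Tr.node (Tr.node (Tr.node (Tr.node (Tr.node (Tr.leaf (nat_lit 0x7101f81c205706f015c1ba07f06e036c0ac0da02b03641280d806b83580aa0d506a01e41a605506901541a207a06801d819e05402a033819a0a1066015019607805803280a60c906401cc18e053040014c18c07406283100a40c302903081820c005f82f80a20bd02882f01760ba05c82e00a00b702802d816a0b405981a816404f02782c41600af057013c14a06c05682b009c0ab02702a81520a8000029c09a0a6052819414804d0518134144066050828009809f026027813a09c04d8268096099025826012e09604a8250094093049017812204a048012811e05f047016c11a049024823011608a044812411005d04382180900850240210106082040815810004702381fc00007e03e811c0f805803d81e808c07902301e00ee07603a81d008a07303901440e204503801140de05203701380da04402201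b00d606a03481100d00500338198086065032012c0c6043031010c0c204c030017c08405e02101740b805b02d01180b204102081600ae05602a81040a80480298148080051020014009e04e026813007e04b025010009203f01f812008e04602280fc0880420218108082040bc800cef3203db7800fae96033b915ba2e69787b73d79af23796af0575af25794b8fd73eddf6ffb74d706e4b76bad75a16dc776ca8edc42d5377eb27d426ca5780aebd41ebb177fa2b80f6d2e03ebbd4f52dfd640a89dd8a6b14159925462bbd6ceab45972dc32dab9b5c9ee852d2b8dcb0edd95d1b98cacae792abaa95c666ff2a894dd2feb8b6dfb9cddba5334ecac15c36dc1277a8b5d824b7485926dbcad9f234ab6be82d895f5a613ca284f5b576bd7c21257636b05c262552656385b4e43f1beaa2cb92a4eb78b962ddee56f27b022ca1f76fa67f32c96c26ff59d0d4e9606e59a12c846d9aaaf43d265abbf0b640d2a65502e76abb1f990f6eb03dfd5515275003da552548f5483c954814cee3c3c6d46d36d51a3bec5d542550d41a1df1078e174861dd9224e0b3b231092e6f7a3ae53a131d4e73a2d32d4674ca39a36714774b137d51954e9464369b6f94f344144d1b051a0ce5318b7f4c707702f23808bd877394f3310b666a72d844165289f02b53a90c967db279ba987c6ea525fb39c6a2ce621e03f48761fe15e85385780b002b83800ce0df))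 (Tr.leaf (nat_lit 0x591b8f929b2934a6d5b2cb965b4a64baddb165a85ea52d5ae9544a53f1df70f9fb1ad0c92936594a4d4555ace264a456be104f13784d7e528f6584a3480a6ecd254a24499775657b1c255ecac94369fc74128565587941912832d987fb8bd74c9414a0342d373009b2a25023aaa3d749b24a44893f64bc1adc0e93e49f5122a113ad8d6a4f971b06d86024f61f2b5e68741a143093cb29a4f15d9069b29409127715e6bc4196bfe93bb28a4eeca106649d4b66c9f0728c4c151272fdf86ba4e61b6df5852268a16093849c55fd34d64e5bd592d26f05ab26a4de3aeb556a3af36c9893649b3fce8f9621ae0c16657093549ac17d62364ba8a24d6c9505b5ce24d2614dd76cd5385266dd6b24bc5282693392ac14de269324993f7d51d063a2e24c9deb05598ad151262d1e6d0a4c5b5ad32497d1362dd6488fd55a125b3abb23a9292591ad4964472485646b22cf3d256c81af84e952554e3b2233a52530dfae7cfe1250e1a493d90dae75f4668550d24d4134934d86c854df959c11259a9255b124969230458a2d9052490a3ade2dc1247200491b52ac8147cb1fb3692454169e9c25d2434a2490ba3e18d0ff9b9c0f1da4920925a482b1903d48fb7b1b50f956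7940e6c7c91e8d9a47a24703a7f6c0dec7a91d6592476721038606c0d53f091c728a472c790369ea3a75236baeb1dc0c9b1491b74ba46d24b03393dd239232ed49452462c60ad07f640b66a691648b37b52394f3ae82459ad102f9b33a71229566b1d40a9fbc914628245136302b852a94d25c913b1ca44ac70951b1bad11cf2911488483ac6d635631243d302f775ef457921b0676efa61e19a90ab1a4086c669096dc2425d3f0224844659bdaa3b483533557f282750ca0520b01b494a98ac649054825595d453aa481c079cfd281496cd05200ea3b10c4411ff63147fd8c2c5f60176da3f6c5cbe29c04056c5a8fb99ba3edbe70164d4c04e1588faa38a3eac5901492e2d2dfc88f9480b3f51f0fc3700403ec568f6536a3d971f01047a52ca76362a6b0ada51e72dd88e402ec528f38ac23ce29f00c486d8451e524347941c120ed0b478d4191f2ee284423c65bcd54af342291e0d5362938662948ee476bf6142f60f92d23b6408a0fa7ac006c508ec59aa3b1bf7002b13a3ae38eb47))) (Tr.node (Tr.leaf (nat_lit 0x21f3dfdefcc857bea1f5ef843d7bd90f5ef487e7bca1edef043c00c10f1da687c7bba1e403443b7bb10edeea87a45e3388874f747b9bdc8872f7121c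bdc1edef6e7b6a718870f6c21c3daded4f6969cb62086e72e21bbda1ecef667b2bd9086caa121b3d8dec4f617b01a2486ac8b5d5a1b5ebe4356e290d5ebc86e7aea1adc8e4347ae10d1eb686c57b21a5eb44337ac90cde9086a3fda199eb04322193d5d53ef567aa90c9ea88684283d4c862ba03f1b6d88607463dd10bdea467c21712b090c43a7a8a17dea042d21691a910a8d07a790b4fb08617a73d34856a8b215bd31e96f4a55c18d0854c022153d25d72f485ccbd1c852f463f3a8f0850f45214254de884b779e345c84ef435fb976084cb6c2133d09e82c834cf3d0084abbf79fbcf8848f3d505a141e3a423211afade78f3b655908d0ca8522113ce8c5cccf796bce4842f3841ea13179e42178e1085e6e84d79b26fc8404e92103cd5e68a425e63ccc83ef3220fb9d1e62f305aa188483cbe120f33dde5e6cb20ebcb9e5af2c46290751b242779590714a059e4c8a8dc834f2a20d3351074f2979420fde4e41949e10648d08405d2bc98830f2520c3c9109af230093c8882ef2146ca0e9544417420905de4083b62f277c82c4fb20b3241e3eccc78f26a482a6b93abb6ac82874078e90b1e38413209bc6c024ddb78d3140824f1978c20c532241178b9045e2c83278aa0b8e1241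02081f69e28e947899041e24830788a0b0cce40f788103de1e82d37ba0a5e1c40e207271de1a7df7861039e1682b785243081af09206bc21a32ec13343174816f07205acc9bc45b52053c19e0af04781bc08812f017802084b4240877f9021dfc82277ea03480eee477e101ddf672877d2071df24062033be1deeef665d90193bc81e7262064ad0405202bbd4032ef43581014c5281b779bbc8808ef138119a9de04032019659ddeaf87583bb8804eed3792049dd8401200bb14810eeb775100593881474a1e3c80077e774bba07feee77732038b103ff4508ffddca80f1ff3b91dc6820771202d2163fd7708ff5dc080c6e32021dbe3fc1fe3b79dbaedc35d0ff1db680a6d33b547f680137e2015db43fa20a0fe9db280676c3b5c7f2ed6575a008db83f94408fe53568031fc201d298ed53519ff9da83f6)) (Tr.leaf (nat_lit 0x0)))) (Tr.node (Tr.node (Tr.leaf (nat_lit 0x47711f91da21c47608711d647f47511904368c547491ed1d021b473886c48a47c38791e11cc21a10d23951c88e315708691c447a374235443246e47091d450c21947008651be47618311cd1bc21846e88611b847446da36842e8d946c11c05c021736b085d11047146b91b44b421610b11d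d1ac8d546a08591a646f442234842a53814891a51a221410a2340438860467885119c46b41fa3344268cc18fa32c4248ca46488491903da463918d18c211108a31518847d4618845184465460918518021045f884117c462107a2f51788bb10714ed10854545d111841a89145c8e0d17020d45b916916c20c10622d51688b345908305b245c458a27c416450120915d16020b457882d15c458456915058020a10522b11568aa4548829150456453a2984128a54520ff9146209451113d142208104116514089f153082113c45144e9131138207103a26c42089a44c881d13044e10f8f1040c67312aa25c40a89644a9120dfa20517808151284494498ed5124204102224512045e324223c40488e101223511888b4452224402888100a21cb22886442929c4008844418fe059820044110f91021ff44007fd0fe43f0ff21f84fa87d15a21f000487b00121e865887943c21883fa4ac43b90e10ec1fd43a87f50e843943990d90e41fc43887f10e0437437a1b83f486d0fd21b06ae86b1aa21a83f28690fca1a10ce86643290c05ca1f843207e049243110319f03ee8630fb9e9d0c43c60fb21850c085f3f0104c3ea83542f10a90ba1f542e07d50b642b42d10a05321f442c87d10b042942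ba1103e641d42b10950aa1f342a07cc4c44264299088f8e1f20f921490a285017f07c909e42442721343e284c425907d0941f142487c50904204238dcd08c1f00f8109d08a84410a96783de8430f7951c41c59c42110610821ee0f721003f083f41f07b907a41a41e20ec3da83a41c90550701ed41b87b447641641b104900a1ec0f620d506842c41987b064c4141faa0c83d68310f5a0c105e82e20120b43d482c0f520ad054829414102d04e1e90f493cc74e25941307a504a40d19910250481e841187a066a40a409a0883ce8214101ca03cc81f0f3207903a81c0f2a06d03481940c09f83c853c0f2205d02c66a40a900081e1e30f1a051026812408878cfc8402)) (Tr.leaf (nat_lit 0xa2ad1fa98cd4db9eb535d8d47fa8d449e952d4b82e41065ced4a7d651e9e2ed49778b5268b947b6b33772ea2d4875bbcda5d0d469325aa1a891336a25dcedbd5c3ba44219a8757b6a1bae1fd5389a7538828c0d42bb942faee2d41990d1c2026d40a5c3501ad9471b3838d9a7d1d196046f2daad3e69e598da855c9938b4ee94134991e51aacd2d3a707b4eacb746bb25b4e69c2e1ea654671a6f19f6b5519ae42d35b32b4d66214676b2d1929b800cb358032ee146576ab4c1d9f34f9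29b4be8872f4a9f34bad4d21aa39b4aea42e5295bd651a54eeca40ba16dd2d2a77f51723ead29a3d34a60a745d8f23fada4cfeeafe3c3da495ac9473f81a45377a83515e9e6d22bb7b488067458ab8d15665cd1fac2347e8ff456b3bb47ae81052a58c5c2822d1db04b47235b1f468dcba63d343f68d55c2e86ea868cd7a2edd72ab5f42edd34d189ec5921a2d050a083beedced15bacb44eb4f333b84b915d1cd117a83e06e2ad106884eb6cbb06c87d511aedad09aaa3426495447b3a510e80cd07683d34eed8dc4a31341dd87445682baf6c82dc2b63002e96adbe6894825a0964d8f3d145a052e9adb50ce812d0292749d6b5ad0167fcdc5a4f74b9f850ea436cf9913b3e67e343badab3e2ed509f85345299ef21d67bb41ae490ef67adaca57d14267a5376dc921b95d45599e6f10679b409d0b43ebb5d9659e507a678dac255d13cbb533c2ed2cf6677d276474d79bb4bc16422ceeb194ba99db4c1676c4dec88ee0a9d4512ed0ceb67548f63baecc674baf23c14d9b2cb3a2b70e730124ce19ced7f673b40eecf0e267358540371c4bb35d959cb60c672d212ec8d59708d0619c7356b97b38ec9cf6a935c9d19c33998dbd076d68ce06705d36cbf379b72338256f41faaf5d0d9bf3559c9b37dadefd16bf49cd9bafe6b45361eec6cdd66e4d5aa37422a9539aade4cdb9a3c102518cda66c80c6db776266bbabec9b57582b411d9ab5438ffb355e2b3f1a29c4fa10ecd3b873b36898cd0b4ab33ae3312c893bb95b72ccdbb0c6e19ccccb66558b999d6dca995025d20cc86644f1aa613bda1f3322a4d40bb7b5a2598f334ac1bb6d98d58ba22b31a2fcf59b18330ed06f7d6605c9a6554bba77c7e1ca2cbd96ec8b197132165b3de63ad5e1950c58eaa6cb5)))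 (Tr.node (Tr.leaf (nat_lit 0x9e6c6c4cfea4c9e61a4679667e33f4f2a13f3c99694564cfb3c833ea346418fd99e0b328cf93c79e34f14cf73c4932c7c0cf53c333ccf0a7832e39e04efccf13be33c439e77b39171eb1cdcca6773de19de778c748dd4eecced3ba9149f44ceae9333acc040433b99dc4edcce93b6339ced6744eef8de4ed0ce53b33394eca37b3b188431aa7606716b199c675ec6b859b19d80467033830a275cb689d699c119ac698dab19675866f9d599be754c665f9318e75266e54419ba26ac644d7318604a66d9d419b674ec6284eb179bb466c3364e9a74b0f96e919b1072c608df3c1ccd68269d2316e74666b9d119acceec5c6f14e84cd33a06ca99a5be8b2c6fb19a26fc6f05f7b15619e6663334e2ccdb39f9341999cacc57877ce78cc939d9ce31497b2664500199200ac539cdb13cd08663331bc66054833497198e2f2c5146431367346629cc998a730c4e9cb9e562fe661330337a72d39550b997da46b266b7bf04cbce8b9ca228d7c265e7ab3114d0665d32ea312726fcd9c91976722c474b8ce40cb8cb05deb105a5e65b32dbde8cc40109c7996d17ac439b4bed8cb48b1735b0f99a265946f996558ec3f9c730f271a6586761962718c3d32bb4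9a716b4855830e127e65532ace28db0de948399557bcc3a9c4b7a0ca8c3433d9cca710654329ce1e70d16032930de70ade844a194a2749c345330c2708651328bc44cb0f7b9c199461f6c32340c2b8c9f3825f5193e7028e99aa4e00c9d37f3274dfa6fb3109be33e8c9afa9326a29e658fab9bd99326f49757b72da0c94c6888c309a6f264a850192a6f0c27551b0926ee6499bb19266eac259ba4dccc912416d49e717c66473282df0c8cbb19b9307e6e264478a1910ffac207de9f28c869039b830724a264368a990cd10c1d3214dbe2d336e9b69f20c82e889b630626d66418fc1905d3ac1932e4cc4c80d5632032e4cad32f549304de9463f31fcda8c8f36974218fdd12c159544da0c7d2039b39ef5e6a63e501303e6cc63c7bf18f129cc1048d3030d0c63b31daf4e06d32d6d298ed97ec0e9b2b02a6c863a3c218ea6c6c0b9b118e5b067989b0b01e6c063853e18e26bec087332fe4c6f3539af18da314a4e699cd68c6ac008ca4d74c6935c634a171f5a63433faffe6b6633319b0123dd35a)) (Tr.leaf (nat_lit 0x0))))) (Tr.node (Tr.node (Tr.node (Tr.leaf (nat_lit 0x29f94f826a53d09a94f0a7640421e87ec37213409a14e829653929c14dc26653609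994d4a6853329914c426453009914bca5c52d29614ac26252a09894a4a5052729314942603fb0981490a46522097948440652015d04bc37615528f947825c51d0971470a3651a28c89b8a3012d28b84b4a2c26f28a89482584e714709aca2812c28984b0a2426c28889a0a2012b095943ca1c50d28604aca1626a28513e025425d2848994a1012a28384a85e22662830988a0a1290949410a0650221284a4a0226428013fc2504fe19f897c9fa12827e04a09f626024109709f4127093899c9f24f827b849c79a25e1f213d824c4f523789609e8125092903025a4f327904949e225a1bf13c02484ef27713b42464ec2758950894123275048c9d22552740944630122091139c9cc26d27284889c8253271893c9c412127084849c025026f88cc2404b326f09309ba12026e04805fe24d26d89249b411f08f93649b04d7218047c9ac24b26a931423c23e26a091867411e26984789a424723d890c9a211d08e934053e4cf267047499a245266132c2384ca26489008b011c264047079024126388f462811b08d892098c4c5262046c98623f1db93082344c120a88e498011908c92fc24237b25f046497a23b1a812f02304bb24a12e822e4b925c08d459e11725b845c96c23625a88c89681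1608b12cc96424e258845896023410992bc22a4ae08a92b49584ab11092a82284a908a12a094e4a625288ac9481130898ad036414b251844c94422d25088a494011224f844893c22a244127422249c24d8d0822049a088126493049724b125421e494087924c924491248123c21c48e087123491848b245087c45e10d086922491048724304348962212429210218483086120890248023511fc21647e23e91f021447b08511e88f247823b91d821247508491d06ca47323911c421047008411bc8dc46d236084c83810708391ac8d4469234041c4622152338f6820c46608311948c8463226918820a4610fe08388c010520d84148be20f22f117420838308211708b645a22c916020645708191588aa45422991482043fe08111448a044f080913889a44c225840485e10b2251124200448080111c88c3b51398cb01fe17c22288048880ff22183fc88420222091001fc3f8)) (Tr.leaf (nat_lit 0x58b4b6ee2139cb41ac59e4d2805ab5c3d62b5d358abd817c55d45d6c9ea062b149f7ac527d927badfcbd5626f1a5f4dc396253db58880a17ed70d588437ab86f41587b405e7f43d65f4e6561b420586bf9ab1741a9f9ac827deb0bb86378e8d8b0970249b9dd4b085843792a7f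4ea75dac21d572707b63d7972eb0796c49ae7c0b05b85ac1684126c7e849a5666b039d2ac0de3526a58156758aaf00abbc4b6e14b017f5c991a66b0058000898f1709590ac028ef266b843a395ff25eb83c985ae0affb832bfde37262ad8cf015fd7059adbb2259eafd57ec98ee08e8eb0acc755f7703b154592024afa013c96a2c6af9b3d2be600725b57c52b9dd1582b12da7d5ef70257bb8c6e02f8b7fb4a9d5ed700b71c94e0aaaf557ad5b69f919ab4c2bd68c52558bd42115e965e60ec52ede8af3579db11f1b186a7f42e95e4b72af5488a87aaf2727c92c04caf1578acce9ff2a1767abc607924da23554d5e160dafa2bc2dff0fd577adfa7a2b395773ef9af551f9224de15db6fea84d5ad5d36fd96b3aaa48cae8574402aca7611826dbf15cd2ed573308ed77373572d981f5711da4f2b95b90ee35725bee55f388571bb322ed42ab7d48ee8d6ae1b442b8618523ca17dbe55c12a29f2442d5bd698b7c5bdd5bb3d36eedbd95b56f5724d8015b32e156cdbd1a236f356c00999416f28622b61ff6ddd91648c67dcad58662b55bc1232723cafd5a96f1b645b295a719e7235b695a51ddb77482aa9eacf5674c86465402855da5159b6f0566ca6deef2b3565d9c18e30aa912cfe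d5955b05653c828755ae5d7ac3aa3aac96cdc892450ac58372b16cc9225ae15bbd5892ba94e2bc958524e7a64f555832967d2c87e93eac0010ab02381220b0bcd9957cd0555f50e2a7b14a55e46a56136cda1dd0d55774dd55dd185e8cd2e7f8c8615c2abaa5caaeaddd219a4fab21d54ab77cc52bd56ad937ebc852d96ab5569aad6ddb2156495bb156739a5593ef2dd71e3a172abeb3e01bb5b4fe955b606556d682dd56c955658d6c7302685bd691556f0b63ddba55552d1b04346edd0aa85542b3df9522d8c1593554f440b0cc3362e4aa6a4bce315436e7b2155dd540eb254edb9adcb6e4801d7dd52d5e77a5304952b3687443495523076548c5426dec916a4c10951eb70))) (Tr.node (Tr.leaf (nat_lit 0x8f7a9f96425538f7154e328a7f8f6a9ee3d85522a9445180f1eb31b154a3d4a7d7d14798aa2a73005a9e110e5518f495463d0a798e629d63ce5502a826522e90d06859541198a7700629c9a7054f2a7a9e9ed11e68f2953e3c8a748d329c161854e7dc953a3c6a718eb4788a9b1e18f029b630454d5db153601ea6e8efa9aa3bc54c2a625b596ca808ee95323b8a6c8e9476ca971da2a53b0a3b31d800ac75ca931d62a49a7d9d6cb72a44755c791d42a3c74e3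a4d3c8e8aa94a8c5622a324163a101d8e23a08a8b1cf8e74734a891cc2a24376397155785c728a850af2a147263911c78e3168a3585412a0c7163891c32a02ea63845ff8dc4704a7f1c0527a95cf9e53f8d594fe37ea5829f16d237cb318dea37ca7ab4f29ec3c63791bb29e244e37502929dc6e63711b729d17a51a4b89421c6d8a731b529c96054b0ad98d4b014a7063673546d0a6f1b38d931fca6d1b129b43ee3611af8d746b4a6b04e8d6152e35653429a46aa3531a800b469ca671a629998659b6bd48cd4694a651a48d1c688a6314e298b3923431a08cfa128a60f358cf2c10a5e5d5297c67633919b29734e23351998cc14ba30a88a296c1be32e9408423d14a58859006c080a571968caabf8a548a92954652327192294c64632118f6ccbca8a4e8422939ff5b38ed08c34638a4d18d8c6462ca4b18a0074624a49188291c61e30ce9e8c2948e2f852c8c2460ca451822914306303136290c601454cdc7c8bafca4117f29045f8b2917d8be28aa2f651f517147e2f4a2b8bcc5e0a3d17768ebe68a3b17628ebb9a2eb1748b9c5c8a3917128e235a2e0fe128dc5be2a8d788b745b4a3516c28d45ae2d516973928822d05198b394662cca218b2a87533851828c27422c87c38b19460c2aa1f6e7a86e2c45178b0945e2c0a1c4c528622be51628b3f89b0a8d7834945a2bca1a80228598945158ae94562b8a17726a84e2b651428a456a2b31588ab9450ac6a15009c53ca26a0a8ab28422aa5138aa144ca3ea11289400d2608ed4a9944a2a68b670f4548a231518a814456707784c9a8250a4510288284917714f8a7144222ca0b88f3f14a1e8bf4c2a81629a50e28744aca2b14c6dd143a296a078a54524a191488a3a8092d850c3521431820a038a327fca7850b285aa598a455c))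 (Tr.leaf (nat_lit 0x0)))) (Tr.node (Tr.node (Tr.leaf (nat_lit 0x63f99f580232f197b1f98fa69163e0cbd8f667f63d218c65c42f63c97d186c32e63c19e17fa32d1968ef98ee79a63b0cb58ea67a62db1d0656c7363919d57ae32b6388cad8e067663799c92dc32a195112d8dc3c46368ca98d867432d31ac652c6a194b1a58d0c67333b198650c6519431912e4c6362b318864ec6119331818bec5e62eb17064ac5b192900d35e81762d2cb0648c591921bc104cc584169994cde323191b15d8acc552ea0c8cbd466762a314c644c5219131458a0c4f6213138642c4d3e5b13064079519024418965084622c9863ec4a624b12063c8a318f311d88cc45622196982e31d18eb10d884c416200c74ce265c18e30fcf92c3e618b0f4636c3c324995987631b60b0c6d3c865718d30e9872c3861bb0d863273218c8d2986a6b618c270d868c3318bb0c9862c302f50c5d842321617a3a462cc2e61699358583156158c5585464e18a25d4c8ac290028c4d6f0603614309c624c261893094caec2461194a088a31160a308862079c6109914be23103260c40ec86461eab08061ec1f60f307461cc1c1870d818366e160d306461ac1860b8c9d82c30c1863055828c13609304461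67bd1859338f8497f3143040614c0f185303981ac0c319302c612c0a1849e60d62c09004b020610c07603275c60e4f7183a9394f6c056021bc460c6f8601b00860a85c182b005800bff5ff18c0c743041822ff4012bfc5fd8c117b4632181afe97f26c6427afe0604bf75fb2fd4602bf45f9afc8600bf11801e853d6bf017fafbd7dcbed40c98a0b0c2fe5f60bf8c786295f5afa85fa8ef17e9c7d7d2be85ee2f9c5f8be630b188d7ca2fc2b78bf0aca6245f21fe45f6be35f12f845f48475f02f7c5f2bde17c2f757b8bdb5ed0be13183025ecaf605eebd717ba34d7ac4c33a918697aa2f64d18bd894661b17aaf50c24a465bb963d55e2f45e9af485e6bd1179af40c48bcf50e985179c2f25e68bc97986154c618497962f130c8bc57946135e4af205e0bc75e30dbc5de702177af153fc7935e22f0c5dcbc21771e297827d22c30c20ade2ed176af00a0e9f45dfaef85d8bbd1762ef1776bba2f7aee45d6bb8175aedd76cbb52fd2ed05d4bb31752ec9762bb04f7980975e2e9174992cb563135d70ba575a6042520e297582e85ceaeac5cebaa)) (Tr.leaf (nat_lit 0xaf0d84e1a170baea432a20561ebb859f2b0f0c79d9431eadf67db7f4516d0d0c697bc3164b550eaa4d9e21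7f72385ddc8e2d9679a9a59da8a90b89ebc2e2a6b67785ad31ac2911299cd53a88b0b3b2c42ca5e94c79c6d9c6d730adbb6c2b6707672a9042aa8df229b76440acaf0a6b9ad9b62ad0a58a9c29696366e8515aeee0f165b6547ea8c909cb49d40eba509ba35d99e7ef09884c58b6f316ea9f9426259d669b5bcb9aeb909684b588a8cd656912448a1211e9846d726f2946da714b9e11971797ad51a11771c845c476e0d240a0f4fc2e17088bcd494af15084a24420e5b35c683f4b6a51a02fa3541faa0f56c849c1f697f2eb9c841ea851432ae441dece75f9b37c1d6e1f12683a5996103622bb441ce9d51d087e56fa0df512921d64a0d174e01acd3a0cf620aad5b6e0cb3ff832dce2a3f5bb832535406b2f1a10c182bab57fa0a51020bd20982ec3d6aeb693aeac16a8d305f82cdc466994a4b99d7ee0ad360ad3c14269f44db5dda2a09d62695841367cb11cbc157ba099770a16590a0956e5bc2d7d2b0d0488235b9640d644a21428e67704382080caae93d4ac6cc2e08173281d5c7e6112bd81c5c32d1b6cc81ace9eef715cbabd81e0675299dd575e0575199075ada05115b81454c60e9504bab5e3604f624813548ae556b1b53c09a0f520e9d556a60455ad81153fae7d5a680ed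71285b791bcb40667b3110818580680b01880c4c16d6572f80bdb7267b40c80b5baaa5f668809cdd6ebf10a8085e6660d6eeaf3c03a4b94b2806582690f0d78015df2aad551acadd6600175a7fd591e90568a9fa3fe64b0ffbaa858ddff178dbcc53adfe95527fa595a133665b8b4172032ff37f7d94a9b134e9e1ddedfd94bd988d9f9fd10ca7f44b96eef5337f3dd76e056d48b84fd262cfe37f0da92c316a0888d862410fdeb0d3f7a2536197eedda243d4a07fc443ab0afda7ed47124bb425b3ad2cdfb330f00edc2dfb167f7eb5b7ae9b5447eac90eaf300ab93bf562110b47ea4011fe6fd88934d79fa57479554929fa35537e7d092a017659cadb3df9b6aa97b5315f937087e4c35e8a56297e35e4e4175cbba8d4a5f8b63b7e2c842e293fa7e25aced5f6a97e1d23003d75ca535b05f8517a7e04406179695b79c061f7f6307df4b8669d236))) (Tr.node (Tr.leaf (nat_lit 0x6fd451cf80de680d9f426da7bfaa9b2f0f7ccac95cb9edb827bc5559ef2aa4e7c5c439e5aae7bb8139eeeaa2e7a6d939deaa07ba9939ee93eee78aa78064f72a993dca27a972fa36ac3cc0f708483dc50a2a02ce899839c54427b77a49edea9ce728c53984f6d0bfaa69edaa98dd2445a28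aa967b53dac6c26bd54a585b9ad9867b46c41ed187ee6c3d9b36d49b417a94551cf652896d7b99aa8c7b13d8ce88f6f545aa21ec580ce6863a3860f60e0aaa1d508f5f1ae4a939899a67af7599ebea82e633d742fea80e70a9fb97dde87ad8bc1eb5fbae60a7c3972a7c7ac3d654f560b1396c79eb2a78e5e6db396aa767ab3e01ead680e5b55e8070f5553a6be395aa727a83d454e0f5b3c162a9ea2742e5858354dcf4d536a9a9e99d30e1d8b7b946a687a53d2d18160ed2ba019e9606ae53a99b93ea647a47769e9249ae50a98b8fcf475247ecb7d942a7a37d1b9290367a23d14eb12c5530a979e89b2ee4c3d0d4ba46d52da9654acf4152a436224a4607a0656b91245c79f3cfb446a5344a6c59e7e300e46650390531e79e3cf54a0f49527a931e7aa4ae433d83848f3b1043cdd490fa0e4e3ceca4cf3507f3cd34858e8e145328054f335209a61e65e769e8a91d484f2ee3465438ddaa27963cb3bc279d1d96a59e5a31ae39a914744f2b46f95637b99e27943ca38ea323521a8f9e49b96b8f3c8d47a65151d7163e2cf212573c83f9dd2a8dba8c2504f1f0715e43ec8f1d51c3c743b61fceb4a8cb8a9c6278c3c64e16a30f998f91e31e9ae2c57cd260f16d743c5545e5f551697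dcd08f12c8d3c4c1e65f15159b1d450f115138ea2464f0ef7c3c33f32a248c3a88ad40f0aeac3c2d442a1f09e3cc3508f07473561b5923fa7823c0d1a541ad39a873950f007a63c04a0e2b50b98a43544eff0993bfc12618b3f83bf23b9787005a863828ef8e655d2004995677c3bdca36a171aba85384da1e77a3bd38f6a12d21a841de9560e15a83c410ef2e4088b38428447799699de5530e113bc34368d51bfa79c718eef29148138312127779a11ddd768e0d58c80457c07763bb3996a0ce18a82b7e0eeb185a82381ea067758369dd67c4e087ff38127f07743ba528e9ced828659dd24e0e069833604ee6dfe98c9dcd73e0085b82e45e587723b94662021502)) (Tr.leaf (nat_lit 0x0)))))) (Tr.node (Tr.node (Tr.node (Tr.node (Tr.leaf (nat_lit 0x6386c46620dc198031c65e18019705ec65a0c6063080c39632c195831865417d1898ca418a3281938c981883250620c906463221908c8018631f0618c7863a31c18d8c681843190610c6062e31618a85c43080c10608c5062631218883045a41731880c3c18030e0600c3461830b17a0c2817e3091840c1c17c30605f0c146083031810c0417a30005e8bfc5fc2fd17e0bec1782fa05e0be45f02f717b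05945300bb05d8bd45e82f317902ec30c1671788bc01742ef05d0bb85da2ec16a0bac1722ea0a605805d20b914b82e45d01611738b981702e505c0b905c62e21708b8016e2df05b8b785ba2dc16d8b6816c2d905b0b605ae2d605a8b545a82d316902d455a0bf1688b401682cf05a0b3859a2cc16589c816612f165054c5920b316402cc58e154163054458a0b216202c85861521610b041622c00588afc28c2be15d82c057400115c8ae015e2b70578ad82c22b513e08b015c2b415985245640ae15882b856014a14a8abc15a2ae15685185580ad0a782b45561471550aa41582a80560a9c54c2a51520a8c1562a20558a8454029f14f0a7415429c0550a6c53429914c031452e0a90548a5852a2941498a481502910540a4051e28e08c0a3414e28c0538a2c5142890930a2014c2870530a1850a28414184d85040a5140829450013713f84cc4fc0a405209f44f81fb13d82904f413513c84c44f00a313b828c4ec13213a84b84e80a205105544e627213882884e013012c89bc14226e13689b014026b05009a84d2268133899813e26504f89904c6262130898013c25f04f09784ba25c12d849027209d04e89684b225812b82743a412612b095413825404e094c4a425111d094013624f127093413424c04d092c494249124091c13224604c8914488243121090413024004c08fc47c23d11e046032209704b88ec47423911c025c27611a11b88d812c23504b08d04662321188450460095117825445c11504a08b445822b04988a839222911403d81241ef113843c44c09211282484481101118430444091048888444021f10f024443a10e10e081812010110d842443409010c824043010a10b841842c08f0478854428213109023c422108108083c11c20e106840c41808e1058238414104104840041008d046842c40e2061028234408102))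 (Tr.leaf (nat_lit 0x62628b6d86ebfa0345f6d84a2c84128b1d8317e518b7fd457501515d53df1f5e3515580e4a56c1627c5a94536bda9ec5ddcbea295eb28a673917891ea8a196ef9a513d435a1401353b289ebecee6b6057fd44d6bf90445c5552a2674aa89abbb172512b476c37453960b5e1ca6a24828421d447534a8845b17a0a23b3c288e38b16d5b6c5a6d7ca225115af57e117960da88952916b510c7a97216bc97c3d4144156351037c65f74f85c659b143f6bb50f2bea1ed25c92db2d543b40050e5aeabfd1a1b5cb2094373d150db0d671d38750d5ae2d6f53250c419ea150248ad2d4942d2c050b58f2a1d3a750ad8e5ec96b670e45622baa1450a4f21b78c7c659a85201715a7b0d7c5426f93b373c41423434508a97ed6b0dd51255b9421374507367acdb1938a5c545b7ca0d5c928365ef1527b7b245419201805a8296e6a1267129114131a2503bff6290ff1b4a281a52b12b502abce2a5251802c8754094385b9c52224aa048a6a811c37149851b799406e7f5ebdad14035964ffc31a08767b4ff33aed6742b89ed3453fadda4fed0da6416b2a8f53d53f8defb58da193f70d54fdad86d1d2d6a58334d3f541179244ee2869f94fcd0c6a3d6b0b57a7e664713d6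19a7de1e6bafb5739753ed53d4fa5ab664f1deb563b813e742c4f9a8bed570c1631aa1ad549f24f8bb0d77f492b54d1dd3df6a8589be493dadd44f6bc7d7f15b24f62fda1b8be9891da9d3d56a64f55a96d496a38952c053d32674f4d03d6e8cce4f44531636a0601144a625a9e5b0c2795ed712a5bacd2d3c75f84f1352e81d47d4f0d95ec1d0758a4c48db769e04f05a896eb6a181ca78225f1259df47a53bf6644eeadbdac2b647b5a776d3e9e34edcc1a234b9d6c2acad4109dab5049013b36604ecd91a01904db4fc469fc29d888fa7616ed11b4ebc73ad0f1c2b4f445d84e9d6a8da759afd118504bbe9c229d54ead35ed3b4edb4e47ad3a8a7c6a32e21a949d45cad9d53a34c64e8da6ec33497a87d8c539f0194e7da6aa236999ac3f6939d6164e7522163ed5c4e6ccfd7fcbdca895a613992394e658b296d3755ae3a5d397561b0835398d69cb4e552415bed6b87f4eb9392f554e327c1fc6006593b90138ae124e2da5ebfb696b3f429938566f79ada553836028eac3fabe69c0))) (Tr.node (Tr.leaf (nat_lit 0x85f98f53ae4ce85f25f0f4e4cd266c2f5bbc98e85e133617697e5a025ea1744cc85c933217097b265c2de16d0b585a25a49930a445425da1664c94e4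93257909776f1b0a499064c4fb15ca1644c800842c498f0b033725c615e4c74f2131d88897285725ba15a4c626342b09990ab33a131a15497026baa0098aa6b501c2a49890a8853a5aa14c4c428f131214a96b261c292146978341a290984faa261428a1430a084fbff09828e884f259213a4c0495130213896584dc23897c9ae725a5861344be84c92fa13096284ba57e12c4bd2bc12f5f4696084aa47c978d5025e42521270928489a58976ca225dc240ae8abd262a384974fef25d423e11d08d25cc23159908b845250c9710747f225561124b82ea92e21109566d241f096e94b84392dd41c8588432541cc64b625b40a210a91229412da108952841c20896b081607a5361004b583f92d60fc94e400a52a0fa4b425a2551f1107c44b92d20f694c83d25220f24b248712ca0f094983b9600962ad659ba5160ec4b15dd92c53e294656f250a0ea4b025841d1f9895783992c0a9494483941c495ee2f257a8f60e106f61d41b895cc9225741b60d906b5752d7895b06a25641a507f068833c198957065255b4920c86ec831b7d495506225541860c09a282fad5495305e254c1760b8bcd254416e0b5059253b75d13705882bc15894cf1425341560a905382934c894b051507a4bcefa4a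55f812960a0930814a2dd89e4a4827a4b20344a3827128e09a92d82624a9ff44a282592892c892b82522be03a4a1824a499fec4a02501702090b49823928208c928819411493f044821a48dfb849f821127e08292482024857b649e81f927a07c922485c0f493b03c24eb54207695e48bc0e893903924e40e17bf03781740d893703581a40cc93503224d17ed81cba1818bdf0932e2424cab4175d0305da245523c49824c40be05d02d448926114a91781640ac92f02a24bc0a4d48a53008a54492d0285b5c09c92ab4424a942204c6602593ddc9290252499d4d290dd1812242e0144922493c24022828406124924090d248c08d6d4987706c08892102147d241e0404908049241870908247aa4203e9e780f407491ca62247158e038aa7246b07a0367ca2461fd5c1aec6452923202249680d13789169a4)) (Tr.leaf (nat_lit 0x0)))) (Tr.node (Tr.node (Tr.leaf (nat_lit 0x56aab50542ad3150ab495a289356815ed5382a0150260159eace5408a80b2c57d14fab349aaacc55d2b2c53caca2b395dd2be29e54d8a795925785642b1c53a8f414eab1958aac44adab0c538ac214e2b05580abf3d4932053697414daaf957aabc14d2aed574ab93060a68c462a414caae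156eab655a8a60ea239855a2acc52cab214b2ac4ac8ab055795a400a29534e0a545e456a40daab8528aad14a2ab0af0aab54caaa8526aa93119590d602932b58a4d550565509aa9c524904149298d54caa55522a8c522aa2550aa80520a9f14822b953ca9d54e0aa953628f147aa69532a9854ba80051ca9654aaa5051aa931469e6d524a915482a3c5187361462a3951aa8c545aa28516a891452a206a0a875432a14512a84144aa0d504a8154029fc510a7e14429f54f8a7b53d29e450ea78143a9dd4eca7514329d14e6a72142a9c47c8a70537a9b8508a6d14229b14d6a6a53494d0506a494a115254d02835338a0d4cc54a3c195194ca28214116714c841b5318a094c4548530917c50253b530150d4be2813ae8a0530054452f15014ba28014029714b65a24e08a014b454252ca9604fea574d794f54ac27f52a89fd4a853e50090114a627e13f15154a445f4fa94e54a227c52809f149e53a52711b04f68d252694d93b027b52609ed49653752514cd33627a13d292549054b52389e948c535522946c4f22d252214c148627952109e531053152094b548027813c222947ea3e4e409e147a52f51e28c44ee52351d94a935427751d09dd47252b4fd149d47027613b0c452a064851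b89d946c52951a96504ea2ad51a0fed3c4275519948932e27413a14b1464a3151809d145e5244da148145c27351689cd45852150828ac4e2a2a51494752d427151409c544e51e513146944a2701380b4944853251189c144451c28128844dea20137a87d43ca1d287a8704dca1b1372869432a18503285c4daa161362855428a1350928444d6a10135a2d941ea0e5069de04d4a0c135282d414a095041434a2e269134a81d40ca051eb09a47e050f502280c4d0a0213428054009ff4f827f84ce9fd4fe27ec4cc9fa13319813f29103059dc44ca9f84fba7d84c85e813227d53e89f34f91409376263131a7c53e09ef4f7098ca3250413127b53d89eb4ed27a84c29e9)) (Tr.leaf (nat_lit 0xb705939d8106075fcba1d88f4ba67ddf5d7b78bae9baea5913f975ad1d5ff90867db5c29d694e0b08ca9af00eb37595b81d711f79c43aca4cf206775cf300315dfb265052b6eeafb203cc67aceaea64d5cadeceadba3bab6697573b4dbaa68ad505b46baa2da5450b3e4d2234aea7bc54dd1d4d154753466804b254bc4d96dd4907e7525bf6edf245964d5a6792ea2b55ba8aa8f56a7504eac05f04f74f3d3e99736d9a9c0b26b8e9c74e4eaa3f301c74d4ea6dcd4db74cc59eed6f507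4c4ea2deef89bbb4426beae977a3cbd9d276ebbc4474aec2e919cc3a36838fcb9cb5c69d192aab9bd56edb0e89b5aba2662955ca6ccfa2ca2e877435496bf9783b4d479e9a4e849bcd55a340e81b143a06bb3557bc3ba02140ff79e8d40288c017a005835cfb24a73dd88c0574eb73cd8a2f0d77c73c5e16c49784916d78dced17b738c2ce365674b50d76dcdf2d0737d2e272577a73743c2d455f2a9239b6a551b0ad25522cf201697c805a661549ab4ca26be2e697345c7235d661bb8b99c0413a28f55849ccd6de8d4504dcc9047b7946baa5ce64731529ebf6fb4730dd42351386937d641cc11f172f56e28c2f5190ec4e62f0e5d72e5a46b2977772dda2e149684a90b96685601c72c566ea6d5c2752cf06ee4e5785954daec4e55a9cb956e19537b3b52a1ca9778729c5bacef087a96d875ca12e5728457e8176b884d5411c9d638a05392ee133acb16d3d9c952dcaa154b6d78e49747b926a6752e8db56ddc916eda92d4a9e7ae48aa5392282f52b722d8ee36d6077a9549dcd2e420103909d4b528a04d6d1c83735720de0ea57559b5e393aa94e3f8ed5611c757828e9dac5c6d636a3038d2a74e3aacb38f2ce0015b28491dc66fbe89e5476282e3291338c806d51e9e538bae4efb2a0c546a22e014a7200528fb51baeed8e9c595d7715db39c5e0307d3d45abd8e28998b8a004f5178ddb899fdb079ae0544e0b2e25944b894063514711d9522175be887dc49c455f37dfc27a2dae21710d2da2217138ae59e9c3b0c5bc0804e9fb175b4b3c61c30f3c70b3cb6d2d0ce8af4c8dc2b4dc70a5e0248a03583647d5c27494b2dddfdc240347053b8a8b1008a4255c5c12ea99bed8e1c11531704426e6a966abbf3801efb198739c5f290adffb06005dbf9554)))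 (Tr.node (Tr.leaf (nat_lit 0x395509ce6333888b9caa834d805635284e53311a501ca5cb08f5394438e1e2d8e923bea0e4f49f393d0be93d49d39328920cd16f392cf9d98949c9ad526ce4949a3924b12932b565feb8a4e4749882435a4e4548f54f35c692e7228c91c8a92cd7293135be92a721a0d9c85892d70a4a35b1930720390524e5a0e9ba381c82924d6ea48c41ce3f4904e135a28ce71d38ed23d6b0d738169c7691cd6aa46ba54e387d3963b43e8f271c8d2358e8ca71b38d9e0a918e1fa459c6d8d4d65a435228e35328890b58201a71a9719c68044d6138c9f923687886a63d7ce3148938c2e9e5dd30e6abc434e2f48838aacd5e668ad798521ce29486a42d08ce27484389b6b5ce948373d3555ab8712389305e7fd33167d9c49a10d5765cc01ce228f1388c01997908a5c53d60e2148271cc264e1ee1b765a578e1c91f6405204e1aeb5386a72e90110838651fd71547e9819c31abcb86385d1f5c6f127889d1f0e15041384d1ee40147a79751e4e10ddc3841cc20bad8d383d1e2226f366841c1e5d2710a3bb50e8ec706a3a9c1a8e8d44a36d1cce0ae203c9d1c8e090be8ecd1c4e074703819ce60e68c2a37d1b8e051bc9789c59f6e701380a9928db1d33804d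25fdd46c69a51acdff46a37fb8790e746953a4664dfca3fa3436b8df8db3863cc34df6e9037dd19e33f4667b3b4cda746fa9331be9808d3437cc145f309317453f38df0fd37e6cd3cdef463621cbd0ded4627b34868deb461692b4b23ca6f56649bd5982d2d5823948de9460a2fd178de6e858ced174de545c378ce8deccc8ea1e336253c6eea2dad20ddac3b376c1d9a5b202a2d1bb257693a6251d20dd4dbba2cd160dd3457374b85164ce3d6689bf99926e84655158dcf4556854148dcd454373514d45117068a47d0dcb452372aaa28a320b9da1b928a08ce4139d6689e6e37d0d138dc50bb370bd0e6a0857a269c78dc08f03705131838efb8f43449a386df36fcccdf4344b65b9b7e880d1491ad128dbce4536e5126890f8170a9c70db6d6636db60e0d272c574c6fcdb4e0f5bfb42a5de6d936cc0254eb0708ba9b65a3cd0c36c511d5d54466aa9b5da8a89d36ad11688944399d43bcda943736a487a885366a201b4d76e6dd3694388ea1426a1fd0f8da3433368d0f55c52755fcb3fce0c6d0)) (Tr.leaf (nat_lit 0x0))))) (Tr.node (Tr.node (Tr.node (Tr.leaf (nat_lit 0x38f8df4e3c1a50d28a284ae1b71638694e3a37f38e0de8e361a40d208e87704bf38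d0690e3237c2f11c6034671738b1c543447140d11c4ce247113881c3c34270e0d09c34e1870b3851c243407080d007c0e0e41e3830dc470419f268067c9663723829c1033c7030cf1c08e026103771c0033a6ff37f1bf43386fc0ce1becdf46f937c1bdc3366f637a9bd03346f30cd1bc8de25d63780d98d541990cc9bbcddc6ed376066470836810c1bac3306ea0cc1ba4dd06e73681b9832e6e51a70d84dc8197354865cdc63623711b8432c6420cb1b80dbe6de36e9b7032a6db0ca9b68db26d836b9b583286d50ca1b50da66d20c99b44da06cf259864c99419d0c91b38d9a6cc21a0d58d961913650644d9235719b0d50d9019036386408663553631b1431e6c40c79b0c6966c20018d40d8218e2ab06384703513601afc31a6be0c69af46c46bc3539aec3186ba2650d2cd7218c1a90630d7034c35b9ad83166530c59ad4d686b33591ac43146b03579ab83126ad0c497ccd586ab355068cd521880c41aa0d4e6a63529a9030e6a30c39268d442273508d00d4018634f8618d3c34134e8cf44c01850c28ae4d3859234d8614d3433f34c8cecd3018434b8610d2c33c1238ce0d2a1830c196e8d282c2349860cd2433a3489a4030468f0c11a386aa68d2049a3030268b0c09a28d126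883439a183006850c01a108145fc0bf9a0c3f66822609a042fc6800bf19fccfc67d33e19ec2fa5f40be99e8cf267821d85f057a20333b99d82f66750bd99d0ce66723388ca0ce017a33785e8cdc3293368c302f26402090c94cd817933585e4cd43263348c88cd01780bc199cccc66533205e0cc632433119402ee3173308c7ccc017732f85dc8ce32032f0c70cba1760bb1970cb665a0cd85d8cb231e32c195c2ea6562568c64caa17532a05d4ca631a1298c58ca41740ba0c84ca265032785d0b9a3182ef99382e664d11f8c48c981720b9180c2f464b32505c8c923142c919202e252832399182e06453220c383a217032185c0c8430f3208c2c91a16f0b79900c7e32731f05bcc7a30d31e0c24c7616e31d05b8c7230a31c0bb42da60c31b8c18c6c16d31a85b48e830731a0c0cc6616c0b618c8c626300d385b0c5e30531718782d62f83168c0095016b31605acc56301)) (Tr.leaf (nat_lit 0x15b0b638738062c4c42530c2c6163baaa09593ba74fcd856ca67d9d399853706614d38a1534e5613d07aaaf74d6135bf9ee5246612d165feefe083b5d318494b7612442adb362c7c8455184756e849490607ac23769cad98412996105d2ddd743ca6d4ce983b73b900cdb9d02c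1b954b06db5336f73f559d834f4f7634f39832c8060ccc7adc53f6af1cda6e94c149d7305188136a745c80dd1ac128e14f49822c84608341605921eb88d7658172df605dd26e256c36055775c4af76b89dadd8136b97f5537d8110466045926e915fb603d3623e0f78736dd1d80b60e9aacd71facc03ab3300deff35d600cf424bf7468f63001aecc04b614e5d7ff745018cd5e21cbfe7ca2ffa1f9358ba250897f94185fe50726bb743a81b28585abfb817b01aaccbf95fc3b66b7ef1e5facff65210c868bc2f17e74dab24518d7e4d30b0058817e36528c45c617df690b252fb9c76bf3ab957e17db128ba14b557d52c977dd1b17d0d3b5f43a9ee8356f5f3be6e82d5c75f35b569357409ecb766b66be55f0dc1ee4573f99f47b1e0cbe05efb235c18e27a4dba8d7bb01a5eedcfa67973d6ff2f72b7b10c5edd6f268773cb174cf19a4bd99a02f6650533db20be357b15eb5ec5ceda0d3705ffccdece8bd55eab5fdb5542786a2f5602b339ac5ca8d7a8ef96fed3497a77165e8d022d336895e8512ed00d1397e4cc1fcabce5e7355aa2cc17aa42f39ce5332798b05979acb9a2b4cb2790bcb5e5b0357f6bd36152f2e93b32eb9d4caa11ebcaa022f2ab0732b8e8438178b6887193589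78948a89c4c99ceebc4b40af11e493277bacad17855e25e15cb006173989dd37178150a5e04325e812a55df500a8e322c8a12f26d02bbb76656197714c85dc4fdae7136b5dadc0d9b325db5353797673a45d9b3869f11f35d952f2d4f5a35d8dc55c056d2b51dcdd7614915d856cd91b736b0dcc52d80bac5d636b20a54c2aadaeb2e6b31698657417577345d55ccedb55915d4b5f6c3d4a1a3330b175137e5d4585212f4b39fdb575da0ba75d3ba42190d369642e926271dc657dcc974563f82c33a97eaba25d0cf92e632b0b1f2e7dd32df05cf5b22605730b15ae75c0711fa44dcbd73962f75d3d39734f44ae4cc09a98b9a983ae6a7f530375f4ee5732c7097ec3997313ea))) (Tr.node (Tr.leaf (nat_lit 0x9749791a187052fc2ce4bc72483722cbd9c85e27962ec4bc2c219742d5156c5e1973ade60be5e097317825cab7a3258080bbd2e42ef3c9cc3001f88d4b88bbabb68921c662505dd8962dce5c65dc8a79772292b742f1c93cbb70ba2eda31a5c4b3b2ed4801c0304295aad90bb3121643adb59ec5d997097662d6b6e970215953a5d896fada92225d7485175e17ab6b96f4b74bad00d2f8b1a0ba8c28477ad99e045d396e174e1a6b6796dad8e5885d22e944865b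4b6f96c97495d6b652e8cb620892d75aecb58ba113f96ab358b9f2d42e74b4e5a4ddf2e6c1aa5a293d9682d6d6c25cc2e64b3e2132ce966973256cb5d9664b2cb972ca2e5979a592b836b4cb20b950a72e4cb1e58d2c52e435d64fb2c4961c178b8e9372e3978508eb7b9614a80b8d2c12e34b0257f15d95f4274b8b28a2e2bab257ae222e229565788df2e1caee5752b92e14ae1d372b795b170a5685ca2ec23e4b830122e0b2e256a6a095a249e5665c095930ecb7ed262dfc0025448eb9589d0cb7c5ee2df436e5612af9572444b7b0272decab65592852de3eba556eff7e72d025545bb72d16ed2f6b41549acc0b72b9b76b2cf65525b974116e6550b3e953ace915e5b82dc2dc654c8c66c316e254ab3c9524920b6eb7e5062cddee65b78ec16dd28cb388d02cd25465b62db22b6002d5b95116d8d1cb369354a84b6b24c95016d653e82586ca95a3105b42da2e6d360b3f2d9978a53ab7d2d94a7253729a94cca60b632972d8b16652c66994aa768b6111e949ca48b5f1fe2d7c396523290947be98b5c01e2d733fa208fb0690b128b5a65f2d6bfd651c01d946c3a8b5928c2d64a2e0feed87932c865145ab53f96ae4c8b223c3ac2cb55272886ac7a5125aa94416aa50eb1f9432c6e50a5a92d4c7be3a8a9c89596a53a0b1d9422a6cb50b1047bac61c165a894196a1b8cb199412c565025a72d3ca024ff27e93e969e4f8b177a1c9ecb4d27a93cac4a2645a693c1698d16b1382d2c3e4ee5a52d2ac6a4eca9b86e96964eab113532b24b4922693a1abe4e65a4538ac2a3c25a32d1c9c9cd8b203f4168d9acb0c90e49c4b44de32d0c9c24df26e72949b4b40f5e2d01d35caadc672ec9b0b3f26b2cf9755a56a4100e49a8b3b2692cec3024d0981665c99cb3912d2cdc99a4cb264))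 (Tr.leaf (nat_lit 0x0)))) (Tr.node (Tr.node (Tr.leaf (nat_lit 0x70d9df5c343b01d82045c3278f4980ec002677f70c385c75e0121d78f9dc2c7e11d73855c28e13709384475ae101d6a831c1e5117073834758e0c1d6382dc14011704b820756e071d5b819c0ae047018020754e021d53805c00b916ffa7e07525071d48025bfcdfd6fe37ec750dfa1d437e5bf0df75571db1bec3a76fa8e9db6876d6fa1d5474cdd56f99da5be43a66f88e99be076a6f79d99bdc3a51d2b31db2a6aa6f68e95bd87686f59aa474875b3229d8c0203a46f50e91b867646f49d81bd03a31d1b79dbccde56f20e8dbc676256d3788744de16f01d75bbe3a26ef0e88a8675e64f9d6801e3a11d09d95bba6a96c60e85bb875c6ed9b8c740d196ed1d5dbb23a06ec0e8106c7586eb9d51bac39f1cfb755ba876b6e98e7dba475639fb74473c90e1cf0fbcc367f32b6b74073adcf681b738738dcd6e6372c7368ba1cdb729b92dc86e3b718734b061cd3715b88dc36e13704732dc01cc8f5db7e7c56df36f472edbc1cbb6edb74d236d636e472cdb86dba19072adb61cab6d401cdb46d9b6c8728db16d817b8726b461c9b6bdb5ccfc6d69cfdb043921c920d9b58dab6d50e48ea67411fd36a472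2da81c8b69db4cda56c9b690720da32511ce9b443906c08e41b4273b6d0230871ed3f1c7b67db3cd9d6ce366c71cd9a1c71565b32a8f6cc220471ad971c6b65801ad951c63651b26d921c59951b22c366bfb640714d8f6c73634712d471c4b631b16d8a6c4a1cc710d886c3b61870ed851c3b439b08d836c10e71b023861c33601afed7e6bea3d470ad7c1c2a07daf64076bd1c99af238445b0e11af07271c19b01aee9826bb1c8daea3826ba0e08b367246b9b5c8702d712e835c0700d6f1c035b9adad6c6b5afa06fe6261bfa3c0ba2d161beb5a9ad2d686b3b5986f8d0f1be3595ac8d636b135846f4d601bd1775abeb756af1c5daba3796ae0de4bd27186589c046f0d3d3df1c51ab63786ad0de0d3a7156ac9c45ab03771bbb55daacd556aa0dddaa67136a935146ec7076a89c388f43766a80dd8ff870f6a79c2da9c3751baae19a9ad4c1ca0dd5a9670d6a52e046e88b24181c21a923746a40dd1a8e7091b99c41a8cd4568035106e4d436a12dfc6e05e46a09c0c77c3706a00dc1a7e70469f184102e36f1b7b4f5a787165639bfda7636e)) (Tr.leaf (nat_lit 0xb8d00d2b51507bb280daa05710a6fde2eea157dbc5d546981628b1e52f6bc961fbbc55300654b8a57ddc69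8579ebaa54d6ef54a8b0ed4f2945691a485d92ac3761a47dd9e921789a43d256d414c3a41d70eecb476a9c5daa8e5766a395e7aa8b779a325916cfb5eeab5dda68af78aa27d3b2b46029a23db0ace3704a2200de99f685ab180e28655c1a1cdd9a861772a185e2a85d76fa15d282cab617a135e2695f775bccddca84976abb9d832efd424a11dd86f21776a0c808ed235f0a9bd056b3a031aafddda81b7649fcd2167fa027b1653de7c774fbc8cf76e016d8b7bdb527af61cb3358127a548cb8f4ec2e3b3f2b9f589e7577599d4dd6a8976279d1de76da1797ad05cc6c7739bb81ce5ac6f4b0b9a5d4e72979bb994fa6ef13939c8de6ed43755a70ce3ee5f6faa3cce3ac0f6afbbece1a9f5540a59dd7e7014f7a74594e6f9592b094de6e8941eb9752deb9137601ed0f2f3f3719b55e4273f5bdbcddb0ef273649b05d128eb499b45d83aae535e9c0cd6ee6d3d0b5ecd66d7f397ba6d2666ad748a284d56b3741c0175d0669578e9a45e3a767742a2a4d1ae416d5a494d12bf3707b19dcf6eb5340bc24d028fd73e0164cfadf15bca5acdc295b33ab6e57da657795b7acc9005372c98f56ee79f650bc1d246ab9318ba34c5c05d5b398a549acdd5b401e4c4eeab5d09e2d646c93312b435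8feea930b984ce6c059757b91cc1eb4b6c8ba958be843305979de72e996ac9755a725e13febcfdce403f32400fde4af3d5c5b1b513e5bf5e8b60db429552de96a56029c1781a8e4b4ac2002e967d2ee79b40401c4f36e3d2cca1bce527772c6962d9e6e616789a25c840792c2a33cb0ad71722ba05ad658378fb72caf407363eb92dafaeb72bcbadcafa9032b59f2d986563546b78cab005b2b1add4aaaeff55da07caa2df602b9d3da4254134db7ed98a5272e79494cd6c434d2a24db4a517319b034ebe58f288943d43e6c54b69b257ce50d511942d2926cb64a93fddfa508036b2bd74edf327db804f6e821278948c9dedfa028a9b5b324e363db2fd9fe4d7613933d38278d57aa9849968940229e3d82a4c74c5b365cfe4c5344b304dee4c34e6a74c982d2b3c092f5db67856c2b47c976ead31db0e4962b1d69f92bde327eb798baf495ae1d2a7))) (Tr.node (Tr.leaf (nat_lit 0x9ae321678687f43fbee181ef86a8150150fccc343f3892906919a51b0c50faf1143e8042bc6c42af157850f940143e4d7ebc14d891540950f490faef4d8d0f35dd43cd77264b2fa654a1e2b9cce259c3d890ef5d59bc3dc6bb6877aed21ddddcf72aecbdba31e87643b4fde2a0f1d9c5a1d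9850f70aec3c710eaf67ac721d64da9c6894bda624087443a5086baece3a6b21d1b9af6b539bd9abac8724393db5a68f1c69421c9a5cf6854c3cdd0e35ba8adaa8616a87164ebd867d687043857565a6f735c021c22aef6367c57510df27c4375226ba6d5e436ac1e58526d96352b10d95d2ae8c2010d6cc2435c7e6ba0bec4354312b9f5ceae6d0190d2cc6434520ab98d529eabd5a7b4867ae5a19d88ef5745744190cd3ae433572a54f0ee9772e82b92865431c77ea515c8ae3d4f90c35b8430d58e893167ae34db50bf567543bd110bd3047152a2d72685eae2bd2a44285d42ed5fa1f12e860aa176406f4c8d83d21ce285b434a16eb88f497e43d1aac085a90d216a7bcf47a5ba165778a3c42c4c11b24f4eae1a15d628d17acc320eb8485542ac9dab830de9912efdf8885493ad7010a75bf6dfbcf5112853a95a14eb6cf3e428d4310aef1871da146b7cbebadeb33dbfe84f9eb3ce2b7884eadda1399aef3942656e9326f65972b519097478608a90a20284a42556e65cd1ff6adbcca542849adc21267b8f334243aba65f5744f2a121ab4e744232f32586f15adbbcb1a90845422c33909d50b700a1156f8f2e748c2690875b67722109de2a3794d2105520cd446856d508002442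0007d1f8b7793f3c9564483ead620fab68f269933c8e27a83dad9a0f65aef2484e3c8511c83c9dba0f1f66f2241d56b9e3122741c56c9ba71315664d4906eed94293dbd06b3f741abd9d098f6d930b76d716834934c9e50672f5876a0cdf62c507903cf106550ca3dd6c5063496418c7bab610faa093cbd060bcc417a4cd83f05682ac1e105d5af4175302b5cdaa857bded05ac31ad6d0d105915641656b2b5745a415d6aab535a841553fdd615a7ad356950533bc414c8354bd5a4ad1d3250515a27e620a20ee90c4ee3b061148274de2099f38c5d9a1bc12b1a82441233b991142ead0a092b40f06645567d0470a15b3bc05f088238e6a08eb3cf0277a49a104559d)) (Tr.leaf (nat_lit 0x0))))))) (Tr.node (Tr.node (Tr.node (Tr.node (Tr.node (Tr.leaf (nat_lit 0x101880811820110003f03fe08b04587f812a0020fe822c3f80fe0fd87e81141f90fc07dc1121f60fa83e03e80890f982243e40f90f883d43e008804407bc3dc1110f682203d80f70ea07ac10e1ea06e83c83d20870c8021c3d00f30f3879810c1e504307903c61e20f0878010a1df04287783ba1dc0ed87681081d904207603ae1d604187543a81d30e9020c34c09b0e887401041cf04107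3839a1cc0e587281021c90e4039438e0810e3020438a0e60e2038c3860800e102003820e40e006fc0fe1be03f86f41aa1bc0dd837c3740000dc80003700e00db86d80fc1b503f06d01e61b30d905fc0fa1b10d8036835e07d0d701f435a0db0d6036035607c0d501f03520d90c706a00f61a70d3035434a07b07081ec3480d60d186880f41a103d068033e19e0ce86700f219b03c86683321980cb86580f019503c06503261920c8828432007703b863c31c18d0c6062c0ec18a03b06243101870c3032430a0750c201d43060ca04506080e818103a06002fe17e03985f42f817b0bd02a40e413f0bc830c2f00720bb81c82ec0c40ba83002e807103885cc2e41710b801c42de0c20b705600e00b50b682f42d80700b581c02d40be0b482e82d006f037859c2cc1650b201bc2c60bc0b105840dc1600af82dc2bc06e0ae81b82b80b80ad82d02b406d03682fc2b21580ab81b42ac0b60aa85500d815303605481261510a802bc29e06b03580040ea14e0a681ac2980b10a585280d41490a4051c0d21460a282ac2880690a181a42840ac0a082a028006803404fc27c0c509e81a02780aa09d829827406709c819c2700a703504dc0cc13603304d426813304604c80ca13103284c025e12e09681dc0c80ce096027c25606409501902520a0094027024e063031849824a124091818c24409e09083a80c4083090026423e06208f018823a09a08e0258236061030846823211808b818422c09807e84540c011403e024c226060059018022409408884400be10f02f843821a10c08584280bc10902f042020e10608284100ba10302e840820210007f822814605c02e03f81fa0fc07d817019008c07d03e40b60f802d83dc1ec0f507a03cc0b40f207882141e005a07781681dc08607682081d805902c826c1d60ea07481641d008407383980b00e502c03900e60e3))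 (Tr.leaf (nat_lit 0x4e040fa0e2e8f716a70220d1009c2c92537caf09aba6faca8f9661846bd37aa4b4debc5a88f1ee835317d3793a67a5a6ee3ef09394a43dad289b88b226e13dd0f75e3da4d36f64c4dbda49f2d5a189d43c97929b6573a6da0e50f36bdc6ed36aa54b48d7c936554b4d8d0dd8a8d06b483d5135b5ca4d6bad1e32e2da7a4a19358e8c4d65a3e9ed68e4d5ca32bcab24a7bda3535168c4d432329f33dc5f6ce4534ec754d3cfaad173004d34a42312b29b44be4134b5ef4d2363ad14d7b6d15099346d034d1561ed12ed2976da213433294d0c12abe4ce96dabd053412764cfc55561ea5f8982f0533cbc68314abd33ab45868c3657a299d9cea6756630da4cdc6c9b5f6874cd58a60c5609858266a9989a0a4ac501333686b42c34e66e9985b326625bb0d4b425a0d32b6824cada061b5680b3fa9d93ac99462ba69673a9924c9542dd5af2d811aa993212084c82a7a462aa44c6c7d9c0959956dd87931767e9e94a95315322986cd453133fd4c459f5a6d67c81f59ed30d14570d543930b67a4c2573a466f5a9f6a61232c98b91dcbc1306ea14c1c4d9ffea2f9c3a6060d4b02b3cb9c12fee619de35052fd4725b5263a0f897db0153692f93504be3462cf144e4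bdadca76d24f7dab8712f52834bd59de9e16768e1c2d641a9794bc806a1369967b225e6ceb0b7a7958412f0fd54bbd9d18d354e4ba531ea6f67385542c2372973830a5ce1ad0b14b92979e231caa774e092e0c2f4b859ca15167180a42ad33096faefa5be4570ac4b748a61636709bd42a2b6496c856a5b1bd30a99ddad612d72c84b5d9be8711024b559ba05366da9da5e20c29694b4c10e28f6414ccc282cd89674b3bc0eb9759faaaa59d84d0a263ed0e52cccf8a7338852cb5104b2ca298c0b514b259ade451fa85b59a92c75034b156daa62f2bb11386d2c2d514b0d9a6cd1667987d2892c103f4b0599accb2e66d3aa352bd1fd76ec2497c895d4aec3e2cb49bb011a5766e709456026e92b8a92b322af5f9095b995c23634c9594aca6b93289634e9a566cc708fb31422eb02958b30a562cc108c784354d2af0064ab2e51f0b2f94aad97e00f3f0a08d4d12a716e6c8d5ed2a54754a8b6669794b54a85979479252af4571929f65d83c42062fa94fb2b253d5590824a73309f02f5c))) (Tr.node (Tr.leaf (nat_lit 0x80ca3fa03048a7601228fec8ff244af891ef0177939221f408bc6f6405890f015243c051211013804404890ab4b808a3dd15848547e92156328f82e9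c04090900f4ef35f090672924195da01cac7806c03090500b805126e012481240b552011007803345890071e240189d6cebea37540148fee1923fa83e009003472c0088fd00123f2d1d5470007fabffc8faffe7feb0b88f864f23e259994affc7fdab448f6ad723d3fe9ff2ff87fba38d1d847923cbfd9feaff47f991e5fbe8e523c3fc9fe2ab47f83fbc8ec95a7f73fb48eaefd23aad3d87ca5523a3fb1fd6fea377a6c88e64e4239abd1fd2fe87f038c08e4fe74672365fcc47242211c90768da7f2ae308e2fe47f1a8648defe22373f85fc0a257ef91b97e84777ef3f748dafdc236930dfb661c52894e1fb446c235bf65194c7b0052181e5046a7ec3f5c8d2fd6234b4691b46e4633a331faa46853a91a0dba8cd5fa2329fa8467468919da3e8cb7e996108ccadd2333f4989c9ca7e8bf408cafcf232acedf9cb713f111f50884642323f34cbec4637b388c8c6fcc231b4fdf967394553f288c4fc92313f21f8efc645aa8208c2fc5230bf11f86fc2620a2edf8246023023f10f04885051180f028bd7dd1d3c8bcdcb5c2b2248bafc022ebefdf7cfbd7de12908b892e22e2838e4c5127dda2cd17e45b22dba19f74fb97dc116df488b57db9c288b4b817d831008b2fb622c3ed5f68fb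359e12848ae92922baa75eaa55f7d9356c8acb3547c22a9f2a45522abec5f60faf7d711551828ac7d6a8e88a8afe22a3eb12eecc57d33eac8a6c2a44c229586445348a914d2028a6576bea88a49682291979f52c487d41ed48a2e6e228be9d01cdd32282b81f4cfa57d21141f36459227be8cb1ae7567eb42089c6d72273e8912cfa149a226891444d7d0113401489b7cfbe78898aef2263e7514cf9c7cda25929444a44e1129f348977ccbe60892f9722427f18669ec7cb15f888ead22239e8178ee477ca917922a44622326cc9d6f947c9a2397064457911115f2488f245a22d5144442223e45f20f8f7c71111cdc88d7c6a8f888652e79f2221f18443238110df1688953ca218dae4427c51109f128874303e20882f8722f91048d84a77c33e14880f847c1b7d087ef8221fb65d0047357c0aeb487cf80)) (Tr.leaf (nat_lit 0x0)))) (Tr.node (Tr.node (Tr.leaf (nat_lit 0x27893f93d02614dd09853ce4ff13027993ca9e44f1a7884be9e112fa0e53c09df12f27793ba9dc12ea76d3b49d91f8097538e2674ec18dc4b89d74eb13d53aa25b4ea096d3a64f612d27489d89d1360896400840c4e8273c4b09ce12c27349fe9cc4e593bc594257161895d3944f04dc272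44ac9c84e393b07ee25627a095938c4ed44827144aa9c44e1a7084a89c112a212d3809bf4df26f44a69bc4dd89b537425212926e53709b74db26d44a29b4128a3753669b2267a6c44a09b012826bd35c9ad26ca6b049e9ab127a6a93529a84cb269c49c9a64d2a69049a900126a68d3449a14d0267c49899e4cea67049658a125a66d3349994cc135c9c224a125265d32c9954ca09292da4d9124a64d3249912bd264049098f4c7263448e98c4c5a62848c989123262130e986122a6153089834c1133c6e22444c089109c64d04c025fc48663d121a5f92fa97c4b7a5ec48497a25e93292f22421ac89086984cb4bc25dc4829764baa5d04805724b9a5c847e97111f25c12de96e4b688f92b42484b625ac47a96a11e98712d28d34b413052ce23c4b308f06604c211da5949729643ed8dec00623a4b1a58847296111ca58099695f4af12ed2ba2384ae08e12b64bc4ad12e52b223726008dd2b04ba4aba55846c9554aa216046a95311aa5492a29504a7a53846894d11a253129694a1b889386b2233119a52521e9484a3a51846494511925112869424a092b928023149f88c527c4af49e92ac63423011810e927886249d88c12744ad49c92a527022f49b88bd26c4aa180929926a22e11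7221126844149988b92644a8498a4c045a92f116a4b8c028b730d24b445692c115a4ace7692a1c0a4a44548af11524a124e926492a490452923114a4887be921490127123e22848f08a123a49d48e120444e8f248d889d23434248c925d230226113245d22c91548a0899226499489240444a48c4889251220225487889446e4953f9124521c224112243521890b1510891214493484a420446907145923920c223482888d20848f186922d2062221111259204901480088911a48d44da3fc4428fe17c921d1fa22011022f04508fc47d88811f44894310f4043e3ba47ca3e043c8f747b120c5a221e47a88791e848447992004bc21d10ea3c91e249b47808751de482)) (Tr.leaf (nat_lit 0x926569dbf2f0d6fcd69a49f633a86bb12d7adf392a53e9f22df26f95796d0b3eeba837ca5a94fc8744fb5be34f498dc599cbcdf16f85d3e1d375f875cb71bdf52fb62b7be0051416f753e61d93eda2c40b9c1cded7da53c6168deb8dcb7ae7714f285c5331bd54ee7c037aa8072fe6f453c215d4ccad14455bcf4d76f300a5bd776e94c5549bcb623b2ac9be8e6de4a4c4722e0addea4ed39ee9c00f702803e9094e86ecdc1a13d37b8c74de9bb14e2a50b762a34e9fac0c12dbaf3a56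eb5396cc537aa34b75aea5057b9455e9ba370a6e8c11aefb3618ce4e91ba131c6e8486e33d435a32d429b9f323a69d591b9d3a96e74d426e10bc6e5d0a6ab4ebcb103de1b9535f6e553b5f731157c5d351ed2dc96e4cbc6bd764fa56b7269694d6b7a37129b7444aac5c59b813356e0376ab59143a5a36fed8cdc7bb63732afadba6dcce4a3192ffa65ca09b7101f86b53b9b6d4f0ab3d32a99a00eb5d003a8d14cb6da568aae6f0a8c6cc7db67586ac2d9cdb650b2a3fc449b636758c3dc21b6160aa52b6c29431846d75dd230f495bbccc54048dac8c0d0b5b572eabbe36aad60f12b2d5b7db4e02aa54b6de94ada6767587db4b77b842d68db4931a6d1d01232b726b51368a77eed173ab7f2430da16cfddea8e154c6cf4dd9e8b74c8855c4db3b50fa20c216e76d99a6a36629a0eb16cbcc3ee9f6146cb58aa5b900eb3680368a6d9c6ca5d5a27d396bb3b64eef32166c95609d63259b9db6829a8d918c05749b1cf5db495b5db1b1cbb94d2a67bed8ba3eb62e97d4aa6c55de2b435359d7bed1b0d5416c24e36c0748da5f3612988d896c1d92a5117119cfb609ef6e05bbbc0fdb01097a624c469c8d7da36585daf976891035ea42efa86bcd7f247efb799635e69d142faf5b5ddb993e7940d26a682d769a335da50749b6badd223db744b6bb5d29d2e296b9444640f69b6b8bc5eb9b5b16b8530e1ab774b745421add1f5afaba6e5c8d6d6b644d2e7eec38224c61ad7737bbab5aeeed10797235ceeead696b43b52ba3031aee5299acf38d6b25d72bb9604952d7e9ac6fad8fecca23e4d62948357a60af5fb69b572da310db14d21aee8d5ab673569ac5487a80809dab3760a73b566a0b4237be3562ee6dadb13354abdef58b8ebad68bcd4f6a73b2e7a1585)))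 (Tr.node (Tr.leaf (nat_lit 0x94e9b42878d007cd3ec0d9eb27367bf0d13b0117d59d08d9cdaf9779b89aaa6cd366bea5dccc2b36650edf4b43a365c27dec1439a1c1b2e86e8465b750c0d94cf05e933d286c6ca3799b2a86acf5a1a33ca8666c9a191b26074cf371ab3be8626c836433d992b43056e1b2285ecf154fd0b8d8ef05a16b3b28586c79c51b1d878ced53350acd8b1443622e8a85530a361c37e85304a9ffb9ccd85428a13b39a84c003a06800e84ace7a12002a8466c15bec680d80a43a113da8d7f42135fbdd229c878a1047ccd7d31b35f507e83d41da0e3f44d7b41b35ece56732c4ba0d5064d78d8735e28ba831180523505cd76e6a6695058d7504098eb35e82a6b835c1bb9772d2779c1ae2828cd95854b50d6eb60a09cfc4d6d41235b3ca678a841731d044d6b13e99eb3459b46b461f9ad1a40cd2359d04208eecd5e5213cd64f3aa0644b0d5f40f9ded038d5cee535720e2780c90356d0356031b83564f1e818c7a6901ab1a586b2355d02e815409a041aa9bea767a03bd64d5140635422a1980fac6bb9a9cdd80077363df4d4d4058d3bd70d4b0806963301b106a56629a96808cc16064bb0d472a98d11ade4e86a2351500e34f1f86a9b2b0d42e7d9d8b2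e90386a196d1a85f0ccbb3504cbdaa8c16a011a81b2cb4a8bb2999a2469f535b2d280269e34f50027ff1639e79a78ff4cb66dd9a762b07b39ee32c606e69c9ff1a70e2ccb29feb110d3739074b32ba61669b9fe1a6e7f6caf9fd32adc8c69a34d39f67f2cbc70b9a690a0cad9fc325cd32bda9fbb2a1ee86999fb1a65c72ca99fab2967e869834c4df1ffd3f34741a627e4ca73eecfbcd2ec9f9f89a5db367aa9ef25727e069634b2fee77335491a3279c8669534ab290eb93ef9f71a567daca09e43271ec66944091a51de4c9d9f14fb0d273eb9f5326677c6937e39a4d388c9a6b7325a7d26923492f6a0dacaa9f41a4a7cec986784f98d233e53484bce7c93e3955c7a0d1f3e2347a4fe42706e34748065651509f0b330d1a8389f04f7cd193de34634a27bb3a398bb89cd153423454f727b70e89ed21be798689344bbf1e073d93443f027b08b9782cf5cd0f3d6641b2196dc6879e59a1e7aac8734321fe7a8f7f342cd9e7a73d2341215590ef42968cf44d031619e84130d013cf3404db1a9f3ce)) (Tr.leaf (nat_lit 0x0))))) (Tr.node (Tr.node (Tr.node (Tr.leaf (nat_lit 0x1260bf4c5416a0b518a484462831385a8c4c2ff31298902d26233110be83c016931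085a4b902fb3100bdc9121680b40c08c3e61e30e85a0c382f92dd186c2ce61a0c50bccc321660b318602dc58f30b8598c2c2f52b498542ca614132984c2c86123088bbc8901643080590c1e2f03070bb0c1a1630b19830c16308305058cc122ee3040ba8c0e1623030588c0a2eb0b09810c066020b01804b7438a3000b342be5d42ff8b94bfc15f218857cbfa2e62fe0b88bf615e0af17e8bf25f82fb85783b22e42fb178c2ba2d72388b7cbea15d2fa0574be62e02f90b7037c15c0ae17c4be05ef2f70570bda2de2f617ac2b65ea2f48b64bd015b22d056cbce2da2f30b58bca15a0ad0b84bc85e30cf8568bc42d82f08b4cbc01590ac977c2c45de2ee8564bb82d50b894c82b051b242176c2ae5da2ec8b3cbb015711b055cbae2d02eb0b30baa1560ab1750ba62e72200558ba42ce0e497442aa5d0278173c2a85ce0aa1734b985cb2e517242a65c80a9971c6fa5c61f017142a45c40a9170cb845c12e016fc2a25be0a896f49de5bc2dd8ce42a05ba2dc8b0039815022b0540b702c12db8af8b6c14f2da853cb682bf19616cc0025b200096c45685b00d896bc29c5ae0a716b44e45ac2d5964829a33e2d50adcb5214d2d40534b4e2b82d30ad4b4a14c2d20530b462b615e052c8782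2c2d116842945a00a5167cb3c59d2ce166c29259a0a49664b305972cb0ab83ca1482ca85208f02af0ac149828e5940a3964cb245910a31640b1e58e2c68a3c28a55e2c60aa0b161452c50514b122a92c40a943241440a2161c89e5862c28510b082a72c195bc28629a2c10a88b021432c0050c9222a32bf8a7cafc1420a115f4af857b1220508af42a12bc95e02825772bb0a70aea1412ba0504ae629d2b90a64ae21400a00a90ae056f2148500adc29b0b38e6027e56d09f8e302c03962b60a50ad613e09f15a82905692b404f8ace2962b3159427a5642b18a44ac413d2b084f48d62922b00a38abe13c09e1578aba2aa2ae04f04d82902ad8a30ab413b2ac84ecab028d2ab8a2491e13a09d06dcaac37e2aa84e8aa828b2a98a1caa41392a884e4aa028823b0a10a9e13809c0edca9c1c02a684e0a982862a5952826e54909b9520a8e5462a2951026c54309b1508a82540)) (Tr.leaf (nat_lit 0x5cc533abef3925cbd3bdfcedeaaf64bee600b965cb5b026655d88b32e59c4f2fd7143dd57295dc8d54226a90b947134bde2ceb8e8a8ae3acf52f85c6dbaec155605c5bc6acc3279b39d189712d2f5c4cf8ee5cc949f3bbf970f59c5c3593da7b4d5b96ba857090c26864bb99f6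b846aeae11ea72ef5c1c90a1c16fc7704aa5704cbf5c1596a59507d5c0d306e5b42d6a2d0fd6ff451a3c3d2d6f757ea3e5c5d6f566279a42596f36665bcd4cde6d61da49ade291e0205ba31ddac13c25b8aed9736b76b7348d96db600b77d7316d95cdb954d956d75d9803dca56d36d0869c036804b69a5954bd6cd4f69464e716cb27f5b200bd97565cb2ec1c96c70648cdcb5e4d8b62791ad8ad052d87d4c4fe488b619e24b256c134aa7d2d82e50cd67b1377dc20b5f5af80b98f97275af48319056e96b6d5356bb5db92fcb3ae4cb5cb33ad71ffb2cf822ca796b72948c1dc956b53cd5e2cb2a3a2b5a975ad69dbd2cb5accd2aad52d5abe429e618b58b8a4b15accb575abdc91ebb3948e7ad5ee472c75b2ad59f0ed75797d7456aa02d7af5c896a7721b902d4e2df2a09dac5768dcb525a95bc5b8b230a1b4ad56a371d5a858f97a571f5a7dc7ab316be6924ae5d0eb4e5a7488e8696ef8e5ad39cf92bb82dcadd7eeb4da0ead368bf2b85adca656993725a55c756df2be5a657896933255a4c8aa08b29b648caad69002cb8e5c6d68d2ac5a2cc26c8d3e491f2d1678f0dba18cf856896f88c84a15b28b435a1cac5c6b71b5a100b19272b25a0d576c1b71a59f32fe6dd2ec59e80a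d8257197aa5c0167925659dbacdbef57959d4c8a9170c96fdc7956736dd59b3be6d3d3365a3c8e96696f9799c932800b33b8c4b05664b53599563a74cedf693ca5000f2cd597d7799ff3cbb554a6a444b2e5974acc05522a8fe2cb9e5329c014cdc965b2b69bf4a5e9d6b2d6ea2cb5bb72985964886deb3d58a64f696575e00034b361ef29eb8bc1fd654e3eb5947fae2cb2a594b83ae1b1c69a8aca69130e5afec6b165128e592ca3e8b31acb2e46ad648e16a0b2c925b70eab8abb62d4ab235912d4606109d58fb9a6a27547a525c5163d3af58f57fae26fbbb893a3163b0ec58ead0ee232adb883b7563558da4d42e5630e1c99e407d62f4cd58bc06e93701eac9c9fa7e6b16))) (Tr.node (Tr.leaf (nat_lit 0x931c988b3526193022a4b32a3a2ccc97e4bcec88dfabee38c59892e96613eaafc2f9c970b2f1642cbc96dc5325a75b205a4b259692c2bda4ae59592b16550d4af72ca49564a92539293fa0b268dc2c8c9464a114b927c938b212222c8493649924b92543f4b1d2492c72266490f9e6e42bb648e58d9231635148aee8342b70b18ee95b1aba900658c684963127aaeb922ab9da1a58b2c5c912486eaa4dc962e1e4ae99212b924825892c4bb8e48123f2cd16264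7cae65dbab8a47a5886809622398ae390cc8f0b0f23b91d3e94b0a8a0883ab78b8058591c9615288adf91c23257425842c23ba59deaec4dfab6a19458391b960cebeadb91b293e46a5812c0b77646923383e239cb00ad183ca51d7645806ee48c8aff2319182b4cb9257f91795fe428ad4917224d73c57e2bf2b5db188e77f940c0afa9182be48b4b0720a8cb15f2458980915ab3245457a4ac15e9e3cacd8e02b2a45257991415e644eacb2bbc899fe4b0e753aadcaed21761f23d0e005764daab11afa5752bac895d5122491195d4b88ac65c9ab09c3e57491115d2392ac3910aafcb645732b9c88212321f80f95ce3f6ac190f2af243a5712b8a56dcb30902cf15c6438abe90daae64345702b84864af321874915c0fbeabb7642ad90b856e2b7485dd7cac85bd95b9d5eab890b4854adb2147e52388ad8ff2909aac8b7856c5c395b2424ab34efaac231656b70995ad874ab130c006cad52116f2aab4eda56890815a241eaae840aaae41c567906959dcf6aac9062aa4b9c5668b9159972aaaa2b2482e414d1b904a410d865632b148217010cd6d5958a308a63373c330ac2a9e475aa8984a56141d9585746aa3903a1c4ac0f649032a7cd6656043395819dcaa02afaa91ae50cc5b6157e40a8ae2beac70abd1ef2af2c40aeeb1a6d8aa60ff055d2aeb9d8acc0197081575ecaa9a6de3780ab8eca9021571724a00901aa08ab71f28b4aa4df7a55b00b956d67ea942ad424582a9ba901156a40279b794a79cab29069001cda3fe55982a2a323fc5582ac47f63f90958d89561f58a8e8fda178aaef4d446aa263f45578fc955e3f0a8a8e4aa1d8c65568fb9559e9ca888fb27c8aab135777aa11de65558fa95563e8a858f9aa0633a5542aa47ca3e2a9500c9550af6a838f829acaa696d))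 (Tr.leaf (nat_lit 0x0)))) (Tr.node (Tr.node (Tr.leaf (nat_lit 0x69d0db9a7270069c1ba06dad202249bf139036d69b8db500c6fd69b1be5a6a36c1b634d0018d331ce8db1a646fb69898d46d66f16981bd905636b6978dad1866f769734b46d4d2c6959bcc79236a6950da99e86f469497590283691b49be1a506355fd31606d06681c41bb51ba3671b3b49c6dccd86930d9da4a6ef66224e86ccd245d19ba8fc43656918d951dc6eb6911b9da423641b234808ee6fe68f8d915486e968f1b95a3a36368e0d8da366e61b123396fad1a1b0b4657f475968c1b346c0cfb4f59909a2e36068b1b79a2a35f1afb451a26d126888d7c7846e046634106bc6d34019b6da2035e6878d79a1c6dc6869b6075c35d1aeb431a16d0a61c8d75a126da443a2746b8d084e91b548e035c3f80d71a0e6d66831b49a0a35b1ad9b74016d041cc0d6da066d46811b3da0235a1ad34006c6cff67f0d699fa6d167e1b30b143581ac33ed9f46e23ef0d619f26ce1aba1199f0cf767b33d46accf41ab33ccd04cf21aab3c59e0cef67733b46a8cec5dc98bc6a6bfa6759b107723533f78d4d9d46c55539b099d23526740d493cc6c31a8b3949e600a672260869e7256719af99c434f6708d3d9c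06bf66f9af19bc34e66e8d399b86bd66d9ae879c34d66d0d350106bb1a620dd3049a91a5b3659b0cd766b1a88694cbe66a994d9a834a6699acc7163491a4b348fd0cd15500d259a06b5667b3246906ac31c9ac139a3482b28d210326b1667169068eb0d6669ab59983472cc0d1d9966ae1a31ac9994cc93e68d199905f31b41d9c68acc71a29d6c6c27656631a9998a3441a2001c69acc46618d1161c6a86613304686cc04899a8d40434365f8d0d0006a41a132f997a6b765e32ec682cba1a0ad29972cb84f332dc680a661a032d996acb438a1ecc67ecb319f32c8ad2cb165832bc67acae19eb2b5958cab65532a4678ca819e329d94cca56521ea8676ca319db28994295c19d328193ec9e19cb274bbec9c64db268670c9919c326192ec9664a99f866ec7e5dd1a3d9283376498cdd92469059a1a359223366480cd93c268e6479a2d91c3355890cd57d668c6469a2191833419a322d91486f60e0cd191268a644321c666c866071a1590a3334c30ccd90868662897f13fe3326239a092d03313648cc59066836411a0185e3306408cc1900681)) (Tr.leaf (nat_lit 0x92480e67155cf019491acf7378b86c916e2f56bb63cbb6d95242b8cce22daf23eae75d4a47938fb87ca8ad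e323ab9e4aba4713e1ab14f4eebb238ab9dbd681123794b48dee736f6928dbce9a7235b4048d6c036f4a0bc8d2a84026b7cc8c2e372bfbcf48ac07b69401ccaea5c122390c58ae45b79990a54b2b115b7016ce6acdf21390955827d12f6907d9a2d2762da2f4b4407120c905de1e92803ca26481c07738cab25b925c3205902d912e3f642a1ac81683b6e601bc7f24ab3fc9b5db86f091fb017c7eeb8d6e201447deaff5788f880aa3ed4bfa3b55123df612aedca92f0f1e58f0d032e7562ea0acffe3bf65198947767f922e9bad6563b169eaae5d7a39b3ddb7dc72e9314ab8e3c792bb56c5a375d023833468e0d872f2f75dbce46fa910021ab84c66377715a4446eaf1b1bdbac4b7a36f7290135aaa36b60b8da00c290d51800dc872f111a98d2d8f6b1570c90ada76347398b7e467acd722fac4483e3335a08ccdcc245f307ac3c68edf9197a6846428831958c7db5a9eb1e4012c61af352508bfcd92f177498bf5c126b376daca45eae5360398b57622e72fcba2c5ceb5f5ff8b5caf289d71ea7ec5e6e8b16aa9745a2a491ea920c596c8f66cac4c686995162b394d8a2c36b7b90d4caba915f8afdae6ccd362ae9456e4216398aade3eab7720a0fd65a7491468a25aa63b7605b17c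50a525436bc9d8da281522a6044f272f431b02dd4627738eacedaae273786acbc77af3b138af8dcba26f79c89b5e1aad36ae89ad82e5396cf01b58162676b39f644ceb2747798d5a9ac6b12fa30c4be6396a7945da8eb8f12e8975a82d1961a9edc4ba6316a5aa5da86975124ba9c492a9b6a2bba586a23b6a48905c0a237258951db6623159588ace62bc36cbbca4ffa22972d9f5d25eae3111ada5a66ab110f99a443ed0969aac048e64a710b019da5af13103a85c40ea19697b82d80a81f10187bdbc229922bb755932cd50f5ad2d6869570f4bb1ddde1e153cafd4d361dd718bc35a3ae070eb89fc3aef3768fb1eda32ae10e9b5243a636768d8735a12e8f53b871d89a833647870ccd21c9408bc64ca64770e088cc362b491b2b3dc356e65140a7dddb21a8037b4cd4ee1a568ba02da0a4fd0d296bc34af2d6839905a0264d0d1999c346de7681))) (Tr.node (Tr.leaf (nat_lit 0x77c2d09042fae410d6728bb2f2acca381040fed9d9cf6503ec8a40fb45669344cacda75503d11640f4cda7692a38fa3bd9dfe81d40ed66ab33598755a075d6cef8829bbd2b2281a7302069e00ef5542d65d0313b864e3bc531a81879520628f4ef240bc766b2ce3840b31b950b3b57b8bbb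6b2a8159d62055c9eeee40a517ddcf5949b8a04eaecec5938564d02537dac82bb1020adc92cbb9dd7681077620423e6ee867d45d101ea274073336b2540eac8a081e5480d406c8feb20ae56d4402101950676f563d0171e0405d0b25d91374054a7d7cd58e9653b71dc2809404d636129284ac62026394ede404562e02f407403562ab13588402bc7a31d35283eac8d00928b768bb58046804741a01167ced78e520068c680740040c5d9d48e43dba4a6e47ff81ec384ffd5873ff52e9daeda298728d97547fda31bb3a4967fc76a1ff297aecfac33340ff74103fd50aa63f23d3fcd615aa14803fc2a5eb08de075cd60cfef3833fbabf557125f3fb3f52b05581a3f240a6d87f53fabbadd46813abf37ccfe94fda21d248fe71343f9c762b00a688bea09cfe4f08abfbaf91fc7f13f8c5feafca2d55b9fc6602ec0abeb708fe14428ee5364fdf4297743ae64dc7ee3f74fe660957c42d9fb9d92ebbabc4e24fd94747573ada8f07ec77b1fb15f0eb73f5b53eaf7481abd38b4fd50ed3f555e5cc52a63f4c81aaf1577a5752d0fced98786806102a7e655b55d4fcb4143f2d5d1d6ef3186755ccfc75723f0b88974ab509371fd1dec7e090baba0fbd2449dcd414fbb571562d140fb95703e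e55bd591348ab73a96ada004a938012a70ea6ab61f6ead6005762c068fb534180e55a8fb35693ecc30a03d2f03ec3e92ad0f83810d390faedd83eba8caacf18760c2eb8fad0343eb559aacb02c5a6b5b4fab493a273a66ac87d59841f56ac6e9a72a3a5aac47d43ea55860651095d01f5195ee987181f4e2e2d673e920bd0227daab031c60dc7d13e89ffd572ed33e7d57de571d2a05b4d8f9d30d3e743fea5b03ea254978f9b2639b43f2cf9955eaaec3b0f972863e531266d0fc13e4bfc1a62fe9609d570f9155b740306a4047c895dd568f8d3e83e33ee6ab28b4a19b4a8f8b45e3e255618271e75f19f11dac7cc3e1473d67aa619b7d55cf835563e0bfddd11555)) (Tr.leaf (nat_lit 0x0)))))) (Tr.node (Tr.node (Tr.node (Tr.node (Tr.leaf (nat_lit 0x7f10fc3ec43e1e8800887a0fd21d10e41f843807e10dc41e43619884d01f627d21a87e48680fb21983ec8641fa20c90c41f443021787d885c0fa0ff83e885a1f721610ac1f242a07c90a47d042821390981f042507c109084642221090801ee41f07b907883a37320e04448360f607b106883241820b90581ea41507a905082641220887a88200f420783d081c1eb079903481840b079102876e409204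07341e23d6203879480c0f115783c480a1e620207888060f007810088024001ff83c07fc1e41fe8fa41de1d717d877c7f80ef1fd83bc7f41e01fc87707f00ee0770fdc7ec3f51fa03b87e61de1f90fc41da3f01f787647dc0ed17103b47da1da1f607587d60ec07607847d43e91f403b07ce1d81f3074c7ca0eb0758f901e83e31f103ac7c21d50920f801d43df1878f781d23dd1ee073c7b60e91ed03a47b21d01ec07307ae0e80740f587aa1e716083a07a81ce0be0f4c1ce3d20dc07247a20e7089039c5961ca1e80f3c1cc3ce0730f347983cb1e50f241ca3c80728f1c78c3c51e20f0c1c83c20720f047803bf1df0ef41c63bc0718eec7743b91dc0a141c43b71db06f876a0e216f03887681bf1d986f07640e11d883847601bd1390ebc1c03ae0700eb43623ac13e8eac1be3aa06f8ea43943a81d38df81bc28a1d306d474a0de1d203787461b61d106cc7420dd1d0037473e1b41160e781b839d0dd037057617f1ce0e6c1b639a06d8e647303971cb0e541b439406d0e4c7243911c80e3c1b238e06c8e3471838b1c50e241b038806c0e1c70c3851c2069c7060d71c1035c6061a80750e041ac38006b0dfc6fc37d06a8df06f637a1bc86201a83451bc06846ee0d41bb03506ea1a21ba06786e60d30698dc85ac3711b8034c6de1a01b70d641a41931b6866c6d80d21b5834863819c1b506606d20d10688da06ce3661b283446c819a1b18d881a03611b006546be0d01af03406ba1961ae06486b60cf06786746b4359153833c6b019408d0d5c19c3560670d541e43541a986346a40cd0668d441ae3501a7833469c18f1a68d3019834b1a506286920cc1a403305ea18b1a3861c68c0cb0658d146881a31a1832c6841890b28d041943400650cfc67c33d0b98cf019233b0648ce867233819b860466c0c819a832066818219985f86640c7))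 (Tr.leaf (nat_lit 0x547bcd28255b95472ca9b3529270fc256914a8d546cff25356e355fdb895176e1545427209f66bab2afb1512f5b544b2f583140387c55e150f6e0b6fd66550d0cba2ed2515095085425149df0d1c773cc6d506ce1a452a55c54a8254154fedbf5909afcf0d500c78b6f2a714feb1c60043e94fcf16a4caf914fabd653eaf826b53436f3a9f1bab11453ddaf2a89168a28d9914f112253c4f89a28c9353bba1287f5586eaa9cdbc2a7a696db754e52a45395b168b76d65384849fdefbc6f0c786b44a6f58629bedb91e2a14bb854dd58fb6dd7214d8f5253644e176b6ada1548b94d56da5354c31d78ba4b59c76978ca699e729a6a471db53438e1a80ef0b6ca9a166eec282f475ab72a67a00a99d4df1d7837c752200a6558e2995c491d58c8b4f2a44a645323a454d355f965d1bd4c6e3653159566530736c6a98658ae826e0c7094c1119b6c4731e02a6057129814ef1cd52fd2ae5736d776e42bddaaa5e561471d510a5d52eb77ab4d4e98002976dad1c957e4a454b8e0e8b6470df80a5b52dd0954c36159bfa96e16f1c552d44666cf1ceb6ac702da8a5990fa9655971c152bb83d5f8d0d52b00858bb6d36365b454ab1ba52a34f98db46eb692952a2b0f15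29c6f58e56d1858c6de9e2a52529332d4b340db68294a83f1b9a94c6d6a58a50b67a9418cd1b66afc6ced9ca4db4629360731b4aa75a1d4990d8ad82931518c7f525d529e92e6d8c9a92db470fbaa33991495542a29413a0d6a4a52e4a3949328f524b8594af28d5c846a25f2a485245b3549d21caa02922a871aa65ec699984a47847a91d4e31a7ab7c692d98a45aff2915acb1a5b65c65d4896c75ea453997ca44521c589faf6baaaba90d66cce469ad1a148519ca6ec8bd4836ca541c66da52a40520467e9bd4689eea9025b119d51fc95148b56db64a8fed90d387c7d40947ce0051edb1df331a3861a8ed59d020a5ddb1947519053f4649806a3951cc54e35ed9eae228e5ae319471a463e3a6a3851c465655b6c67b828e2d8b19176cc6369caa3571ba8d699118ea674605469589558c62ab38a34602a8d1ce118b872c6220c6a33598a8ce69b189a61ba7a98aa32519494146b6c451f3825462df8552d311460db09e4c60a598a3053728c2413183517d62698318c7223372958a2e))) (Tr.node (Tr.leaf (nat_lit 0x342142e28aa01307a7f628850a8a1942a2849fe8a0a7b0a128948a027ea27e50989f1424a529fb28444f627913b81b141d7d877173baebca0d13a89c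97a12e850657da7cca74505282982e270bc089b941626c9f57f144d4a08a864a2a7be2685032818018a15105899940cc089f187b2e60a045f689927ae262501280a2522609fc3159404dc29ed897a7a625c50089694022589ea27fb8ee25679927f2419fc4a903612790d3e4fd27ec4a9e6112932b13f52e29e689444809f89dd292a78624e4fc34693f224c9e227dc49624912389113ed56283940e27711ea4fa27d278e2431202eb93e9e109de2f5a76623e4f927cc478a00b2b88e93e62389db29bc46c9ef11a4bf93de23263786844609ed11727b445a22aefa88a444c9eab8827a97b211ab8a6e6a744dac4f488913d22229d258d9f0c9e4a1e888273a21e4f288713ca21a9cf358a7322184f188593c62149cd884c4209e0d4e277a32220efd288327212ec4ee37e93b8a5a9c927c1f7c9da82a2763db220a87588227122064eb64c93adf5c9c55d330cc9d46528812705ad44ea88093a8a809c2274c4021ff0fe4c393a55b684b87ebe589d10fc87da6f21f44e887c93a1e0e9bd282424c9cf0f8273aa489fd09183826dd5ce4e627343dc9dd0f687a939a1e89b900a43cc9cb0f2878a6d158c4e52c99394a429b52723e51b2089087813913488dd81526c21de4e3598138dfa09b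133526b4a7c4e2271258d8c508e877138a1da9af87626ae1d64e140113861d49ac295a6a1b304e02701ae602883787493821d09aa873a69a1cc4df830137e1ca9a787226489bd0cf4d924021c64de8712684c344dd26ea4e21c306187013761be9a386f43589b899a3e3a67a1ba4dc86e13710a899f86dc3689b70d950f962971c4db29aa6661b04da26d26821af0d686a936a14499b85643509b30d32922655b6e4d826c42d89be01a86913621a299784743409aea7679ba6454164d626b433e19c9a54191359084993866a63e1984d57219354b04990007a5f49a90bd77926321964d430f1350c2698d865430c9a6984864a6254344d3864134cfda98a298261a18e4d2269242937f0238631348d0a988862a60d40e4d1268a62e1890c3861134618298535c9c949a06c0812ac0899f0c02a1ab3899c57c)) (Tr.leaf (nat_lit 0x0)))) (Tr.node (Tr.node (Tr.leaf (nat_lit 0x3f6a9685ccba91732ea174eba6172ae95748ba35d10cc85c86841722e8574091a5cf97e0c0c2e3171ae7973ab9c5cd8b8d6fc5fa5cd2e645c47e95c8a7b85c2b981702e5d72cb953c58cb85be67b16f9aad5f43465ca2e4c5bc78432317bd6d02dd16eae49722b905c78b74c105f15c72d1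85b874316e2e35718b8b0042e285b69d32ee17a93b62db3328b6cca05eb38bae245b4a5116d14197109f616cae1d70cb855c22e0c5b0b5916c2e09702b8016b9c14010b7f5bf0b5d6e42e116b2df46f2b2f5be2dec5aab5416aade8bb4b7934a177862a2d45bc0b516ee5df5bb2dd45a6719169add0bd6b735b917696e22d12f00b456e05db5b7adb85a0b6d1682db1696856167adad3b8b6a5b48da459c6f216729052aab045b40b9ccca2cd166ad9d1ecb661662d956c8b6338f17416c42cb5b08b2ce425d15b01738fd62ca5550b296be5cf18b172d6bc2c9164ad756b8b5b5ad0b256b25cd5ac2d305905c256a17216ae2c817d0b216ac5c95aa97196a82c75a98b1d6a45c75a897116a02c65620b1969e5c53e2970569c2c5162972969ab4c5a58b156945c356fad245889275a416f968e2c45a30b1168a5bf5a216f16862c35598b0d6845bd2c7ad04584b401740b085ec33959facf8582b3d1602cf1676b3a59cace057eb3715facd966ab34599a09457cb3215f2cc5660a5600396c965e2bd5608af565c5b359696c16582bc5958af000c5b159516b96522bb5940aed64e5af59316b164a2ba5920ae96465ad301ac88572b215902c7c570b1e15c2c75638b1b58d2c6456eb1815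bac5d62cb1558a2c4c56cb1215b2c45620b0f5872c3456a6af15aac31616b0a5849504566a5c41116816102b35838acd60c5a158296756082b2159210d57841c5818ac960459f580906c56254739196696002b157f8ac55c859b57f165d5fa2b01582bf0d5aafb57d0ac15f25992bdabe055e8162c3abdc55caf65160ab55ea52657a16453682ac1560cf86222b92210ab15e659357916395e22ab1558bd0b766185780aad5de59044f2bb8554aed5762bac552aea154aba55d0ae7367136c55099c1542b995caae4407ab8c54eae25709618b2a2a63148a98c185875702b7c54aade152ab755b88c9567ab6c548ada4c78f6c5467cd151ab655b0a4f56bab58544947)) (Tr.leaf (nat_lit 0x8335afdf791738b13eee349287881beea51f384aacbede8b549eaa0cd81f6d6499d03eb6d2148bb9fd961f55077ac944a1f5134b97fd79df4f2048ba5e55f4573aab08096926fa07cec1224936438805445f2971286fd52df270f0aa3be4ed591577c95d8e096023a414392f04f909dfddc1f1d6457e957b27c2f8ea8bbe3a5fb5eda6accee938f8dad5d67a49cf8cbcbbe2a76b5e47c45caa10744f7c2c812c555f77c25e5a00c03b8754fb9f074fbbbdd7a5f00f8a7bd45ee6d554fb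cacc95ef32b4b4ed006cfef797bc4a540753da00d55da1573cc0184f2deed29d8b8bddaa33363a464bea91af757b94b42dbb54db6b56adee358caab4b7dee136501a4bf1edb6c07b5546406963a7b45e51fe003ab273dcec96f62b5c49f2cfcf607afc9f6af970fb353d76d6d4aca4700b5eb92c37addcd205b3137ad5bfe0920397ba3d6adf50c4a4b4b81eb35cc7ac5736f0b2e0850d821ead793bc043ba75af547a9d1b6607663ba63d4acb11dfb52cd1dea2f9bb70d975e9f0830155cade997927a45e4632563293b51d9e877737a154e644759b7a0ddae0b6038adf56fea28f3f9a93cfe4f35c079dd44ab8165499fdd29e7579079cdcf208533eadcd941e717387e0bd96e34f378ebc7feb76f34a143d45e6553eabadbb5e5d52c79ebcae87d09aacf8092872f28792dcd6d355269a2dcd9e47317854c4c676ef1f9e1525a4c0f1778b48a23633fbb5fbc4ef1f078789489c06ef20a1ed8d1e215a9a68d169e4af0f787d632bd55da9cd56a27ccf0e78756b672b634bbfbc3a71f5aaa25bc36c914ff8e458cde194feb984ef2d24f0cb43bc2ea9320dbb74c69e154bc8f13c2a9db4c9a5443d1e096927825b26eaf20f908c286b6af03780be32f1d5eabb13c02d5d2688c5cbca7d4efeba1d709df5539ac55661f2eef777bc32ddfb1f695e3bdde8559abc6cee2d5aef3778451aa416b47775a7ac4f6d9a9e3bb2d8345fb544df6500eea772dd3abf165377acc49dc9733771c7c5dd353f7ffc782f18ee1b813b7ded929f7834a12c7eedd81e5769db95ab939d01e66cedbb665622b34eda76d4632d75181b76bb6ad9358ab3ebb4ad8f0e1b21d321d9b31fb0b520298eecb7655e0a8ab5239954e0e80eec9763c9640514ae8463b1e9c6fd47615e06d31728)))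 (Tr.node (Tr.leaf (nat_lit 0x79d5404ee317c3b8380e67ed815f29dc266a009a803684edf4b9800b7ea54876f9db1dbdcfedfba7fb7de9fc76e3b74615f9ee099531db9f64df93b69e8d8b0e4d663c188ed893962cbe08ed688280ad3f4ed4ec43b553f29f74faa7cd3e0ed31663b4cc229eeb9fa7b4504ed14f53b41e529e8e3581053ccecd02e3b33e551f703ba7653c8ecb4f1a784bf8ec74ef85430e4ec538a3b130d29dcc37a76b7963d67613b0b9fe9d9147a759d8555cde73d5d3a8ec126f3b02c252eb271412b7858b475f8f31d7e3c4de2918bb28ebca973af2d7e0472d34bed3a4ebb1c83adc8ce46ead83ad35215ab47994ba0d0eb2f1b630450ceb14d13ac2f969cd345a72ba7ceaf4e4a71c160eac9343ab415e9c54e18f59dae3cc7553aac4ca52ef9278fa284ea8fa73aa39bd8bc7b6a70243a9be753a6f373e9ba751a6e1d45438dd0a6db7369b47507b49d413a4dcea4e36e8e9f4cf719a2ea9b274fa6c37229ae74e3a7535a9ab4d491f9d395dcdca7c4d340e9adbf58c2c1901474d95fb70d0da74c3a65111f154d33b19d31f6adc57c65108e96ebd73e370239c74ba691d2e9a2dc13a5371de7d4d08a95104e9200b5e1b6f0f047498ac9d2552edbd892b4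8d9667483a4533d40adcca0736e299c747a669d1e042db94cbb698e8d4bea661d19cb68645f736d21bc7453b61d16992db5a6434dce88daea63b6c5cf0744a631d11534db2a62c610e874c486c33f1cd07423a136ce986d37828d20ce82d583a05308e8f315a609d0154a83699c3c48e7f4c09b736a184473e81d9cf9dc4da9a5fb69612a73d39ed2f900edb7a5e9cf5818da7a5e368d2a873c8d79cf2976da439dbb461c54ba39d52e60a2dfc5de3644e734ad7d5367697073839c464e96f153a5b1ce0f0cd9f51b52c4e6e00d651b66a44a7378ff1cde0aed9b39b52d546f0854d53ac4e6b4b47251cd696688165c36569647343b39cd18b2d96956b64a960733399c858e794af7a21cce95cd9439952b610cda04d9b63cf1a7319ef9cc5cb8d90a5635ece610e3a55b51e39e730568b628eb472f397d2a9c894a98199cbe950d8c7f4d294e5cd846609cb9cd68737e13374e5b419a53b61567472d50c9cb623cd86396362694d4a56049cb2948d0e3a0b814e574a3395b7f8e74e03a5135f975272a)) (Tr.leaf (nat_lit 0x0))))) (Tr.node (Tr.node (Tr.node (Tr.leaf (nat_lit 0x408203c3c480e0f1082501a4523ffa0303c280b0f0202901280840389d43be5250e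fa018e7c805402200c3bc8020ef08010024402768fd4f861dd0eea000ffe7fe3fe87748223f73fe1e5c3b87fb0ee1fe8ff27f83f31fdc3b67f61f08fc0fea1db286876c9f03f13fa1fcc3b47520ed1fc8fe27f00ec9fbcfdc7ed3f61fac3b07ae0ec1fa8fd27e80eb9f9cfcc7e53f2075cfa61e10fa1f8c3ac7e20eb1f84fc077b3ef9f783aa7a90ea9f747ba7dc2a70f8c4b61d40020750fb63e43ed1f643a67d80e99f5c7e27d63ea8f7c58c1d224f0748fa83e03e98f74fa41d11f28744fa23de3e81f3c3a07ce0e81f34f385823e6119839e2120e79f2cf947c93e41f1c39c7c60e71f14f8874a3e1879ca1a1cd0e69f08c887c10e61f00f7e7be3de8f48f781cb3dd872cf743d30e51ee43fc7b83db8ee83904863db0f38f6a1c835d8720f683cf12e0f2cf661c70e39ec8f627b03d7871cf5c3cd3d69e7438c3c037a0f20f581c61200718f563c93d50f14f521c50e290b8f507a73d30714f4a3c73d219cc38844b3d18f08f441c436f0710f423c33d00efcf3e1c30e18f28f3c79d3ce070cf363c13821e683846793cc8ef0f301c23cb8708f2c3bd3ca8ee4f281c10e09218f263d03628704f243bb1bd9e443807900f407004782853c79e3837e78d0df8810f184470df1e2cf147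893c41e1c37a7860de9e14f087833c11e043787800de1dfcefc77d3be0eb8ef61bb36d06ecef43af3bc8eb0ef01ba3bb86e8eec3ad3ba8ea8ee81b93b986e4ee43ab3b88ea0ee01b83b786e0edc3a92061db436e76c3b59da836c7690db1da0ece7663b29d9036a7630da9d88ec27603af9d7836875d0da1d70eb675a3ac9d603667570d99d58eaa7543a98e74ea41b23a886c8df239e3a80e1836072b3a78e68e9c1b03a686c0e9839b3a58e5ce941af0d795b4da42983a486bce903993a38a5c35c38c3a30e50e8a1ae3a206b8e163953a18e44e841ad0d69d04e8073f39f06b4e7a39339e1cec35873a39c8e38e701ac39b86b0e6c38f39a8e2ce681ab0d58e58e6629735a86ace6438d3988ba03546013980e20e5e1aa39706a8dde3893968e14e581a90d49cace5439c39486a4e503871b31c9c3507260d40834e4a45d1b91c9034e7233910e009421a63908698e40381)) (Tr.leaf (nat_lit 0x65ad9459d16db6ab5cb596369cbb04321961351b6d5b8d95d1fc65756c261d228981581995b21065655f2ec0eba7033869955049b34bc75952f6f7fccdad95131eb80bf9594efdb653bf8ec4b61b940329a4e537c652dd6eccf3b0a1d5049946cd5651422287765f939327e4f4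ca491953ed93d5e564f53d21874f993d4faed50c9b7b1b26ed373ecace4c019350e664c4e4df8d754b75ba1d92d55a64b52725e4d77ad54f95fa6c95b233256e393e664a4ac2473309bafb251f052f3703b24d9371e8af6dbe19212ae9364f6191f381a554f79b1ec8f7a3323d9453df6475b6233775e79943a1964c8c64649e2d4770e7abd781917295b18b22a68aefc644ce0689b3e0baecf5acecc88aba3221e733d76434a59eaf221642d90206803264248e207f6f7bae32121933679244586aa8c82a405d1990335bb9c320596904c71c32023b536cb934b318ff725645d77d8fd57663f4a7590d5de7d7cf26a38c7dab531f63073ca99731f193b159957b1eae10ccab854ef58f340a66a4f12e66c797fe31e65ab3c57bfb1e2c3f1f0b824b8eb62c7763bb95d8f55386665c158ed260a5d4efabdcc7664d31da2453bf63ad02999b3c6639bc3217d5a5b924eea14ec727edb1cac753bb650b1c1d53301a78bbcd8df597ad94ed9e42c6f85d31bdbf53b7af4bbbe580c6e77ccecda34c6dba0b1b5df93b47cbcec6cf8c6c80731b19773b2635cfc9f5f75b6354a2294f7146343d566d3106ae541b18cf44863354c1ddae4bbad413d8cb568632c072c69565632536eeb35649d33e2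58c3562630c572e3163c94fc3e6750c5f62fd38e4d304bb5a4c718b94de62e323aeb0d2863755158b6e6772b4e80038c5a7d8b16abf53a1ba5315a94738b7ce4e7670ec54867b1521b339e8bbc9fd8a72db7ee5d5d8a3731627484eb556ec66f508189b274626db2eabd69db585d15899359625d2c2abb756ad4b12ec16cdebaacb198917246235d528373e9aa64bfd88b4ce622b1d6ea70e781bb2c2cb2c44ad45be98837528b05abd87b75161ed236ce54a661e5b9df3b20761dce7dedcc56b7fb7a59d8c397cf51d186eeb861b48faaef6fb9cf4582180c3561ad501f3d75061a3e661fae2b61957f6704fbab38bb258615839c230bdf3f0ae6174f82e8d3d8ba7cdfe02cc2d))) (Tr.node (Tr.leaf (nat_lit 0x9ac98ce672c018864d60c6535733d2ff1ae86319ab18c66aabfd996cd50c60ca13719b18de062f317cd4da00c06898afde6a462e95c18b90acbf893bafa4c5b1309852fd26a262d46a98b5196bf59a84d30c58bee9a7afc58c862c9a718b170abf28b518ad25e7a19a6afb58ae62a3152fcdb6b34c9a598aa1cebef4fc3d6cc511f9345bcecc4e8519a523bd85c62731344c24f0bf69a4989a69071f7c3af9a68e62576f989668cbe73124d15bfadd984a2f58c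451ed6111889d067f993e405cc428fd624211e688621705cd0cc411ec48eaf7a68462061c1882048bdf9a0af6e68061f30fc430c4b33f491187e67cbdd31832a8c3cc97629ccf4c3b33c99daf5e67461d33b187628cbd830e47b62eebe430dcce667133799b291a34461999accb4c2ec0d95eaf459ea61786d185e668bd28b6af3e6666164269858fc2bd030accca663330997a4d8c2905d30a3c55092f2f309ccba65b32c3094cad99f32a879aeecc233204bb2f1dc5c61144918461eabc88edc370c20bc19949e4e59660f9944c9cc1d32670caf09b7a60e992983a648bc3306af18f230dc991a7d264460b89a2150c14f407c12ef664260a7e59829886bbe7a2aee9b40609304cc8128abc983a9824d20bbc66c2ee0d8c60898f982263cbb96822ed55c6607303add94db2e28ef181e63abb77062ecd22e60698e181a636bb456b2ec2634605302b086632b7c98c181662ebb230244ea44c9f748c40d0c04e9d3013e024f6880300cc5a62b314989aea90dc6007681802624bab6c017fe622a5a9882e9a61e5fe2ff4c3a61ad5d83897f9386ba87562e8d07c5fd2fec771c2f30c55117f4dd6ba5985cc28bf8cea56ea46a6125fb2fda195d2cf5370137c0bf53085692e7260e5f92fcc47cc0130698297e60b0b9e9712cfcbf0b309824c0cbef3029809fa50b45f798017da5fe9ee936ae565fc5f52facbf65f92fb55497d6224b9797d4be4be50897a69e115865f254b2e422a25f02f81dc8bece018b417c2354b92807b8ccbde7924ce4be0bdd2f7835ae2e5ec5ed2f6bf922ca8d878d97b65eab8d6a6a74daa45ec97a29465e65e92f42751cf51139792e155645e72f3b5325e270c5f8979d172b879784bbcbcd2ee447ad665da5e69762e025d65e52f2a2ca5d470a5531795ec2b82))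 (Tr.leaf (nat_lit 0x0)))) (Tr.node (Tr.node (Tr.leaf (nat_lit 0x1fb3b4c7fae927690fd9da280060fbb407eaa363873b3c7e8ece7668fd10d079765a1fe1d983f31f9af8dd9662254d0fcdd947fa7649fd9d903f247f0fc9d8e7f71f8bb19d8a9027621f807deeab7619d49d843ef7609fc09263ee1f73b01d7eebe75e8fb8daa7f275e1fb4d883ed1f6baedd74eb94c48fb4bfe7ef75c3adc7d8eb62e79eb9d6a3ec75a1fa1d663eb1f597ddd64b9935a0fad6147ea7589f950b23ea1f53ac07e40187578fa9d5c7e72001e207d2d5f7569f890c83e83758fa118a7e35e79dedd583e71f3baac8587f455ca0a87cc9c77551ea4d983e67549f719483e57540f95d4e7dd1f1801497eea4751ba507c482f7511f61d423e242f8f89d407d974f9f59d3c3e174e8f85d387d774dba687c0e991efba61d2ee961f4b59c7bce951ef1835d2878a1eeba4dd24c7171f9efc7b8e7e52c1f39d223dc7480f71d1e7cf7471608d563db746ba0c7b47c47461f24cc23d91eca40dd16c1e32c8f65d147cb744ba207b0c1a2121f1933e3d87438f61d0c7c77429d28b863d71eb9f31d08e831fba8787ac9d031e9f05d043d57408f55d007c273f9ef9cb43d41ea39f802e7d073e8f50e2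a7c03d398f87a6c111e9b9f18e6e7b3d939e87a4e791e939e10c6e7773b1ee1cea3d173a0f45ce67b9733b9c87a0e71738374879ee6f1e7b9b9cda8a21e739b002ce6b1e6b2cdcd469d7349ec0f763cc1e639a1ccee667328f31c807b2732398c796e621e58fb1cc27eb72bb980794e5f1e4b979cbae5c1e4396dbc8e5a72cb28c78e6971e38f98ae47de1e33961caee564bf0f18f7a42e72ab87478ae541e2b94dca4e517213940788e4f7273934786df61e1b931c96e4a1e12fc1c9262b724391c7828921e0b919c8ae441e0390dc84e417200f01c7c3ca1ed991c77ec221dfaa45c7e55a71f19e5c7a3be71e27a077ae3b1deb025c4063971d1fec7783f41de38e5c70e3771b1984776c4c1ddb8d5c68dee1dd183da82bc51dcae3c02ae335e09e41c643b87188ee1c607917179df876c8117171e35c5a3b66c80ed802878e1dab8b1c56e2a7149e24be83b41da1f49c5060d7138ed1c4c78b712b57c7667e47121e196403b36ce8ecdc467877111e0dc423b21d917c9814b937100ec8a907856deb87c762d6445d9e01c3c3b170e8ec5c38781)) (Tr.leaf (nat_lit 0xba5de6ae59788b95dde6de1771b56de5ef39758bcedab2da772eb475d56e93753b625e22cbd79f01f5bbaecd62bb345c06c4778cb6a5d62bd379db4100eec635e6bc95ceabc55f6b3180ead395d6ba4d72ed6360801d5716f2b72b01dd8caebd5c4bb256f407d74aad7dc82f036b5acf5d0af07741b68d892b2f637ac7de62d11701b61d5f6ef977db2f5dbeadd769b4bddd6ad9767b66de7eabf79ab6e80f2aab6e8aa8dabad1f6abae65e12c87550b715542e7b785bc75566e6f525af7d48ec8b584bc7dca2a1b580abc80d6b95509)))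 (Tr.node (Tr.leaf (nat_lit 0x860bffab1e8ea65323a9c0cfff9673fc51d314dabda3a2788966919d8951ceff9495bfe2c4c8e64733fee7ed625b12239ac2cffa9bbd5551cae804943fd24ac8e447200751d4b25b11a392c44ff6b07d8851c705c564aad15a08e24714536432ffdaeb3fa51c2e8a8f1a56ac408e169dd16d1c0feba8abbf60708e0b0fbfaa05e8de46f3fba4cd45ba3a237a6c2fec46e3a29b12ff0b0f2372c3aaf497f236ec38e3046d506803b2739993f6d1b13f580923612acb8c882d86d1af3f44f3a35d3e4a1988da896c348d646b4ddd1b7459471c18d1ab054815d8651a961872fbf72c2e8d44922352736fdd469cfd6774fe5469585ac2b10eb0a31edc9a8d1b09d83d19f0048d0bf5a42a8cf9aea33ec24fd7466c2d2c23610465d606c1eec79f334c5192fceb07272abda8c8b06d06d18ecdf4d83f3e4d48c76fc231ec18fd04633f4d682d31b05b119a608c44a1a30de12e23461557977ae8d9053f255688c1b052306c12fca8483f19e8e8c04603e7d93307b9f4a302c10fc8b03a2fec0ca087a03f0ac0a8be45f4046c08cfdb01a2f9b0efc445eba2eb74c498e2a2e6c04c89b00bef6a208b845c547ec0124754a22e183cfbfaffc78d16f21200f4a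1d16b5fe45a4e111755fda6ba2d14e0e8683dbe19166f7e69ed2791655fcafda2c6af4c406e1bece1728b045855069e54a7790a2c26f6fb56fbd47115ae2e78cbebe7408ab455ac9d162cfe9d822ae794fb14e23bfd154b42601522d1535fa54633168f68a892030a99f88a7afca5a1b3e8a4451b0ae5accfaafc527d144d7aafbb74ea2e8a1450007914eb2867ca282440ae0459be0d13eea04afb9d5c9889eafb3e854f489c689a271a30fa247e57d51340259c141ed132fc79c32bbe7128999c63e72be8898783a26273cf9d44fd71d12f34744b45d99fca288cbb8ad12b3856993e5e42c895acd2256764f9887a43f11269be45640ed122decaf9a2426ae9b3af9455d11f5f14473752be1132a7e3e3d45a88c44657be6e90e48bda232330f91af757b51175ec92857ad11533b444d7a9b8559e444495e9ace316e2579110d5e94435589b8f3a84a5be1ebd088596222157cef8865d3df9106fb8844be12bce883781220ebccf85af2ba81104fa49f1a20977cdf48403441101449af222029debad)) (Tr.leaf (nat_lit 0x0))))))))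

/-- The image of an element under a generator. -/
noncomputable def pi (g i : Nat) : Nat := cellF 7 127 52 4503599627370495 (Nat.mul g 13) 8191 cT.get i

theorem h0 : allN (fun i => chkEl gs ws pi 6048 (i + 0)) 400 = true := by decide +kernel

theorem h1 : allN (fun i => chkEl gs ws pi 6048 (i + 400)) 400 = true := by decide +kernel

theorem h2 : allN (fun i => chkEl gs ws pi 6048 (i + 800)) 400 = true := by decide +kernel

theorem h3 : allN (fun i => chkEl gs ws pi 6048 (i + 1200)) 400 = true := by decide +kernel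

theorem h4 : allN (fun i => chkEl gs ws pi 6048 (i + 1600)) 400 = true := by decide +kernel

theorem h5 : allN (fun i => chkEl gs ws pi 6048 (i + 2000)) 400 = true := by decide +kernel

theorem h6 : allN (fun i => chkEl gs ws pi 6048 (i + 2400)) 400 = true := by decide +kernel

theorem h7 : allN (fun i => chkEl gs ws pi 6048 (i + 2800)) 400 = true := by decide +kernel

theorem h8 : allN (fun i => chkEl gs ws pi 6048 (i + 3200)) 400 = true := by decide +kernel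

theorem h9 : allN (fun i => chkEl gs ws pi 6048 (i + 3600)) 400 = true := by decide +kernel

theorem h10 : allN (fun i => chkEl gs ws pi 6048 (i + 4000)) 400 = true := by decide +kernel

theorem h11 : allN (fun i => chkEl gs ws pi 6048 (i + 4400)) 400 = true := by decide +kernel

theorem h12 : allN (fun i => chkEl gs ws pi 6048 (i + 4800)) 400 = true := by decide +kernel

theorem h13 : allN (fun i => chkEl gs ws pi 6048 (i + 5200)) 400 = true := by decide +kernel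

theorem h14 : allN (fun i => chkEl gs ws pi 6048 (i + 5600)) 400 = true := by decide +kernel

theorem h15 : allN (fun i => chkEl gs ws pi 6048 (i + 6000)) 48 = true := by decide +kernel

theorem hall (i : Nat) (hi : i < 6048) : chkEl gs ws pi 6048 i = true := by
  by_cases h0' : i < 400
  · have := allN_spec h0 (i - 0) (by omega)
    rwa [Nat.sub_add_cancel (by omega)] at this
  by_cases h1' : i < 800
  · have := allN_spec h1 (i - 400) (by omega)
    rwa [Nat.sub_add_cancel (by omega)] at this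
  by_cases h2' : i < 1200
  · have := allN_spec h2 (i - 800) (by omega)
    rwa [Nat.sub_add_cancel (by omega)] at this
  by_cases h3' : i < 1600
  · have := allN_spec h3 (i - 1200) (by omega)
    rwa [Nat.sub_add_cancel (by omega)] at this
  by_cases h4' : i < 2000
  · have := allN_spec h4 (i - 1600) (by omega)
    rwa [Nat.sub_add_cancel (by omega)] at this
  by_cases h5' : i < 2400
  · have := allN_spec h5 (i - 2000) (by omega)
    rwa [Nat.sub_add_cancel (by omega)] at this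
  by_cases h6' : i < 2800
  · have := allN_spec h6 (i - 2400) (by omega)
    rwa [Nat.sub_add_cancel (by omega)] at this
  by_cases h7' : i < 3200
  · have := allN_spec h7 (i - 2800) (by omega)
    rwa [Nat.sub_add_cancel (by omega)] at this
  by_cases h8' : i < 3600
  · have := allN_spec h8 (i - 3200) (by omega)
    rwa [Nat.sub_add_cancel (by omega)] at this
  by_cases h9' : i < 4000
  · have := allN_spec h9 (i - 3600) (by omega)
    rwa [Nat.sub_add_cancel (by omega)] at this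
  by_cases h10' : i < 4400
  · have := allN_spec h10 (i - 4000) (by omega)
    rwa [Nat.sub_add_cancel (by omega)] at this
  by_cases h11' : i < 4800
  · have := allN_spec h11 (i - 4400) (by omega)
    rwa [Nat.sub_add_cancel (by omega)] at this
  by_cases h12' : i < 5200
  · have := allN_spec h12 (i - 4800) (by omega)
    rwa [Nat.sub_add_cancel (by omega)] at this
  by_cases h13' : i < 5600
  · have := allN_spec h13 (i - 5200) (by omega)
    rwa [Nat.sub_add_cancel (by omega)] at this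
  by_cases h14' : i < 6000
  · have := allN_spec h14 (i - 5600) (by omega)
    rwa [Nat.sub_add_cancel (by omega)] at this
  by_cases h15' : i < 6048
  · have := allN_spec h15 (i - 6000) (by omega)
    rwa [Nat.sub_add_cancel (by omega)] at this
  omega

theorem hid : ws 63 = [] := by decide +kernel

theorem n0 : allN (fun i => Bool.not (fixAll ptQ bQ (ws (i + 64) ++ ws (i + 64)))) 800 = true := by decide +kernel

theorem n1 : allN (fun i => Bool.not (fixAll ptQ bQ (ws (i + 864) ++ ws (i + 864)))) 800 = true := by decide +kernel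

theorem n2 : allN (fun i => Bool.not (fixAll ptQ bQ (ws (i + 1664) ++ ws (i + 1664)))) 800 = true := by decide +kernel

theorem n3 : allN (fun i => Bool.not (fixAll ptQ bQ (ws (i + 2464) ++ ws (i + 2464)))) 800 = true := by decide +kernel

theorem n4 : allN (fun i => Bool.not (fixAll ptQ bQ (ws (i + 3264) ++ ws (i + 3264)))) 800 = true := by decide +kernel

theorem n5 : allN (fun i => Bool.not (fixAll ptQ bQ (ws (i + 4064) ++ ws (i + 4064)))) 800 = true := by decide +kernel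

theorem n6 : allN (fun i => Bool.not (fixAll ptQ bQ (ws (i + 4864) ++ ws (i + 4864)))) 800 = true := by decide +kernel

theorem n7 : allN (fun i => Bool.not (fixAll ptQ bQ (ws (i + 5664) ++ ws (i + 5664)))) 384 = true := by decide +kernel

theorem hni (i : Nat) (h1 : 63 < i) (hi : i < 6048) : Bool.not (fixAll ptQ bQ (ws i ++ ws i)) = true := by
  by_cases h0' : i < 864
  · have := allN_spec n0 (i - 64) (by omega)
    rwa [Nat.sub_add_cancel (by omega)] at this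
  by_cases h1' : i < 1664
  · have := allN_spec n1 (i - 864) (by omega)
    rwa [Nat.sub_add_cancel (by omega)] at this
  by_cases h2' : i < 2464
  · have := allN_spec n2 (i - 1664) (by omega)
    rwa [Nat.sub_add_cancel (by omega)] at this
  by_cases h3' : i < 3264
  · have := allN_spec n3 (i - 2464) (by omega)
    rwa [Nat.sub_add_cancel (by omega)] at this
  by_cases h4' : i < 4064
  · have := allN_spec n4 (i - 3264) (by omega)
    rwa [Nat.sub_add_cancel (by omega)] at this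
  by_cases h5' : i < 4864
  · have := allN_spec n5 (i - 4064) (by omega)
    rwa [Nat.sub_add_cancel (by omega)] at this
  by_cases h6' : i < 5664
  · have := allN_spec n6 (i - 4864) (by omega)
    rwa [Nat.sub_add_cancel (by omega)] at this
  by_cases h7' : i < 6048
  · have := allN_spec n7 (i - 5664) (by omega)
    rwa [Nat.sub_add_cancel (by omega)] at this
  omega

end Cfsg.Agent.Lib.DCE.Ly.Inv.T2
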