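import Cfsg.Agent.Lib.DCE.Ly.Inv.Defs

/-! The list of the elements of the subgroup of a node. -/

namespace Cfsg.Agent.Lib.DCE.Ly.Inv.T3

open Cfsg.Agent.Lib.TC.Core Cfsg.Agent.Lib.TC.Enc Cfsg.Agent.Lib.TC.Pres Cfsg.Agent.Lib.TC.Iso Cfsg.Agent.Lib.DCE.MatP
  Cfsg.Agent.Lib.DCE.Ly.Setup Cfsg.Agent.Lib.DCE.Ly.Rules Cfsg.Agent.Lib.DCE.Ly.Gens
  Cfsg.Agent.Lib.DCE.Ly.Inv.Defs

set_option maxRecDepth 100000

/-- The words of the elements. -/
noncomputable def wT : Tr Nat :=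
  (Tr.node (Tr.node (Tr.node (Tr.node (Tr.node (Tr.node (Tr.node (Tr.node (Tr.node (Tr.node (Tr.node (Tr.node (Tr.leaf (nat_lit 0x1111)) (Tr.leaf (nat_lit 0x9134532822367712))) (Tr.node (Tr.leaf (nat_lit 0x41565423622317)) (Tr.leaf (nat_lit 0x0)))) (Tr.node (Tr.node (Tr.leaf (nat_lit 0x9584537637871771712)) (Tr.leaf (nat_lit 0x41565468637767122))) (Tr.node (Tr.leaf (nat_lit 0x73763712)) (Tr.leaf (nat_lit 0x0))))) (Tr.node (Tr.node (Tr.node (Tr.leaf (nat_lit 0x91345328223666)) (Tr.leaf (nat_lit 0x512534263686267712))) (Tr.node (Tr.leaf (nat_lit 0x91345713232267717)) (Tr.leaf (nat_lit 0x0)))) (Tr.node (Tr.node (Tr.leaf (nat_lit 0x236234813778677121)) (Tr.leaf (nat_lit 0x815218681771211))) (Tr.node (Tr.leaf (nat_lit 0x8815318717322122121)) (Tr.leaf (nat_lit 0x0)))))) (Tr.node (Tr.node (Tr.node (Tr.node (Tr.leaf (nat_lit 0x41215878767762)) (Tr.leaf (nat_lit 0x8145468236237626))) (Tr.node (Tr.leaf (nat_lit 0x56313437873622621)) (Tr.leaf (nat_lit 0x0)))) (Tr.node (Tr.node (Tr.leaf (nat_lit 0x4156542687337767)) (Tr.leaf (nat_lit 0x143452231781221221))) (Tr.node (Tr.leaf (nat_lit 0x621737717121)) (Tr.leaf (nat_lit 0x0))))) (Tr.node (Tr.node (Tr.node (Tr.leaf (nat_lit 0x468217111)) (Tr.leaf (nat_lit 0x14345718773121221))) (Tr.node (Tr.leaf (nat_lit 0x8841546823623677171)) (Tr.leaf (nat_lit 0x0)))) (Tr.node (Tr.node (Tr.leaf (nat_lit 0x354123418733132622626)) (Tr.leaf (nat_lit 0x0))) (Tr.node (Tr.leaf (nat_lit 0x33152886313267622)) (Tr.leaf (nat_lit 0x0))))))) (Tr.node (Tr.node (Tr.node (Tr.node (Tr.node (Tr.leaf (nat_lit 0x15223178776217)) (Tr.leaf (nat_lit 0x4687621221))) (Tr.node (Tr.leaf (nat_lit 0x5432334781213771)) (Tr.leaf (nat_lit 0x0)))) (Tr.node (Tr.node (Tr.leaf (nat_lit 0x34654718678221221)) (Tr.leaf (nat_lit 0x5432334781213262217))) (Tr.node (Tr.leaf (nat_lit 0x5432334773213712171)) (Tr.leaf (nat_lit 0x0))))) (Tr.node (Tr.node (Tr.node (Tr.leaf (nat_lit 0x8286343681322121)) (Tr.leaf (nat_lit 0x563134637332212171))) (Tr.node (Tr.leaf (nat_lit 0x958458231732622622121)) (Tr.leaf (nat_lit 0x0)))) (Tr.node (Tr.node (Tr.leaf (nat_lit 0x412158786732217711)) (Tr.leaf (nat_lit 0x0))) (Tr.node (Tr.leaf (nat_lit 0x315713136221217)) (Tr.leaf (nat_lit 0x0)))))) (Tr.node (Tr.node (Tr.node (Tr.node (Tr.leaf (nat_lit 0x9134567321231221711)) (Tr.leaf (nat_lit 0x4632676))) (Tr.node (Tr.leaf (nat_lit 0x41565468637767712)) (Tr.leaf (nat_lit 0x0)))) (Tr.node (Tr.node (Tr.leaf (nat_lit 0x23623473318137121711)) (Tr.leaf (nat_lit 0x4134217322177))) (Tr.node (Tr.leaf (nat_lit 0x913452231787626771)) (Tr.leaf (nat_lit 0x0))))) (Tr.node (Tr.node (Tr.node (Tr.leaf (nat_lit 0x8145477628121)) (Tr.leaf (nat_lit 0x412158786782671))) (Tr.node (Tr.leaf (nat_lit 0x2362343378682177111)) (Tr.leaf (nat_lit 0x0)))) (Tr.node (Tr.node (Tr.leaf (nat_lit 0x143452231782621)) (Tr.leaf (nat_lit 0x0))) (Tr.node (Tr.leaf (nat_lit 0x413452231782121)) (Tr.leaf (nat_lit 0x0)))))))) (Tr.node (Tr.node (Tr.node (Tr.node (Tr.node (Tr.node (Tr.leaf (nat_lit 0x1571877322676)) (Tr.leaf (nat_lit 0x413452231782267177))) (Tr.node (Tr.leaf (nat_lit 0x814547186787677122)) (Tr.leaf (nat_lit 0x0)))) (Tr.node (Tr.node (Tr.leaf (nat_lit 0x354123468236232211)) (Tr.leaf (nat_lit 0x23623428137362262212))) (Tr.node (Tr.leaf (nat_lit 0x881573622321211)) (Tr.leaf (nat_lit 0x0))))) (Tr.node (Tr.node (Tr.node (Tr.leaf (nat_lit 0x45893422867367622)) (Tr.leaf (nat_lit 0x236234137132262))) (Tr.node (Tr.leaf (nat_lit 0x458453323713776771)) (Tr.leaf (nat_lit 0x0)))) (Tr.node (Tr.node (Tr.leaf (nat_lit 0x34654377323622171)) (Tr.leaf (nat_lit 0x958458231736771))) (Tr.node (Tr.leaf (nat_lit 0x51523418182136221712)) (Tr.leaf (nat_lit 0x0)))))) (Tr.node (Tr.node (Tr.node (Tr.node (Tr.leaf (nat_lit 0x73123122)) (Tr.leaf (nat_lit 0x3354334128223762))) (Tr.node (Tr.leaf (nat_lit 0x54323347732237621771)) (Tr.leaf (nat_lit 0x0)))) (Tr.node (Tr.node (Tr.leaf (nat_lit 0x51253486281322671)) (Tr.leaf (nat_lit 0x41215322323262177))) (Tr.node (Tr.leaf (nat_lit 0x463452231786712212)) (Tr.leaf (nat_lit 0x0))))) (Tr.node (Tr.node (Tr.node (Tr.leaf (nat_lit 0x331582373637677177)) (Tr.leaf (nat_lit 0x828634323373621771))) (Tr.node (Tr.leaf (nat_lit 0x884154377323622676)) (Tr.leaf (nat_lit 0x0)))) (Tr.node (Tr.node (Tr.leaf (nat_lit 0x8152186817122)) (Tr.leaf (nat_lit 0x0))) (Tr.node (Tr.leaf (nat_lit 0x512534263686217712)) (Tr.leaf (nat_lit 0x0))))))) (Tr.node (Tr.node (Tr.node (Tr.node (Tr.node (Tr.leaf (nat_lit 0x5346543232637621221)) (Tr.leaf (nat_lit 0x91345673212362262212))) (Tr.node (Tr.leaf (nat_lit 0x512534178771312217)) (Tr.leaf (nat_lit 0x0)))) (Tr.node (Tr.node (Tr.leaf (nat_lit 0x4584537637876712122)) (Tr.leaf (nat_lit 0x8815318717322622121))) (Tr.node (Tr.leaf (nat_lit 0x458452686732262171)) (Tr.leaf (nat_lit 0x0))))) (Tr.node (Tr.node (Tr.node (Tr.leaf (nat_lit 0x46565481376326717)) (Tr.leaf (nat_lit 0x35412347682181221211))) (Tr.node (Tr.leaf (nat_lit 0x8815373268671)) (Tr.leaf (nat_lit 0x0)))) (Tr.node (Tr.node (Tr.leaf (nat_lit 0x34654776282677671)) (Tr.leaf (nat_lit 0x0))) (Tr.node (Tr.leaf (nat_lit 0x5346548187336776776)) (Tr.leaf (nat_lit 0x0)))))) (Tr.node (Tr.node (Tr.node (Tr.node (Tr.leaf (nat_lit 0x121732671)) (Tr.leaf (nat_lit 0x4634571323217121))) (Tr.node (Tr.leaf (nat_lit 0x91345718773621221)) (Tr.leaf (nat_lit 0x0)))) (Tr.node (Tr.node (Tr.leaf (nat_lit 0x4656546863262217)) (Tr.leaf (nat_lit 0x354123431363731771211))) (Tr.node (Tr.leaf (nat_lit 0x335433412822371211)) (Tr.leaf (nat_lit 0x0))))) (Tr.node (Tr.node (Tr.node (Tr.leaf (nat_lit 0x33543341313218776217)) (Tr.leaf (nat_lit 0x354123431363731))) (Tr.node (Tr.leaf (nat_lit 0x23623433786826771)) (Tr.leaf (nat_lit 0x0)))) (Tr.node (Tr.node (Tr.leaf (nat_lit 0x46565481376326221221)) (Tr.leaf (nat_lit 0x0))) (Tr.node (Tr.leaf (nat_lit 0x33543346287313771221)) (Tr.leaf (nat_lit 0x0))))))))) (Tr.node (Tr.node (Tr.node (Tr.node (Tr.node (Tr.node (Tr.node (Tr.leaf (nat_lit 0x157132367766)) (Tr.leaf (nat_lit 0x354123468236231211))) (Tr.node (Tr.leaf (nat_lit 0x145654686377111)) (Tr.leaf (nat_lit 0x0)))) (Tr.node (Tr.node (Tr.leaf (nat_lit 0x8841546823623177171)) (Tr.leaf (nat_lit 0x41371771711))) (Tr.node (Tr.leaf (nat_lit 0x463426737717121)) (Tr.leaf (nat_lit 0x0))))) (Tr.node (Tr.node (Tr.node (Tr.leaf (nat_lit 0x45845332371322622621)) (Tr.leaf (nat_lit 0x143426786221771))) (Tr.node (Tr.leaf (nat_lit 0x236234337868767717121)) (Tr.leaf (nat_lit 0x0)))) (Tr.node (Tr.node (Tr.leaf (nat_lit 0x8158178682622676)) (Tr.leaf (nat_lit 0x9584526718137767717121))) (Tr.node (Tr.leaf (nat_lit 0x81523221236776771)) (Tr.leaf (nat_lit 0x0)))))) (Tr.node (Tr.node (Tr.node (Tr.node (Tr.leaf (nat_lit 0x51253478873671221)) (Tr.leaf (nat_lit 0x4656546863262267))) (Tr.node (Tr.leaf (nat_lit 0x51523468681317712)) (Tr.leaf (nat_lit 0x0)))) (Tr.node (Tr.node (Tr.leaf (nat_lit 0x458934713268267)) (Tr.leaf (nat_lit 0x143421787767121))) (Tr.node (Tr.leaf (nat_lit 0x958453323713771771)) (Tr.leaf (nat_lit 0x0))))) (Tr.node (Tr.node (Tr.node (Tr.leaf (nat_lit 0x14565481376376267)) (Tr.leaf (nat_lit 0x31522137712171))) (Tr.node (Tr.leaf (nat_lit 0x3143734763682)) (Tr.leaf (nat_lit 0x0)))) (Tr.node (Tr.node (Tr.leaf (nat_lit 0x31522131771)) (Tr.leaf (nat_lit 0x0))) (Tr.node (Tr.leaf (nat_lit 0x4134571323622622)) (Tr.leaf (nat_lit 0x0))))))) (Tr.node (Tr.node (Tr.node (Tr.node (Tr.node (Tr.leaf (nat_lit 0x46345673212366226)) (Tr.leaf (nat_lit 0x913467122))) (Tr.node (Tr.leaf (nat_lit 0x88153187173262671)) (Tr.leaf (nat_lit 0x0)))) (Tr.node (Tr.node (Tr.leaf (nat_lit 0x46345718773121221)) (Tr.leaf (nat_lit 0x463421782676))) (Tr.node (Tr.leaf (nat_lit 0x3143734236328226226)) (Tr.leaf (nat_lit 0x0))))) (Tr.node (Tr.node (Tr.node (Tr.leaf (nat_lit 0x33915477628626)) (Tr.leaf (nat_lit 0x5346543232137621221))) (Tr.node (Tr.leaf (nat_lit 0x8815373268676)) (Tr.leaf (nat_lit 0x0)))) (Tr.node (Tr.node (Tr.leaf (nat_lit 0x413421737621221)) (Tr.leaf (nat_lit 0x0))) (Tr.node (Tr.leaf (nat_lit 0x958458231736776)) (Tr.leaf (nat_lit 0x0)))))) (Tr.node (Tr.node (Tr.node (Tr.node (Tr.leaf (nat_lit 0x462671)) (Tr.leaf (nat_lit 0x331563177376712122))) (Tr.node (Tr.leaf (nat_lit 0x81454678687122121)) (Tr.leaf (nat_lit 0x0)))) (Tr.node (Tr.node (Tr.leaf (nat_lit 0x7762)) (Tr.leaf (nat_lit 0x34654776286267712))) (Tr.node (Tr.leaf (nat_lit 0x31571313267762)) (Tr.leaf (nat_lit 0x0))))) (Tr.node (Tr.node (Tr.node (Tr.leaf (nat_lit 0x1571323177)) (Tr.leaf (nat_lit 0x81536822377121))) (Tr.node (Tr.leaf (nat_lit 0x51253478873676226)) (Tr.leaf (nat_lit 0x0)))) (Tr.node (Tr.node (Tr.leaf (nat_lit 0x339154678682122122121)) (Tr.leaf (nat_lit 0x0))) (Tr.node (Tr.leaf (nat_lit 0x53465417313262171)) (Tr.leaf (nat_lit 0x0)))))))) (Tr.node (Tr.node (Tr.node (Tr.node (Tr.node (Tr.node (Tr.leaf (nat_lit 0x143456732123221)) (Tr.leaf (nat_lit 0x4121587867822677))) (Tr.node (Tr.leaf (nat_lit 0x413453282231)) (Tr.leaf (nat_lit 0x0)))) (Tr.node (Tr.node (Tr.leaf (nat_lit 0x314373476368762)) (Tr.leaf (nat_lit 0x46342178767717))) (Tr.node (Tr.leaf (nat_lit 0x3391547186782622671)) (Tr.leaf (nat_lit 0x0))))) (Tr.node (Tr.node (Tr.node (Tr.leaf (nat_lit 0x339154678687712171)) (Tr.leaf (nat_lit 0x339154682362367177))) (Tr.node (Tr.leaf (nat_lit 0x354123473313776712)) (Tr.leaf (nat_lit 0x0)))) (Tr.node (Tr.node (Tr.leaf (nat_lit 0x4132671)) (Tr.leaf (nat_lit 0x45845376378767122))) (Tr.node (Tr.leaf (nat_lit 0x3143734236328767)) (Tr.leaf (nat_lit 0x0)))))) (Tr.node (Tr.node (Tr.node (Tr.node (Tr.leaf (nat_lit 0x9584526718136771)) (Tr.leaf (nat_lit 0x81523221231771771))) (Tr.node (Tr.leaf (nat_lit 0x3541234768218776221)) (Tr.leaf (nat_lit 0x0)))) (Tr.node (Tr.node (Tr.leaf (nat_lit 0x53465432326322177)) (Tr.leaf (nat_lit 0x3354334128268622))) (Tr.node (Tr.leaf (nat_lit 0x31437347636871712)) (Tr.leaf (nat_lit 0x0))))) (Tr.node (Tr.node (Tr.node (Tr.leaf (nat_lit 0x5346541731322622621)) (Tr.leaf (nat_lit 0x45893471326876226))) (Tr.node (Tr.leaf (nat_lit 0x463217111)) (Tr.leaf (nat_lit 0x0)))) (Tr.node (Tr.node (Tr.leaf (nat_lit 0x46565481376322626)) (Tr.leaf (nat_lit 0x0))) (Tr.node (Tr.leaf (nat_lit 0x81521868111)) (Tr.leaf (nat_lit 0x0))))))) (Tr.node (Tr.node (Tr.node (Tr.node (Tr.node (Tr.leaf (nat_lit 0x56313437876231221221)) (Tr.leaf (nat_lit 0x23623428137362217))) (Tr.node (Tr.leaf (nat_lit 0x23623428137366226)) (Tr.leaf (nat_lit 0x0)))) (Tr.node (Tr.node (Tr.leaf (nat_lit 0x152231782621)) (Tr.leaf (nat_lit 0x339154377323622671))) (Tr.node (Tr.leaf (nat_lit 0x335433413132186226226)) (Tr.leaf (nat_lit 0x0))))) (Tr.node (Tr.node (Tr.node (Tr.leaf (nat_lit 0x884154718678762262)) (Tr.leaf (nat_lit 0x458452686732262671))) (Tr.node (Tr.leaf (nat_lit 0x512534317137712211)) (Tr.leaf (nat_lit 0x0)))) (Tr.node (Tr.node (Tr.leaf (nat_lit 0x34654678682622122121)) (Tr.leaf (nat_lit 0x0))) (Tr.node (Tr.leaf (nat_lit 0x1456546863212217)) (Tr.leaf (nat_lit 0x0)))))) (Tr.node (Tr.node (Tr.node (Tr.node (Tr.leaf (nat_lit 0x73763622)) (Tr.leaf (nat_lit 0x91342173217111))) (Tr.node (Tr.leaf (nat_lit 0x5432334712818262267)) (Tr.leaf (nat_lit 0x0)))) (Tr.node (Tr.node (Tr.leaf (nat_lit 0x41565481376322621)) (Tr.leaf (nat_lit 0x5432334712818262212212))) (Tr.node (Tr.leaf (nat_lit 0x1456542362237177121)) (Tr.leaf (nat_lit 0x0))))) (Tr.node (Tr.node (Tr.node (Tr.leaf (nat_lit 0x54323347732236712212)) (Tr.leaf (nat_lit 0x31522136771))) (Tr.node (Tr.leaf (nat_lit 0x41565462132867717121)) (Tr.leaf (nat_lit 0x0)))) (Tr.node (Tr.node (Tr.leaf (nat_lit 0x45893422867317122)) (Tr.leaf (nat_lit 0x0))) (Tr.node (Tr.leaf (nat_lit 0x3541234682362362)) (Tr.leaf (nat_lit 0x0)))))))))) (Tr.node (Tr.node (Tr.node (Tr.node (Tr.node (Tr.node (Tr.node (Tr.node (Tr.leaf (nat_lit 0x4121587876776712)) (Tr.leaf (nat_lit 0x41341771712))) (Tr.node (Tr.leaf (nat_lit 0x1434571877367767)) (Tr.leaf (nat_lit 0x0)))) (Tr.node (Tr.node (Tr.leaf (nat_lit 0x56313437873622121)) (Tr.leaf (nat_lit 0x1456546863262267))) (Tr.node (Tr.leaf (nat_lit 0x331528877637622626)) (Tr.leaf (nat_lit 0x0))))) (Tr.node (Tr.node (Tr.node (Tr.leaf (nat_lit 0x51253417877132217122)) (Tr.leaf (nat_lit 0x31437341363131771712))) (Tr.node (Tr.leaf (nat_lit 0x354123431363736712122)) (Tr.leaf (nat_lit 0x0)))) (Tr.node (Tr.node (Tr.leaf (nat_lit 0x4134571877377677)) (Tr.leaf (nat_lit 0x145654621328221771))) (Tr.node (Tr.leaf (nat_lit 0x23623428137312212212)) (Tr.leaf (nat_lit 0x0)))))) (Tr.node (Tr.node (Tr.node (Tr.node (Tr.leaf (nat_lit 0x462676)) (Tr.leaf (nat_lit 0x4134571877322671))) (Tr.node (Tr.leaf (nat_lit 0x814546823623177171)) (Tr.leaf (nat_lit 0x0)))) (Tr.node (Tr.node (Tr.leaf (nat_lit 0x534654323263217111)) (Tr.leaf (nat_lit 0x41215868263262671))) (Tr.node (Tr.leaf (nat_lit 0x458934233223122122)) (Tr.leaf (nat_lit 0x0))))) (Tr.node (Tr.node (Tr.node (Tr.leaf (nat_lit 0x4121532232317712)) (Tr.leaf (nat_lit 0x3158623178267))) (Tr.node (Tr.leaf (nat_lit 0x534654818733622622121)) (Tr.leaf (nat_lit 0x0)))) (Tr.node (Tr.node (Tr.leaf (nat_lit 0x413767717)) (Tr.leaf (nat_lit 0x0))) (Tr.node (Tr.leaf (nat_lit 0x5346543232137717121)) (Tr.leaf (nat_lit 0x0))))))) (Tr.node (Tr.node (Tr.node (Tr.node (Tr.node (Tr.leaf (nat_lit 0x33543348878286221712)) (Tr.leaf (nat_lit 0x9134571323122122))) (Tr.node (Tr.leaf (nat_lit 0x8286342637137)) (Tr.leaf (nat_lit 0x0)))) (Tr.node (Tr.node (Tr.leaf (nat_lit 0x236234813778212212)) (Tr.leaf (nat_lit 0x463457132317711))) (Tr.node (Tr.leaf (nat_lit 0x45893436732622676)) (Tr.leaf (nat_lit 0x0))))) (Tr.node (Tr.node (Tr.node (Tr.leaf (nat_lit 0x95845268673622122121)) (Tr.leaf (nat_lit 0x14565462132867717121))) (Tr.node (Tr.leaf (nat_lit 0x4632171)) (Tr.leaf (nat_lit 0x0)))) (Tr.node (Tr.node (Tr.leaf (nat_lit 0x913421782171)) (Tr.leaf (nat_lit 0x0))) (Tr.node (Tr.leaf (nat_lit 0x34654377323677177)) (Tr.leaf (nat_lit 0x0)))))) (Tr.node (Tr.node (Tr.node (Tr.node (Tr.leaf (nat_lit 0x828634322363267712)) (Tr.leaf (nat_lit 0x41342178717717))) (Tr.node (Tr.leaf (nat_lit 0x4634571877322171)) (Tr.leaf (nat_lit 0x0)))) (Tr.node (Tr.node (Tr.leaf (nat_lit 0x766622)) (Tr.leaf (nat_lit 0x9134532822367122))) (Tr.node (Tr.leaf (nat_lit 0x8153682236217)) (Tr.leaf (nat_lit 0x0))))) (Tr.node (Tr.node (Tr.node (Tr.leaf (nat_lit 0x5346548187332262171)) (Tr.leaf (nat_lit 0x331582373636221))) (Tr.node (Tr.leaf (nat_lit 0x46565423622362212)) (Tr.leaf (nat_lit 0x0)))) (Tr.node (Tr.node (Tr.leaf (nat_lit 0x463426732217711)) (Tr.leaf (nat_lit 0x0))) (Tr.node (Tr.leaf (nat_lit 0x458458231737622121)) (Tr.leaf (nat_lit 0x0)))))))) (Tr.node (Tr.node (Tr.node (Tr.node (Tr.node (Tr.node (Tr.leaf (nat_lit 0x463452231787626771)) (Tr.leaf (nat_lit 0x3152213177111))) (Tr.node (Tr.leaf (nat_lit 0x4156542362237677621)) (Tr.leaf (nat_lit 0x0)))) (Tr.node (Tr.node (Tr.leaf (nat_lit 0x5346548187332671771)) (Tr.leaf (nat_lit 0x41345713231212))) (Tr.node (Tr.leaf (nat_lit 0x236234733181326226221)) (Tr.leaf (nat_lit 0x0))))) (Tr.node (Tr.node (Tr.node (Tr.leaf (nat_lit 0x4156546863771)) (Tr.leaf (nat_lit 0x56313437876236226226))) (Tr.node (Tr.leaf (nat_lit 0x81454682362321217)) (Tr.leaf (nat_lit 0x0)))) (Tr.node (Tr.node (Tr.leaf (nat_lit 0x413452231782626)) (Tr.leaf (nat_lit 0x815232212376776))) (Tr.node (Tr.leaf (nat_lit 0x354123473313771712)) (Tr.leaf (nat_lit 0x0)))))) (Tr.node (Tr.node (Tr.node (Tr.node (Tr.leaf (nat_lit 0x54323347732232267177)) (Tr.leaf (nat_lit 0x88153732682267621))) (Tr.node (Tr.leaf (nat_lit 0x51253426368226267)) (Tr.leaf (nat_lit 0x0)))) (Tr.node (Tr.node (Tr.leaf (nat_lit 0x9584537637876771712)) (Tr.leaf (nat_lit 0x335433413132187621771))) (Tr.node (Tr.leaf (nat_lit 0x515234686813666)) (Tr.leaf (nat_lit 0x0))))) (Tr.node (Tr.node (Tr.node (Tr.leaf (nat_lit 0x5152341821313767712)) (Tr.leaf (nat_lit 0x458453763782262217))) (Tr.node (Tr.leaf (nat_lit 0x8841543773237762212)) (Tr.leaf (nat_lit 0x0)))) (Tr.node (Tr.node (Tr.leaf (nat_lit 0x1434571877377177)) (Tr.leaf (nat_lit 0x0))) (Tr.node (Tr.leaf (nat_lit 0x35412347682187677121)) (Tr.leaf (nat_lit 0x0))))))) (Tr.node (Tr.node (Tr.node (Tr.node (Tr.node (Tr.leaf (nat_lit 0x42622121)) (Tr.leaf (nat_lit 0x51253417877131221711))) (Tr.node (Tr.leaf (nat_lit 0x465654268733771711)) (Tr.leaf (nat_lit 0x0)))) (Tr.node (Tr.node (Tr.leaf (nat_lit 0x145654813763626776)) (Tr.leaf (nat_lit 0x121736221771))) (Tr.node (Tr.leaf (nat_lit 0x9134532822367622)) (Tr.leaf (nat_lit 0x0))))) (Tr.node (Tr.node (Tr.node (Tr.leaf (nat_lit 0x46565481376371217)) (Tr.leaf (nat_lit 0x91345673212362217))) (Tr.node (Tr.leaf (nat_lit 0x4682171)) (Tr.leaf (nat_lit 0x0)))) (Tr.node (Tr.node (Tr.leaf (nat_lit 0x5631348878713626771)) (Tr.leaf (nat_lit 0x0))) (Tr.node (Tr.leaf (nat_lit 0x463421787767121)) (Tr.leaf (nat_lit 0x0)))))) (Tr.node (Tr.node (Tr.node (Tr.node (Tr.leaf (nat_lit 0x5346541731362262671)) (Tr.leaf (nat_lit 0x35412347682181711))) (Tr.node (Tr.leaf (nat_lit 0x5432334288263717711)) (Tr.leaf (nat_lit 0x0)))) (Tr.node (Tr.node (Tr.leaf (nat_lit 0x9584526718137122121)) (Tr.leaf (nat_lit 0x413452231787121771))) (Tr.node (Tr.leaf (nat_lit 0x8152322123622622121)) (Tr.leaf (nat_lit 0x0))))) (Tr.node (Tr.node (Tr.node (Tr.leaf (nat_lit 0x56313482218132122121)) (Tr.leaf (nat_lit 0x4134267322677))) (Tr.node (Tr.leaf (nat_lit 0x9134267822677)) (Tr.leaf (nat_lit 0x0)))) (Tr.node (Tr.node (Tr.leaf (nat_lit 0x143453282236712122)) (Tr.leaf (nat_lit 0x0))) (Tr.node (Tr.leaf (nat_lit 0x8145468236237121)) (Tr.leaf (nat_lit 0x0))))))))) (Tr.node (Tr.node (Tr.node (Tr.node (Tr.node (Tr.node (Tr.node (Tr.leaf (nat_lit 0x417717121)) (Tr.leaf (nat_lit 0x54323347732231221221))) (Tr.node (Tr.leaf (nat_lit 0x3143734236328762262)) (Tr.leaf (nat_lit 0x0)))) (Tr.node (Tr.node (Tr.leaf (nat_lit 0x45893471326821711)) (Tr.leaf (nat_lit 0x4634666))) (Tr.node (Tr.leaf (nat_lit 0x415654621328226771)) (Tr.leaf (nat_lit 0x0))))) (Tr.node (Tr.node (Tr.node (Tr.leaf (nat_lit 0x15713236212)) (Tr.leaf (nat_lit 0x4634571877322676))) (Tr.node (Tr.leaf (nat_lit 0x512534178771362217)) (Tr.leaf (nat_lit 0x0)))) (Tr.node (Tr.node (Tr.leaf (nat_lit 0x458452686736776771)) (Tr.leaf (nat_lit 0x1434571323267121))) (Tr.node (Tr.leaf (nat_lit 0x354123476821817)) (Tr.leaf (nat_lit 0x0)))))) (Tr.node (Tr.node (Tr.node (Tr.node (Tr.leaf (nat_lit 0x41345223178776267)) (Tr.leaf (nat_lit 0x81454377323177177))) (Tr.node (Tr.leaf (nat_lit 0x512534788736217)) (Tr.leaf (nat_lit 0x0)))) (Tr.node (Tr.node (Tr.leaf (nat_lit 0x33915477628121)) (Tr.leaf (nat_lit 0x143421737767121))) (Tr.node (Tr.leaf (nat_lit 0x543233428826377171)) (Tr.leaf (nat_lit 0x0))))) (Tr.node (Tr.node (Tr.node (Tr.leaf (nat_lit 0x46345673212362212212)) (Tr.leaf (nat_lit 0x828634263713221712))) (Tr.node (Tr.leaf (nat_lit 0x913421736221771)) (Tr.leaf (nat_lit 0x0)))) (Tr.node (Tr.node (Tr.leaf (nat_lit 0x412153223236)) (Tr.leaf (nat_lit 0x0))) (Tr.node (Tr.leaf (nat_lit 0x54323347128187767712)) (Tr.leaf (nat_lit 0x0))))))) (Tr.node (Tr.node (Tr.node (Tr.node (Tr.node (Tr.leaf (nat_lit 0x463452231786226226)) (Tr.leaf (nat_lit 0x4682217711))) (Tr.node (Tr.leaf (nat_lit 0x4132171)) (Tr.leaf (nat_lit 0x0)))) (Tr.node (Tr.node (Tr.leaf (nat_lit 0x236234337868622621)) (Tr.leaf (nat_lit 0x315322128622622121))) (Tr.node (Tr.leaf (nat_lit 0x7312312122)) (Tr.leaf (nat_lit 0x0))))) (Tr.node (Tr.node (Tr.node (Tr.leaf (nat_lit 0x8145468236232671221)) (Tr.leaf (nat_lit 0x3143734236328226221))) (Tr.node (Tr.leaf (nat_lit 0x41345718773621221)) (Tr.leaf (nat_lit 0x0)))) (Tr.node (Tr.node (Tr.leaf (nat_lit 0x512534178771362262262)) (Tr.leaf (nat_lit 0x0))) (Tr.node (Tr.leaf (nat_lit 0x5432334781213212212212)) (Tr.leaf (nat_lit 0x0)))))) (Tr.node (Tr.node (Tr.node (Tr.node (Tr.leaf (nat_lit 0x66)) (Tr.leaf (nat_lit 0x34654377323177177))) (Tr.node (Tr.leaf (nat_lit 0x8286348713187677171)) (Tr.leaf (nat_lit 0x0)))) (Tr.node (Tr.node (Tr.leaf (nat_lit 0x465654268733622676)) (Tr.leaf (nat_lit 0x4589342332231212))) (Tr.node (Tr.leaf (nat_lit 0x81523221236776776)) (Tr.leaf (nat_lit 0x0))))) (Tr.node (Tr.node (Tr.node (Tr.leaf (nat_lit 0x5152347732636712)) (Tr.leaf (nat_lit 0x3158623178262262))) (Tr.node (Tr.leaf (nat_lit 0x4136221771)) (Tr.leaf (nat_lit 0x0)))) (Tr.node (Tr.node (Tr.leaf (nat_lit 0x4134267371771711)) (Tr.leaf (nat_lit 0x0))) (Tr.node (Tr.leaf (nat_lit 0x5346548187331771771)) (Tr.leaf (nat_lit 0x0)))))))) (Tr.node (Tr.node (Tr.node (Tr.node (Tr.node (Tr.node (Tr.leaf (nat_lit 0x152231786221221)) (Tr.leaf (nat_lit 0x1434267822177))) (Tr.node (Tr.leaf (nat_lit 0x14565462132862171)) (Tr.leaf (nat_lit 0x0)))) (Tr.node (Tr.node (Tr.leaf (nat_lit 0x46565481376322621)) (Tr.leaf (nat_lit 0x41341))) (Tr.node (Tr.leaf (nat_lit 0x121737767121)) (Tr.leaf (nat_lit 0x0))))) (Tr.node (Tr.node (Tr.node (Tr.leaf (nat_lit 0x152231782121)) (Tr.leaf (nat_lit 0x3391546823623677171))) (Tr.node (Tr.leaf (nat_lit 0x4121587876)) (Tr.leaf (nat_lit 0x0)))) (Tr.node (Tr.node (Tr.leaf (nat_lit 0x458934367371711)) (Tr.leaf (nat_lit 0x33156823233677122))) (Tr.node (Tr.leaf (nat_lit 0x3465477628221217)) (Tr.leaf (nat_lit 0x0)))))) (Tr.node (Tr.node (Tr.node (Tr.node (Tr.leaf (nat_lit 0x458934228673111)) (Tr.leaf (nat_lit 0x14345718773621221))) (Tr.node (Tr.leaf (nat_lit 0x814546823623712111)) (Tr.leaf (nat_lit 0x0)))) (Tr.node (Tr.node (Tr.leaf (nat_lit 0x3391547186782677177)) (Tr.leaf (nat_lit 0x315713132111))) (Tr.node (Tr.leaf (nat_lit 0x81536822377626)) (Tr.leaf (nat_lit 0x0))))) (Tr.node (Tr.node (Tr.node (Tr.leaf (nat_lit 0x45845332371322622121)) (Tr.leaf (nat_lit 0x339154678687622626))) (Tr.node (Tr.leaf (nat_lit 0x512534263682677171)) (Tr.leaf (nat_lit 0x0)))) (Tr.node (Tr.node (Tr.leaf (nat_lit 0x82863487131877626)) (Tr.leaf (nat_lit 0x0))) (Tr.node (Tr.leaf (nat_lit 0x335433412826821111)) (Tr.leaf (nat_lit 0x0))))))) (Tr.node (Tr.node (Tr.node (Tr.node (Tr.node (Tr.leaf (nat_lit 0x463453282231)) (Tr.leaf (nat_lit 0x51253431713267171))) (Tr.node (Tr.leaf (nat_lit 0x463421737717121)) (Tr.leaf (nat_lit 0x0)))) (Tr.node (Tr.node (Tr.leaf (nat_lit 0x45893436732677177)) (Tr.leaf (nat_lit 0x121737717121))) (Tr.node (Tr.leaf (nat_lit 0x913421737767121)) (Tr.leaf (nat_lit 0x0))))) (Tr.node (Tr.node (Tr.node (Tr.leaf (nat_lit 0x88153732682177)) (Tr.leaf (nat_lit 0x5432334773223776267))) (Tr.node (Tr.leaf (nat_lit 0x463457187737717711)) (Tr.leaf (nat_lit 0x0)))) (Tr.node (Tr.node (Tr.leaf (nat_lit 0x54323347732232626)) (Tr.leaf (nat_lit 0x0))) (Tr.node (Tr.leaf (nat_lit 0x563134887871326226221)) (Tr.leaf (nat_lit 0x0)))))) (Tr.node (Tr.node (Tr.node (Tr.node (Tr.leaf (nat_lit 0x15673212362212212)) (Tr.leaf (nat_lit 0x41215868263262171))) (Tr.node (Tr.leaf (nat_lit 0x335433413132182626)) (Tr.leaf (nat_lit 0x0)))) (Tr.node (Tr.node (Tr.leaf (nat_lit 0x5152347732632211)) (Tr.leaf (nat_lit 0x331563177312177))) (Tr.node (Tr.leaf (nat_lit 0x31437342363282622676)) (Tr.leaf (nat_lit 0x0))))) (Tr.node (Tr.node (Tr.node (Tr.leaf (nat_lit 0x15718773776212)) (Tr.leaf (nat_lit 0x143417122))) (Tr.node (Tr.leaf (nat_lit 0x88415437732321221)) (Tr.leaf (nat_lit 0x0)))) (Tr.node (Tr.node (Tr.leaf (nat_lit 0x51253431713221712)) (Tr.leaf (nat_lit 0x0))) (Tr.node (Tr.leaf (nat_lit 0x5152342128631221221)) (Tr.leaf (nat_lit 0x0))))))))))) (Tr.node (Tr.node (Tr.node (Tr.node (Tr.node (Tr.node (Tr.node (Tr.node (Tr.node (Tr.leaf (nat_lit 0x62173217111)) (Tr.leaf (nat_lit 0x463421737121221))) (Tr.node (Tr.leaf (nat_lit 0x913467622)) (Tr.leaf (nat_lit 0x0)))) (Tr.node (Tr.node (Tr.leaf (nat_lit 0x339154678686771)) (Tr.leaf (nat_lit 0x463452231781221221))) (Tr.node (Tr.leaf (nat_lit 0x346547186782677177)) (Tr.leaf (nat_lit 0x0))))) (Tr.node (Tr.node (Tr.node (Tr.leaf (nat_lit 0x5631346373371771)) (Tr.leaf (nat_lit 0x3354334887828677122))) (Tr.node (Tr.leaf (nat_lit 0x236234337868712171)) (Tr.leaf (nat_lit 0x0)))) (Tr.node (Tr.node (Tr.leaf (nat_lit 0x913426782171)) (Tr.leaf (nat_lit 0x315713132262177))) (Tr.node (Tr.leaf (nat_lit 0x41215878673217111)) (Tr.leaf (nat_lit 0x0)))))) (Tr.node (Tr.node (Tr.node (Tr.node (Tr.leaf (nat_lit 0x41346776712)) (Tr.leaf (nat_lit 0x3465468236237626))) (Tr.node (Tr.leaf (nat_lit 0x543233471281877666)) (Tr.leaf (nat_lit 0x0)))) (Tr.node (Tr.node (Tr.leaf (nat_lit 0x14565462132862671)) (Tr.leaf (nat_lit 0x354123476821862262))) (Tr.node (Tr.leaf (nat_lit 0x3354334887828776221)) (Tr.leaf (nat_lit 0x0))))) (Tr.node (Tr.node (Tr.node (Tr.leaf (nat_lit 0x412153223231771712)) (Tr.leaf (nat_lit 0x41345328223262177))) (Tr.node (Tr.leaf (nat_lit 0x512534178771362212212)) (Tr.leaf (nat_lit 0x0)))) (Tr.node (Tr.node (Tr.leaf (nat_lit 0x46871771711)) (Tr.leaf (nat_lit 0x0))) (Tr.node (Tr.leaf (nat_lit 0x4634571877367767)) (Tr.leaf (nat_lit 0x0))))))) (Tr.node (Tr.node (Tr.node (Tr.node (Tr.node (Tr.leaf (nat_lit 0x9584526718137762171)) (Tr.leaf (nat_lit 0x4121532232367762))) (Tr.node (Tr.leaf (nat_lit 0x884154678686776)) (Tr.leaf (nat_lit 0x0)))) (Tr.node (Tr.node (Tr.leaf (nat_lit 0x41565462132867121221)) (Tr.leaf (nat_lit 0x4134571323626762))) (Tr.node (Tr.leaf (nat_lit 0x335433413132187121771)) (Tr.leaf (nat_lit 0x0))))) (Tr.node (Tr.node (Tr.node (Tr.leaf (nat_lit 0x458934676236217712)) (Tr.leaf (nat_lit 0x8157713233122122121))) (Tr.node (Tr.leaf (nat_lit 0x512534317132212)) (Tr.leaf (nat_lit 0x0)))) (Tr.node (Tr.node (Tr.leaf (nat_lit 0x463421737621221)) (Tr.leaf (nat_lit 0x0))) (Tr.node (Tr.leaf (nat_lit 0x41215868263212171)) (Tr.leaf (nat_lit 0x0)))))) (Tr.node (Tr.node (Tr.node (Tr.node (Tr.leaf (nat_lit 0x14565481376322626)) (Tr.leaf (nat_lit 0x4634217322177))) (Tr.node (Tr.leaf (nat_lit 0x236234137132212)) (Tr.leaf (nat_lit 0x0)))) (Tr.node (Tr.node (Tr.leaf (nat_lit 0x14342673217111)) (Tr.leaf (nat_lit 0x413452231786221221))) (Tr.node (Tr.leaf (nat_lit 0x143457187737717711)) (Tr.leaf (nat_lit 0x0))))) (Tr.node (Tr.node (Tr.node (Tr.leaf (nat_lit 0x339154377323771711)) (Tr.leaf (nat_lit 0x3143734218178712122))) (Tr.node (Tr.leaf (nat_lit 0x3315631773717712)) (Tr.leaf (nat_lit 0x0)))) (Tr.node (Tr.node (Tr.leaf (nat_lit 0x4687717121)) (Tr.leaf (nat_lit 0x0))) (Tr.node (Tr.leaf (nat_lit 0x3158623178217)) (Tr.leaf (nat_lit 0x0)))))))) (Tr.node (Tr.node (Tr.node (Tr.node (Tr.node (Tr.node (Tr.leaf (nat_lit 0x884154718678226226)) (Tr.leaf (nat_lit 0x4584537637876))) (Tr.node (Tr.leaf (nat_lit 0x152231786226226)) (Tr.leaf (nat_lit 0x0)))) (Tr.node (Tr.node (Tr.leaf (nat_lit 0x331528877632122122121)) (Tr.leaf (nat_lit 0x515234181821317))) (Tr.node (Tr.leaf (nat_lit 0x712211)) (Tr.leaf (nat_lit 0x0))))) (Tr.node (Tr.node (Tr.node (Tr.leaf (nat_lit 0x46565426873326221)) (Tr.leaf (nat_lit 0x463417712))) (Tr.node (Tr.leaf (nat_lit 0x8145467868177111)) (Tr.leaf (nat_lit 0x0)))) (Tr.node (Tr.node (Tr.leaf (nat_lit 0x41345328223666)) (Tr.leaf (nat_lit 0x413421737767121))) (Tr.node (Tr.leaf (nat_lit 0x82863436813121771)) (Tr.leaf (nat_lit 0x0)))))) (Tr.node (Tr.node (Tr.node (Tr.node (Tr.leaf (nat_lit 0x34654718678712212)) (Tr.leaf (nat_lit 0x14565462132867767121))) (Tr.node (Tr.leaf (nat_lit 0x814546823623677171)) (Tr.leaf (nat_lit 0x0)))) (Tr.node (Tr.node (Tr.leaf (nat_lit 0x88415468236232671221)) (Tr.leaf (nat_lit 0x46342173717717))) (Tr.node (Tr.leaf (nat_lit 0x913421787717121)) (Tr.leaf (nat_lit 0x0))))) (Tr.node (Tr.node (Tr.node (Tr.leaf (nat_lit 0x15673212312212212)) (Tr.leaf (nat_lit 0x3153221286776776))) (Tr.node (Tr.leaf (nat_lit 0x828634263713711)) (Tr.leaf (nat_lit 0x0)))) (Tr.node (Tr.node (Tr.leaf (nat_lit 0x331568232331221211)) (Tr.leaf (nat_lit 0x0))) (Tr.node (Tr.leaf (nat_lit 0x913426737621221)) (Tr.leaf (nat_lit 0x0))))))) (Tr.node (Tr.node (Tr.node (Tr.node (Tr.node (Tr.leaf (nat_lit 0x1434532822317712)) (Tr.leaf (nat_lit 0x413217111))) (Tr.node (Tr.leaf (nat_lit 0x33915437732321221)) (Tr.leaf (nat_lit 0x0)))) (Tr.node (Tr.node (Tr.leaf (nat_lit 0x156732123221)) (Tr.leaf (nat_lit 0x1217322177))) (Tr.node (Tr.leaf (nat_lit 0x7376321111)) (Tr.leaf (nat_lit 0x0))))) (Tr.node (Tr.node (Tr.node (Tr.leaf (nat_lit 0x4656546863262262212)) (Tr.leaf (nat_lit 0x54323347128187767122))) (Tr.node (Tr.leaf (nat_lit 0x8841543773232122111)) (Tr.leaf (nat_lit 0x0)))) (Tr.node (Tr.node (Tr.leaf (nat_lit 0x51253486281322676)) (Tr.leaf (nat_lit 0x0))) (Tr.node (Tr.leaf (nat_lit 0x33915477628221217)) (Tr.leaf (nat_lit 0x0)))))) (Tr.node (Tr.node (Tr.node (Tr.node (Tr.leaf (nat_lit 0x73123712)) (Tr.leaf (nat_lit 0x34654776282177171))) (Tr.node (Tr.leaf (nat_lit 0x31532212876776)) (Tr.leaf (nat_lit 0x0)))) (Tr.node (Tr.node (Tr.leaf (nat_lit 0x4589346762312111)) (Tr.leaf (nat_lit 0x335433413132186712212))) (Tr.node (Tr.leaf (nat_lit 0x41346)) (Tr.leaf (nat_lit 0x0))))) (Tr.node (Tr.node (Tr.node (Tr.leaf (nat_lit 0x4156542687332122111)) (Tr.leaf (nat_lit 0x4589343673717))) (Tr.node (Tr.leaf (nat_lit 0x463453282231771211)) (Tr.leaf (nat_lit 0x0)))) (Tr.node (Tr.node (Tr.leaf (nat_lit 0x236234337868622626)) (Tr.leaf (nat_lit 0x0))) (Tr.node (Tr.leaf (nat_lit 0x53465432312212171)) (Tr.leaf (nat_lit 0x0))))))))) (Tr.node (Tr.node (Tr.node (Tr.node (Tr.node (Tr.node (Tr.node (Tr.leaf (nat_lit 0x1571323267621)) (Tr.leaf (nat_lit 0x33543346287313177122))) (Tr.node (Tr.leaf (nat_lit 0x81454377323622676)) (Tr.leaf (nat_lit 0x0)))) (Tr.node (Tr.node (Tr.leaf (nat_lit 0x51523468681367762)) (Tr.leaf (nat_lit 0x143421736221771))) (Tr.node (Tr.leaf (nat_lit 0x31437347636866622)) (Tr.leaf (nat_lit 0x0))))) (Tr.node (Tr.node (Tr.node (Tr.leaf (nat_lit 0x465654813763121771)) (Tr.leaf (nat_lit 0x913421737717121))) (Tr.node (Tr.leaf (nat_lit 0x46565462132867121221)) (Tr.leaf (nat_lit 0x0)))) (Tr.node (Tr.node (Tr.leaf (nat_lit 0x34654718678226221)) (Tr.leaf (nat_lit 0x51523468681367622))) (Tr.node (Tr.leaf (nat_lit 0x3541234733137762)) (Tr.leaf (nat_lit 0x0)))))) (Tr.node (Tr.node (Tr.node (Tr.node (Tr.leaf (nat_lit 0x34654678687622626)) (Tr.leaf (nat_lit 0x5346543232637767121))) (Tr.node (Tr.leaf (nat_lit 0x145654686377666)) (Tr.leaf (nat_lit 0x0)))) (Tr.node (Tr.node (Tr.leaf (nat_lit 0x33915468236237621)) (Tr.leaf (nat_lit 0x88153732682122122))) (Tr.node (Tr.leaf (nat_lit 0x458453323713771771)) (Tr.leaf (nat_lit 0x0))))) (Tr.node (Tr.node (Tr.node (Tr.leaf (nat_lit 0x339154678682622122121)) (Tr.leaf (nat_lit 0x331568232337677621))) (Tr.node (Tr.leaf (nat_lit 0x881573622322622)) (Tr.leaf (nat_lit 0x0)))) (Tr.node (Tr.node (Tr.leaf (nat_lit 0x82863432337326221221)) (Tr.leaf (nat_lit 0x0))) (Tr.node (Tr.leaf (nat_lit 0x331563177371)) (Tr.leaf (nat_lit 0x0))))))) (Tr.node (Tr.node (Tr.node (Tr.node (Tr.node (Tr.leaf (nat_lit 0x14345673212362262212)) (Tr.leaf (nat_lit 0x8841546823623677671))) (Tr.node (Tr.leaf (nat_lit 0x884154776282177171)) (Tr.leaf (nat_lit 0x0)))) (Tr.node (Tr.node (Tr.leaf (nat_lit 0x51523418213132262217)) (Tr.leaf (nat_lit 0x5152342128632121))) (Tr.node (Tr.leaf (nat_lit 0x8286343233737121711)) (Tr.leaf (nat_lit 0x0))))) (Tr.node (Tr.node (Tr.node (Tr.leaf (nat_lit 0x5346543232622177)) (Tr.leaf (nat_lit 0x88151236363622622))) (Tr.node (Tr.leaf (nat_lit 0x51523477326312)) (Tr.leaf (nat_lit 0x0)))) (Tr.node (Tr.node (Tr.leaf (nat_lit 0x339154678687622621)) (Tr.leaf (nat_lit 0x0))) (Tr.node (Tr.leaf (nat_lit 0x958453323713776771)) (Tr.leaf (nat_lit 0x0)))))) (Tr.node (Tr.node (Tr.node (Tr.node (Tr.leaf (nat_lit 0x81454718678717)) (Tr.leaf (nat_lit 0x34654678686776))) (Tr.node (Tr.leaf (nat_lit 0x33915477628226217)) (Tr.leaf (nat_lit 0x0)))) (Tr.node (Tr.node (Tr.leaf (nat_lit 0x5346548187336771771)) (Tr.leaf (nat_lit 0x34654682362326217))) (Tr.node (Tr.leaf (nat_lit 0x41341771211)) (Tr.leaf (nat_lit 0x0))))) (Tr.node (Tr.node (Tr.node (Tr.leaf (nat_lit 0x8841547186782622671)) (Tr.leaf (nat_lit 0x354123468236236712))) (Tr.node (Tr.leaf (nat_lit 0x331563177371771712)) (Tr.leaf (nat_lit 0x0)))) (Tr.node (Tr.node (Tr.leaf (nat_lit 0x913453282231771712)) (Tr.leaf (nat_lit 0x0))) (Tr.node (Tr.leaf (nat_lit 0x81454377323677677)) (Tr.leaf (nat_lit 0x0)))))))) (Tr.node (Tr.node (Tr.node (Tr.node (Tr.node (Tr.node (Tr.leaf (nat_lit 0x41565481376376267)) (Tr.leaf (nat_lit 0x31522137762171))) (Tr.node (Tr.leaf (nat_lit 0x415654268733177177)) (Tr.leaf (nat_lit 0x0)))) (Tr.node (Tr.node (Tr.leaf (nat_lit 0x152231787621771)) (Tr.leaf (nat_lit 0x412158786732671))) (Tr.node (Tr.leaf (nat_lit 0x4156546863712177)) (Tr.leaf (nat_lit 0x0))))) (Tr.node (Tr.node (Tr.node (Tr.leaf (nat_lit 0x236234733181322121)) (Tr.leaf (nat_lit 0x91342173767717))) (Tr.node (Tr.leaf (nat_lit 0x31437342181787122)) (Tr.leaf (nat_lit 0x0)))) (Tr.node (Tr.node (Tr.leaf (nat_lit 0x23623433786826776)) (Tr.leaf (nat_lit 0x9134567321232267122))) (Tr.node (Tr.leaf (nat_lit 0x354123431363736771712)) (Tr.leaf (nat_lit 0x0)))))) (Tr.node (Tr.node (Tr.node (Tr.node (Tr.leaf (nat_lit 0x82863432337376217)) (Tr.leaf (nat_lit 0x88153187173671771))) (Tr.node (Tr.leaf (nat_lit 0x512534788737177171)) (Tr.leaf (nat_lit 0x0)))) (Tr.node (Tr.node (Tr.leaf (nat_lit 0x762122)) (Tr.leaf (nat_lit 0x34654377323677677))) (Tr.node (Tr.leaf (nat_lit 0x143426787621221)) (Tr.leaf (nat_lit 0x0))))) (Tr.node (Tr.node (Tr.node (Tr.leaf (nat_lit 0x1434267371771711)) (Tr.leaf (nat_lit 0x335433488782862262))) (Tr.node (Tr.leaf (nat_lit 0x1434217322677)) (Tr.leaf (nat_lit 0x0)))) (Tr.node (Tr.node (Tr.leaf (nat_lit 0x1567321231221711)) (Tr.leaf (nat_lit 0x0))) (Tr.node (Tr.leaf (nat_lit 0x828634871318121711)) (Tr.leaf (nat_lit 0x0))))))) (Tr.node (Tr.node (Tr.node (Tr.node (Tr.node (Tr.leaf (nat_lit 0x463453282231771712)) (Tr.leaf (nat_lit 0x465654268733677677))) (Tr.node (Tr.leaf (nat_lit 0x913426787717121)) (Tr.leaf (nat_lit 0x0)))) (Tr.node (Tr.node (Tr.leaf (nat_lit 0x8286343681322621)) (Tr.leaf (nat_lit 0x143426787121221))) (Tr.node (Tr.leaf (nat_lit 0x1456546213282622121)) (Tr.leaf (nat_lit 0x0))))) (Tr.node (Tr.node (Tr.node (Tr.leaf (nat_lit 0x828634871318226717)) (Tr.leaf (nat_lit 0x3465477628226217))) (Tr.node (Tr.leaf (nat_lit 0x91342673767717)) (Tr.leaf (nat_lit 0x0)))) (Tr.node (Tr.node (Tr.leaf (nat_lit 0x54323347732236221221)) (Tr.leaf (nat_lit 0x0))) (Tr.node (Tr.leaf (nat_lit 0x413717717)) (Tr.leaf (nat_lit 0x0)))))) (Tr.node (Tr.node (Tr.node (Tr.node (Tr.leaf (nat_lit 0x7312376662)) (Tr.leaf (nat_lit 0x9134217371771711))) (Tr.node (Tr.leaf (nat_lit 0x335433413132186221221)) (Tr.leaf (nat_lit 0x0)))) (Tr.node (Tr.node (Tr.leaf (nat_lit 0x53465417313776776)) (Tr.leaf (nat_lit 0x828634323373626771))) (Tr.node (Tr.leaf (nat_lit 0x913452231787121771)) (Tr.leaf (nat_lit 0x0))))) (Tr.node (Tr.node (Tr.node (Tr.leaf (nat_lit 0x458458231737712171)) (Tr.leaf (nat_lit 0x41215322323666))) (Tr.node (Tr.leaf (nat_lit 0x14346712122)) (Tr.leaf (nat_lit 0x0)))) (Tr.node (Tr.node (Tr.leaf (nat_lit 0x3354334128268712)) (Tr.leaf (nat_lit 0x0))) (Tr.node (Tr.leaf (nat_lit 0x3465437732326221)) (Tr.leaf (nat_lit 0x0)))))))))) (Tr.node (Tr.node (Tr.node (Tr.node (Tr.node (Tr.node (Tr.node (Tr.node (Tr.leaf (nat_lit 0x143452231782626)) (Tr.leaf (nat_lit 0x413421737121221))) (Tr.node (Tr.leaf (nat_lit 0x35412341873313226771)) (Tr.leaf (nat_lit 0x0)))) (Tr.node (Tr.node (Tr.leaf (nat_lit 0x81454377323122171)) (Tr.leaf (nat_lit 0x4634571323122122))) (Tr.node (Tr.leaf (nat_lit 0x512534178771362267)) (Tr.leaf (nat_lit 0x0))))) (Tr.node (Tr.node (Tr.node (Tr.leaf (nat_lit 0x54323347732132177111)) (Tr.leaf (nat_lit 0x463426786221771))) (Tr.node (Tr.leaf (nat_lit 0x41345673212362262212)) (Tr.leaf (nat_lit 0x0)))) (Tr.node (Tr.node (Tr.leaf (nat_lit 0x88157362237711)) (Tr.leaf (nat_lit 0x958452671813177111))) (Tr.node (Tr.leaf (nat_lit 0x1456542687337762212)) (Tr.leaf (nat_lit 0x0)))))) (Tr.node (Tr.node (Tr.node (Tr.node (Tr.leaf (nat_lit 0x23623413713267171)) (Tr.leaf (nat_lit 0x46345673212312217))) (Tr.node (Tr.leaf (nat_lit 0x5152342128637121771)) (Tr.leaf (nat_lit 0x0)))) (Tr.node (Tr.node (Tr.leaf (nat_lit 0x543233478121377111)) (Tr.leaf (nat_lit 0x23623428137362212212))) (Tr.node (Tr.leaf (nat_lit 0x14565481376322621)) (Tr.leaf (nat_lit 0x0))))) (Tr.node (Tr.node (Tr.node (Tr.leaf (nat_lit 0x145654813763621771)) (Tr.leaf (nat_lit 0x815817868226226))) (Tr.node (Tr.leaf (nat_lit 0x14345223178776267)) (Tr.leaf (nat_lit 0x0)))) (Tr.node (Tr.node (Tr.leaf (nat_lit 0x31437347636821111)) (Tr.leaf (nat_lit 0x0))) (Tr.node (Tr.leaf (nat_lit 0x315862317871221)) (Tr.leaf (nat_lit 0x0))))))) (Tr.node (Tr.node (Tr.node (Tr.node (Tr.node (Tr.leaf (nat_lit 0x152231787121771)) (Tr.leaf (nat_lit 0x463426787767121))) (Tr.node (Tr.leaf (nat_lit 0x314373476368122)) (Tr.leaf (nat_lit 0x0)))) (Tr.node (Tr.node (Tr.leaf (nat_lit 0x413453282236)) (Tr.leaf (nat_lit 0x143421732171))) (Tr.node (Tr.leaf (nat_lit 0x56313437873712171)) (Tr.leaf (nat_lit 0x0))))) (Tr.node (Tr.node (Tr.node (Tr.leaf (nat_lit 0x814547762812111)) (Tr.leaf (nat_lit 0x5631343787326776))) (Tr.node (Tr.leaf (nat_lit 0x3541234187331362671)) (Tr.leaf (nat_lit 0x0)))) (Tr.node (Tr.node (Tr.leaf (nat_lit 0x143421737621221)) (Tr.leaf (nat_lit 0x0))) (Tr.node (Tr.leaf (nat_lit 0x463467622)) (Tr.leaf (nat_lit 0x0)))))) (Tr.node (Tr.node (Tr.node (Tr.node (Tr.leaf (nat_lit 0x4134217822677)) (Tr.leaf (nat_lit 0x331563177376771712))) (Tr.node (Tr.leaf (nat_lit 0x913452231782121)) (Tr.leaf (nat_lit 0x0)))) (Tr.node (Tr.node (Tr.leaf (nat_lit 0x814547186782622671)) (Tr.leaf (nat_lit 0x413467122))) (Tr.node (Tr.leaf (nat_lit 0x412158786737717121)) (Tr.leaf (nat_lit 0x0))))) (Tr.node (Tr.node (Tr.node (Tr.leaf (nat_lit 0x3354334128268762)) (Tr.leaf (nat_lit 0x8152186867122))) (Tr.node (Tr.leaf (nat_lit 0x14345713237671)) (Tr.leaf (nat_lit 0x0)))) (Tr.node (Tr.node (Tr.leaf (nat_lit 0x5432334288263267767)) (Tr.leaf (nat_lit 0x0))) (Tr.node (Tr.leaf (nat_lit 0x31437347632321111)) (Tr.leaf (nat_lit 0x0)))))))) (Tr.node (Tr.node (Tr.node (Tr.node (Tr.node (Tr.node (Tr.leaf (nat_lit 0x14346771712)) (Tr.leaf (nat_lit 0x413421732671))) (Tr.node (Tr.leaf (nat_lit 0x5152341821313767122)) (Tr.leaf (nat_lit 0x0)))) (Tr.node (Tr.node (Tr.leaf (nat_lit 0x46822677)) (Tr.leaf (nat_lit 0x4134111))) (Tr.node (Tr.leaf (nat_lit 0x5152347732631211)) (Tr.leaf (nat_lit 0x0))))) (Tr.node (Tr.node (Tr.node (Tr.leaf (nat_lit 0x339154718678226226)) (Tr.leaf (nat_lit 0x4632217711))) (Tr.node (Tr.leaf (nat_lit 0x95845332371362212171)) (Tr.leaf (nat_lit 0x0)))) (Tr.node (Tr.node (Tr.leaf (nat_lit 0x82863426371377622)) (Tr.leaf (nat_lit 0x4634567321231221711))) (Tr.node (Tr.leaf (nat_lit 0x31571313267712)) (Tr.leaf (nat_lit 0x0)))))) (Tr.node (Tr.node (Tr.node (Tr.node (Tr.leaf (nat_lit 0x1434567321237762177)) (Tr.leaf (nat_lit 0x458458231732622122121))) (Tr.node (Tr.leaf (nat_lit 0x53465481873371771)) (Tr.leaf (nat_lit 0x0)))) (Tr.node (Tr.node (Tr.leaf (nat_lit 0x884154678687762671)) (Tr.leaf (nat_lit 0x4121587867322677))) (Tr.node (Tr.leaf (nat_lit 0x458458231737622621)) (Tr.leaf (nat_lit 0x0))))) (Tr.node (Tr.node (Tr.node (Tr.leaf (nat_lit 0x913426732217711)) (Tr.leaf (nat_lit 0x515234182131376771712))) (Tr.node (Tr.leaf (nat_lit 0x884154678686771)) (Tr.leaf (nat_lit 0x0)))) (Tr.node (Tr.node (Tr.leaf (nat_lit 0x1434267822677)) (Tr.leaf (nat_lit 0x0))) (Tr.node (Tr.leaf (nat_lit 0x881573622367171)) (Tr.leaf (nat_lit 0x0))))))) (Tr.node (Tr.node (Tr.node (Tr.node (Tr.node (Tr.leaf (nat_lit 0x46345673212362267)) (Tr.leaf (nat_lit 0x5631343787623776217))) (Tr.node (Tr.leaf (nat_lit 0x4634571877367717)) (Tr.leaf (nat_lit 0x0)))) (Tr.node (Tr.node (Tr.leaf (nat_lit 0x34654678687762171)) (Tr.leaf (nat_lit 0x33152887763177111))) (Tr.node (Tr.leaf (nat_lit 0x515234182131376)) (Tr.leaf (nat_lit 0x0))))) (Tr.node (Tr.node (Tr.node (Tr.leaf (nat_lit 0x4656546213282622121)) (Tr.leaf (nat_lit 0x46342178217111))) (Tr.node (Tr.leaf (nat_lit 0x1434267322677)) (Tr.leaf (nat_lit 0x0)))) (Tr.node (Tr.node (Tr.leaf (nat_lit 0x5125341787713226)) (Tr.leaf (nat_lit 0x0))) (Tr.node (Tr.leaf (nat_lit 0x31532212876771)) (Tr.leaf (nat_lit 0x0)))))) (Tr.node (Tr.node (Tr.node (Tr.node (Tr.leaf (nat_lit 0x335433462873137677121)) (Tr.leaf (nat_lit 0x2362342813737762177))) (Tr.node (Tr.leaf (nat_lit 0x4121587876712122)) (Tr.leaf (nat_lit 0x0)))) (Tr.node (Tr.node (Tr.leaf (nat_lit 0x81454678687767717121)) (Tr.leaf (nat_lit 0x815771323376776))) (Tr.node (Tr.leaf (nat_lit 0x45845332371362262171)) (Tr.leaf (nat_lit 0x0))))) (Tr.node (Tr.node (Tr.node (Tr.leaf (nat_lit 0x51253426368221217)) (Tr.leaf (nat_lit 0x8286342637137762122))) (Tr.node (Tr.leaf (nat_lit 0x9134571877367717)) (Tr.leaf (nat_lit 0x0)))) (Tr.node (Tr.node (Tr.leaf (nat_lit 0x354123473313712211)) (Tr.leaf (nat_lit 0x0))) (Tr.node (Tr.leaf (nat_lit 0x8158178687677122)) (Tr.leaf (nat_lit 0x0))))))))) (Tr.node (Tr.node (Tr.node (Tr.node (Tr.node (Tr.node (Tr.node (Tr.leaf (nat_lit 0x884154678687762171)) (Tr.leaf (nat_lit 0x54323347732232621))) (Tr.node (Tr.leaf (nat_lit 0x82863432337326717)) (Tr.leaf (nat_lit 0x0)))) (Tr.node (Tr.node (Tr.leaf (nat_lit 0x53465417313671771)) (Tr.leaf (nat_lit 0x9584537637876))) (Tr.node (Tr.leaf (nat_lit 0x4634217371771711)) (Tr.leaf (nat_lit 0x0))))) (Tr.node (Tr.node (Tr.node (Tr.leaf (nat_lit 0x46565462132862676)) (Tr.leaf (nat_lit 0x512534788737677171))) (Tr.node (Tr.leaf (nat_lit 0x958452686732671771)) (Tr.leaf (nat_lit 0x0)))) (Tr.node (Tr.node (Tr.leaf (nat_lit 0x2362347331813626776)) (Tr.leaf (nat_lit 0x8815318717362262171))) (Tr.node (Tr.leaf (nat_lit 0x958453323713671771)) (Tr.leaf (nat_lit 0x0)))))) (Tr.node (Tr.node (Tr.node (Tr.node (Tr.leaf (nat_lit 0x913457132317711)) (Tr.leaf (nat_lit 0x465654268733122171))) (Tr.node (Tr.leaf (nat_lit 0x543233471281877111)) (Tr.leaf (nat_lit 0x0)))) (Tr.node (Tr.node (Tr.leaf (nat_lit 0x23623413713766)) (Tr.leaf (nat_lit 0x88151236363217121))) (Tr.node (Tr.leaf (nat_lit 0x8815736223212)) (Tr.leaf (nat_lit 0x0))))) (Tr.node (Tr.node (Tr.node (Tr.leaf (nat_lit 0x463421732676)) (Tr.leaf (nat_lit 0x8157713233622122121))) (Tr.node (Tr.leaf (nat_lit 0x33915468236237626)) (Tr.leaf (nat_lit 0x0)))) (Tr.node (Tr.node (Tr.leaf (nat_lit 0x5432334773213622621)) (Tr.leaf (nat_lit 0x0))) (Tr.node (Tr.leaf (nat_lit 0x31533136367122)) (Tr.leaf (nat_lit 0x0))))))) (Tr.node (Tr.node (Tr.node (Tr.node (Tr.node (Tr.leaf (nat_lit 0x8841547186782677177)) (Tr.leaf (nat_lit 0x463456732123226))) (Tr.node (Tr.leaf (nat_lit 0x1434262177)) (Tr.leaf (nat_lit 0x0)))) (Tr.node (Tr.node (Tr.leaf (nat_lit 0x14342673767717)) (Tr.leaf (nat_lit 0x413426737717121))) (Tr.node (Tr.leaf (nat_lit 0x33543348878281711)) (Tr.leaf (nat_lit 0x0))))) (Tr.node (Tr.node (Tr.node (Tr.leaf (nat_lit 0x53465417313776771)) (Tr.leaf (nat_lit 0x41215868263671771))) (Tr.node (Tr.leaf (nat_lit 0x4656546213282622621)) (Tr.leaf (nat_lit 0x0)))) (Tr.node (Tr.node (Tr.leaf (nat_lit 0x331528877637767717121)) (Tr.leaf (nat_lit 0x0))) (Tr.node (Tr.leaf (nat_lit 0x1456546213282622621)) (Tr.leaf (nat_lit 0x0)))))) (Tr.node (Tr.node (Tr.node (Tr.node (Tr.leaf (nat_lit 0x45845332371376771771)) (Tr.leaf (nat_lit 0x236234733181376217))) (Tr.node (Tr.leaf (nat_lit 0x563134822181362171)) (Tr.leaf (nat_lit 0x0)))) (Tr.node (Tr.node (Tr.leaf (nat_lit 0x81454678686771)) (Tr.leaf (nat_lit 0x4134571323217121))) (Tr.node (Tr.leaf (nat_lit 0x913456732123221)) (Tr.leaf (nat_lit 0x0))))) (Tr.node (Tr.node (Tr.node (Tr.leaf (nat_lit 0x4589343673762212)) (Tr.leaf (nat_lit 0x34654377323622671))) (Tr.node (Tr.leaf (nat_lit 0x3143734236328717)) (Tr.leaf (nat_lit 0x0)))) (Tr.node (Tr.node (Tr.leaf (nat_lit 0x331582373632217)) (Tr.leaf (nat_lit 0x0))) (Tr.node (Tr.leaf (nat_lit 0x81454682362326217)) (Tr.leaf (nat_lit 0x0)))))))) (Tr.node (Tr.node (Tr.node (Tr.node (Tr.node (Tr.node (Tr.leaf (nat_lit 0x339154718678221221)) (Tr.leaf (nat_lit 0x4656546213282622626))) (Tr.node (Tr.leaf (nat_lit 0x543233478121377666)) (Tr.leaf (nat_lit 0x0)))) (Tr.node (Tr.node (Tr.leaf (nat_lit 0x1532822317712)) (Tr.leaf (nat_lit 0x5432334781213762677))) (Tr.node (Tr.leaf (nat_lit 0x776662)) (Tr.leaf (nat_lit 0x0))))) (Tr.node (Tr.node (Tr.node (Tr.leaf (nat_lit 0x31437347632362122)) (Tr.leaf (nat_lit 0x23623428137312217))) (Tr.node (Tr.leaf (nat_lit 0x236234337868762676)) (Tr.leaf (nat_lit 0x0)))) (Tr.node (Tr.node (Tr.leaf (nat_lit 0x4187767121)) (Tr.leaf (nat_lit 0x881571337876662))) (Tr.node (Tr.leaf (nat_lit 0x1434532822367762)) (Tr.leaf (nat_lit 0x0)))))) (Tr.node (Tr.node (Tr.node (Tr.node (Tr.leaf (nat_lit 0x1434571323177)) (Tr.leaf (nat_lit 0x881571337866622))) (Tr.node (Tr.leaf (nat_lit 0x346546823623712111)) (Tr.leaf (nat_lit 0x0)))) (Tr.node (Tr.node (Tr.leaf (nat_lit 0x339154678687622121)) (Tr.leaf (nat_lit 0x4589347132687122111))) (Tr.node (Tr.leaf (nat_lit 0x913421787121221)) (Tr.leaf (nat_lit 0x0))))) (Tr.node (Tr.node (Tr.node (Tr.leaf (nat_lit 0x465654686377666)) (Tr.leaf (nat_lit 0x9134217871771711))) (Tr.node (Tr.leaf (nat_lit 0x5432334773213762671)) (Tr.leaf (nat_lit 0x0)))) (Tr.node (Tr.node (Tr.leaf (nat_lit 0x1456548137637121711)) (Tr.leaf (nat_lit 0x0))) (Tr.node (Tr.leaf (nat_lit 0x34654776281217712)) (Tr.leaf (nat_lit 0x0))))))) (Tr.node (Tr.node (Tr.node (Tr.node (Tr.node (Tr.leaf (nat_lit 0x41345328223111)) (Tr.leaf (nat_lit 0x512534788737671212))) (Tr.node (Tr.leaf (nat_lit 0x4156546863212217)) (Tr.leaf (nat_lit 0x0)))) (Tr.node (Tr.node (Tr.leaf (nat_lit 0x335433413132182267177)) (Tr.leaf (nat_lit 0x621737621221))) (Tr.node (Tr.leaf (nat_lit 0x31437342181787622)) (Tr.leaf (nat_lit 0x0))))) (Tr.node (Tr.node (Tr.node (Tr.leaf (nat_lit 0x31437347632312211)) (Tr.leaf (nat_lit 0x8286348713186267))) (Tr.node (Tr.leaf (nat_lit 0x1434571877317717)) (Tr.leaf (nat_lit 0x0)))) (Tr.node (Tr.node (Tr.leaf (nat_lit 0x81523221232262671)) (Tr.leaf (nat_lit 0x0))) (Tr.node (Tr.leaf (nat_lit 0x46342178767767)) (Tr.leaf (nat_lit 0x0)))))) (Tr.node (Tr.node (Tr.node (Tr.node (Tr.leaf (nat_lit 0x34654718678717)) (Tr.leaf (nat_lit 0x4637121221))) (Tr.node (Tr.leaf (nat_lit 0x41822677)) (Tr.leaf (nat_lit 0x0)))) (Tr.node (Tr.node (Tr.leaf (nat_lit 0x412158787111)) (Tr.leaf (nat_lit 0x4584526718132622122121))) (Tr.node (Tr.leaf (nat_lit 0x828634322363267122)) (Tr.leaf (nat_lit 0x0))))) (Tr.node (Tr.node (Tr.node (Tr.leaf (nat_lit 0x458458231737762171)) (Tr.leaf (nat_lit 0x4134571877317717))) (Tr.node (Tr.leaf (nat_lit 0x73123622)) (Tr.leaf (nat_lit 0x0)))) (Tr.node (Tr.node (Tr.leaf (nat_lit 0x4589343673712212)) (Tr.leaf (nat_lit 0x0))) (Tr.node (Tr.leaf (nat_lit 0x14345673212322111)) (Tr.leaf (nat_lit 0x0)))))))))))) (Tr.node (Tr.node (Tr.node (Tr.node (Tr.node (Tr.node (Tr.node (Tr.node (Tr.node (Tr.node (Tr.leaf (nat_lit 0x7376366622)) (Tr.leaf (nat_lit 0x412158786736221771))) (Tr.node (Tr.leaf (nat_lit 0x236234281373221)) (Tr.leaf (nat_lit 0x0)))) (Tr.node (Tr.node (Tr.leaf (nat_lit 0x41565426873326221)) (Tr.leaf (nat_lit 0x41345718773776212))) (Tr.node (Tr.leaf (nat_lit 0x7312312211)) (Tr.leaf (nat_lit 0x0))))) (Tr.node (Tr.node (Tr.node (Tr.leaf (nat_lit 0x145654236223677122)) (Tr.leaf (nat_lit 0x4589342286731))) (Tr.node (Tr.leaf (nat_lit 0x46345713232267717)) (Tr.leaf (nat_lit 0x0)))) (Tr.node (Tr.node (Tr.leaf (nat_lit 0x236234733181371217)) (Tr.leaf (nat_lit 0x33156823233177122))) (Tr.node (Tr.leaf (nat_lit 0x884154776286267712)) (Tr.leaf (nat_lit 0x0)))))) (Tr.node (Tr.node (Tr.node (Tr.node (Tr.leaf (nat_lit 0x46345328223262177)) (Tr.leaf (nat_lit 0x45893422867317712))) (Tr.node (Tr.leaf (nat_lit 0x512534788731217)) (Tr.leaf (nat_lit 0x0)))) (Tr.node (Tr.node (Tr.leaf (nat_lit 0x91345673212366226)) (Tr.leaf (nat_lit 0x913421732171))) (Tr.node (Tr.leaf (nat_lit 0x5346543232132676)) (Tr.leaf (nat_lit 0x0))))) (Tr.node (Tr.node (Tr.node (Tr.leaf (nat_lit 0x314373421817811)) (Tr.leaf (nat_lit 0x14345718773767121))) (Tr.node (Tr.leaf (nat_lit 0x82863432337322621)) (Tr.leaf (nat_lit 0x0)))) (Tr.node (Tr.node (Tr.leaf (nat_lit 0x14345223178771217)) (Tr.leaf (nat_lit 0x0))) (Tr.node (Tr.leaf (nat_lit 0x315322128622122121)) (Tr.leaf (nat_lit 0x0))))))) (Tr.node (Tr.node (Tr.node (Tr.node (Tr.node (Tr.leaf (nat_lit 0x34654678687762671)) (Tr.leaf (nat_lit 0x143421782676))) (Tr.node (Tr.leaf (nat_lit 0x91345673212362262262)) (Tr.leaf (nat_lit 0x0)))) (Tr.node (Tr.node (Tr.leaf (nat_lit 0x4156542362236221712)) (Tr.leaf (nat_lit 0x4134571323622122))) (Tr.node (Tr.leaf (nat_lit 0x53465432322622121)) (Tr.leaf (nat_lit 0x0))))) (Tr.node (Tr.node (Tr.node (Tr.leaf (nat_lit 0x884154718678767)) (Tr.leaf (nat_lit 0x913452231787621771))) (Tr.node (Tr.leaf (nat_lit 0x458458231732622622121)) (Tr.leaf (nat_lit 0x0)))) (Tr.node (Tr.node (Tr.leaf (nat_lit 0x45893467623226267)) (Tr.leaf (nat_lit 0x0))) (Tr.node (Tr.leaf (nat_lit 0x14345673212362267)) (Tr.leaf (nat_lit 0x0)))))) (Tr.node (Tr.node (Tr.node (Tr.node (Tr.leaf (nat_lit 0x335433412826871712)) (Tr.leaf (nat_lit 0x41215878678717717))) (Tr.node (Tr.leaf (nat_lit 0x51523468681317122)) (Tr.leaf (nat_lit 0x0)))) (Tr.node (Tr.node (Tr.leaf (nat_lit 0x884154678687622121)) (Tr.leaf (nat_lit 0x354123468236232122))) (Tr.node (Tr.leaf (nat_lit 0x413452231787626771)) (Tr.leaf (nat_lit 0x0))))) (Tr.node (Tr.node (Tr.node (Tr.leaf (nat_lit 0x884154377323771711)) (Tr.leaf (nat_lit 0x4634217822677))) (Tr.node (Tr.leaf (nat_lit 0x46346)) (Tr.leaf (nat_lit 0x0)))) (Tr.node (Tr.node (Tr.leaf (nat_lit 0x4682676)) (Tr.leaf (nat_lit 0x0))) (Tr.node (Tr.leaf (nat_lit 0x9584537637812177)) (Tr.leaf (nat_lit 0x0)))))))) (Tr.node (Tr.node (Tr.node (Tr.node (Tr.node (Tr.node (Tr.leaf (nat_lit 0x153282236)) (Tr.leaf (nat_lit 0x143452231782267177))) (Tr.node (Tr.leaf (nat_lit 0x458934676232677671)) (Tr.leaf (nat_lit 0x0)))) (Tr.node (Tr.node (Tr.leaf (nat_lit 0x331528877637762671)) (Tr.leaf (nat_lit 0x4634532822367712))) (Tr.node (Tr.leaf (nat_lit 0x7622)) (Tr.leaf (nat_lit 0x0))))) (Tr.node (Tr.node (Tr.node (Tr.leaf (nat_lit 0x46565426873321221)) (Tr.leaf (nat_lit 0x91342173717717))) (Tr.node (Tr.leaf (nat_lit 0x81454776286217712)) (Tr.leaf (nat_lit 0x0)))) (Tr.node (Tr.node (Tr.leaf (nat_lit 0x81454377323622171)) (Tr.leaf (nat_lit 0x81577132332671771))) (Tr.node (Tr.leaf (nat_lit 0x46342673767717)) (Tr.leaf (nat_lit 0x0)))))) (Tr.node (Tr.node (Tr.node (Tr.node (Tr.leaf (nat_lit 0x913421787621221)) (Tr.leaf (nat_lit 0x88153732682622122))) (Tr.node (Tr.leaf (nat_lit 0x34654377323762121)) (Tr.leaf (nat_lit 0x0)))) (Tr.node (Tr.node (Tr.leaf (nat_lit 0x828634263713766)) (Tr.leaf (nat_lit 0x143426737767121))) (Tr.node (Tr.leaf (nat_lit 0x41215878717712)) (Tr.leaf (nat_lit 0x0))))) (Tr.node (Tr.node (Tr.node (Tr.leaf (nat_lit 0x463426787621221)) (Tr.leaf (nat_lit 0x35412347682187677621))) (Tr.node (Tr.leaf (nat_lit 0x314373413631367622)) (Tr.leaf (nat_lit 0x0)))) (Tr.node (Tr.node (Tr.leaf (nat_lit 0x5432334773213762171)) (Tr.leaf (nat_lit 0x0))) (Tr.node (Tr.leaf (nat_lit 0x31571313267122)) (Tr.leaf (nat_lit 0x0))))))) (Tr.node (Tr.node (Tr.node (Tr.node (Tr.node (Tr.leaf (nat_lit 0x913453282231771211)) (Tr.leaf (nat_lit 0x88153187173262171))) (Tr.node (Tr.leaf (nat_lit 0x14565426873321221)) (Tr.leaf (nat_lit 0x0)))) (Tr.node (Tr.node (Tr.leaf (nat_lit 0x458934228673262177)) (Tr.leaf (nat_lit 0x8815318717312212171))) (Tr.node (Tr.leaf (nat_lit 0x45893471326871221)) (Tr.leaf (nat_lit 0x0))))) (Tr.node (Tr.node (Tr.node (Tr.leaf (nat_lit 0x81454718678762212)) (Tr.leaf (nat_lit 0x51253478873171221))) (Tr.node (Tr.leaf (nat_lit 0x884154678682122122121)) (Tr.leaf (nat_lit 0x0)))) (Tr.node (Tr.node (Tr.leaf (nat_lit 0x5346543232632676)) (Tr.leaf (nat_lit 0x0))) (Tr.node (Tr.leaf (nat_lit 0x53465481873376776)) (Tr.leaf (nat_lit 0x0)))))) (Tr.node (Tr.node (Tr.node (Tr.node (Tr.leaf (nat_lit 0x7376312211)) (Tr.leaf (nat_lit 0x4636221771))) (Tr.node (Tr.leaf (nat_lit 0x8153682236267)) (Tr.leaf (nat_lit 0x0)))) (Tr.node (Tr.node (Tr.leaf (nat_lit 0x45845332371362262671)) (Tr.leaf (nat_lit 0x815817868767))) (Tr.node (Tr.leaf (nat_lit 0x354123473313712122)) (Tr.leaf (nat_lit 0x0))))) (Tr.node (Tr.node (Tr.node (Tr.leaf (nat_lit 0x5152342128636712212)) (Tr.leaf (nat_lit 0x4182171))) (Tr.node (Tr.leaf (nat_lit 0x881571337821111)) (Tr.leaf (nat_lit 0x0)))) (Tr.node (Tr.node (Tr.leaf (nat_lit 0x5152341821313717712)) (Tr.leaf (nat_lit 0x0))) (Tr.node (Tr.leaf (nat_lit 0x46565462132817717121)) (Tr.leaf (nat_lit 0x0))))))))) (Tr.node (Tr.node (Tr.node (Tr.node (Tr.node (Tr.node (Tr.node (Tr.leaf (nat_lit 0x913453282236)) (Tr.leaf (nat_lit 0x458934713268212212))) (Tr.node (Tr.leaf (nat_lit 0x3465468236232671221)) (Tr.leaf (nat_lit 0x0)))) (Tr.node (Tr.node (Tr.leaf (nat_lit 0x51253478873121711)) (Tr.leaf (nat_lit 0x315331363666))) (Tr.node (Tr.leaf (nat_lit 0x51253486281377177)) (Tr.leaf (nat_lit 0x0))))) (Tr.node (Tr.node (Tr.node (Tr.leaf (nat_lit 0x458934676236267762)) (Tr.leaf (nat_lit 0x9134567321232217122))) (Tr.node (Tr.leaf (nat_lit 0x8145437732321221)) (Tr.leaf (nat_lit 0x0)))) (Tr.node (Tr.node (Tr.leaf (nat_lit 0x34654678687767717121)) (Tr.leaf (nat_lit 0x458458231736771))) (Tr.node (Tr.leaf (nat_lit 0x3541234187331362676)) (Tr.leaf (nat_lit 0x0)))))) (Tr.node (Tr.node (Tr.node (Tr.node (Tr.leaf (nat_lit 0x413452231787621771)) (Tr.leaf (nat_lit 0x45893467623121))) (Tr.node (Tr.leaf (nat_lit 0x91345718773776212)) (Tr.leaf (nat_lit 0x0)))) (Tr.node (Tr.node (Tr.leaf (nat_lit 0x15328223666)) (Tr.leaf (nat_lit 0x9134532822317712))) (Tr.node (Tr.leaf (nat_lit 0x3354334128223122)) (Tr.leaf (nat_lit 0x0))))) (Tr.node (Tr.node (Tr.node (Tr.leaf (nat_lit 0x339154718678762262)) (Tr.leaf (nat_lit 0x354123476821867))) (Tr.node (Tr.leaf (nat_lit 0x41565462132817717121)) (Tr.leaf (nat_lit 0x0)))) (Tr.node (Tr.node (Tr.leaf (nat_lit 0x913421732676)) (Tr.leaf (nat_lit 0x0))) (Tr.node (Tr.leaf (nat_lit 0x815368223676226)) (Tr.leaf (nat_lit 0x0))))))) (Tr.node (Tr.node (Tr.node (Tr.node (Tr.node (Tr.leaf (nat_lit 0x56313437876236717)) (Tr.leaf (nat_lit 0x14342678767767))) (Tr.node (Tr.leaf (nat_lit 0x14565423622367)) (Tr.leaf (nat_lit 0x0)))) (Tr.node (Tr.node (Tr.leaf (nat_lit 0x15223178771217)) (Tr.leaf (nat_lit 0x463452231786221221))) (Tr.node (Tr.leaf (nat_lit 0x5125347887377121)) (Tr.leaf (nat_lit 0x0))))) (Tr.node (Tr.node (Tr.node (Tr.leaf (nat_lit 0x81454678687762171)) (Tr.leaf (nat_lit 0x3541234187331317717121))) (Tr.node (Tr.leaf (nat_lit 0x3153313636)) (Tr.leaf (nat_lit 0x0)))) (Tr.node (Tr.node (Tr.leaf (nat_lit 0x339154678687767717121)) (Tr.leaf (nat_lit 0x0))) (Tr.node (Tr.leaf (nat_lit 0x3153313636712122)) (Tr.leaf (nat_lit 0x0)))))) (Tr.node (Tr.node (Tr.node (Tr.node (Tr.leaf (nat_lit 0x143452231786221221)) (Tr.leaf (nat_lit 0x41322677))) (Tr.node (Tr.leaf (nat_lit 0x543233428826367626)) (Tr.leaf (nat_lit 0x0)))) (Tr.node (Tr.node (Tr.leaf (nat_lit 0x465654621328226771)) (Tr.leaf (nat_lit 0x463467122))) (Tr.node (Tr.leaf (nat_lit 0x3153221282262671)) (Tr.leaf (nat_lit 0x0))))) (Tr.node (Tr.node (Tr.node (Tr.leaf (nat_lit 0x8841547186787677122)) (Tr.leaf (nat_lit 0x53465432362262171))) (Tr.node (Tr.leaf (nat_lit 0x35412343136373262177)) (Tr.leaf (nat_lit 0x0)))) (Tr.node (Tr.node (Tr.leaf (nat_lit 0x563134822181367121221)) (Tr.leaf (nat_lit 0x0))) (Tr.node (Tr.leaf (nat_lit 0x335433462873131221211)) (Tr.leaf (nat_lit 0x0)))))))) (Tr.node (Tr.node (Tr.node (Tr.node (Tr.node (Tr.node (Tr.leaf (nat_lit 0x467121221)) (Tr.leaf (nat_lit 0x3315682323317))) (Tr.node (Tr.leaf (nat_lit 0x88157362232212211)) (Tr.leaf (nat_lit 0x0)))) (Tr.node (Tr.node (Tr.leaf (nat_lit 0x15673212362267)) (Tr.leaf (nat_lit 0x413421732217711))) (Tr.node (Tr.leaf (nat_lit 0x8145477628267177)) (Tr.leaf (nat_lit 0x0))))) (Tr.node (Tr.node (Tr.node (Tr.leaf (nat_lit 0x34654678687712171)) (Tr.leaf (nat_lit 0x56313437873767121221))) (Tr.node (Tr.leaf (nat_lit 0x314373476368662)) (Tr.leaf (nat_lit 0x0)))) (Tr.node (Tr.node (Tr.leaf (nat_lit 0x418217111)) (Tr.leaf (nat_lit 0x1434567321232217122))) (Tr.node (Tr.leaf (nat_lit 0x143452231786712212)) (Tr.leaf (nat_lit 0x0)))))) (Tr.node (Tr.node (Tr.node (Tr.node (Tr.leaf (nat_lit 0x143421787717121)) (Tr.leaf (nat_lit 0x41345673212366226))) (Tr.node (Tr.leaf (nat_lit 0x3315682323362212)) (Tr.leaf (nat_lit 0x0)))) (Tr.node (Tr.node (Tr.leaf (nat_lit 0x415654236223776221)) (Tr.leaf (nat_lit 0x828634871318671221))) (Tr.node (Tr.leaf (nat_lit 0x458458231737767717121)) (Tr.leaf (nat_lit 0x0))))) (Tr.node (Tr.node (Tr.node (Tr.leaf (nat_lit 0x143453282231771712)) (Tr.leaf (nat_lit 0x236234137137762122))) (Tr.node (Tr.leaf (nat_lit 0x4137121221)) (Tr.leaf (nat_lit 0x0)))) (Tr.node (Tr.node (Tr.leaf (nat_lit 0x4656546863262212212)) (Tr.leaf (nat_lit 0x0))) (Tr.node (Tr.leaf (nat_lit 0x413467762)) (Tr.leaf (nat_lit 0x0))))))) (Tr.node (Tr.node (Tr.node (Tr.node (Tr.node (Tr.leaf (nat_lit 0x41345673212362217)) (Tr.leaf (nat_lit 0x331528863136221217))) (Tr.node (Tr.leaf (nat_lit 0x463426782671)) (Tr.leaf (nat_lit 0x0)))) (Tr.node (Tr.node (Tr.leaf (nat_lit 0x512534317137762122)) (Tr.leaf (nat_lit 0x143426732671))) (Tr.node (Tr.leaf (nat_lit 0x4589343673767)) (Tr.leaf (nat_lit 0x0))))) (Tr.node (Tr.node (Tr.node (Tr.leaf (nat_lit 0x14565481376321221221)) (Tr.leaf (nat_lit 0x8286343681377677171))) (Tr.node (Tr.leaf (nat_lit 0x41342673767717)) (Tr.leaf (nat_lit 0x0)))) (Tr.node (Tr.node (Tr.leaf (nat_lit 0x458453763787111)) (Tr.leaf (nat_lit 0x0))) (Tr.node (Tr.leaf (nat_lit 0x4656546863212217)) (Tr.leaf (nat_lit 0x0)))))) (Tr.node (Tr.node (Tr.node (Tr.node (Tr.leaf (nat_lit 0x621732171)) (Tr.leaf (nat_lit 0x4134262177))) (Tr.node (Tr.leaf (nat_lit 0x563134887871321221221)) (Tr.leaf (nat_lit 0x0)))) (Tr.node (Tr.node (Tr.leaf (nat_lit 0x515234182131371771712)) (Tr.leaf (nat_lit 0x81536822377621))) (Tr.node (Tr.leaf (nat_lit 0x4121587871771712)) (Tr.leaf (nat_lit 0x0))))) (Tr.node (Tr.node (Tr.node (Tr.leaf (nat_lit 0x1571877317717)) (Tr.leaf (nat_lit 0x4134217822177))) (Tr.node (Tr.leaf (nat_lit 0x9134217822677)) (Tr.leaf (nat_lit 0x0)))) (Tr.node (Tr.node (Tr.leaf (nat_lit 0x958458231737762171)) (Tr.leaf (nat_lit 0x0))) (Tr.node (Tr.leaf (nat_lit 0x82863436813626771)) (Tr.leaf (nat_lit 0x0)))))))))) (Tr.node (Tr.node (Tr.node (Tr.node (Tr.node (Tr.node (Tr.node (Tr.node (Tr.leaf (nat_lit 0x465654236223677122)) (Tr.leaf (nat_lit 0x412158786782676))) (Tr.node (Tr.leaf (nat_lit 0x1434267871771711)) (Tr.leaf (nat_lit 0x0)))) (Tr.node (Tr.node (Tr.leaf (nat_lit 0x236234813778267)) (Tr.leaf (nat_lit 0x335433413132186226221))) (Tr.node (Tr.leaf (nat_lit 0x331528877631771)) (Tr.leaf (nat_lit 0x0))))) (Tr.node (Tr.node (Tr.node (Tr.leaf (nat_lit 0x314373476368712)) (Tr.leaf (nat_lit 0x31437341363131))) (Tr.node (Tr.leaf (nat_lit 0x14565423622317)) (Tr.leaf (nat_lit 0x0)))) (Tr.node (Tr.node (Tr.leaf (nat_lit 0x881512363637171)) (Tr.leaf (nat_lit 0x331568232336221712))) (Tr.node (Tr.leaf (nat_lit 0x3541234187331367717121)) (Tr.leaf (nat_lit 0x0)))))) (Tr.node (Tr.node (Tr.node (Tr.node (Tr.leaf (nat_lit 0x512534788737677671)) (Tr.leaf (nat_lit 0x881512363637671))) (Tr.node (Tr.leaf (nat_lit 0x88415477628267177)) (Tr.leaf (nat_lit 0x0)))) (Tr.node (Tr.node (Tr.leaf (nat_lit 0x3143734218178776662)) (Tr.leaf (nat_lit 0x88151236363622122))) (Tr.node (Tr.leaf (nat_lit 0x958453323713212171)) (Tr.leaf (nat_lit 0x0))))) (Tr.node (Tr.node (Tr.node (Tr.leaf (nat_lit 0x51253431713711)) (Tr.leaf (nat_lit 0x3354334128223662))) (Tr.node (Tr.leaf (nat_lit 0x51253486281367767)) (Tr.leaf (nat_lit 0x0)))) (Tr.node (Tr.node (Tr.leaf (nat_lit 0x314373476323622)) (Tr.leaf (nat_lit 0x0))) (Tr.node (Tr.leaf (nat_lit 0x413426737621221)) (Tr.leaf (nat_lit 0x0))))))) (Tr.node (Tr.node (Tr.node (Tr.node (Tr.node (Tr.leaf (nat_lit 0x15718773121221)) (Tr.leaf (nat_lit 0x463421732171))) (Tr.node (Tr.leaf (nat_lit 0x4656542362231221211)) (Tr.leaf (nat_lit 0x0)))) (Tr.node (Tr.node (Tr.leaf (nat_lit 0x56313463733622622621)) (Tr.leaf (nat_lit 0x4634571323626762))) (Tr.node (Tr.leaf (nat_lit 0x5432334712818776771712)) (Tr.leaf (nat_lit 0x0))))) (Tr.node (Tr.node (Tr.node (Tr.leaf (nat_lit 0x415654813763626776)) (Tr.leaf (nat_lit 0x335433412826862122))) (Tr.node (Tr.leaf (nat_lit 0x463452231782621)) (Tr.leaf (nat_lit 0x0)))) (Tr.node (Tr.node (Tr.leaf (nat_lit 0x41346771712)) (Tr.leaf (nat_lit 0x0))) (Tr.node (Tr.leaf (nat_lit 0x46342173767767)) (Tr.leaf (nat_lit 0x0)))))) (Tr.node (Tr.node (Tr.node (Tr.node (Tr.leaf (nat_lit 0x46346712122)) (Tr.leaf (nat_lit 0x91342178717717))) (Tr.node (Tr.leaf (nat_lit 0x8815123636367766)) (Tr.leaf (nat_lit 0x0)))) (Tr.node (Tr.node (Tr.leaf (nat_lit 0x958452686732262171)) (Tr.leaf (nat_lit 0x913426782676))) (Tr.node (Tr.leaf (nat_lit 0x4634571877377177)) (Tr.leaf (nat_lit 0x0))))) (Tr.node (Tr.node (Tr.node (Tr.leaf (nat_lit 0x15673212366226)) (Tr.leaf (nat_lit 0x145654268733622171))) (Tr.node (Tr.leaf (nat_lit 0x1434571323122122)) (Tr.leaf (nat_lit 0x0)))) (Tr.node (Tr.node (Tr.leaf (nat_lit 0x5125343171377622)) (Tr.leaf (nat_lit 0x0))) (Tr.node (Tr.leaf (nat_lit 0x9134267871771711)) (Tr.leaf (nat_lit 0x0)))))))) (Tr.node (Tr.node (Tr.node (Tr.node (Tr.node (Tr.node (Tr.leaf (nat_lit 0x913421782217711)) (Tr.leaf (nat_lit 0x413421786221771))) (Tr.node (Tr.leaf (nat_lit 0x41565462132867767121)) (Tr.leaf (nat_lit 0x0)))) (Tr.node (Tr.node (Tr.leaf (nat_lit 0x512534862813717121)) (Tr.leaf (nat_lit 0x9134666))) (Tr.node (Tr.leaf (nat_lit 0x143426737121221)) (Tr.leaf (nat_lit 0x0))))) (Tr.node (Tr.node (Tr.node (Tr.leaf (nat_lit 0x81454678687762676)) (Tr.leaf (nat_lit 0x884154682362367177))) (Tr.node (Tr.leaf (nat_lit 0x412158782262217)) (Tr.leaf (nat_lit 0x0)))) (Tr.node (Tr.node (Tr.leaf (nat_lit 0x4589343673226221)) (Tr.leaf (nat_lit 0x4121587867822177))) (Tr.node (Tr.leaf (nat_lit 0x346543773237762212)) (Tr.leaf (nat_lit 0x0)))))) (Tr.node (Tr.node (Tr.node (Tr.node (Tr.leaf (nat_lit 0x56313437876236712212)) (Tr.leaf (nat_lit 0x958458231732622122121))) (Tr.node (Tr.leaf (nat_lit 0x5152342128637621771)) (Tr.leaf (nat_lit 0x0)))) (Tr.node (Tr.node (Tr.leaf (nat_lit 0x41565426873326226)) (Tr.leaf (nat_lit 0x4134267822177))) (Tr.node (Tr.leaf (nat_lit 0x958458231737622621)) (Tr.leaf (nat_lit 0x0))))) (Tr.node (Tr.node (Tr.node (Tr.leaf (nat_lit 0x236234337868122121)) (Tr.leaf (nat_lit 0x236234733181321221221))) (Tr.node (Tr.leaf (nat_lit 0x1456542687337767)) (Tr.leaf (nat_lit 0x0)))) (Tr.node (Tr.node (Tr.leaf (nat_lit 0x413426782171)) (Tr.leaf (nat_lit 0x0))) (Tr.node (Tr.leaf (nat_lit 0x14565462132817717121)) (Tr.leaf (nat_lit 0x0))))))) (Tr.node (Tr.node (Tr.node (Tr.node (Tr.node (Tr.leaf (nat_lit 0x31437341363136)) (Tr.leaf (nat_lit 0x5432334773223771217))) (Tr.node (Tr.leaf (nat_lit 0x56313437876236226221)) (Tr.leaf (nat_lit 0x0)))) (Tr.node (Tr.node (Tr.leaf (nat_lit 0x339154678687762171)) (Tr.leaf (nat_lit 0x621732217711))) (Tr.node (Tr.leaf (nat_lit 0x121732217711)) (Tr.leaf (nat_lit 0x0))))) (Tr.node (Tr.node (Tr.node (Tr.leaf (nat_lit 0x81454718678226226)) (Tr.leaf (nat_lit 0x4182671))) (Tr.node (Tr.leaf (nat_lit 0x4687121221)) (Tr.leaf (nat_lit 0x0)))) (Tr.node (Tr.node (Tr.leaf (nat_lit 0x82863436813621771)) (Tr.leaf (nat_lit 0x0))) (Tr.node (Tr.leaf (nat_lit 0x41342678767767)) (Tr.leaf (nat_lit 0x0)))))) (Tr.node (Tr.node (Tr.node (Tr.node (Tr.leaf (nat_lit 0x15713237171)) (Tr.leaf (nat_lit 0x2362342813732217122))) (Tr.node (Tr.leaf (nat_lit 0x331582373632262212)) (Tr.leaf (nat_lit 0x0)))) (Tr.node (Tr.node (Tr.leaf (nat_lit 0x335433413132186717)) (Tr.leaf (nat_lit 0x913452231786221221))) (Tr.node (Tr.leaf (nat_lit 0x8286348713187177171)) (Tr.leaf (nat_lit 0x0))))) (Tr.node (Tr.node (Tr.node (Tr.leaf (nat_lit 0x5346543232132217711)) (Tr.leaf (nat_lit 0x46346776712))) (Tr.node (Tr.leaf (nat_lit 0x3541234768218771221)) (Tr.leaf (nat_lit 0x0)))) (Tr.node (Tr.node (Tr.leaf (nat_lit 0x14342673767767)) (Tr.leaf (nat_lit 0x0))) (Tr.node (Tr.leaf (nat_lit 0x3158623178212212)) (Tr.leaf (nat_lit 0x0))))))))) (Tr.node (Tr.node (Tr.node (Tr.node (Tr.node (Tr.node (Tr.node (Tr.leaf (nat_lit 0x143453282236776712)) (Tr.leaf (nat_lit 0x512534263686267762))) (Tr.node (Tr.leaf (nat_lit 0x1434571877322671)) (Tr.leaf (nat_lit 0x0)))) (Tr.node (Tr.node (Tr.leaf (nat_lit 0x153282231)) (Tr.leaf (nat_lit 0x51523418182137677621))) (Tr.node (Tr.leaf (nat_lit 0x236234813778177121)) (Tr.leaf (nat_lit 0x0))))) (Tr.node (Tr.node (Tr.node (Tr.leaf (nat_lit 0x335433462873137177121)) (Tr.leaf (nat_lit 0x143426782217711))) (Tr.node (Tr.leaf (nat_lit 0x5432334773213767717121)) (Tr.leaf (nat_lit 0x0)))) (Tr.node (Tr.node (Tr.leaf (nat_lit 0x236234813778262212)) (Tr.leaf (nat_lit 0x354123418733132622121))) (Tr.node (Tr.leaf (nat_lit 0x5432334781213262212212)) (Tr.leaf (nat_lit 0x0)))))) (Tr.node (Tr.node (Tr.node (Tr.node (Tr.leaf (nat_lit 0x5152342128636226226)) (Tr.leaf (nat_lit 0x81454678686776))) (Tr.node (Tr.leaf (nat_lit 0x3143734236328762212)) (Tr.leaf (nat_lit 0x0)))) (Tr.node (Tr.node (Tr.leaf (nat_lit 0x3465477628121)) (Tr.leaf (nat_lit 0x881571337812122))) (Tr.node (Tr.leaf (nat_lit 0x143426732171)) (Tr.leaf (nat_lit 0x0))))) (Tr.node (Tr.node (Tr.node (Tr.leaf (nat_lit 0x236234733181326717)) (Tr.leaf (nat_lit 0x143452231786226226))) (Tr.node (Tr.leaf (nat_lit 0x14342178767767)) (Tr.leaf (nat_lit 0x0)))) (Tr.node (Tr.node (Tr.leaf (nat_lit 0x463467762)) (Tr.leaf (nat_lit 0x0))) (Tr.node (Tr.leaf (nat_lit 0x34654682362367177)) (Tr.leaf (nat_lit 0x0))))))) (Tr.node (Tr.node (Tr.node (Tr.node (Tr.node (Tr.leaf (nat_lit 0x14345713232267717)) (Tr.leaf (nat_lit 0x236234813778262262))) (Tr.node (Tr.leaf (nat_lit 0x4637767121)) (Tr.leaf (nat_lit 0x0)))) (Tr.node (Tr.node (Tr.leaf (nat_lit 0x9134267322677)) (Tr.leaf (nat_lit 0x3315288631321))) (Tr.node (Tr.leaf (nat_lit 0x5346543232137767121)) (Tr.leaf (nat_lit 0x0))))) (Tr.node (Tr.node (Tr.node (Tr.leaf (nat_lit 0x81454678687762671)) (Tr.leaf (nat_lit 0x14565468637767712))) (Tr.node (Tr.leaf (nat_lit 0x14345718773717121)) (Tr.leaf (nat_lit 0x0)))) (Tr.node (Tr.node (Tr.leaf (nat_lit 0x4121587876771712)) (Tr.leaf (nat_lit 0x0))) (Tr.node (Tr.leaf (nat_lit 0x4634532822367122)) (Tr.leaf (nat_lit 0x0)))))) (Tr.node (Tr.node (Tr.node (Tr.node (Tr.leaf (nat_lit 0x15713232267717)) (Tr.leaf (nat_lit 0x41215322323111))) (Tr.node (Tr.leaf (nat_lit 0x5631348221813622177)) (Tr.leaf (nat_lit 0x0)))) (Tr.node (Tr.node (Tr.leaf (nat_lit 0x465654268733177177)) (Tr.leaf (nat_lit 0x33156317737666))) (Tr.node (Tr.leaf (nat_lit 0x913421737621221)) (Tr.leaf (nat_lit 0x0))))) (Tr.node (Tr.node (Tr.node (Tr.leaf (nat_lit 0x88415477628621)) (Tr.leaf (nat_lit 0x8158178682122171))) (Tr.node (Tr.leaf (nat_lit 0x1434571323622122)) (Tr.leaf (nat_lit 0x0)))) (Tr.node (Tr.node (Tr.leaf (nat_lit 0x9134267371771711)) (Tr.leaf (nat_lit 0x0))) (Tr.node (Tr.leaf (nat_lit 0x335433412826866622)) (Tr.leaf (nat_lit 0x0)))))))) (Tr.node (Tr.node (Tr.node (Tr.node (Tr.node (Tr.node (Tr.leaf (nat_lit 0x4656548137637121711)) (Tr.leaf (nat_lit 0x3354334628731367))) (Tr.node (Tr.leaf (nat_lit 0x56313437876232621)) (Tr.leaf (nat_lit 0x0)))) (Tr.node (Tr.node (Tr.leaf (nat_lit 0x814547186782677177)) (Tr.leaf (nat_lit 0x14342173217111))) (Tr.node (Tr.leaf (nat_lit 0x458934228673666)) (Tr.leaf (nat_lit 0x0))))) (Tr.node (Tr.node (Tr.node (Tr.leaf (nat_lit 0x884154678687712171)) (Tr.leaf (nat_lit 0x5152341818213771221))) (Tr.node (Tr.leaf (nat_lit 0x958453323713262171)) (Tr.leaf (nat_lit 0x0)))) (Tr.node (Tr.node (Tr.leaf (nat_lit 0x4137621221)) (Tr.leaf (nat_lit 0x315713136226267))) (Tr.node (Tr.leaf (nat_lit 0x9134571323267621)) (Tr.leaf (nat_lit 0x0)))))) (Tr.node (Tr.node (Tr.node (Tr.node (Tr.leaf (nat_lit 0x35412347682186766)) (Tr.leaf (nat_lit 0x314373413631367122))) (Tr.node (Tr.leaf (nat_lit 0x45893422867367712)) (Tr.leaf (nat_lit 0x0)))) (Tr.node (Tr.node (Tr.leaf (nat_lit 0x543233428826376212)) (Tr.leaf (nat_lit 0x335433412822366622))) (Tr.node (Tr.leaf (nat_lit 0x315862317826766)) (Tr.leaf (nat_lit 0x0))))) (Tr.node (Tr.node (Tr.node (Tr.leaf (nat_lit 0x458934676236267712)) (Tr.leaf (nat_lit 0x413426787767121))) (Tr.node (Tr.leaf (nat_lit 0x3391546823623712111)) (Tr.leaf (nat_lit 0x0)))) (Tr.node (Tr.node (Tr.leaf (nat_lit 0x8815373268217711)) (Tr.leaf (nat_lit 0x0))) (Tr.node (Tr.leaf (nat_lit 0x315713136226217)) (Tr.leaf (nat_lit 0x0))))))) (Tr.node (Tr.node (Tr.node (Tr.node (Tr.node (Tr.leaf (nat_lit 0x35412341873313221771)) (Tr.leaf (nat_lit 0x331568232336766))) (Tr.node (Tr.leaf (nat_lit 0x3465468236232676226)) (Tr.leaf (nat_lit 0x0)))) (Tr.node (Tr.node (Tr.leaf (nat_lit 0x9584526718137712171)) (Tr.leaf (nat_lit 0x121737121221))) (Tr.node (Tr.leaf (nat_lit 0x3465477628267177)) (Tr.leaf (nat_lit 0x0))))) (Tr.node (Tr.node (Tr.node (Tr.leaf (nat_lit 0x884154718678226221)) (Tr.leaf (nat_lit 0x54323347732236226221))) (Tr.node (Tr.leaf (nat_lit 0x913417122)) (Tr.leaf (nat_lit 0x0)))) (Tr.node (Tr.node (Tr.leaf (nat_lit 0x463453282236771712)) (Tr.leaf (nat_lit 0x0))) (Tr.node (Tr.leaf (nat_lit 0x884154678682622122121)) (Tr.leaf (nat_lit 0x0)))))) (Tr.node (Tr.node (Tr.node (Tr.node (Tr.leaf (nat_lit 0x152231782267177)) (Tr.leaf (nat_lit 0x5631348221813226771))) (Tr.node (Tr.leaf (nat_lit 0x91345328223262177)) (Tr.leaf (nat_lit 0x0)))) (Tr.node (Tr.node (Tr.leaf (nat_lit 0x81454678687622621)) (Tr.leaf (nat_lit 0x81521868666))) (Tr.node (Tr.leaf (nat_lit 0x143467122)) (Tr.leaf (nat_lit 0x0))))) (Tr.node (Tr.node (Tr.node (Tr.leaf (nat_lit 0x33543348878287177121)) (Tr.leaf (nat_lit 0x412158786787621221))) (Tr.node (Tr.leaf (nat_lit 0x12173767767)) (Tr.leaf (nat_lit 0x0)))) (Tr.node (Tr.node (Tr.leaf (nat_lit 0x5152347732631712)) (Tr.leaf (nat_lit 0x0))) (Tr.node (Tr.leaf (nat_lit 0x82863426371377122)) (Tr.leaf (nat_lit 0x0))))))))))) (Tr.node (Tr.node (Tr.node (Tr.node (Tr.node (Tr.node (Tr.node (Tr.node (Tr.node (Tr.leaf (nat_lit 0x15713231212)) (Tr.leaf (nat_lit 0x46341771712))) (Tr.node (Tr.leaf (nat_lit 0x534654323213217111)) (Tr.leaf (nat_lit 0x0)))) (Tr.node (Tr.node (Tr.leaf (nat_lit 0x5432334712818776)) (Tr.leaf (nat_lit 0x8153682237677171))) (Tr.node (Tr.leaf (nat_lit 0x35412346823623171211)) (Tr.leaf (nat_lit 0x0))))) (Tr.node (Tr.node (Tr.node (Tr.leaf (nat_lit 0x5346543232636221771)) (Tr.leaf (nat_lit 0x5432334781213762177))) (Tr.node (Tr.leaf (nat_lit 0x8286342637132212)) (Tr.leaf (nat_lit 0x0)))) (Tr.node (Tr.node (Tr.leaf (nat_lit 0x4134267871771711)) (Tr.leaf (nat_lit 0x3153221286771771))) (Tr.node (Tr.leaf (nat_lit 0x8286343223636226217)) (Tr.leaf (nat_lit 0x0)))))) (Tr.node (Tr.node (Tr.node (Tr.node (Tr.leaf (nat_lit 0x31437341363136771712)) (Tr.leaf (nat_lit 0x23623413713221211))) (Tr.node (Tr.leaf (nat_lit 0x56313482218132622121)) (Tr.leaf (nat_lit 0x0)))) (Tr.node (Tr.node (Tr.leaf (nat_lit 0x56313437876232626)) (Tr.leaf (nat_lit 0x331568232337677121))) (Tr.node (Tr.leaf (nat_lit 0x458458231731771)) (Tr.leaf (nat_lit 0x0))))) (Tr.node (Tr.node (Tr.node (Tr.leaf (nat_lit 0x143421782171)) (Tr.leaf (nat_lit 0x54323347732236717))) (Tr.node (Tr.leaf (nat_lit 0x331528877637762676)) (Tr.leaf (nat_lit 0x0)))) (Tr.node (Tr.node (Tr.leaf (nat_lit 0x458453763787666)) (Tr.leaf (nat_lit 0x0))) (Tr.node (Tr.leaf (nat_lit 0x56313437876237626771)) (Tr.leaf (nat_lit 0x0))))))) (Tr.node (Tr.node (Tr.node (Tr.node (Tr.node (Tr.leaf (nat_lit 0x157187731771711)) (Tr.leaf (nat_lit 0x563134822181367767121))) (Tr.node (Tr.leaf (nat_lit 0x51253486281322171)) (Tr.leaf (nat_lit 0x0)))) (Tr.node (Tr.node (Tr.leaf (nat_lit 0x515234182131312177)) (Tr.leaf (nat_lit 0x1456546863212212212))) (Tr.node (Tr.leaf (nat_lit 0x4584526718132622622121)) (Tr.leaf (nat_lit 0x0))))) (Tr.node (Tr.node (Tr.node (Tr.leaf (nat_lit 0x4656546863776)) (Tr.leaf (nat_lit 0x81577132336771771))) (Tr.node (Tr.leaf (nat_lit 0x512534178771362262212)) (Tr.leaf (nat_lit 0x0)))) (Tr.node (Tr.node (Tr.leaf (nat_lit 0x413421782171)) (Tr.leaf (nat_lit 0x0))) (Tr.node (Tr.leaf (nat_lit 0x143421787121221)) (Tr.leaf (nat_lit 0x0)))))) (Tr.node (Tr.node (Tr.node (Tr.node (Tr.leaf (nat_lit 0x458452671813177111)) (Tr.leaf (nat_lit 0x512534263682177171))) (Tr.node (Tr.leaf (nat_lit 0x56313437873767717121)) (Tr.leaf (nat_lit 0x0)))) (Tr.node (Tr.node (Tr.leaf (nat_lit 0x515234773263221111)) (Tr.leaf (nat_lit 0x412158786732171))) (Tr.node (Tr.leaf (nat_lit 0x14565481376326226221)) (Tr.leaf (nat_lit 0x0))))) (Tr.node (Tr.node (Tr.node (Tr.leaf (nat_lit 0x8145468236232676221)) (Tr.leaf (nat_lit 0x91346))) (Tr.node (Tr.leaf (nat_lit 0x4634532822317122)) (Tr.leaf (nat_lit 0x0)))) (Tr.node (Tr.node (Tr.leaf (nat_lit 0x143426732217711)) (Tr.leaf (nat_lit 0x0))) (Tr.node (Tr.leaf (nat_lit 0x4589342286736)) (Tr.leaf (nat_lit 0x0)))))))) (Tr.node (Tr.node (Tr.node (Tr.node (Tr.node (Tr.node (Tr.leaf (nat_lit 0x4622177)) (Tr.leaf (nat_lit 0x4634267371771711))) (Tr.node (Tr.leaf (nat_lit 0x1571877377177)) (Tr.leaf (nat_lit 0x0)))) (Tr.node (Tr.node (Tr.leaf (nat_lit 0x34654718678767)) (Tr.leaf (nat_lit 0x412158682632622177))) (Tr.node (Tr.leaf (nat_lit 0x14565481376326717)) (Tr.leaf (nat_lit 0x0))))) (Tr.node (Tr.node (Tr.node (Tr.leaf (nat_lit 0x958458231737762676)) (Tr.leaf (nat_lit 0x51523418182136766))) (Tr.node (Tr.leaf (nat_lit 0x4584526718137622621)) (Tr.leaf (nat_lit 0x0)))) (Tr.node (Tr.node (Tr.leaf (nat_lit 0x458934676232177171)) (Tr.leaf (nat_lit 0x31522137622121))) (Tr.node (Tr.leaf (nat_lit 0x34654776286217712)) (Tr.leaf (nat_lit 0x0)))))) (Tr.node (Tr.node (Tr.node (Tr.node (Tr.leaf (nat_lit 0x515234686813111)) (Tr.leaf (nat_lit 0x8286348713181217))) (Tr.node (Tr.leaf (nat_lit 0x88415477628221217)) (Tr.leaf (nat_lit 0x0)))) (Tr.node (Tr.node (Tr.leaf (nat_lit 0x458934233223677)) (Tr.leaf (nat_lit 0x3153313636776712))) (Tr.node (Tr.leaf (nat_lit 0x314373423632871711)) (Tr.leaf (nat_lit 0x0))))) (Tr.node (Tr.node (Tr.node (Tr.leaf (nat_lit 0x15223178776267)) (Tr.leaf (nat_lit 0x81577132332262171))) (Tr.node (Tr.leaf (nat_lit 0x88157133782)) (Tr.leaf (nat_lit 0x0)))) (Tr.node (Tr.node (Tr.leaf (nat_lit 0x413457187737717711)) (Tr.leaf (nat_lit 0x0))) (Tr.node (Tr.leaf (nat_lit 0x145654268733677677)) (Tr.leaf (nat_lit 0x0))))))) (Tr.node (Tr.node (Tr.node (Tr.node (Tr.node (Tr.leaf (nat_lit 0x4221771)) (Tr.leaf (nat_lit 0x4637717121))) (Tr.node (Tr.leaf (nat_lit 0x5432334773223776217)) (Tr.leaf (nat_lit 0x0)))) (Tr.node (Tr.node (Tr.leaf (nat_lit 0x335433412826871211)) (Tr.leaf (nat_lit 0x73123662))) (Tr.node (Tr.leaf (nat_lit 0x339154718678712212)) (Tr.leaf (nat_lit 0x0))))) (Tr.node (Tr.node (Tr.node (Tr.leaf (nat_lit 0x1571877367717)) (Tr.leaf (nat_lit 0x354123473313))) (Tr.node (Tr.leaf (nat_lit 0x143452231786717)) (Tr.leaf (nat_lit 0x0)))) (Tr.node (Tr.node (Tr.leaf (nat_lit 0x458452686731771771)) (Tr.leaf (nat_lit 0x0))) (Tr.node (Tr.leaf (nat_lit 0x41345718773717121)) (Tr.leaf (nat_lit 0x0)))))) (Tr.node (Tr.node (Tr.node (Tr.node (Tr.leaf (nat_lit 0x4656546863771)) (Tr.leaf (nat_lit 0x458934713268677121))) (Tr.node (Tr.leaf (nat_lit 0x8153682237177171)) (Tr.leaf (nat_lit 0x0)))) (Tr.node (Tr.node (Tr.leaf (nat_lit 0x81454776282177171)) (Tr.leaf (nat_lit 0x815368223171221))) (Tr.node (Tr.leaf (nat_lit 0x315331363111)) (Tr.leaf (nat_lit 0x0))))) (Tr.node (Tr.node (Tr.node (Tr.leaf (nat_lit 0x1456542687332122111)) (Tr.leaf (nat_lit 0x4134567321231221711))) (Tr.node (Tr.leaf (nat_lit 0x4156546863262267)) (Tr.leaf (nat_lit 0x0)))) (Tr.node (Tr.node (Tr.leaf (nat_lit 0x5631346373376776)) (Tr.leaf (nat_lit 0x0))) (Tr.node (Tr.leaf (nat_lit 0x81454678682622622121)) (Tr.leaf (nat_lit 0x0))))))))) (Tr.node (Tr.node (Tr.node (Tr.node (Tr.node (Tr.node (Tr.node (Tr.leaf (nat_lit 0x4156542362231221211)) (Tr.leaf (nat_lit 0x51253426368621))) (Tr.node (Tr.leaf (nat_lit 0x88415468236237626)) (Tr.leaf (nat_lit 0x0)))) (Tr.node (Tr.node (Tr.leaf (nat_lit 0x153282231771712)) (Tr.leaf (nat_lit 0x4121586826362212171))) (Tr.node (Tr.leaf (nat_lit 0x34654718678762212)) (Tr.leaf (nat_lit 0x0))))) (Tr.node (Tr.node (Tr.node (Tr.leaf (nat_lit 0x465654686377111)) (Tr.leaf (nat_lit 0x413421737717121))) (Tr.node (Tr.leaf (nat_lit 0x41565423622312212)) (Tr.leaf (nat_lit 0x0)))) (Tr.node (Tr.node (Tr.leaf (nat_lit 0x354123468236236662)) (Tr.leaf (nat_lit 0x958453323713776776))) (Tr.node (Tr.leaf (nat_lit 0x8152186867622)) (Tr.leaf (nat_lit 0x0)))))) (Tr.node (Tr.node (Tr.node (Tr.node (Tr.leaf (nat_lit 0x41345713237671)) (Tr.leaf (nat_lit 0x3354334628731362212))) (Tr.node (Tr.leaf (nat_lit 0x56313437873622626)) (Tr.leaf (nat_lit 0x0)))) (Tr.node (Tr.node (Tr.leaf (nat_lit 0x5432334781213776)) (Tr.leaf (nat_lit 0x143452231787621771))) (Tr.node (Tr.leaf (nat_lit 0x4656542362236766)) (Tr.leaf (nat_lit 0x0))))) (Tr.node (Tr.node (Tr.node (Tr.leaf (nat_lit 0x563134822181317717121)) (Tr.leaf (nat_lit 0x828634263713267171))) (Tr.node (Tr.leaf (nat_lit 0x415654268733677677)) (Tr.leaf (nat_lit 0x0)))) (Tr.node (Tr.node (Tr.leaf (nat_lit 0x45845332371362212171)) (Tr.leaf (nat_lit 0x0))) (Tr.node (Tr.leaf (nat_lit 0x828634871318171221)) (Tr.leaf (nat_lit 0x0))))))) (Tr.node (Tr.node (Tr.node (Tr.node (Tr.node (Tr.leaf (nat_lit 0x51253426368226217)) (Tr.leaf (nat_lit 0x512534862813121221))) (Tr.node (Tr.leaf (nat_lit 0x14345713236212)) (Tr.leaf (nat_lit 0x0)))) (Tr.node (Tr.node (Tr.leaf (nat_lit 0x415654236223771221)) (Tr.leaf (nat_lit 0x413426782676))) (Tr.node (Tr.leaf (nat_lit 0x534654323213767717)) (Tr.leaf (nat_lit 0x0))))) (Tr.node (Tr.node (Tr.node (Tr.leaf (nat_lit 0x41565462132812171)) (Tr.leaf (nat_lit 0x1456546863762677))) (Tr.node (Tr.leaf (nat_lit 0x88153187173776776)) (Tr.leaf (nat_lit 0x0)))) (Tr.node (Tr.node (Tr.leaf (nat_lit 0x563134887871376217)) (Tr.leaf (nat_lit 0x0))) (Tr.node (Tr.leaf (nat_lit 0x4589343673226226)) (Tr.leaf (nat_lit 0x0)))))) (Tr.node (Tr.node (Tr.node (Tr.node (Tr.leaf (nat_lit 0x121732676)) (Tr.leaf (nat_lit 0x8815713378662))) (Tr.node (Tr.leaf (nat_lit 0x5432334773213622626)) (Tr.leaf (nat_lit 0x0)))) (Tr.node (Tr.node (Tr.leaf (nat_lit 0x4156546863262262212)) (Tr.leaf (nat_lit 0x413421787717121))) (Tr.node (Tr.leaf (nat_lit 0x515234773263212211)) (Tr.leaf (nat_lit 0x0))))) (Tr.node (Tr.node (Tr.node (Tr.leaf (nat_lit 0x51253431713226712)) (Tr.leaf (nat_lit 0x8286343681376217))) (Tr.node (Tr.leaf (nat_lit 0x5346543232632671)) (Tr.leaf (nat_lit 0x0)))) (Tr.node (Tr.node (Tr.leaf (nat_lit 0x2362347331813121771)) (Tr.leaf (nat_lit 0x0))) (Tr.node (Tr.leaf (nat_lit 0x465654621328221771)) (Tr.leaf (nat_lit 0x0)))))))) (Tr.node (Tr.node (Tr.node (Tr.node (Tr.node (Tr.node (Tr.leaf (nat_lit 0x91345673212362212212)) (Tr.leaf (nat_lit 0x913426787121221))) (Tr.node (Tr.leaf (nat_lit 0x4156542687337717)) (Tr.leaf (nat_lit 0x0)))) (Tr.node (Tr.node (Tr.leaf (nat_lit 0x3391547186782122171)) (Tr.leaf (nat_lit 0x413457132317711))) (Tr.node (Tr.leaf (nat_lit 0x814546823623671212)) (Tr.leaf (nat_lit 0x0))))) (Tr.node (Tr.node (Tr.node (Tr.leaf (nat_lit 0x814547186782122171)) (Tr.leaf (nat_lit 0x534654323213767767))) (Tr.node (Tr.leaf (nat_lit 0x14565462132867121221)) (Tr.leaf (nat_lit 0x0)))) (Tr.node (Tr.node (Tr.leaf (nat_lit 0x415654621328622177)) (Tr.leaf (nat_lit 0x315322128622622621))) (Tr.node (Tr.leaf (nat_lit 0x4584526718136776)) (Tr.leaf (nat_lit 0x0)))))) (Tr.node (Tr.node (Tr.node (Tr.node (Tr.leaf (nat_lit 0x4589342286736712122)) (Tr.leaf (nat_lit 0x8152322123622622621))) (Tr.node (Tr.leaf (nat_lit 0x46322677)) (Tr.leaf (nat_lit 0x0)))) (Tr.node (Tr.node (Tr.leaf (nat_lit 0x776712)) (Tr.leaf (nat_lit 0x88151236363267121))) (Tr.node (Tr.leaf (nat_lit 0x463426782171)) (Tr.leaf (nat_lit 0x0))))) (Tr.node (Tr.node (Tr.node (Tr.leaf (nat_lit 0x3541234733137122)) (Tr.leaf (nat_lit 0x4589342332237671))) (Tr.node (Tr.leaf (nat_lit 0x4634217322677)) (Tr.leaf (nat_lit 0x0)))) (Tr.node (Tr.node (Tr.leaf (nat_lit 0x4656546213282122121)) (Tr.leaf (nat_lit 0x0))) (Tr.node (Tr.leaf (nat_lit 0x31533136317712)) (Tr.leaf (nat_lit 0x0))))))) (Tr.node (Tr.node (Tr.node (Tr.node (Tr.node (Tr.leaf (nat_lit 0x4634571323622122)) (Tr.leaf (nat_lit 0x913426786221771))) (Tr.node (Tr.leaf (nat_lit 0x331528863136226217)) (Tr.leaf (nat_lit 0x0)))) (Tr.node (Tr.node (Tr.leaf (nat_lit 0x4584526718137762671)) (Tr.leaf (nat_lit 0x7312376712))) (Tr.node (Tr.leaf (nat_lit 0x3391546823623677671)) (Tr.leaf (nat_lit 0x0))))) (Tr.node (Tr.node (Tr.node (Tr.leaf (nat_lit 0x8815373268171)) (Tr.leaf (nat_lit 0x53465432322122121))) (Tr.node (Tr.leaf (nat_lit 0x33158237363226766)) (Tr.leaf (nat_lit 0x0)))) (Tr.node (Tr.node (Tr.leaf (nat_lit 0x512534263681217712)) (Tr.leaf (nat_lit 0x0))) (Tr.node (Tr.leaf (nat_lit 0x563134887871376267)) (Tr.leaf (nat_lit 0x0)))))) (Tr.node (Tr.node (Tr.node (Tr.node (Tr.leaf (nat_lit 0x46565481376377677171)) (Tr.leaf (nat_lit 0x4134217371771711))) (Tr.node (Tr.leaf (nat_lit 0x33915477628226267)) (Tr.leaf (nat_lit 0x0)))) (Tr.node (Tr.node (Tr.leaf (nat_lit 0x3354334628731317)) (Tr.leaf (nat_lit 0x315862317876226))) (Tr.node (Tr.leaf (nat_lit 0x4634571877317717)) (Tr.leaf (nat_lit 0x0))))) (Tr.node (Tr.node (Tr.node (Tr.leaf (nat_lit 0x45893423322317711)) (Tr.leaf (nat_lit 0x815218686776712))) (Tr.node (Tr.leaf (nat_lit 0x339154776282177171)) (Tr.leaf (nat_lit 0x0)))) (Tr.node (Tr.node (Tr.leaf (nat_lit 0x8841547186782622171)) (Tr.leaf (nat_lit 0x0))) (Tr.node (Tr.leaf (nat_lit 0x415654268733622671)) (Tr.leaf (nat_lit 0x0)))))))))) (Tr.node (Tr.node (Tr.node (Tr.node (Tr.node (Tr.node (Tr.node (Tr.node (Tr.leaf (nat_lit 0x913453282236771712)) (Tr.leaf (nat_lit 0x81454776282677171))) (Tr.node (Tr.leaf (nat_lit 0x9584537637876776712)) (Tr.leaf (nat_lit 0x0)))) (Tr.node (Tr.node (Tr.leaf (nat_lit 0x8841546823623712111)) (Tr.leaf (nat_lit 0x8286342637132262))) (Tr.node (Tr.leaf (nat_lit 0x53465481873376771)) (Tr.leaf (nat_lit 0x0))))) (Tr.node (Tr.node (Tr.node (Tr.leaf (nat_lit 0x1571323622622)) (Tr.leaf (nat_lit 0x413426786221771))) (Tr.node (Tr.leaf (nat_lit 0x4156542362237677121)) (Tr.leaf (nat_lit 0x0)))) (Tr.node (Tr.node (Tr.leaf (nat_lit 0x88151236363177)) (Tr.leaf (nat_lit 0x815771323371771))) (Tr.node (Tr.leaf (nat_lit 0x31522137762676)) (Tr.leaf (nat_lit 0x0)))))) (Tr.node (Tr.node (Tr.node (Tr.node (Tr.leaf (nat_lit 0x413456732123226)) (Tr.leaf (nat_lit 0x56313437876237121771))) (Tr.node (Tr.leaf (nat_lit 0x4156546863776771712)) (Tr.leaf (nat_lit 0x0)))) (Tr.node (Tr.node (Tr.leaf (nat_lit 0x153282236776712)) (Tr.leaf (nat_lit 0x1434571323626762))) (Tr.node (Tr.leaf (nat_lit 0x41215878767122)) (Tr.leaf (nat_lit 0x0))))) (Tr.node (Tr.node (Tr.node (Tr.leaf (nat_lit 0x339154776282677671)) (Tr.leaf (nat_lit 0x413417122))) (Tr.node (Tr.leaf (nat_lit 0x463453282236712122)) (Tr.leaf (nat_lit 0x0)))) (Tr.node (Tr.node (Tr.leaf (nat_lit 0x46342673717717)) (Tr.leaf (nat_lit 0x0))) (Tr.node (Tr.leaf (nat_lit 0x31533136367622)) (Tr.leaf (nat_lit 0x0))))))) (Tr.node (Tr.node (Tr.node (Tr.node (Tr.node (Tr.leaf (nat_lit 0x153282231771211)) (Tr.leaf (nat_lit 0x4156542362231711))) (Tr.node (Tr.leaf (nat_lit 0x82863432236326)) (Tr.leaf (nat_lit 0x0)))) (Tr.node (Tr.node (Tr.leaf (nat_lit 0x88157362237766)) (Tr.leaf (nat_lit 0x5432334712818212217))) (Tr.node (Tr.leaf (nat_lit 0x236234813778677626)) (Tr.leaf (nat_lit 0x0))))) (Tr.node (Tr.node (Tr.node (Tr.leaf (nat_lit 0x88415477628626)) (Tr.leaf (nat_lit 0x4134532822367122))) (Tr.node (Tr.leaf (nat_lit 0x5152347732632622)) (Tr.leaf (nat_lit 0x0)))) (Tr.node (Tr.node (Tr.leaf (nat_lit 0x34654678681771)) (Tr.leaf (nat_lit 0x0))) (Tr.node (Tr.leaf (nat_lit 0x81523221232671771)) (Tr.leaf (nat_lit 0x0)))))) (Tr.node (Tr.node (Tr.node (Tr.node (Tr.leaf (nat_lit 0x4634111)) (Tr.leaf (nat_lit 0x51253478873676221))) (Tr.node (Tr.leaf (nat_lit 0x14341771712)) (Tr.leaf (nat_lit 0x0)))) (Tr.node (Tr.node (Tr.leaf (nat_lit 0x814543773237762212)) (Tr.leaf (nat_lit 0x31571313217122))) (Tr.node (Tr.leaf (nat_lit 0x41871771711)) (Tr.leaf (nat_lit 0x0))))) (Tr.node (Tr.node (Tr.node (Tr.leaf (nat_lit 0x34654678687762676)) (Tr.leaf (nat_lit 0x515234182131376776712))) (Tr.node (Tr.leaf (nat_lit 0x5346548187337177111)) (Tr.leaf (nat_lit 0x0)))) (Tr.node (Tr.node (Tr.leaf (nat_lit 0x54323342882637677)) (Tr.leaf (nat_lit 0x0))) (Tr.node (Tr.leaf (nat_lit 0x5152347732636622)) (Tr.leaf (nat_lit 0x0)))))))) (Tr.node (Tr.node (Tr.node (Tr.node (Tr.node (Tr.node (Tr.leaf (nat_lit 0x81454718678226221)) (Tr.leaf (nat_lit 0x143467712))) (Tr.node (Tr.leaf (nat_lit 0x56313463733622622121)) (Tr.leaf (nat_lit 0x0)))) (Tr.node (Tr.node (Tr.leaf (nat_lit 0x463453282236776712)) (Tr.leaf (nat_lit 0x9134111))) (Tr.node (Tr.leaf (nat_lit 0x81454377323622671)) (Tr.leaf (nat_lit 0x0))))) (Tr.node (Tr.node (Tr.node (Tr.leaf (nat_lit 0x5432334288263217717)) (Tr.leaf (nat_lit 0x5125347887377621))) (Tr.node (Tr.leaf (nat_lit 0x236234337868767121221)) (Tr.leaf (nat_lit 0x0)))) (Tr.node (Tr.node (Tr.leaf (nat_lit 0x35412343136373111)) (Tr.leaf (nat_lit 0x3541234187331312171))) (Tr.node (Tr.leaf (nat_lit 0x3143734218178762122)) (Tr.leaf (nat_lit 0x0)))))) (Tr.node (Tr.node (Tr.node (Tr.node (Tr.leaf (nat_lit 0x913452231781221221)) (Tr.leaf (nat_lit 0x5432334773213767121221))) (Tr.node (Tr.leaf (nat_lit 0x51253431713221211)) (Tr.leaf (nat_lit 0x0)))) (Tr.node (Tr.node (Tr.leaf (nat_lit 0x339154678687762671)) (Tr.leaf (nat_lit 0x14565468637767122))) (Tr.node (Tr.leaf (nat_lit 0x1434666)) (Tr.leaf (nat_lit 0x0))))) (Tr.node (Tr.node (Tr.node (Tr.leaf (nat_lit 0x5346541731362212171)) (Tr.leaf (nat_lit 0x3354334128223622))) (Tr.node (Tr.leaf (nat_lit 0x14345673212366226)) (Tr.leaf (nat_lit 0x0)))) (Tr.node (Tr.node (Tr.leaf (nat_lit 0x41565481376326226221)) (Tr.leaf (nat_lit 0x0))) (Tr.node (Tr.leaf (nat_lit 0x815368223226717)) (Tr.leaf (nat_lit 0x0))))))) (Tr.node (Tr.node (Tr.node (Tr.node (Tr.node (Tr.leaf (nat_lit 0x1434532822367122)) (Tr.leaf (nat_lit 0x4134571877367767))) (Tr.node (Tr.leaf (nat_lit 0x9134571877317717)) (Tr.leaf (nat_lit 0x0)))) (Tr.node (Tr.node (Tr.leaf (nat_lit 0x236234733181322621)) (Tr.leaf (nat_lit 0x913426737121221))) (Tr.node (Tr.leaf (nat_lit 0x7376312122)) (Tr.leaf (nat_lit 0x0))))) (Tr.node (Tr.node (Tr.node (Tr.leaf (nat_lit 0x15718773767121)) (Tr.leaf (nat_lit 0x458452686737177111))) (Tr.node (Tr.leaf (nat_lit 0x4634267322677)) (Tr.leaf (nat_lit 0x0)))) (Tr.node (Tr.node (Tr.leaf (nat_lit 0x33543346287313677122)) (Tr.leaf (nat_lit 0x0))) (Tr.node (Tr.leaf (nat_lit 0x331528863136226267)) (Tr.leaf (nat_lit 0x0)))))) (Tr.node (Tr.node (Tr.node (Tr.node (Tr.leaf (nat_lit 0x12173217111)) (Tr.leaf (nat_lit 0x4134532822317712))) (Tr.node (Tr.leaf (nat_lit 0x563134822181367717121)) (Tr.leaf (nat_lit 0x0)))) (Tr.node (Tr.node (Tr.leaf (nat_lit 0x8145468236237621)) (Tr.leaf (nat_lit 0x33156823233776221))) (Tr.node (Tr.leaf (nat_lit 0x4656542362237177121)) (Tr.leaf (nat_lit 0x0))))) (Tr.node (Tr.node (Tr.node (Tr.leaf (nat_lit 0x314373413631367762)) (Tr.leaf (nat_lit 0x412158786782171))) (Tr.node (Tr.leaf (nat_lit 0x82863432236321)) (Tr.leaf (nat_lit 0x0)))) (Tr.node (Tr.node (Tr.leaf (nat_lit 0x4584537637871771712)) (Tr.leaf (nat_lit 0x0))) (Tr.node (Tr.leaf (nat_lit 0x8158178682622671)) (Tr.leaf (nat_lit 0x0))))))))) (Tr.node (Tr.node (Tr.node (Tr.node (Tr.node (Tr.node (Tr.node (Tr.leaf (nat_lit 0x156732123226)) (Tr.leaf (nat_lit 0x81523221232262171))) (Tr.node (Tr.leaf (nat_lit 0x51253486281317717)) (Tr.leaf (nat_lit 0x0)))) (Tr.node (Tr.node (Tr.leaf (nat_lit 0x34654718678226226)) (Tr.leaf (nat_lit 0x34654377323622676))) (Tr.node (Tr.leaf (nat_lit 0x563134637332262171)) (Tr.leaf (nat_lit 0x0))))) (Tr.node (Tr.node (Tr.node (Tr.leaf (nat_lit 0x4584537637876776712)) (Tr.leaf (nat_lit 0x56313437873762671))) (Tr.node (Tr.leaf (nat_lit 0x4656546863762677)) (Tr.leaf (nat_lit 0x0)))) (Tr.node (Tr.node (Tr.leaf (nat_lit 0x5152342128632626)) (Tr.leaf (nat_lit 0x14345673212362217))) (Tr.node (Tr.leaf (nat_lit 0x54323347812137767122)) (Tr.leaf (nat_lit 0x0)))))) (Tr.node (Tr.node (Tr.node (Tr.node (Tr.leaf (nat_lit 0x12173767717)) (Tr.leaf (nat_lit 0x8286348713187677671))) (Tr.node (Tr.leaf (nat_lit 0x33915437732326226)) (Tr.leaf (nat_lit 0x0)))) (Tr.node (Tr.node (Tr.leaf (nat_lit 0x88415477628121)) (Tr.leaf (nat_lit 0x913426732171))) (Tr.node (Tr.leaf (nat_lit 0x145654621328226776)) (Tr.leaf (nat_lit 0x0))))) (Tr.node (Tr.node (Tr.node (Tr.leaf (nat_lit 0x913467762)) (Tr.leaf (nat_lit 0x31522137122121))) (Tr.node (Tr.leaf (nat_lit 0x884154776281217712)) (Tr.leaf (nat_lit 0x0)))) (Tr.node (Tr.node (Tr.leaf (nat_lit 0x331528877637712171)) (Tr.leaf (nat_lit 0x0))) (Tr.node (Tr.leaf (nat_lit 0x5152342128636717)) (Tr.leaf (nat_lit 0x0))))))) (Tr.node (Tr.node (Tr.node (Tr.node (Tr.node (Tr.leaf (nat_lit 0x712122)) (Tr.leaf (nat_lit 0x913421732217711))) (Tr.node (Tr.leaf (nat_lit 0x412158786787121221)) (Tr.leaf (nat_lit 0x0)))) (Tr.node (Tr.node (Tr.leaf (nat_lit 0x354123473313766622)) (Tr.leaf (nat_lit 0x31522132122122121))) (Tr.node (Tr.leaf (nat_lit 0x9584533237132622177)) (Tr.leaf (nat_lit 0x0))))) (Tr.node (Tr.node (Tr.node (Tr.leaf (nat_lit 0x41565481376377677171)) (Tr.leaf (nat_lit 0x3354334128268122))) (Tr.node (Tr.leaf (nat_lit 0x14565481376326221221)) (Tr.leaf (nat_lit 0x0)))) (Tr.node (Tr.node (Tr.leaf (nat_lit 0x81454776282677671)) (Tr.leaf (nat_lit 0x0))) (Tr.node (Tr.leaf (nat_lit 0x8286343681326221221)) (Tr.leaf (nat_lit 0x0)))))) (Tr.node (Tr.node (Tr.node (Tr.node (Tr.leaf (nat_lit 0x458934676231217712)) (Tr.leaf (nat_lit 0x41215868263776771))) (Tr.node (Tr.leaf (nat_lit 0x563134637336776771)) (Tr.leaf (nat_lit 0x0)))) (Tr.node (Tr.node (Tr.leaf (nat_lit 0x958452686736776771)) (Tr.leaf (nat_lit 0x458934233223622122))) (Tr.node (Tr.leaf (nat_lit 0x31532212871771)) (Tr.leaf (nat_lit 0x0))))) (Tr.node (Tr.node (Tr.node (Tr.leaf (nat_lit 0x9584526718137762671)) (Tr.leaf (nat_lit 0x46345713237671))) (Tr.node (Tr.leaf (nat_lit 0x51523477326362)) (Tr.leaf (nat_lit 0x0)))) (Tr.node (Tr.node (Tr.leaf (nat_lit 0x4634571877377677)) (Tr.leaf (nat_lit 0x0))) (Tr.node (Tr.leaf (nat_lit 0x81454678681771)) (Tr.leaf (nat_lit 0x0)))))))) (Tr.node (Tr.node (Tr.node (Tr.node (Tr.node (Tr.node (Tr.leaf (nat_lit 0x46345673212312212212)) (Tr.leaf (nat_lit 0x4682671))) (Tr.node (Tr.leaf (nat_lit 0x33915468236237121)) (Tr.leaf (nat_lit 0x0)))) (Tr.node (Tr.node (Tr.leaf (nat_lit 0x1571877377677)) (Tr.leaf (nat_lit 0x413452231786712212))) (Tr.node (Tr.leaf (nat_lit 0x534654173132622177)) (Tr.leaf (nat_lit 0x0))))) (Tr.node (Tr.node (Tr.node (Tr.leaf (nat_lit 0x143453282236)) (Tr.leaf (nat_lit 0x1456546863762177))) (Tr.node (Tr.leaf (nat_lit 0x354123473313771211)) (Tr.leaf (nat_lit 0x0)))) (Tr.node (Tr.node (Tr.leaf (nat_lit 0x412158786787767121)) (Tr.leaf (nat_lit 0x31522132622622121))) (Tr.node (Tr.leaf (nat_lit 0x458453323713776776)) (Tr.leaf (nat_lit 0x0)))))) (Tr.node (Tr.node (Tr.node (Tr.node (Tr.leaf (nat_lit 0x143452231787121771)) (Tr.leaf (nat_lit 0x1456542687337717))) (Tr.node (Tr.leaf (nat_lit 0x4156546863762677)) (Tr.leaf (nat_lit 0x0)))) (Tr.node (Tr.node (Tr.leaf (nat_lit 0x563134887871371217)) (Tr.leaf (nat_lit 0x354123468236236762))) (Tr.node (Tr.leaf (nat_lit 0x413421787121221)) (Tr.leaf (nat_lit 0x0))))) (Tr.node (Tr.node (Tr.node (Tr.leaf (nat_lit 0x415654813763121771)) (Tr.leaf (nat_lit 0x815817868712212))) (Tr.node (Tr.leaf (nat_lit 0x56313488787137121711)) (Tr.leaf (nat_lit 0x0)))) (Tr.node (Tr.node (Tr.leaf (nat_lit 0x88415437732326221)) (Tr.leaf (nat_lit 0x0))) (Tr.node (Tr.leaf (nat_lit 0x413421782676)) (Tr.leaf (nat_lit 0x0))))))) (Tr.node (Tr.node (Tr.node (Tr.node (Tr.node (Tr.leaf (nat_lit 0x46345713231212)) (Tr.leaf (nat_lit 0x46322177))) (Tr.node (Tr.leaf (nat_lit 0x1456546863776)) (Tr.leaf (nat_lit 0x0)))) (Tr.node (Tr.node (Tr.leaf (nat_lit 0x3465477628626)) (Tr.leaf (nat_lit 0x543233428826377671))) (Tr.node (Tr.leaf (nat_lit 0x828634263713226712)) (Tr.leaf (nat_lit 0x0))))) (Tr.node (Tr.node (Tr.node (Tr.leaf (nat_lit 0x884154377323622171)) (Tr.leaf (nat_lit 0x91345718773717121))) (Tr.node (Tr.leaf (nat_lit 0x35412341873313622177)) (Tr.leaf (nat_lit 0x0)))) (Tr.node (Tr.node (Tr.leaf (nat_lit 0x828634323373121771)) (Tr.leaf (nat_lit 0x0))) (Tr.node (Tr.leaf (nat_lit 0x143457132317711)) (Tr.leaf (nat_lit 0x0)))))) (Tr.node (Tr.node (Tr.node (Tr.node (Tr.leaf (nat_lit 0x41565481376371217)) (Tr.leaf (nat_lit 0x53465432321371771711))) (Tr.node (Tr.leaf (nat_lit 0x413453282236776712)) (Tr.leaf (nat_lit 0x0)))) (Tr.node (Tr.node (Tr.leaf (nat_lit 0x23623481377871221)) (Tr.leaf (nat_lit 0x33156317737111))) (Tr.node (Tr.leaf (nat_lit 0x88153187173776771)) (Tr.leaf (nat_lit 0x0))))) (Tr.node (Tr.node (Tr.node (Tr.leaf (nat_lit 0x458934233223177)) (Tr.leaf (nat_lit 0x91342678767717))) (Tr.node (Tr.leaf (nat_lit 0x6217371771711)) (Tr.leaf (nat_lit 0x0)))) (Tr.node (Tr.node (Tr.leaf (nat_lit 0x41565423622362262)) (Tr.leaf (nat_lit 0x0))) (Tr.node (Tr.leaf (nat_lit 0x458934367362121)) (Tr.leaf (nat_lit 0x0))))))))))))) (Tr.node (Tr.node (Tr.node (Tr.node (Tr.node (Tr.node (Tr.node (Tr.node (Tr.node (Tr.node (Tr.node (Tr.leaf (nat_lit 0x121732171)) (Tr.leaf (nat_lit 0x412158786787717121))) (Tr.node (Tr.leaf (nat_lit 0x91345713231212)) (Tr.leaf (nat_lit 0x0)))) (Tr.node (Tr.node (Tr.leaf (nat_lit 0x1571877322171)) (Tr.leaf (nat_lit 0x346546823623677171))) (Tr.node (Tr.leaf (nat_lit 0x62173767717)) (Tr.leaf (nat_lit 0x0))))) (Tr.node (Tr.node (Tr.node (Tr.leaf (nat_lit 0x236234337868622121)) (Tr.leaf (nat_lit 0x4584537637812177))) (Tr.node (Tr.leaf (nat_lit 0x41345223178776217)) (Tr.leaf (nat_lit 0x0)))) (Tr.node (Tr.node (Tr.leaf (nat_lit 0x458934713268677626)) (Tr.leaf (nat_lit 0x331528877636776))) (Tr.node (Tr.leaf (nat_lit 0x354123418733132622621)) (Tr.leaf (nat_lit 0x0)))))) (Tr.node (Tr.node (Tr.node (Tr.node (Tr.leaf (nat_lit 0x463452231782121)) (Tr.leaf (nat_lit 0x339154377323622676))) (Tr.node (Tr.leaf (nat_lit 0x534654323671771)) (Tr.leaf (nat_lit 0x0)))) (Tr.node (Tr.node (Tr.leaf (nat_lit 0x41565462132862671)) (Tr.leaf (nat_lit 0x8286342637137712211))) (Tr.node (Tr.leaf (nat_lit 0x7312371712)) (Tr.leaf (nat_lit 0x0))))) (Tr.node (Tr.node (Tr.node (Tr.leaf (nat_lit 0x31437342181787762)) (Tr.leaf (nat_lit 0x3158623178177121))) (Tr.node (Tr.leaf (nat_lit 0x14345718773776212)) (Tr.leaf (nat_lit 0x0)))) (Tr.node (Tr.node (Tr.leaf (nat_lit 0x41345673212362212212)) (Tr.leaf (nat_lit 0x0))) (Tr.node (Tr.leaf (nat_lit 0x543233428826371212)) (Tr.leaf (nat_lit 0x0))))))) (Tr.node (Tr.node (Tr.node (Tr.node (Tr.node (Tr.leaf (nat_lit 0x145654236223776221)) (Tr.leaf (nat_lit 0x412153223236776712))) (Tr.node (Tr.leaf (nat_lit 0x346547762812111)) (Tr.leaf (nat_lit 0x0)))) (Tr.node (Tr.node (Tr.leaf (nat_lit 0x51523418213137111)) (Tr.leaf (nat_lit 0x9134571323677))) (Tr.node (Tr.leaf (nat_lit 0x35412347331366)) (Tr.leaf (nat_lit 0x0))))) (Tr.node (Tr.node (Tr.node (Tr.leaf (nat_lit 0x1571323122122)) (Tr.leaf (nat_lit 0x354123468236232622))) (Tr.node (Tr.leaf (nat_lit 0x31437342363282622671)) (Tr.leaf (nat_lit 0x0)))) (Tr.node (Tr.node (Tr.leaf (nat_lit 0x41342173767767)) (Tr.leaf (nat_lit 0x0))) (Tr.node (Tr.leaf (nat_lit 0x815771323376771)) (Tr.leaf (nat_lit 0x0)))))) (Tr.node (Tr.node (Tr.node (Tr.node (Tr.leaf (nat_lit 0x413421787767121)) (Tr.leaf (nat_lit 0x4137767121))) (Tr.node (Tr.leaf (nat_lit 0x346546823623177171)) (Tr.leaf (nat_lit 0x0)))) (Tr.node (Tr.node (Tr.leaf (nat_lit 0x884154718678762212)) (Tr.leaf (nat_lit 0x413426737767121))) (Tr.node (Tr.leaf (nat_lit 0x4134532822367762)) (Tr.leaf (nat_lit 0x0))))) (Tr.node (Tr.node (Tr.node (Tr.leaf (nat_lit 0x46565462132862671)) (Tr.leaf (nat_lit 0x23623413713221712))) (Tr.node (Tr.leaf (nat_lit 0x41342178767717)) (Tr.leaf (nat_lit 0x0)))) (Tr.node (Tr.node (Tr.leaf (nat_lit 0x463453282236)) (Tr.leaf (nat_lit 0x0))) (Tr.node (Tr.leaf (nat_lit 0x331582373637622171)) (Tr.leaf (nat_lit 0x0)))))))) (Tr.node (Tr.node (Tr.node (Tr.node (Tr.node (Tr.node (Tr.leaf (nat_lit 0x339154718678762212)) (Tr.leaf (nat_lit 0x41345673212312212212))) (Tr.node (Tr.leaf (nat_lit 0x3391547186782622676)) (Tr.leaf (nat_lit 0x0)))) (Tr.node (Tr.node (Tr.leaf (nat_lit 0x45845268673122122121)) (Tr.leaf (nat_lit 0x463426737767121))) (Tr.node (Tr.leaf (nat_lit 0x463426782217711)) (Tr.leaf (nat_lit 0x0))))) (Tr.node (Tr.node (Tr.node (Tr.leaf (nat_lit 0x8145468236232676226)) (Tr.leaf (nat_lit 0x41342173717717))) (Tr.node (Tr.leaf (nat_lit 0x465654621328622177)) (Tr.leaf (nat_lit 0x0)))) (Tr.node (Tr.node (Tr.leaf (nat_lit 0x5152342128636221221)) (Tr.leaf (nat_lit 0x815368223676221))) (Tr.node (Tr.leaf (nat_lit 0x45893436732622171)) (Tr.leaf (nat_lit 0x0)))))) (Tr.node (Tr.node (Tr.node (Tr.node (Tr.leaf (nat_lit 0x62173717717)) (Tr.leaf (nat_lit 0x236234337868767767121))) (Tr.node (Tr.leaf (nat_lit 0x56313482218132622621)) (Tr.leaf (nat_lit 0x0)))) (Tr.node (Tr.node (Tr.leaf (nat_lit 0x515234181821312212)) (Tr.leaf (nat_lit 0x331528877636771))) (Tr.node (Tr.leaf (nat_lit 0x91342678767767)) (Tr.leaf (nat_lit 0x0))))) (Tr.node (Tr.node (Tr.node (Tr.leaf (nat_lit 0x463457187737767766)) (Tr.leaf (nat_lit 0x354123418733132122121))) (Tr.node (Tr.leaf (nat_lit 0x145654268733677177)) (Tr.leaf (nat_lit 0x0)))) (Tr.node (Tr.node (Tr.leaf (nat_lit 0x331528877632622622121)) (Tr.leaf (nat_lit 0x0))) (Tr.node (Tr.leaf (nat_lit 0x145654268733122171)) (Tr.leaf (nat_lit 0x0))))))) (Tr.node (Tr.node (Tr.node (Tr.node (Tr.node (Tr.leaf (nat_lit 0x81454678687622121)) (Tr.leaf (nat_lit 0x4182217711))) (Tr.node (Tr.leaf (nat_lit 0x33915437732326221)) (Tr.leaf (nat_lit 0x0)))) (Tr.node (Tr.node (Tr.leaf (nat_lit 0x3391543773237767)) (Tr.leaf (nat_lit 0x3153313636771712))) (Tr.node (Tr.leaf (nat_lit 0x621736221771)) (Tr.leaf (nat_lit 0x0))))) (Tr.node (Tr.node (Tr.node (Tr.leaf (nat_lit 0x1567321232267122)) (Tr.leaf (nat_lit 0x51523418182137677121))) (Tr.node (Tr.leaf (nat_lit 0x88153732682677)) (Tr.leaf (nat_lit 0x0)))) (Tr.node (Tr.node (Tr.leaf (nat_lit 0x5125348628137767766)) (Tr.leaf (nat_lit 0x0))) (Tr.node (Tr.leaf (nat_lit 0x51253486281377677)) (Tr.leaf (nat_lit 0x0)))))) (Tr.node (Tr.node (Tr.node (Tr.node (Tr.leaf (nat_lit 0x465654813763621771)) (Tr.leaf (nat_lit 0x913452231786226221))) (Tr.node (Tr.leaf (nat_lit 0x41345718773767121)) (Tr.leaf (nat_lit 0x0)))) (Tr.node (Tr.node (Tr.leaf (nat_lit 0x8145437732326226)) (Tr.leaf (nat_lit 0x315322128122122121))) (Tr.node (Tr.leaf (nat_lit 0x88153732687767717)) (Tr.leaf (nat_lit 0x0))))) (Tr.node (Tr.node (Tr.node (Tr.leaf (nat_lit 0x346543773237717)) (Tr.leaf (nat_lit 0x4132676))) (Tr.node (Tr.leaf (nat_lit 0x563134887871326221221)) (Tr.leaf (nat_lit 0x0)))) (Tr.node (Tr.node (Tr.leaf (nat_lit 0x3465471867862121)) (Tr.leaf (nat_lit 0x0))) (Tr.node (Tr.leaf (nat_lit 0x8145437732326221)) (Tr.leaf (nat_lit 0x0))))))))) (Tr.node (Tr.node (Tr.node (Tr.node (Tr.node (Tr.node (Tr.node (Tr.leaf (nat_lit 0x415654236223177122)) (Tr.leaf (nat_lit 0x458452686736776776))) (Tr.node (Tr.leaf (nat_lit 0x56313437873122121)) (Tr.leaf (nat_lit 0x0)))) (Tr.node (Tr.node (Tr.leaf (nat_lit 0x31437342363282677177)) (Tr.leaf (nat_lit 0x418767717))) (Tr.node (Tr.leaf (nat_lit 0x4121532232367122)) (Tr.leaf (nat_lit 0x0))))) (Tr.node (Tr.node (Tr.node (Tr.leaf (nat_lit 0x33915471867871711)) (Tr.leaf (nat_lit 0x143426787717121))) (Tr.node (Tr.leaf (nat_lit 0x46565468637767712)) (Tr.leaf (nat_lit 0x0)))) (Tr.node (Tr.node (Tr.leaf (nat_lit 0x88157362232671712)) (Tr.leaf (nat_lit 0x95845376378767122))) (Tr.node (Tr.leaf (nat_lit 0x82863432337326226221)) (Tr.leaf (nat_lit 0x0)))))) (Tr.node (Tr.node (Tr.node (Tr.node (Tr.leaf (nat_lit 0x462171)) (Tr.leaf (nat_lit 0x814543773232122111))) (Tr.node (Tr.leaf (nat_lit 0x4156546863262217)) (Tr.leaf (nat_lit 0x0)))) (Tr.node (Tr.node (Tr.leaf (nat_lit 0x95845332371322122121)) (Tr.leaf (nat_lit 0x143452231786226221))) (Tr.node (Tr.leaf (nat_lit 0x88153732682217121)) (Tr.leaf (nat_lit 0x0))))) (Tr.node (Tr.node (Tr.node (Tr.leaf (nat_lit 0x5432334288263767766)) (Tr.leaf (nat_lit 0x45845376378767762))) (Tr.node (Tr.leaf (nat_lit 0x8145477628226267)) (Tr.leaf (nat_lit 0x0)))) (Tr.node (Tr.node (Tr.leaf (nat_lit 0x463421782217711)) (Tr.leaf (nat_lit 0x0))) (Tr.node (Tr.leaf (nat_lit 0x354123431363736776712)) (Tr.leaf (nat_lit 0x0))))))) (Tr.node (Tr.node (Tr.node (Tr.node (Tr.node (Tr.leaf (nat_lit 0x153282236771712)) (Tr.leaf (nat_lit 0x1434571877367717))) (Tr.node (Tr.leaf (nat_lit 0x88153187173771771)) (Tr.leaf (nat_lit 0x0)))) (Tr.node (Tr.node (Tr.leaf (nat_lit 0x15673212362262212)) (Tr.leaf (nat_lit 0x91346712122))) (Tr.node (Tr.leaf (nat_lit 0x14342678217111)) (Tr.leaf (nat_lit 0x0))))) (Tr.node (Tr.node (Tr.node (Tr.leaf (nat_lit 0x4589343673762262)) (Tr.leaf (nat_lit 0x3143734136313262177))) (Tr.node (Tr.leaf (nat_lit 0x88153187173212171)) (Tr.leaf (nat_lit 0x0)))) (Tr.node (Tr.node (Tr.leaf (nat_lit 0x563134637336771771)) (Tr.leaf (nat_lit 0x0))) (Tr.node (Tr.leaf (nat_lit 0x815218686712122)) (Tr.leaf (nat_lit 0x0)))))) (Tr.node (Tr.node (Tr.node (Tr.node (Tr.leaf (nat_lit 0x3541234187331367767121)) (Tr.leaf (nat_lit 0x512534263682677671))) (Tr.node (Tr.leaf (nat_lit 0x14565481376322121)) (Tr.leaf (nat_lit 0x0)))) (Tr.node (Tr.node (Tr.leaf (nat_lit 0x45893467623221217)) (Tr.leaf (nat_lit 0x2362342813732267622))) (Tr.node (Tr.leaf (nat_lit 0x5152346868136776712)) (Tr.leaf (nat_lit 0x0))))) (Tr.node (Tr.node (Tr.node (Tr.leaf (nat_lit 0x152231786717)) (Tr.leaf (nat_lit 0x3158623178677121))) (Tr.node (Tr.leaf (nat_lit 0x4137717121)) (Tr.leaf (nat_lit 0x0)))) (Tr.node (Tr.node (Tr.leaf (nat_lit 0x563134822181362676)) (Tr.leaf (nat_lit 0x0))) (Tr.node (Tr.leaf (nat_lit 0x41565481376322626)) (Tr.leaf (nat_lit 0x0)))))))) (Tr.node (Tr.node (Tr.node (Tr.node (Tr.node (Tr.node (Tr.leaf (nat_lit 0x2362341371371111)) (Tr.leaf (nat_lit 0x815218681771712))) (Tr.node (Tr.leaf (nat_lit 0x881573622377)) (Tr.leaf (nat_lit 0x0)))) (Tr.node (Tr.node (Tr.leaf (nat_lit 0x314373476368211)) (Tr.leaf (nat_lit 0x463421732217711))) (Tr.node (Tr.leaf (nat_lit 0x458934676232677171)) (Tr.leaf (nat_lit 0x0))))) (Tr.node (Tr.node (Tr.node (Tr.leaf (nat_lit 0x563134887871322621)) (Tr.leaf (nat_lit 0x56313437873762676))) (Tr.node (Tr.leaf (nat_lit 0x1456542362236221712)) (Tr.leaf (nat_lit 0x0)))) (Tr.node (Tr.node (Tr.leaf (nat_lit 0x1456542362237677621)) (Tr.leaf (nat_lit 0x143426782671))) (Tr.node (Tr.leaf (nat_lit 0x3143734218178766622)) (Tr.leaf (nat_lit 0x0)))))) (Tr.node (Tr.node (Tr.node (Tr.node (Tr.leaf (nat_lit 0x913452231786712212)) (Tr.leaf (nat_lit 0x3541234187331362171))) (Tr.node (Tr.leaf (nat_lit 0x331568232331711)) (Tr.leaf (nat_lit 0x0)))) (Tr.node (Tr.node (Tr.leaf (nat_lit 0x95845332371322622121)) (Tr.leaf (nat_lit 0x354123476821812212))) (Tr.node (Tr.leaf (nat_lit 0x4121587871)) (Tr.leaf (nat_lit 0x0))))) (Tr.node (Tr.node (Tr.node (Tr.leaf (nat_lit 0x51253417877137762177)) (Tr.leaf (nat_lit 0x5152341818213776221))) (Tr.node (Tr.leaf (nat_lit 0x314373423632862121)) (Tr.leaf (nat_lit 0x0)))) (Tr.node (Tr.node (Tr.leaf (nat_lit 0x81454718678712212)) (Tr.leaf (nat_lit 0x0))) (Tr.node (Tr.leaf (nat_lit 0x35412343136373666)) (Tr.leaf (nat_lit 0x0))))))) (Tr.node (Tr.node (Tr.node (Tr.node (Tr.node (Tr.leaf (nat_lit 0x9134532822317122)) (Tr.leaf (nat_lit 0x33152886313762217))) (Tr.node (Tr.leaf (nat_lit 0x41342678717717)) (Tr.leaf (nat_lit 0x0)))) (Tr.node (Tr.node (Tr.leaf (nat_lit 0x31437347632371712)) (Tr.leaf (nat_lit 0x4589342286731771211))) (Tr.node (Tr.leaf (nat_lit 0x4584526718131771)) (Tr.leaf (nat_lit 0x0))))) (Tr.node (Tr.node (Tr.node (Tr.leaf (nat_lit 0x46565481376321221221)) (Tr.leaf (nat_lit 0x45893471326876221))) (Tr.node (Tr.leaf (nat_lit 0x512534317137)) (Tr.leaf (nat_lit 0x0)))) (Tr.node (Tr.node (Tr.leaf (nat_lit 0x5125343171377122)) (Tr.leaf (nat_lit 0x0))) (Tr.node (Tr.leaf (nat_lit 0x5432334712818262217)) (Tr.leaf (nat_lit 0x0)))))) (Tr.node (Tr.node (Tr.node (Tr.node (Tr.leaf (nat_lit 0x8145477628626)) (Tr.leaf (nat_lit 0x412158786782217711))) (Tr.node (Tr.leaf (nat_lit 0x339154682362326267)) (Tr.leaf (nat_lit 0x0)))) (Tr.node (Tr.node (Tr.leaf (nat_lit 0x34654718678762262)) (Tr.leaf (nat_lit 0x3158623178677626))) (Tr.node (Tr.leaf (nat_lit 0x46342178717717)) (Tr.leaf (nat_lit 0x0))))) (Tr.node (Tr.node (Tr.node (Tr.leaf (nat_lit 0x35412341873313226776)) (Tr.leaf (nat_lit 0x4634217822177))) (Tr.node (Tr.leaf (nat_lit 0x913452231786717)) (Tr.leaf (nat_lit 0x0)))) (Tr.node (Tr.node (Tr.leaf (nat_lit 0x5346548187332212171)) (Tr.leaf (nat_lit 0x0))) (Tr.node (Tr.leaf (nat_lit 0x458452686736771771)) (Tr.leaf (nat_lit 0x0)))))))))) (Tr.node (Tr.node (Tr.node (Tr.node (Tr.node (Tr.node (Tr.node (Tr.node (Tr.leaf (nat_lit 0x4226776)) (Tr.leaf (nat_lit 0x143421737121221))) (Tr.node (Tr.leaf (nat_lit 0x314373413631367712)) (Tr.leaf (nat_lit 0x0)))) (Tr.node (Tr.node (Tr.leaf (nat_lit 0x3465468236232676221)) (Tr.leaf (nat_lit 0x339154776286267712))) (Tr.node (Tr.leaf (nat_lit 0x458934713268677621)) (Tr.leaf (nat_lit 0x0))))) (Tr.node (Tr.node (Tr.node (Tr.leaf (nat_lit 0x143453282236771712)) (Tr.leaf (nat_lit 0x515234212863776217))) (Tr.node (Tr.leaf (nat_lit 0x413767767)) (Tr.leaf (nat_lit 0x0)))) (Tr.node (Tr.node (Tr.leaf (nat_lit 0x3158623178262212)) (Tr.leaf (nat_lit 0x81577132332262671))) (Tr.node (Tr.leaf (nat_lit 0x8815318717362262671)) (Tr.leaf (nat_lit 0x0)))))) (Tr.node (Tr.node (Tr.node (Tr.node (Tr.leaf (nat_lit 0x31437342363287677122)) (Tr.leaf (nat_lit 0x46345718773776212))) (Tr.node (Tr.leaf (nat_lit 0x884154776282677171)) (Tr.leaf (nat_lit 0x0)))) (Tr.node (Tr.node (Tr.leaf (nat_lit 0x512534862813776212)) (Tr.leaf (nat_lit 0x46342678767767))) (Tr.node (Tr.leaf (nat_lit 0x5346543232637717121)) (Tr.leaf (nat_lit 0x0))))) (Tr.node (Tr.node (Tr.node (Tr.leaf (nat_lit 0x512534317136771221)) (Tr.leaf (nat_lit 0x31522136776))) (Tr.node (Tr.leaf (nat_lit 0x512534862813767121)) (Tr.leaf (nat_lit 0x0)))) (Tr.node (Tr.node (Tr.leaf (nat_lit 0x31437347636812122)) (Tr.leaf (nat_lit 0x0))) (Tr.node (Tr.leaf (nat_lit 0x9134571323177)) (Tr.leaf (nat_lit 0x0))))))) (Tr.node (Tr.node (Tr.node (Tr.node (Tr.node (Tr.leaf (nat_lit 0x5432334712818771)) (Tr.leaf (nat_lit 0x41342673767767))) (Tr.node (Tr.leaf (nat_lit 0x884154377323177177)) (Tr.leaf (nat_lit 0x0)))) (Tr.node (Tr.node (Tr.leaf (nat_lit 0x23623481377826766)) (Tr.leaf (nat_lit 0x458458231737622626))) (Tr.node (Tr.leaf (nat_lit 0x1456546863262262212)) (Tr.leaf (nat_lit 0x0))))) (Tr.node (Tr.node (Tr.node (Tr.leaf (nat_lit 0x15713237671)) (Tr.leaf (nat_lit 0x5432334781213262267))) (Tr.node (Tr.leaf (nat_lit 0x81523221236771771)) (Tr.leaf (nat_lit 0x0)))) (Tr.node (Tr.node (Tr.leaf (nat_lit 0x3541234313637367712)) (Tr.leaf (nat_lit 0x0))) (Tr.node (Tr.leaf (nat_lit 0x413467622)) (Tr.leaf (nat_lit 0x0)))))) (Tr.node (Tr.node (Tr.node (Tr.node (Tr.leaf (nat_lit 0x4584526718137767717121)) (Tr.leaf (nat_lit 0x46341))) (Tr.node (Tr.leaf (nat_lit 0x881512363631212)) (Tr.leaf (nat_lit 0x0)))) (Tr.node (Tr.node (Tr.leaf (nat_lit 0x53465417313262671)) (Tr.leaf (nat_lit 0x143426737621221))) (Tr.node (Tr.leaf (nat_lit 0x1434571877377677)) (Tr.leaf (nat_lit 0x0))))) (Tr.node (Tr.node (Tr.node (Tr.leaf (nat_lit 0x958458231737762671)) (Tr.leaf (nat_lit 0x34654682362321217))) (Tr.node (Tr.leaf (nat_lit 0x9134217822177)) (Tr.leaf (nat_lit 0x0)))) (Tr.node (Tr.node (Tr.leaf (nat_lit 0x412153223231771211)) (Tr.leaf (nat_lit 0x0))) (Tr.node (Tr.leaf (nat_lit 0x3158623178677621)) (Tr.leaf (nat_lit 0x0)))))))) (Tr.node (Tr.node (Tr.node (Tr.node (Tr.node (Tr.node (Tr.leaf (nat_lit 0x4226771)) (Tr.leaf (nat_lit 0x913421732671))) (Tr.node (Tr.leaf (nat_lit 0x4156546213282622626)) (Tr.leaf (nat_lit 0x0)))) (Tr.node (Tr.node (Tr.leaf (nat_lit 0x534654818733622122121)) (Tr.leaf (nat_lit 0x9134571323267121))) (Tr.node (Tr.leaf (nat_lit 0x884154718678712212)) (Tr.leaf (nat_lit 0x0))))) (Tr.node (Tr.node (Tr.node (Tr.leaf (nat_lit 0x335433412826876662)) (Tr.leaf (nat_lit 0x4634571323267121))) (Tr.node (Tr.leaf (nat_lit 0x81454678687622626)) (Tr.leaf (nat_lit 0x0)))) (Tr.node (Tr.node (Tr.leaf (nat_lit 0x46345713237171)) (Tr.leaf (nat_lit 0x413421732171))) (Tr.node (Tr.leaf (nat_lit 0x45845332371312212171)) (Tr.leaf (nat_lit 0x0)))))) (Tr.node (Tr.node (Tr.node (Tr.node (Tr.leaf (nat_lit 0x236234137137712211)) (Tr.leaf (nat_lit 0x354123473313776662))) (Tr.node (Tr.leaf (nat_lit 0x143456732123226)) (Tr.leaf (nat_lit 0x0)))) (Tr.node (Tr.node (Tr.leaf (nat_lit 0x1571877322671)) (Tr.leaf (nat_lit 0x4584526718136771))) (Tr.node (Tr.leaf (nat_lit 0x4634267822177)) (Tr.leaf (nat_lit 0x0))))) (Tr.node (Tr.node (Tr.node (Tr.leaf (nat_lit 0x4156548137637121711)) (Tr.leaf (nat_lit 0x543233428826317121))) (Tr.node (Tr.leaf (nat_lit 0x884154776282671212)) (Tr.leaf (nat_lit 0x0)))) (Tr.node (Tr.node (Tr.leaf (nat_lit 0x913426787621221)) (Tr.leaf (nat_lit 0x0))) (Tr.node (Tr.leaf (nat_lit 0x34654776282671212)) (Tr.leaf (nat_lit 0x0))))))) (Tr.node (Tr.node (Tr.node (Tr.node (Tr.node (Tr.leaf (nat_lit 0x42622626)) (Tr.leaf (nat_lit 0x145654268733762121))) (Tr.node (Tr.leaf (nat_lit 0x339154377323677177)) (Tr.leaf (nat_lit 0x0)))) (Tr.node (Tr.node (Tr.leaf (nat_lit 0x5432334288263267717)) (Tr.leaf (nat_lit 0x7376376712))) (Tr.node (Tr.leaf (nat_lit 0x335433412826876712)) (Tr.leaf (nat_lit 0x0))))) (Tr.node (Tr.node (Tr.node (Tr.leaf (nat_lit 0x15673212312217)) (Tr.leaf (nat_lit 0x1434532822367712))) (Tr.node (Tr.leaf (nat_lit 0x3143734218178)) (Tr.leaf (nat_lit 0x0)))) (Tr.node (Tr.node (Tr.leaf (nat_lit 0x331528877637622621)) (Tr.leaf (nat_lit 0x0))) (Tr.node (Tr.leaf (nat_lit 0x91342678217111)) (Tr.leaf (nat_lit 0x0)))))) (Tr.node (Tr.node (Tr.node (Tr.node (Tr.leaf (nat_lit 0x95845268673122122121)) (Tr.leaf (nat_lit 0x415654268733622171))) (Tr.node (Tr.leaf (nat_lit 0x3153221282212171)) (Tr.leaf (nat_lit 0x0)))) (Tr.node (Tr.node (Tr.leaf (nat_lit 0x4156546213282622121)) (Tr.leaf (nat_lit 0x3354334887828177122))) (Tr.node (Tr.leaf (nat_lit 0x4121532232317122)) (Tr.leaf (nat_lit 0x0))))) (Tr.node (Tr.node (Tr.node (Tr.leaf (nat_lit 0x53465432321322177)) (Tr.leaf (nat_lit 0x91346776712))) (Tr.node (Tr.leaf (nat_lit 0x14342173767767)) (Tr.leaf (nat_lit 0x0)))) (Tr.node (Tr.node (Tr.leaf (nat_lit 0x31437347636876662)) (Tr.leaf (nat_lit 0x0))) (Tr.node (Tr.leaf (nat_lit 0x463452231787621771)) (Tr.leaf (nat_lit 0x0))))))))) (Tr.node (Tr.node (Tr.node (Tr.node (Tr.node (Tr.node (Tr.node (Tr.leaf (nat_lit 0x5346543232632217711)) (Tr.leaf (nat_lit 0x45845376378717712))) (Tr.node (Tr.leaf (nat_lit 0x512534788736267)) (Tr.leaf (nat_lit 0x0)))) (Tr.node (Tr.node (Tr.leaf (nat_lit 0x95845332371322622621)) (Tr.leaf (nat_lit 0x91342178767767))) (Tr.node (Tr.leaf (nat_lit 0x2362348137787122111)) (Tr.leaf (nat_lit 0x0))))) (Tr.node (Tr.node (Tr.node (Tr.leaf (nat_lit 0x415654813763621771)) (Tr.leaf (nat_lit 0x41215878673717717))) (Tr.node (Tr.leaf (nat_lit 0x314373476368622)) (Tr.leaf (nat_lit 0x0)))) (Tr.node (Tr.node (Tr.leaf (nat_lit 0x82863436813626776)) (Tr.leaf (nat_lit 0x81577132336776771))) (Tr.node (Tr.leaf (nat_lit 0x3143734218178712211)) (Tr.leaf (nat_lit 0x0)))))) (Tr.node (Tr.node (Tr.node (Tr.node (Tr.leaf (nat_lit 0x4134571323122122)) (Tr.leaf (nat_lit 0x81454776281217712))) (Tr.node (Tr.leaf (nat_lit 0x14345673212362262262)) (Tr.leaf (nat_lit 0x0)))) (Tr.node (Tr.node (Tr.leaf (nat_lit 0x56313437876232121)) (Tr.leaf (nat_lit 0x41215868263776776))) (Tr.node (Tr.leaf (nat_lit 0x913426737767121)) (Tr.leaf (nat_lit 0x0))))) (Tr.node (Tr.node (Tr.node (Tr.leaf (nat_lit 0x2362347331813621771)) (Tr.leaf (nat_lit 0x913457132367766))) (Tr.node (Tr.leaf (nat_lit 0x5346543232632171)) (Tr.leaf (nat_lit 0x0)))) (Tr.node (Tr.node (Tr.leaf (nat_lit 0x143467762)) (Tr.leaf (nat_lit 0x0))) (Tr.node (Tr.leaf (nat_lit 0x335433412826812122)) (Tr.leaf (nat_lit 0x0))))))) (Tr.node (Tr.node (Tr.node (Tr.node (Tr.node (Tr.leaf (nat_lit 0x913452231782621)) (Tr.leaf (nat_lit 0x515234182131362677))) (Tr.node (Tr.leaf (nat_lit 0x3143734136313111)) (Tr.leaf (nat_lit 0x0)))) (Tr.node (Tr.node (Tr.leaf (nat_lit 0x145654236223771221)) (Tr.leaf (nat_lit 0x331582373632677121))) (Tr.node (Tr.leaf (nat_lit 0x4589342332236212)) (Tr.leaf (nat_lit 0x0))))) (Tr.node (Tr.node (Tr.node (Tr.leaf (nat_lit 0x46565426873326226)) (Tr.leaf (nat_lit 0x884154682362321217))) (Tr.node (Tr.leaf (nat_lit 0x41345718773121221)) (Tr.leaf (nat_lit 0x0)))) (Tr.node (Tr.node (Tr.leaf (nat_lit 0x35412346823623221111)) (Tr.leaf (nat_lit 0x0))) (Tr.node (Tr.leaf (nat_lit 0x335433413132182121)) (Tr.leaf (nat_lit 0x0)))))) (Tr.node (Tr.node (Tr.node (Tr.node (Tr.leaf (nat_lit 0x73763122)) (Tr.leaf (nat_lit 0x515234212863771217))) (Tr.node (Tr.leaf (nat_lit 0x95845332371362262671)) (Tr.leaf (nat_lit 0x0)))) (Tr.node (Tr.node (Tr.leaf (nat_lit 0x81454682362326267)) (Tr.leaf (nat_lit 0x3315631773767122))) (Tr.node (Tr.leaf (nat_lit 0x463421782171)) (Tr.leaf (nat_lit 0x0))))) (Tr.node (Tr.node (Tr.node (Tr.leaf (nat_lit 0x8286343681326717)) (Tr.leaf (nat_lit 0x815817868226221))) (Tr.node (Tr.leaf (nat_lit 0x14345673212312212212)) (Tr.leaf (nat_lit 0x0)))) (Tr.node (Tr.node (Tr.leaf (nat_lit 0x463421732671)) (Tr.leaf (nat_lit 0x0))) (Tr.node (Tr.leaf (nat_lit 0x958458231737622626)) (Tr.leaf (nat_lit 0x0)))))))) (Tr.node (Tr.node (Tr.node (Tr.node (Tr.node (Tr.node (Tr.leaf (nat_lit 0x157187737767766)) (Tr.leaf (nat_lit 0x9584526867376776))) (Tr.node (Tr.leaf (nat_lit 0x9134217322177)) (Tr.leaf (nat_lit 0x0)))) (Tr.node (Tr.node (Tr.leaf (nat_lit 0x1567321237762177)) (Tr.leaf (nat_lit 0x335433412822321111))) (Tr.node (Tr.leaf (nat_lit 0x3391543773237762212)) (Tr.leaf (nat_lit 0x0))))) (Tr.node (Tr.node (Tr.node (Tr.leaf (nat_lit 0x884154718678221221)) (Tr.leaf (nat_lit 0x458934233223217121))) (Tr.node (Tr.leaf (nat_lit 0x8286348713186217)) (Tr.leaf (nat_lit 0x0)))) (Tr.node (Tr.node (Tr.leaf (nat_lit 0x2362341371377622)) (Tr.leaf (nat_lit 0x33152886313217122))) (Tr.node (Tr.leaf (nat_lit 0x4637621221)) (Tr.leaf (nat_lit 0x0)))))) (Tr.node (Tr.node (Tr.node (Tr.node (Tr.leaf (nat_lit 0x335433488782867)) (Tr.leaf (nat_lit 0x145654268733177177))) (Tr.node (Tr.leaf (nat_lit 0x339154377323122171)) (Tr.leaf (nat_lit 0x0)))) (Tr.node (Tr.node (Tr.leaf (nat_lit 0x14565481376377677171)) (Tr.leaf (nat_lit 0x31522137767717121))) (Tr.node (Tr.leaf (nat_lit 0x4634267871771711)) (Tr.leaf (nat_lit 0x0))))) (Tr.node (Tr.node (Tr.node (Tr.leaf (nat_lit 0x33915471867862121)) (Tr.leaf (nat_lit 0x458934713268177121))) (Tr.node (Tr.leaf (nat_lit 0x51253426368121)) (Tr.leaf (nat_lit 0x0)))) (Tr.node (Tr.node (Tr.leaf (nat_lit 0x881537326817111)) (Tr.leaf (nat_lit 0x0))) (Tr.node (Tr.leaf (nat_lit 0x3465468236237121)) (Tr.leaf (nat_lit 0x0))))))) (Tr.node (Tr.node (Tr.node (Tr.node (Tr.node (Tr.leaf (nat_lit 0x413453282236712122)) (Tr.leaf (nat_lit 0x4187621221))) (Tr.node (Tr.leaf (nat_lit 0x4656542687337762212)) (Tr.leaf (nat_lit 0x0)))) (Tr.node (Tr.node (Tr.leaf (nat_lit 0x534654323771771)) (Tr.leaf (nat_lit 0x73763211))) (Tr.node (Tr.leaf (nat_lit 0x56313437876232267177)) (Tr.leaf (nat_lit 0x0))))) (Tr.node (Tr.node (Tr.node (Tr.leaf (nat_lit 0x884154678687767717121)) (Tr.leaf (nat_lit 0x4584537637871))) (Tr.node (Tr.leaf (nat_lit 0x463426787717121)) (Tr.leaf (nat_lit 0x0)))) (Tr.node (Tr.node (Tr.leaf (nat_lit 0x31522137622626)) (Tr.leaf (nat_lit 0x0))) (Tr.node (Tr.leaf (nat_lit 0x4134571877367717)) (Tr.leaf (nat_lit 0x0)))))) (Tr.node (Tr.node (Tr.node (Tr.node (Tr.leaf (nat_lit 0x1571323267121)) (Tr.leaf (nat_lit 0x413421787621221))) (Tr.node (Tr.leaf (nat_lit 0x4132217711)) (Tr.leaf (nat_lit 0x0)))) (Tr.node (Tr.node (Tr.leaf (nat_lit 0x415654621328226776)) (Tr.leaf (nat_lit 0x3153313631771712))) (Tr.node (Tr.leaf (nat_lit 0x1434571323677)) (Tr.leaf (nat_lit 0x0))))) (Tr.node (Tr.node (Tr.node (Tr.leaf (nat_lit 0x41565426873321221)) (Tr.leaf (nat_lit 0x463417122))) (Tr.node (Tr.leaf (nat_lit 0x82863487131877621)) (Tr.leaf (nat_lit 0x0)))) (Tr.node (Tr.node (Tr.leaf (nat_lit 0x14345328223111)) (Tr.leaf (nat_lit 0x0))) (Tr.node (Tr.leaf (nat_lit 0x4589343673221221)) (Tr.leaf (nat_lit 0x0))))))))))) (Tr.node (Tr.node (Tr.node (Tr.node (Tr.node (Tr.node (Tr.node (Tr.node (Tr.node (Tr.leaf (nat_lit 0x771712)) (Tr.leaf (nat_lit 0x41342178217111))) (Tr.node (Tr.leaf (nat_lit 0x56313482218132622626)) (Tr.leaf (nat_lit 0x0)))) (Tr.node (Tr.node (Tr.leaf (nat_lit 0x1456546863771)) (Tr.leaf (nat_lit 0x3153221287177111))) (Tr.node (Tr.leaf (nat_lit 0x512534178771366226)) (Tr.leaf (nat_lit 0x0))))) (Tr.node (Tr.node (Tr.node (Tr.leaf (nat_lit 0x5346541731362262171)) (Tr.leaf (nat_lit 0x5432334781213262262212))) (Tr.node (Tr.leaf (nat_lit 0x56313463733122122121)) (Tr.leaf (nat_lit 0x0)))) (Tr.node (Tr.node (Tr.leaf (nat_lit 0x4121587862677)) (Tr.leaf (nat_lit 0x8815318717376771771))) (Tr.node (Tr.leaf (nat_lit 0x339154377323622171)) (Tr.leaf (nat_lit 0x0)))))) (Tr.node (Tr.node (Tr.node (Tr.node (Tr.leaf (nat_lit 0x4134571323677)) (Tr.leaf (nat_lit 0x5152346868131))) (Tr.node (Tr.leaf (nat_lit 0x3541234768218177122)) (Tr.leaf (nat_lit 0x0)))) (Tr.node (Tr.node (Tr.leaf (nat_lit 0x9134217322677)) (Tr.leaf (nat_lit 0x412158786732676))) (Tr.node (Tr.leaf (nat_lit 0x88415468236237621)) (Tr.leaf (nat_lit 0x0))))) (Tr.node (Tr.node (Tr.node (Tr.leaf (nat_lit 0x1434267322177)) (Tr.leaf (nat_lit 0x143457132367766))) (Tr.node (Tr.leaf (nat_lit 0x3541234682362322)) (Tr.leaf (nat_lit 0x0)))) (Tr.node (Tr.node (Tr.leaf (nat_lit 0x1434571323622622)) (Tr.leaf (nat_lit 0x0))) (Tr.node (Tr.leaf (nat_lit 0x4121532232367622)) (Tr.leaf (nat_lit 0x0))))))) (Tr.node (Tr.node (Tr.node (Tr.node (Tr.node (Tr.leaf (nat_lit 0x5152342128637626771)) (Tr.leaf (nat_lit 0x563134822181362671))) (Tr.node (Tr.leaf (nat_lit 0x3143734218178771211)) (Tr.leaf (nat_lit 0x0)))) (Tr.node (Tr.node (Tr.leaf (nat_lit 0x346547186782622676)) (Tr.leaf (nat_lit 0x1434567321231221711))) (Tr.node (Tr.leaf (nat_lit 0x884154776286267762)) (Tr.leaf (nat_lit 0x0))))) (Tr.node (Tr.node (Tr.node (Tr.leaf (nat_lit 0x814543773237767)) (Tr.leaf (nat_lit 0x315713136626))) (Tr.node (Tr.leaf (nat_lit 0x5432334773213717717121)) (Tr.leaf (nat_lit 0x0)))) (Tr.node (Tr.node (Tr.leaf (nat_lit 0x91346771712)) (Tr.leaf (nat_lit 0x0))) (Tr.node (Tr.leaf (nat_lit 0x143426732676)) (Tr.leaf (nat_lit 0x0)))))) (Tr.node (Tr.node (Tr.node (Tr.node (Tr.leaf (nat_lit 0x5432334712818262262212)) (Tr.leaf (nat_lit 0x4121586826362262671))) (Tr.node (Tr.leaf (nat_lit 0x56313437873762171)) (Tr.leaf (nat_lit 0x0)))) (Tr.node (Tr.node (Tr.leaf (nat_lit 0x5125343171371111)) (Tr.leaf (nat_lit 0x413426732671))) (Tr.node (Tr.leaf (nat_lit 0x143457187737767766)) (Tr.leaf (nat_lit 0x0))))) (Tr.node (Tr.node (Tr.node (Tr.leaf (nat_lit 0x45893422867367122)) (Tr.leaf (nat_lit 0x81581786862121))) (Tr.node (Tr.leaf (nat_lit 0x331563177376776712)) (Tr.leaf (nat_lit 0x0)))) (Tr.node (Tr.node (Tr.leaf (nat_lit 0x412153223236712122)) (Tr.leaf (nat_lit 0x0))) (Tr.node (Tr.leaf (nat_lit 0x815368223121711)) (Tr.leaf (nat_lit 0x0)))))))) (Tr.node (Tr.node (Tr.node (Tr.node (Tr.node (Tr.node (Tr.leaf (nat_lit 0x81454718678762262)) (Tr.leaf (nat_lit 0x81523221237177111))) (Tr.node (Tr.leaf (nat_lit 0x8145477628221217)) (Tr.leaf (nat_lit 0x0)))) (Tr.node (Tr.node (Tr.leaf (nat_lit 0x5346541731322122121)) (Tr.leaf (nat_lit 0x5152342128632267177))) (Tr.node (Tr.leaf (nat_lit 0x7376371712)) (Tr.leaf (nat_lit 0x0))))) (Tr.node (Tr.node (Tr.node (Tr.leaf (nat_lit 0x5346548187332262671)) (Tr.leaf (nat_lit 0x3391546823623177171))) (Tr.node (Tr.leaf (nat_lit 0x88415477628226217)) (Tr.leaf (nat_lit 0x0)))) (Tr.node (Tr.node (Tr.leaf (nat_lit 0x463456732123221)) (Tr.leaf (nat_lit 0x54323347732236226226))) (Tr.node (Tr.leaf (nat_lit 0x958452686736776776)) (Tr.leaf (nat_lit 0x0)))))) (Tr.node (Tr.node (Tr.node (Tr.node (Tr.leaf (nat_lit 0x4584526718137122121)) (Tr.leaf (nat_lit 0x3143734218178771712))) (Tr.node (Tr.leaf (nat_lit 0x884154776282677671)) (Tr.leaf (nat_lit 0x0)))) (Tr.node (Tr.node (Tr.leaf (nat_lit 0x458458231737762671)) (Tr.leaf (nat_lit 0x8815318717322622621))) (Tr.node (Tr.leaf (nat_lit 0x95845823173177111)) (Tr.leaf (nat_lit 0x0))))) (Tr.node (Tr.node (Tr.node (Tr.leaf (nat_lit 0x1571323217121)) (Tr.leaf (nat_lit 0x815817868762212))) (Tr.node (Tr.leaf (nat_lit 0x41322177)) (Tr.leaf (nat_lit 0x0)))) (Tr.node (Tr.node (Tr.leaf (nat_lit 0x913457187737767766)) (Tr.leaf (nat_lit 0x0))) (Tr.node (Tr.leaf (nat_lit 0x23623428137362262262)) (Tr.leaf (nat_lit 0x0))))))) (Tr.node (Tr.node (Tr.node (Tr.node (Tr.node (Tr.leaf (nat_lit 0x412171)) (Tr.leaf (nat_lit 0x3143734136313666))) (Tr.node (Tr.leaf (nat_lit 0x145654268733771711)) (Tr.leaf (nat_lit 0x0)))) (Tr.node (Tr.node (Tr.leaf (nat_lit 0x4156546863776)) (Tr.leaf (nat_lit 0x7376362122))) (Tr.node (Tr.leaf (nat_lit 0x54323342882637177)) (Tr.leaf (nat_lit 0x0))))) (Tr.node (Tr.node (Tr.node (Tr.leaf (nat_lit 0x157187737717711)) (Tr.leaf (nat_lit 0x4634571877322671))) (Tr.node (Tr.leaf (nat_lit 0x884154377323622671)) (Tr.leaf (nat_lit 0x0)))) (Tr.node (Tr.node (Tr.leaf (nat_lit 0x3541234682362312)) (Tr.leaf (nat_lit 0x0))) (Tr.node (Tr.leaf (nat_lit 0x5631348221813226776)) (Tr.leaf (nat_lit 0x0)))))) (Tr.node (Tr.node (Tr.node (Tr.node (Tr.leaf (nat_lit 0x73123762)) (Tr.leaf (nat_lit 0x515234181821367))) (Tr.node (Tr.leaf (nat_lit 0x33158237363221711)) (Tr.leaf (nat_lit 0x0)))) (Tr.node (Tr.node (Tr.leaf (nat_lit 0x46565462132867717121)) (Tr.leaf (nat_lit 0x8158178682677177))) (Tr.node (Tr.leaf (nat_lit 0x8157713233622622121)) (Tr.leaf (nat_lit 0x0))))) (Tr.node (Tr.node (Tr.node (Tr.leaf (nat_lit 0x236234281373226)) (Tr.leaf (nat_lit 0x236234137136771221))) (Tr.node (Tr.leaf (nat_lit 0x4156546863212212212)) (Tr.leaf (nat_lit 0x0)))) (Tr.node (Tr.node (Tr.leaf (nat_lit 0x913426736221771)) (Tr.leaf (nat_lit 0x0))) (Tr.node (Tr.leaf (nat_lit 0x9584526718137622626)) (Tr.leaf (nat_lit 0x0))))))))) (Tr.node (Tr.node (Tr.node (Tr.node (Tr.node (Tr.node (Tr.node (Tr.leaf (nat_lit 0x81454678687712171)) (Tr.leaf (nat_lit 0x81454678682122122121))) (Tr.node (Tr.leaf (nat_lit 0x1532822367622)) (Tr.leaf (nat_lit 0x0)))) (Tr.node (Tr.node (Tr.leaf (nat_lit 0x82863432337322121)) (Tr.leaf (nat_lit 0x463421736221771))) (Tr.node (Tr.leaf (nat_lit 0x31437347636862122)) (Tr.leaf (nat_lit 0x0))))) (Tr.node (Tr.node (Tr.node (Tr.leaf (nat_lit 0x81454377323771711)) (Tr.leaf (nat_lit 0x413421782671))) (Tr.node (Tr.leaf (nat_lit 0x515234182131362177)) (Tr.leaf (nat_lit 0x0)))) (Tr.node (Tr.node (Tr.leaf (nat_lit 0x4156542362237177121)) (Tr.leaf (nat_lit 0x82863432337376267))) (Tr.node (Tr.leaf (nat_lit 0x958458231737622121)) (Tr.leaf (nat_lit 0x0)))))) (Tr.node (Tr.node (Tr.node (Tr.node (Tr.leaf (nat_lit 0x413452231786717)) (Tr.leaf (nat_lit 0x958452686732262671))) (Tr.node (Tr.leaf (nat_lit 0x9134267822177)) (Tr.leaf (nat_lit 0x0)))) (Tr.node (Tr.node (Tr.leaf (nat_lit 0x14565462132812171)) (Tr.leaf (nat_lit 0x46342673767767))) (Tr.node (Tr.leaf (nat_lit 0x45893467623226217)) (Tr.leaf (nat_lit 0x0))))) (Tr.node (Tr.node (Tr.node (Tr.leaf (nat_lit 0x563134822181312171)) (Tr.leaf (nat_lit 0x34654682362326267))) (Tr.node (Tr.leaf (nat_lit 0x46345718773621221)) (Tr.leaf (nat_lit 0x0)))) (Tr.node (Tr.node (Tr.leaf (nat_lit 0x413421732676)) (Tr.leaf (nat_lit 0x0))) (Tr.node (Tr.leaf (nat_lit 0x8152186867712)) (Tr.leaf (nat_lit 0x0))))))) (Tr.node (Tr.node (Tr.node (Tr.node (Tr.node (Tr.leaf (nat_lit 0x3143734236328712212)) (Tr.leaf (nat_lit 0x1434571877322171))) (Tr.node (Tr.leaf (nat_lit 0x88415477628226267)) (Tr.leaf (nat_lit 0x0)))) (Tr.node (Tr.node (Tr.leaf (nat_lit 0x41565481376376217)) (Tr.leaf (nat_lit 0x463452231787121771))) (Tr.node (Tr.leaf (nat_lit 0x7312321111)) (Tr.leaf (nat_lit 0x0))))) (Tr.node (Tr.node (Tr.node (Tr.leaf (nat_lit 0x9584526718137762676)) (Tr.leaf (nat_lit 0x35412347682186221712))) (Tr.node (Tr.leaf (nat_lit 0x8152322123122122121)) (Tr.leaf (nat_lit 0x0)))) (Tr.node (Tr.node (Tr.leaf (nat_lit 0x563134637332262671)) (Tr.leaf (nat_lit 0x0))) (Tr.node (Tr.leaf (nat_lit 0x5152341818213177122)) (Tr.leaf (nat_lit 0x0)))))) (Tr.node (Tr.node (Tr.node (Tr.node (Tr.leaf (nat_lit 0x11)) (Tr.leaf (nat_lit 0x23623433786821771))) (Tr.node (Tr.leaf (nat_lit 0x1456542362237677121)) (Tr.leaf (nat_lit 0x0)))) (Tr.node (Tr.node (Tr.leaf (nat_lit 0x958458231737122121)) (Tr.leaf (nat_lit 0x145654268733622671))) (Tr.node (Tr.leaf (nat_lit 0x81577132336776776)) (Tr.leaf (nat_lit 0x0))))) (Tr.node (Tr.node (Tr.node (Tr.leaf (nat_lit 0x31437347632312122)) (Tr.leaf (nat_lit 0x23623481377876221))) (Tr.node (Tr.leaf (nat_lit 0x534654323262171)) (Tr.leaf (nat_lit 0x0)))) (Tr.node (Tr.node (Tr.leaf (nat_lit 0x9134571323622122)) (Tr.leaf (nat_lit 0x0))) (Tr.node (Tr.leaf (nat_lit 0x45893467623267177)) (Tr.leaf (nat_lit 0x0)))))))) (Tr.node (Tr.node (Tr.node (Tr.node (Tr.node (Tr.node (Tr.leaf (nat_lit 0x51253426368626)) (Tr.leaf (nat_lit 0x3315682323362262))) (Tr.node (Tr.leaf (nat_lit 0x515234181821362212)) (Tr.leaf (nat_lit 0x0)))) (Tr.node (Tr.node (Tr.leaf (nat_lit 0x8841547186782122171)) (Tr.leaf (nat_lit 0x5432334781213712177))) (Tr.node (Tr.leaf (nat_lit 0x3354334128268211)) (Tr.leaf (nat_lit 0x0))))) (Tr.node (Tr.node (Tr.node (Tr.leaf (nat_lit 0x1571323626762)) (Tr.leaf (nat_lit 0x913421787767121))) (Tr.node (Tr.leaf (nat_lit 0x884154776286217712)) (Tr.leaf (nat_lit 0x0)))) (Tr.node (Tr.node (Tr.leaf (nat_lit 0x82863426371371111)) (Tr.leaf (nat_lit 0x8815713378762))) (Tr.node (Tr.leaf (nat_lit 0x9584526718136776)) (Tr.leaf (nat_lit 0x0)))))) (Tr.node (Tr.node (Tr.node (Tr.node (Tr.leaf (nat_lit 0x4134666)) (Tr.leaf (nat_lit 0x3153313631))) (Tr.node (Tr.leaf (nat_lit 0x51253478873226717)) (Tr.leaf (nat_lit 0x0)))) (Tr.node (Tr.node (Tr.leaf (nat_lit 0x1217371771711)) (Tr.leaf (nat_lit 0x815368223671221))) (Tr.node (Tr.leaf (nat_lit 0x9584537637862177)) (Tr.leaf (nat_lit 0x0))))) (Tr.node (Tr.node (Tr.node (Tr.leaf (nat_lit 0x543233477321326776)) (Tr.leaf (nat_lit 0x458458231732122122121))) (Tr.node (Tr.leaf (nat_lit 0x1434111)) (Tr.leaf (nat_lit 0x0)))) (Tr.node (Tr.node (Tr.leaf (nat_lit 0x152231787626771)) (Tr.leaf (nat_lit 0x0))) (Tr.node (Tr.leaf (nat_lit 0x4584526718132122122121)) (Tr.leaf (nat_lit 0x0))))))) (Tr.node (Tr.node (Tr.node (Tr.node (Tr.node (Tr.leaf (nat_lit 0x463452231782267177)) (Tr.leaf (nat_lit 0x9134571877322671))) (Tr.node (Tr.leaf (nat_lit 0x33152886313217712)) (Tr.leaf (nat_lit 0x0)))) (Tr.node (Tr.node (Tr.leaf (nat_lit 0x8841547762812111)) (Tr.leaf (nat_lit 0x458458231737122121))) (Tr.node (Tr.leaf (nat_lit 0x5432334781213776771712)) (Tr.leaf (nat_lit 0x0))))) (Tr.node (Tr.node (Tr.node (Tr.leaf (nat_lit 0x95845332371376771771)) (Tr.leaf (nat_lit 0x33158237363122111))) (Tr.node (Tr.leaf (nat_lit 0x91341771211)) (Tr.leaf (nat_lit 0x0)))) (Tr.node (Tr.node (Tr.leaf (nat_lit 0x45845376378767712)) (Tr.leaf (nat_lit 0x0))) (Tr.node (Tr.leaf (nat_lit 0x5631348878713621771)) (Tr.leaf (nat_lit 0x0)))))) (Tr.node (Tr.node (Tr.node (Tr.node (Tr.leaf (nat_lit 0x621732671)) (Tr.leaf (nat_lit 0x354123476821862212))) (Tr.node (Tr.leaf (nat_lit 0x56313437876237621771)) (Tr.leaf (nat_lit 0x0)))) (Tr.node (Tr.node (Tr.leaf (nat_lit 0x9584526867376771)) (Tr.leaf (nat_lit 0x458452686732212171))) (Tr.node (Tr.leaf (nat_lit 0x46342678767717)) (Tr.leaf (nat_lit 0x0))))) (Tr.node (Tr.node (Tr.node (Tr.leaf (nat_lit 0x33915468236232676226)) (Tr.leaf (nat_lit 0x14341771211))) (Tr.node (Tr.leaf (nat_lit 0x354123468236236622)) (Tr.leaf (nat_lit 0x0)))) (Tr.node (Tr.node (Tr.leaf (nat_lit 0x563134887871326717)) (Tr.leaf (nat_lit 0x0))) (Tr.node (Tr.leaf (nat_lit 0x5152342128632621)) (Tr.leaf (nat_lit 0x0)))))))))) (Tr.node (Tr.node (Tr.node (Tr.node (Tr.node (Tr.node (Tr.node (Tr.node (Tr.leaf (nat_lit 0x339154678687762676)) (Tr.leaf (nat_lit 0x534654323263767767))) (Tr.node (Tr.leaf (nat_lit 0x458458231737762676)) (Tr.leaf (nat_lit 0x0)))) (Tr.node (Tr.node (Tr.leaf (nat_lit 0x15328223262177)) (Tr.leaf (nat_lit 0x236234337868762171))) (Tr.node (Tr.leaf (nat_lit 0x5346548187336776771)) (Tr.leaf (nat_lit 0x0))))) (Tr.node (Tr.node (Tr.node (Tr.leaf (nat_lit 0x3541234733137622)) (Tr.leaf (nat_lit 0x913426782671))) (Tr.node (Tr.leaf (nat_lit 0x2362347331813626771)) (Tr.leaf (nat_lit 0x0)))) (Tr.node (Tr.node (Tr.leaf (nat_lit 0x315862317821711)) (Tr.leaf (nat_lit 0x88153732682267121))) (Tr.node (Tr.leaf (nat_lit 0x314373413631317122)) (Tr.leaf (nat_lit 0x0)))))) (Tr.node (Tr.node (Tr.node (Tr.node (Tr.leaf (nat_lit 0x463457132367766)) (Tr.leaf (nat_lit 0x335433413132181221221))) (Tr.node (Tr.leaf (nat_lit 0x8286343223636626)) (Tr.leaf (nat_lit 0x0)))) (Tr.node (Tr.node (Tr.leaf (nat_lit 0x3541234313637367122)) (Tr.leaf (nat_lit 0x8286343223636226267))) (Tr.node (Tr.leaf (nat_lit 0x31437347632376662)) (Tr.leaf (nat_lit 0x0))))) (Tr.node (Tr.node (Tr.node (Tr.leaf (nat_lit 0x54323342882637622122)) (Tr.leaf (nat_lit 0x315862317821221211))) (Tr.node (Tr.leaf (nat_lit 0x458453323713671771)) (Tr.leaf (nat_lit 0x0)))) (Tr.node (Tr.node (Tr.leaf (nat_lit 0x815232212371771)) (Tr.leaf (nat_lit 0x0))) (Tr.node (Tr.leaf (nat_lit 0x881571337871712)) (Tr.leaf (nat_lit 0x0))))))) (Tr.node (Tr.node (Tr.node (Tr.node (Tr.node (Tr.leaf (nat_lit 0x46565481376322121)) (Tr.leaf (nat_lit 0x41565423622362212))) (Tr.node (Tr.leaf (nat_lit 0x4121587867371771711)) (Tr.leaf (nat_lit 0x0)))) (Tr.node (Tr.node (Tr.leaf (nat_lit 0x46345673212322111)) (Tr.leaf (nat_lit 0x412158786737121221))) (Tr.node (Tr.leaf (nat_lit 0x346546823623671212)) (Tr.leaf (nat_lit 0x0))))) (Tr.node (Tr.node (Tr.node (Tr.leaf (nat_lit 0x46565462132862171)) (Tr.leaf (nat_lit 0x9134567321237762177))) (Tr.node (Tr.leaf (nat_lit 0x41345673212322111)) (Tr.leaf (nat_lit 0x0)))) (Tr.node (Tr.node (Tr.leaf (nat_lit 0x41215878678217111)) (Tr.leaf (nat_lit 0x0))) (Tr.node (Tr.leaf (nat_lit 0x35412347331311)) (Tr.leaf (nat_lit 0x0)))))) (Tr.node (Tr.node (Tr.node (Tr.node (Tr.leaf (nat_lit 0x5152346868136712122)) (Tr.leaf (nat_lit 0x463426737121221))) (Tr.node (Tr.leaf (nat_lit 0x913421786221771)) (Tr.leaf (nat_lit 0x0)))) (Tr.node (Tr.node (Tr.leaf (nat_lit 0x4656546863712177)) (Tr.leaf (nat_lit 0x413467712))) (Tr.node (Tr.leaf (nat_lit 0x14345673212362212212)) (Tr.leaf (nat_lit 0x0))))) (Tr.node (Tr.node (Tr.node (Tr.leaf (nat_lit 0x563134887871322121)) (Tr.leaf (nat_lit 0x515234212863776267))) (Tr.node (Tr.leaf (nat_lit 0x53465432322622621)) (Tr.leaf (nat_lit 0x0)))) (Tr.node (Tr.node (Tr.leaf (nat_lit 0x339154776282677171)) (Tr.leaf (nat_lit 0x0))) (Tr.node (Tr.leaf (nat_lit 0x51253431713766)) (Tr.leaf (nat_lit 0x0)))))))) (Tr.node (Tr.node (Tr.node (Tr.node (Tr.node (Tr.node (Tr.leaf (nat_lit 0x14345713237171)) (Tr.leaf (nat_lit 0x143421786221771))) (Tr.node (Tr.leaf (nat_lit 0x23623481377821221211)) (Tr.leaf (nat_lit 0x0)))) (Tr.node (Tr.node (Tr.leaf (nat_lit 0x458453323713262671)) (Tr.leaf (nat_lit 0x4634217871771711))) (Tr.node (Tr.leaf (nat_lit 0x8286343681326226221)) (Tr.leaf (nat_lit 0x0))))) (Tr.node (Tr.node (Tr.node (Tr.leaf (nat_lit 0x145654813763626771)) (Tr.leaf (nat_lit 0x4187121221))) (Tr.node (Tr.leaf (nat_lit 0x335433412822376662)) (Tr.leaf (nat_lit 0x0)))) (Tr.node (Tr.node (Tr.leaf (nat_lit 0x41345713237171)) (Tr.leaf (nat_lit 0x4134567321237762177))) (Tr.node (Tr.leaf (nat_lit 0x81577132331771771)) (Tr.leaf (nat_lit 0x0)))))) (Tr.node (Tr.node (Tr.node (Tr.node (Tr.leaf (nat_lit 0x9134567321232267622)) (Tr.leaf (nat_lit 0x5152346868131771712))) (Tr.node (Tr.leaf (nat_lit 0x34654678686771)) (Tr.leaf (nat_lit 0x0)))) (Tr.node (Tr.node (Tr.leaf (nat_lit 0x45845268673622622121)) (Tr.leaf (nat_lit 0x4589342332232267717))) (Tr.node (Tr.leaf (nat_lit 0x51523468681367122)) (Tr.leaf (nat_lit 0x0))))) (Tr.node (Tr.node (Tr.node (Tr.leaf (nat_lit 0x563134637337177111)) (Tr.leaf (nat_lit 0x563134637332671771))) (Tr.node (Tr.leaf (nat_lit 0x884154678687122121)) (Tr.leaf (nat_lit 0x0)))) (Tr.node (Tr.node (Tr.leaf (nat_lit 0x958452686737177111)) (Tr.leaf (nat_lit 0x0))) (Tr.node (Tr.leaf (nat_lit 0x413453282231771211)) (Tr.leaf (nat_lit 0x0))))))) (Tr.node (Tr.node (Tr.node (Tr.node (Tr.node (Tr.leaf (nat_lit 0x4634571323267621)) (Tr.leaf (nat_lit 0x56313437876236221221))) (Tr.node (Tr.leaf (nat_lit 0x913457187731771711)) (Tr.leaf (nat_lit 0x0)))) (Tr.node (Tr.node (Tr.leaf (nat_lit 0x913453282236712122)) (Tr.leaf (nat_lit 0x143453282231771211))) (Tr.node (Tr.leaf (nat_lit 0x91342673767767)) (Tr.leaf (nat_lit 0x0))))) (Tr.node (Tr.node (Tr.node (Tr.leaf (nat_lit 0x1532822367122)) (Tr.leaf (nat_lit 0x913421737121221))) (Tr.node (Tr.leaf (nat_lit 0x143421782671)) (Tr.leaf (nat_lit 0x0)))) (Tr.node (Tr.node (Tr.leaf (nat_lit 0x958452686731771771)) (Tr.leaf (nat_lit 0x0))) (Tr.node (Tr.leaf (nat_lit 0x8153682237671212)) (Tr.leaf (nat_lit 0x0)))))) (Tr.node (Tr.node (Tr.node (Tr.node (Tr.leaf (nat_lit 0x81454718678767)) (Tr.leaf (nat_lit 0x91345673212312217))) (Tr.node (Tr.leaf (nat_lit 0x82863487131877121)) (Tr.leaf (nat_lit 0x0)))) (Tr.node (Tr.node (Tr.leaf (nat_lit 0x4656542687337767)) (Tr.leaf (nat_lit 0x331563177362677))) (Tr.node (Tr.leaf (nat_lit 0x45893467623626)) (Tr.leaf (nat_lit 0x0))))) (Tr.node (Tr.node (Tr.node (Tr.leaf (nat_lit 0x143457187731771711)) (Tr.leaf (nat_lit 0x143421737717121))) (Tr.node (Tr.leaf (nat_lit 0x814546823623677671)) (Tr.leaf (nat_lit 0x0)))) (Tr.node (Tr.node (Tr.leaf (nat_lit 0x884154377323762121)) (Tr.leaf (nat_lit 0x0))) (Tr.node (Tr.leaf (nat_lit 0x8815123636317711)) (Tr.leaf (nat_lit 0x0))))))))) (Tr.node (Tr.node (Tr.node (Tr.node (Tr.node (Tr.node (Tr.node (Tr.leaf (nat_lit 0x41565481376326717)) (Tr.leaf (nat_lit 0x31522137622621))) (Tr.node (Tr.leaf (nat_lit 0x512534862813621221)) (Tr.leaf (nat_lit 0x0)))) (Tr.node (Tr.node (Tr.leaf (nat_lit 0x534654323263717717)) (Tr.leaf (nat_lit 0x335433488782817))) (Tr.node (Tr.leaf (nat_lit 0x91342673217111)) (Tr.leaf (nat_lit 0x0))))) (Tr.node (Tr.node (Tr.node (Tr.leaf (nat_lit 0x8841543773237717)) (Tr.leaf (nat_lit 0x54323347812137767712))) (Tr.node (Tr.leaf (nat_lit 0x3354334628731362262)) (Tr.leaf (nat_lit 0x0)))) (Tr.node (Tr.node (Tr.leaf (nat_lit 0x3465437732326226)) (Tr.leaf (nat_lit 0x315713131221217))) (Tr.node (Tr.leaf (nat_lit 0x463426732171)) (Tr.leaf (nat_lit 0x0)))))) (Tr.node (Tr.node (Tr.node (Tr.node (Tr.leaf (nat_lit 0x9134571323626762)) (Tr.leaf (nat_lit 0x81454682362367177))) (Tr.node (Tr.leaf (nat_lit 0x3541234768218677122)) (Tr.leaf (nat_lit 0x0)))) (Tr.node (Tr.node (Tr.leaf (nat_lit 0x88415467868177111)) (Tr.leaf (nat_lit 0x8815736223262))) (Tr.node (Tr.leaf (nat_lit 0x465654621328226776)) (Tr.leaf (nat_lit 0x0))))) (Tr.node (Tr.node (Tr.node (Tr.leaf (nat_lit 0x91342673717717)) (Tr.leaf (nat_lit 0x1434567321232267122))) (Tr.node (Tr.leaf (nat_lit 0x884154678681771)) (Tr.leaf (nat_lit 0x0)))) (Tr.node (Tr.node (Tr.leaf (nat_lit 0x815218686771712)) (Tr.leaf (nat_lit 0x0))) (Tr.node (Tr.leaf (nat_lit 0x8152186817712)) (Tr.leaf (nat_lit 0x0))))))) (Tr.node (Tr.node (Tr.node (Tr.node (Tr.node (Tr.leaf (nat_lit 0x91345673212322111)) (Tr.leaf (nat_lit 0x46345718773717121))) (Tr.node (Tr.leaf (nat_lit 0x4634262177)) (Tr.leaf (nat_lit 0x0)))) (Tr.node (Tr.node (Tr.leaf (nat_lit 0x543233477321321771)) (Tr.leaf (nat_lit 0x46342673217111))) (Tr.node (Tr.leaf (nat_lit 0x621737121221)) (Tr.leaf (nat_lit 0x0))))) (Tr.node (Tr.node (Tr.node (Tr.leaf (nat_lit 0x9584526867371771)) (Tr.leaf (nat_lit 0x82863432337371217))) (Tr.node (Tr.leaf (nat_lit 0x884154678687622626)) (Tr.leaf (nat_lit 0x0)))) (Tr.node (Tr.node (Tr.leaf (nat_lit 0x534654818733122122121)) (Tr.leaf (nat_lit 0x0))) (Tr.node (Tr.leaf (nat_lit 0x3465477628226267)) (Tr.leaf (nat_lit 0x0)))))) (Tr.node (Tr.node (Tr.node (Tr.node (Tr.leaf (nat_lit 0x339154718678717)) (Tr.leaf (nat_lit 0x913421782671))) (Tr.node (Tr.leaf (nat_lit 0x3354334128223712)) (Tr.leaf (nat_lit 0x0)))) (Tr.node (Tr.node (Tr.leaf (nat_lit 0x771211)) (Tr.leaf (nat_lit 0x82863432337377677171))) (Tr.node (Tr.leaf (nat_lit 0x3157131321)) (Tr.leaf (nat_lit 0x0))))) (Tr.node (Tr.node (Tr.node (Tr.leaf (nat_lit 0x534654323776776)) (Tr.leaf (nat_lit 0x5152342128636226221))) (Tr.node (Tr.leaf (nat_lit 0x3465467868177111)) (Tr.leaf (nat_lit 0x0)))) (Tr.node (Tr.node (Tr.leaf (nat_lit 0x331582373632262262)) (Tr.leaf (nat_lit 0x0))) (Tr.node (Tr.leaf (nat_lit 0x46565423622317)) (Tr.leaf (nat_lit 0x0)))))))) (Tr.node (Tr.node (Tr.node (Tr.node (Tr.node (Tr.node (Tr.leaf (nat_lit 0x14565481376376217)) (Tr.leaf (nat_lit 0x143452231782121))) (Tr.node (Tr.leaf (nat_lit 0x3541234313637317122)) (Tr.leaf (nat_lit 0x0)))) (Tr.node (Tr.node (Tr.leaf (nat_lit 0x8145477628226217)) (Tr.leaf (nat_lit 0x5432334712818762177))) (Tr.node (Tr.leaf (nat_lit 0x737632)) (Tr.leaf (nat_lit 0x0))))) (Tr.node (Tr.node (Tr.node (Tr.leaf (nat_lit 0x51253431713226762)) (Tr.leaf (nat_lit 0x5631343787623771217))) (Tr.node (Tr.leaf (nat_lit 0x88153732686717712)) (Tr.leaf (nat_lit 0x0)))) (Tr.node (Tr.node (Tr.leaf (nat_lit 0x41345673212362267)) (Tr.leaf (nat_lit 0x3315288631326))) (Tr.node (Tr.leaf (nat_lit 0x143452231787626771)) (Tr.leaf (nat_lit 0x0)))))) (Tr.node (Tr.node (Tr.node (Tr.node (Tr.leaf (nat_lit 0x4134532822367622)) (Tr.leaf (nat_lit 0x884154377323677677))) (Tr.node (Tr.leaf (nat_lit 0x5152346868136)) (Tr.leaf (nat_lit 0x0)))) (Tr.node (Tr.node (Tr.leaf (nat_lit 0x913426737717121)) (Tr.leaf (nat_lit 0x91345673212362267))) (Tr.node (Tr.leaf (nat_lit 0x413426732676)) (Tr.leaf (nat_lit 0x0))))) (Tr.node (Tr.node (Tr.node (Tr.leaf (nat_lit 0x95845268673622622121)) (Tr.leaf (nat_lit 0x31586231787122111))) (Tr.node (Tr.leaf (nat_lit 0x339154776281217712)) (Tr.leaf (nat_lit 0x0)))) (Tr.node (Tr.node (Tr.leaf (nat_lit 0x31437347632366622)) (Tr.leaf (nat_lit 0x0))) (Tr.node (Tr.leaf (nat_lit 0x413452231786226226)) (Tr.leaf (nat_lit 0x0))))))) (Tr.node (Tr.node (Tr.node (Tr.node (Tr.node (Tr.leaf (nat_lit 0x14565423622362262)) (Tr.leaf (nat_lit 0x5125347887377626))) (Tr.node (Tr.leaf (nat_lit 0x9134571877322676)) (Tr.leaf (nat_lit 0x0)))) (Tr.node (Tr.node (Tr.leaf (nat_lit 0x415654268733677177)) (Tr.leaf (nat_lit 0x7312362122))) (Tr.node (Tr.leaf (nat_lit 0x5152341818213677122)) (Tr.leaf (nat_lit 0x0))))) (Tr.node (Tr.node (Tr.node (Tr.leaf (nat_lit 0x88415437732326226)) (Tr.leaf (nat_lit 0x958453323713262671))) (Tr.node (Tr.leaf (nat_lit 0x14342678767717)) (Tr.leaf (nat_lit 0x0)))) (Tr.node (Tr.node (Tr.leaf (nat_lit 0x46345223178771217)) (Tr.leaf (nat_lit 0x0))) (Tr.node (Tr.leaf (nat_lit 0x913421782676)) (Tr.leaf (nat_lit 0x0)))))) (Tr.node (Tr.node (Tr.node (Tr.node (Tr.leaf (nat_lit 0x5152341821313767762)) (Tr.leaf (nat_lit 0x4121586826322122121))) (Tr.node (Tr.leaf (nat_lit 0x4134567321232267122)) (Tr.leaf (nat_lit 0x0)))) (Tr.node (Tr.node (Tr.leaf (nat_lit 0x4584526867376771)) (Tr.leaf (nat_lit 0x815817868762262))) (Tr.node (Tr.leaf (nat_lit 0x418767767)) (Tr.leaf (nat_lit 0x0))))) (Tr.node (Tr.node (Tr.node (Tr.leaf (nat_lit 0x33915468236232171221)) (Tr.leaf (nat_lit 0x41342678767717))) (Tr.node (Tr.leaf (nat_lit 0x7312366622)) (Tr.leaf (nat_lit 0x0)))) (Tr.node (Tr.node (Tr.leaf (nat_lit 0x33543341313218771217)) (Tr.leaf (nat_lit 0x0))) (Tr.node (Tr.leaf (nat_lit 0x4182676)) (Tr.leaf (nat_lit 0x0)))))))))))) (Tr.node (Tr.node (Tr.node (Tr.node (Tr.node (Tr.node (Tr.node (Tr.node (Tr.node (Tr.node (Tr.leaf (nat_lit 0x7312371211)) (Tr.leaf (nat_lit 0x41342173767717))) (Tr.node (Tr.leaf (nat_lit 0x14565426873326226)) (Tr.leaf (nat_lit 0x0)))) (Tr.node (Tr.node (Tr.leaf (nat_lit 0x33543348878287677121)) (Tr.leaf (nat_lit 0x5631348221813221771))) (Tr.node (Tr.leaf (nat_lit 0x62173767767)) (Tr.leaf (nat_lit 0x0))))) (Tr.node (Tr.node (Tr.node (Tr.leaf (nat_lit 0x9134267322177)) (Tr.leaf (nat_lit 0x828634322363217712))) (Tr.node (Tr.leaf (nat_lit 0x91345223178776217)) (Tr.leaf (nat_lit 0x0)))) (Tr.node (Tr.node (Tr.leaf (nat_lit 0x41215878767712)) (Tr.leaf (nat_lit 0x331528863136626))) (Tr.node (Tr.leaf (nat_lit 0x145654268733622676)) (Tr.leaf (nat_lit 0x0)))))) (Tr.node (Tr.node (Tr.node (Tr.node (Tr.leaf (nat_lit 0x46565423622312212)) (Tr.leaf (nat_lit 0x4656542362237677621))) (Tr.node (Tr.leaf (nat_lit 0x14342173717717)) (Tr.leaf (nat_lit 0x0)))) (Tr.node (Tr.node (Tr.leaf (nat_lit 0x23623413713711)) (Tr.leaf (nat_lit 0x354123431363736))) (Tr.node (Tr.leaf (nat_lit 0x9584537637862677)) (Tr.leaf (nat_lit 0x0))))) (Tr.node (Tr.node (Tr.node (Tr.leaf (nat_lit 0x4687767121)) (Tr.leaf (nat_lit 0x913452231786226226))) (Tr.node (Tr.leaf (nat_lit 0x534654323263767717)) (Tr.leaf (nat_lit 0x0)))) (Tr.node (Tr.node (Tr.leaf (nat_lit 0x458453323713262171)) (Tr.leaf (nat_lit 0x0))) (Tr.node (Tr.leaf (nat_lit 0x331582373632177121)) (Tr.leaf (nat_lit 0x0))))))) (Tr.node (Tr.node (Tr.node (Tr.node (Tr.node (Tr.leaf (nat_lit 0x4584526718137762676)) (Tr.leaf (nat_lit 0x463426736221771))) (Tr.node (Tr.leaf (nat_lit 0x236234137137)) (Tr.leaf (nat_lit 0x0)))) (Tr.node (Tr.node (Tr.leaf (nat_lit 0x4156546213282122121)) (Tr.leaf (nat_lit 0x51523418182137177121))) (Tr.node (Tr.leaf (nat_lit 0x9584526718131771)) (Tr.leaf (nat_lit 0x0))))) (Tr.node (Tr.node (Tr.node (Tr.leaf (nat_lit 0x45845332371322122121)) (Tr.leaf (nat_lit 0x4634571323177))) (Tr.node (Tr.leaf (nat_lit 0x5152346868136771712)) (Tr.leaf (nat_lit 0x0)))) (Tr.node (Tr.node (Tr.leaf (nat_lit 0x4134267322177)) (Tr.leaf (nat_lit 0x0))) (Tr.node (Tr.leaf (nat_lit 0x145654621328226771)) (Tr.leaf (nat_lit 0x0)))))) (Tr.node (Tr.node (Tr.node (Tr.node (Tr.leaf (nat_lit 0x9584526718132622122121)) (Tr.leaf (nat_lit 0x1434217322177))) (Tr.node (Tr.leaf (nat_lit 0x4156546863762177)) (Tr.leaf (nat_lit 0x0)))) (Tr.node (Tr.node (Tr.leaf (nat_lit 0x314373476323211)) (Tr.leaf (nat_lit 0x88157362232171211))) (Tr.node (Tr.leaf (nat_lit 0x1434571323267621)) (Tr.leaf (nat_lit 0x0))))) (Tr.node (Tr.node (Tr.node (Tr.leaf (nat_lit 0x4584537637876771712)) (Tr.leaf (nat_lit 0x14341))) (Tr.node (Tr.leaf (nat_lit 0x91342178767717)) (Tr.leaf (nat_lit 0x0)))) (Tr.node (Tr.node (Tr.leaf (nat_lit 0x31437342181781111)) (Tr.leaf (nat_lit 0x0))) (Tr.node (Tr.leaf (nat_lit 0x458458231736776)) (Tr.leaf (nat_lit 0x0)))))))) (Tr.node (Tr.node (Tr.node (Tr.node (Tr.node (Tr.node (Tr.leaf (nat_lit 0x5346541731322622121)) (Tr.leaf (nat_lit 0x468767767))) (Tr.node (Tr.leaf (nat_lit 0x1567321232267622)) (Tr.leaf (nat_lit 0x0)))) (Tr.node (Tr.node (Tr.leaf (nat_lit 0x458934713268217)) (Tr.leaf (nat_lit 0x413452231781221221))) (Tr.node (Tr.leaf (nat_lit 0x1217322677)) (Tr.leaf (nat_lit 0x0))))) (Tr.node (Tr.node (Tr.node (Tr.leaf (nat_lit 0x8145468236232171221)) (Tr.leaf (nat_lit 0x4634571323677))) (Tr.node (Tr.leaf (nat_lit 0x4656542362231711)) (Tr.leaf (nat_lit 0x0)))) (Tr.node (Tr.node (Tr.leaf (nat_lit 0x4156542687337762212)) (Tr.leaf (nat_lit 0x41345673212312217))) (Tr.node (Tr.leaf (nat_lit 0x458934233223626762)) (Tr.leaf (nat_lit 0x0)))))) (Tr.node (Tr.node (Tr.node (Tr.node (Tr.leaf (nat_lit 0x14346)) (Tr.leaf (nat_lit 0x1456546213282622626))) (Tr.node (Tr.leaf (nat_lit 0x23623428137322111)) (Tr.leaf (nat_lit 0x0)))) (Tr.node (Tr.node (Tr.leaf (nat_lit 0x1571877367767)) (Tr.leaf (nat_lit 0x413426732171))) (Tr.node (Tr.leaf (nat_lit 0x41342678217111)) (Tr.leaf (nat_lit 0x0))))) (Tr.node (Tr.node (Tr.node (Tr.leaf (nat_lit 0x46565481376326226221)) (Tr.leaf (nat_lit 0x34654776286267762))) (Tr.node (Tr.leaf (nat_lit 0x4121587867871771711)) (Tr.leaf (nat_lit 0x0)))) (Tr.node (Tr.node (Tr.leaf (nat_lit 0x31522137762671)) (Tr.leaf (nat_lit 0x0))) (Tr.node (Tr.leaf (nat_lit 0x81577132332212171)) (Tr.leaf (nat_lit 0x0))))))) (Tr.node (Tr.node (Tr.node (Tr.node (Tr.node (Tr.leaf (nat_lit 0x339154678687122121)) (Tr.leaf (nat_lit 0x881531871732622177))) (Tr.node (Tr.leaf (nat_lit 0x54323347732237121771)) (Tr.leaf (nat_lit 0x0)))) (Tr.node (Tr.node (Tr.leaf (nat_lit 0x958458231737712171)) (Tr.leaf (nat_lit 0x143426787767121))) (Tr.node (Tr.leaf (nat_lit 0x121737621221)) (Tr.leaf (nat_lit 0x0))))) (Tr.node (Tr.node (Tr.node (Tr.leaf (nat_lit 0x152231786226221)) (Tr.leaf (nat_lit 0x5432334712818212212212))) (Tr.node (Tr.leaf (nat_lit 0x314373476323122)) (Tr.leaf (nat_lit 0x0)))) (Tr.node (Tr.node (Tr.leaf (nat_lit 0x3465477628621)) (Tr.leaf (nat_lit 0x0))) (Tr.node (Tr.leaf (nat_lit 0x512534317132262)) (Tr.leaf (nat_lit 0x0)))))) (Tr.node (Tr.node (Tr.node (Tr.node (Tr.leaf (nat_lit 0x814543773237717)) (Tr.leaf (nat_lit 0x828634871318676221))) (Tr.node (Tr.leaf (nat_lit 0x33152886313267762)) (Tr.leaf (nat_lit 0x0)))) (Tr.node (Tr.node (Tr.leaf (nat_lit 0x7122)) (Tr.leaf (nat_lit 0x331568232337177121))) (Tr.node (Tr.leaf (nat_lit 0x4134571323177)) (Tr.leaf (nat_lit 0x0))))) (Tr.node (Tr.node (Tr.node (Tr.leaf (nat_lit 0x41565423622367)) (Tr.leaf (nat_lit 0x415654621328221771))) (Tr.node (Tr.leaf (nat_lit 0x8815713378622)) (Tr.leaf (nat_lit 0x0)))) (Tr.node (Tr.node (Tr.leaf (nat_lit 0x913453282231)) (Tr.leaf (nat_lit 0x0))) (Tr.node (Tr.leaf (nat_lit 0x81454776282671212)) (Tr.leaf (nat_lit 0x0))))))))) (Tr.node (Tr.node (Tr.node (Tr.node (Tr.node (Tr.node (Tr.node (Tr.leaf (nat_lit 0x1571323622122)) (Tr.leaf (nat_lit 0x331528877637622121))) (Tr.node (Tr.leaf (nat_lit 0x236234813778217)) (Tr.leaf (nat_lit 0x0)))) (Tr.node (Tr.node (Tr.leaf (nat_lit 0x1434571877322676)) (Tr.leaf (nat_lit 0x8152322123622122121))) (Tr.node (Tr.leaf (nat_lit 0x412153223231)) (Tr.leaf (nat_lit 0x0))))) (Tr.node (Tr.node (Tr.node (Tr.leaf (nat_lit 0x8145471867862121)) (Tr.leaf (nat_lit 0x1434532822367622))) (Tr.node (Tr.leaf (nat_lit 0x45893467623621)) (Tr.leaf (nat_lit 0x0)))) (Tr.node (Tr.node (Tr.leaf (nat_lit 0x515234773263671712)) (Tr.leaf (nat_lit 0x45893436732622671))) (Tr.node (Tr.leaf (nat_lit 0x5432334773213767767121)) (Tr.leaf (nat_lit 0x0)))))) (Tr.node (Tr.node (Tr.node (Tr.node (Tr.leaf (nat_lit 0x4634567321232267122)) (Tr.leaf (nat_lit 0x46565462132867767121))) (Tr.node (Tr.leaf (nat_lit 0x23623481377821711)) (Tr.leaf (nat_lit 0x0)))) (Tr.node (Tr.node (Tr.leaf (nat_lit 0x335433412822312122)) (Tr.leaf (nat_lit 0x9134571323217121))) (Tr.node (Tr.leaf (nat_lit 0x3541234733131111)) (Tr.leaf (nat_lit 0x0))))) (Tr.node (Tr.node (Tr.node (Tr.leaf (nat_lit 0x46565481376376267)) (Tr.leaf (nat_lit 0x563134378732177111))) (Tr.node (Tr.leaf (nat_lit 0x8815736223771111)) (Tr.leaf (nat_lit 0x0)))) (Tr.node (Tr.node (Tr.leaf (nat_lit 0x413421782217711)) (Tr.leaf (nat_lit 0x0))) (Tr.node (Tr.leaf (nat_lit 0x413426732217711)) (Tr.leaf (nat_lit 0x0))))))) (Tr.node (Tr.node (Tr.node (Tr.node (Tr.node (Tr.leaf (nat_lit 0x5631343787623776267)) (Tr.leaf (nat_lit 0x33915467868177111))) (Tr.node (Tr.leaf (nat_lit 0x31437347636876712)) (Tr.leaf (nat_lit 0x0)))) (Tr.node (Tr.node (Tr.leaf (nat_lit 0x41565481376326221221)) (Tr.leaf (nat_lit 0x463421787717121))) (Tr.node (Tr.leaf (nat_lit 0x515234686813262177)) (Tr.leaf (nat_lit 0x0))))) (Tr.node (Tr.node (Tr.node (Tr.leaf (nat_lit 0x465654236223771221)) (Tr.leaf (nat_lit 0x3354334128268662))) (Tr.node (Tr.leaf (nat_lit 0x8815373268267766)) (Tr.leaf (nat_lit 0x0)))) (Tr.node (Tr.node (Tr.leaf (nat_lit 0x5631348878713121771)) (Tr.leaf (nat_lit 0x0))) (Tr.node (Tr.leaf (nat_lit 0x828634322363762217)) (Tr.leaf (nat_lit 0x0)))))) (Tr.node (Tr.node (Tr.node (Tr.node (Tr.leaf (nat_lit 0x0)) (Tr.leaf (nat_lit 0x46371771711))) (Tr.node (Tr.leaf (nat_lit 0x339154678686776)) (Tr.leaf (nat_lit 0x0)))) (Tr.node (Tr.node (Tr.leaf (nat_lit 0x81454776286267762)) (Tr.leaf (nat_lit 0x881571337871211))) (Tr.node (Tr.leaf (nat_lit 0x8153682237677671)) (Tr.leaf (nat_lit 0x0))))) (Tr.node (Tr.node (Tr.node (Tr.leaf (nat_lit 0x884154678687762676)) (Tr.leaf (nat_lit 0x51523477326322))) (Tr.node (Tr.leaf (nat_lit 0x3315631773767762)) (Tr.leaf (nat_lit 0x0)))) (Tr.node (Tr.node (Tr.leaf (nat_lit 0x413453282231771712)) (Tr.leaf (nat_lit 0x0))) (Tr.node (Tr.leaf (nat_lit 0x46565468637767122)) (Tr.leaf (nat_lit 0x0)))))))) (Tr.node (Tr.node (Tr.node (Tr.node (Tr.node (Tr.node (Tr.leaf (nat_lit 0x42122121)) (Tr.leaf (nat_lit 0x81521868262177))) (Tr.node (Tr.leaf (nat_lit 0x46345718773767121)) (Tr.leaf (nat_lit 0x0)))) (Tr.node (Tr.node (Tr.leaf (nat_lit 0x81454718678221221)) (Tr.leaf (nat_lit 0x143421732217711))) (Tr.node (Tr.leaf (nat_lit 0x958458231731771)) (Tr.leaf (nat_lit 0x0))))) (Tr.node (Tr.node (Tr.node (Tr.leaf (nat_lit 0x913453282236776712)) (Tr.leaf (nat_lit 0x463426732671))) (Tr.node (Tr.leaf (nat_lit 0x1456546213282122121)) (Tr.leaf (nat_lit 0x0)))) (Tr.node (Tr.node (Tr.leaf (nat_lit 0x413456732123221)) (Tr.leaf (nat_lit 0x413417712))) (Tr.node (Tr.leaf (nat_lit 0x143421787621221)) (Tr.leaf (nat_lit 0x0)))))) (Tr.node (Tr.node (Tr.node (Tr.node (Tr.leaf (nat_lit 0x35412347682187177121)) (Tr.leaf (nat_lit 0x31533136367762))) (Tr.node (Tr.leaf (nat_lit 0x534654323262671)) (Tr.leaf (nat_lit 0x0)))) (Tr.node (Tr.node (Tr.leaf (nat_lit 0x335433412822362122)) (Tr.leaf (nat_lit 0x5631343787321771))) (Tr.node (Tr.leaf (nat_lit 0x143426782171)) (Tr.leaf (nat_lit 0x0))))) (Tr.node (Tr.node (Tr.node (Tr.leaf (nat_lit 0x31437347636871211)) (Tr.leaf (nat_lit 0x958453763782262217))) (Tr.node (Tr.leaf (nat_lit 0x41215878678767717)) (Tr.leaf (nat_lit 0x0)))) (Tr.node (Tr.node (Tr.leaf (nat_lit 0x1532822367712)) (Tr.leaf (nat_lit 0x0))) (Tr.node (Tr.leaf (nat_lit 0x4134532822317122)) (Tr.leaf (nat_lit 0x0))))))) (Tr.node (Tr.node (Tr.node (Tr.node (Tr.node (Tr.leaf (nat_lit 0x91341771712)) (Tr.leaf (nat_lit 0x4634567321237762177))) (Tr.node (Tr.leaf (nat_lit 0x91342678717717)) (Tr.leaf (nat_lit 0x0)))) (Tr.node (Tr.node (Tr.leaf (nat_lit 0x515234773263171211)) (Tr.leaf (nat_lit 0x45893436737677122))) (Tr.node (Tr.leaf (nat_lit 0x339154682362321217)) (Tr.leaf (nat_lit 0x0))))) (Tr.node (Tr.node (Tr.node (Tr.leaf (nat_lit 0x3143734763232)) (Tr.leaf (nat_lit 0x53465432362262671))) (Tr.node (Tr.leaf (nat_lit 0x46342173217111)) (Tr.leaf (nat_lit 0x0)))) (Tr.node (Tr.node (Tr.leaf (nat_lit 0x958453763787111)) (Tr.leaf (nat_lit 0x0))) (Tr.node (Tr.leaf (nat_lit 0x339154682362326217)) (Tr.leaf (nat_lit 0x0)))))) (Tr.node (Tr.node (Tr.node (Tr.node (Tr.leaf (nat_lit 0x46565462132812171)) (Tr.leaf (nat_lit 0x463421787621221))) (Tr.node (Tr.leaf (nat_lit 0x339154776286217712)) (Tr.leaf (nat_lit 0x0)))) (Tr.node (Tr.node (Tr.leaf (nat_lit 0x4156542362236766)) (Tr.leaf (nat_lit 0x31571313762217))) (Tr.node (Tr.leaf (nat_lit 0x913426787767121)) (Tr.leaf (nat_lit 0x0))))) (Tr.node (Tr.node (Tr.node (Tr.leaf (nat_lit 0x88415468236232676226)) (Tr.leaf (nat_lit 0x41342173217111))) (Tr.node (Tr.leaf (nat_lit 0x534654818733622622621)) (Tr.leaf (nat_lit 0x0)))) (Tr.node (Tr.node (Tr.leaf (nat_lit 0x415654686377666)) (Tr.leaf (nat_lit 0x0))) (Tr.node (Tr.leaf (nat_lit 0x458934713268262262)) (Tr.leaf (nat_lit 0x0)))))))))) (Tr.node (Tr.node (Tr.node (Tr.node (Tr.node (Tr.node (Tr.node (Tr.node (Tr.leaf (nat_lit 0x14345328223666)) (Tr.leaf (nat_lit 0x41215878673767717))) (Tr.node (Tr.leaf (nat_lit 0x54323347732237626771)) (Tr.leaf (nat_lit 0x0)))) (Tr.node (Tr.node (Tr.leaf (nat_lit 0x15718773621221)) (Tr.leaf (nat_lit 0x4134567321232267622))) (Tr.node (Tr.leaf (nat_lit 0x346547186782622171)) (Tr.leaf (nat_lit 0x0))))) (Tr.node (Tr.node (Tr.node (Tr.leaf (nat_lit 0x14342673717717)) (Tr.leaf (nat_lit 0x46342678717717))) (Tr.node (Tr.leaf (nat_lit 0x418717717)) (Tr.leaf (nat_lit 0x0)))) (Tr.node (Tr.node (Tr.leaf (nat_lit 0x815817868221221)) (Tr.leaf (nat_lit 0x335433488782862212))) (Tr.node (Tr.leaf (nat_lit 0x45893422867367762)) (Tr.leaf (nat_lit 0x0)))))) (Tr.node (Tr.node (Tr.node (Tr.node (Tr.leaf (nat_lit 0x41345673212362262262)) (Tr.leaf (nat_lit 0x88151236363677))) (Tr.node (Tr.leaf (nat_lit 0x31437341363131771211)) (Tr.leaf (nat_lit 0x0)))) (Tr.node (Tr.node (Tr.leaf (nat_lit 0x14342178767717)) (Tr.leaf (nat_lit 0x88151236363267621))) (Tr.node (Tr.leaf (nat_lit 0x3354334128223211)) (Tr.leaf (nat_lit 0x0))))) (Tr.node (Tr.node (Tr.node (Tr.leaf (nat_lit 0x339154718678226221)) (Tr.leaf (nat_lit 0x46345223178776217))) (Tr.node (Tr.leaf (nat_lit 0x4686221771)) (Tr.leaf (nat_lit 0x0)))) (Tr.node (Tr.node (Tr.leaf (nat_lit 0x5152347732632122)) (Tr.leaf (nat_lit 0x0))) (Tr.node (Tr.leaf (nat_lit 0x331582373636226)) (Tr.leaf (nat_lit 0x0))))))) (Tr.node (Tr.node (Tr.node (Tr.node (Tr.node (Tr.leaf (nat_lit 0x15673212362217)) (Tr.leaf (nat_lit 0x913417712))) (Tr.node (Tr.leaf (nat_lit 0x1456542362231221211)) (Tr.leaf (nat_lit 0x0)))) (Tr.node (Tr.node (Tr.leaf (nat_lit 0x563134637331771771)) (Tr.leaf (nat_lit 0x1434217822677))) (Tr.node (Tr.leaf (nat_lit 0x3391546823623671212)) (Tr.leaf (nat_lit 0x0))))) (Tr.node (Tr.node (Tr.node (Tr.leaf (nat_lit 0x335433462873137677621)) (Tr.leaf (nat_lit 0x5631343787326771))) (Tr.node (Tr.leaf (nat_lit 0x413452231782621)) (Tr.leaf (nat_lit 0x0)))) (Tr.node (Tr.node (Tr.leaf (nat_lit 0x828634263713226762)) (Tr.leaf (nat_lit 0x0))) (Tr.node (Tr.leaf (nat_lit 0x3157131326)) (Tr.leaf (nat_lit 0x0)))))) (Tr.node (Tr.node (Tr.node (Tr.node (Tr.leaf (nat_lit 0x54323347732232121)) (Tr.leaf (nat_lit 0x33156317732262217))) (Tr.node (Tr.leaf (nat_lit 0x46345673212362217)) (Tr.leaf (nat_lit 0x0)))) (Tr.node (Tr.node (Tr.leaf (nat_lit 0x3354334628731312212)) (Tr.leaf (nat_lit 0x4589342332237171))) (Tr.node (Tr.leaf (nat_lit 0x143421732676)) (Tr.leaf (nat_lit 0x0))))) (Tr.node (Tr.node (Tr.node (Tr.leaf (nat_lit 0x415654686377111)) (Tr.leaf (nat_lit 0x9584526718137622121))) (Tr.node (Tr.leaf (nat_lit 0x14346776712)) (Tr.leaf (nat_lit 0x0)))) (Tr.node (Tr.node (Tr.leaf (nat_lit 0x145654813763121771)) (Tr.leaf (nat_lit 0x0))) (Tr.node (Tr.leaf (nat_lit 0x34654678687122121)) (Tr.leaf (nat_lit 0x0)))))))) (Tr.node (Tr.node (Tr.node (Tr.node (Tr.node (Tr.node (Tr.leaf (nat_lit 0x91345223178771217)) (Tr.leaf (nat_lit 0x82863432337321221221))) (Tr.node (Tr.leaf (nat_lit 0x346547186782622671)) (Tr.leaf (nat_lit 0x0)))) (Tr.node (Tr.node (Tr.leaf (nat_lit 0x51253486281367717)) (Tr.leaf (nat_lit 0x4134217322677))) (Tr.node (Tr.leaf (nat_lit 0x14345328223262177)) (Tr.leaf (nat_lit 0x0))))) (Tr.node (Tr.node (Tr.node (Tr.leaf (nat_lit 0x465654236223177122)) (Tr.leaf (nat_lit 0x1456546863776771712))) (Tr.node (Tr.leaf (nat_lit 0x8286348713187671212)) (Tr.leaf (nat_lit 0x0)))) (Tr.node (Tr.node (Tr.leaf (nat_lit 0x913452231782626)) (Tr.leaf (nat_lit 0x4634567321232267622))) (Tr.node (Tr.leaf (nat_lit 0x1456546863712177)) (Tr.leaf (nat_lit 0x0)))))) (Tr.node (Tr.node (Tr.node (Tr.node (Tr.leaf (nat_lit 0x23623413713226762)) (Tr.leaf (nat_lit 0x31437342363282622171))) (Tr.node (Tr.leaf (nat_lit 0x8286343223632111)) (Tr.leaf (nat_lit 0x0)))) (Tr.node (Tr.node (Tr.leaf (nat_lit 0x33543348878287677621)) (Tr.leaf (nat_lit 0x46342678217111))) (Tr.node (Tr.leaf (nat_lit 0x3143734236328221221)) (Tr.leaf (nat_lit 0x0))))) (Tr.node (Tr.node (Tr.node (Tr.leaf (nat_lit 0x145654236223177122)) (Tr.leaf (nat_lit 0x8286343681321221221))) (Tr.node (Tr.leaf (nat_lit 0x31437341363136712122)) (Tr.leaf (nat_lit 0x0)))) (Tr.node (Tr.node (Tr.leaf (nat_lit 0x413426787621221)) (Tr.leaf (nat_lit 0x0))) (Tr.node (Tr.leaf (nat_lit 0x236234733181376267)) (Tr.leaf (nat_lit 0x0))))))) (Tr.node (Tr.node (Tr.node (Tr.node (Tr.node (Tr.leaf (nat_lit 0x4634532822367762)) (Tr.leaf (nat_lit 0x465654268733762121))) (Tr.node (Tr.leaf (nat_lit 0x413457187731771711)) (Tr.leaf (nat_lit 0x0)))) (Tr.node (Tr.node (Tr.leaf (nat_lit 0x563134887871322626)) (Tr.leaf (nat_lit 0x73123211))) (Tr.node (Tr.leaf (nat_lit 0x4589342286731771712)) (Tr.leaf (nat_lit 0x0))))) (Tr.node (Tr.node (Tr.node (Tr.leaf (nat_lit 0x152231786712212)) (Tr.leaf (nat_lit 0x143421732671))) (Tr.node (Tr.leaf (nat_lit 0x412153223236771712)) (Tr.leaf (nat_lit 0x0)))) (Tr.node (Tr.node (Tr.leaf (nat_lit 0x53465417313771771)) (Tr.leaf (nat_lit 0x0))) (Tr.node (Tr.leaf (nat_lit 0x33152886313267712)) (Tr.leaf (nat_lit 0x0)))))) (Tr.node (Tr.node (Tr.node (Tr.node (Tr.leaf (nat_lit 0x415654813763626771)) (Tr.leaf (nat_lit 0x4589342286736776712))) (Tr.node (Tr.leaf (nat_lit 0x339154678682622622121)) (Tr.leaf (nat_lit 0x0)))) (Tr.node (Tr.node (Tr.leaf (nat_lit 0x4656542362237677121)) (Tr.leaf (nat_lit 0x33152886313267122))) (Tr.node (Tr.leaf (nat_lit 0x95845332371362262171)) (Tr.leaf (nat_lit 0x0))))) (Tr.node (Tr.node (Tr.node (Tr.leaf (nat_lit 0x5346543232132171)) (Tr.leaf (nat_lit 0x3541234313637367762))) (Tr.node (Tr.leaf (nat_lit 0x3391543773232122111)) (Tr.leaf (nat_lit 0x0)))) (Tr.node (Tr.node (Tr.leaf (nat_lit 0x543233477321326771)) (Tr.leaf (nat_lit 0x0))) (Tr.node (Tr.leaf (nat_lit 0x881512363636212)) (Tr.leaf (nat_lit 0x0))))))))) (Tr.node (Tr.node (Tr.node (Tr.node (Tr.node (Tr.node (Tr.node (Tr.leaf (nat_lit 0x14345223178776217)) (Tr.leaf (nat_lit 0x95845376378717712))) (Tr.node (Tr.leaf (nat_lit 0x51523468681367712)) (Tr.leaf (nat_lit 0x0)))) (Tr.node (Tr.node (Tr.leaf (nat_lit 0x335433412822371712)) (Tr.leaf (nat_lit 0x5346543232137121221))) (Tr.node (Tr.leaf (nat_lit 0x41342673217111)) (Tr.leaf (nat_lit 0x0))))) (Tr.node (Tr.node (Tr.node (Tr.leaf (nat_lit 0x8145477628621)) (Tr.leaf (nat_lit 0x143426782676))) (Tr.node (Tr.leaf (nat_lit 0x3541234733137712)) (Tr.leaf (nat_lit 0x0)))) (Tr.node (Tr.node (Tr.leaf (nat_lit 0x45893471326821221211)) (Tr.leaf (nat_lit 0x8286343223636221217))) (Tr.node (Tr.leaf (nat_lit 0x3541234313637317712)) (Tr.leaf (nat_lit 0x0)))))) (Tr.node (Tr.node (Tr.node (Tr.node (Tr.leaf (nat_lit 0x91341)) (Tr.leaf (nat_lit 0x4584526718137622121))) (Tr.node (Tr.leaf (nat_lit 0x14342173767717)) (Tr.leaf (nat_lit 0x0)))) (Tr.node (Tr.node (Tr.leaf (nat_lit 0x91345673212312212212)) (Tr.leaf (nat_lit 0x8815713378712))) (Tr.node (Tr.leaf (nat_lit 0x881573622326762)) (Tr.leaf (nat_lit 0x0))))) (Tr.node (Tr.node (Tr.node (Tr.leaf (nat_lit 0x41342673717717)) (Tr.leaf (nat_lit 0x413457132367766))) (Tr.node (Tr.leaf (nat_lit 0x3541234313637367622)) (Tr.leaf (nat_lit 0x0)))) (Tr.node (Tr.node (Tr.leaf (nat_lit 0x412158786786221771)) (Tr.leaf (nat_lit 0x0))) (Tr.node (Tr.leaf (nat_lit 0x4584526718137622626)) (Tr.leaf (nat_lit 0x0))))))) (Tr.node (Tr.node (Tr.node (Tr.node (Tr.node (Tr.leaf (nat_lit 0x53465417313212171)) (Tr.leaf (nat_lit 0x56313463733622122121))) (Tr.node (Tr.leaf (nat_lit 0x4121586826376771771)) (Tr.leaf (nat_lit 0x0)))) (Tr.node (Tr.node (Tr.leaf (nat_lit 0x5631346373376771)) (Tr.leaf (nat_lit 0x331582373631221))) (Tr.node (Tr.leaf (nat_lit 0x9584537637871)) (Tr.leaf (nat_lit 0x0))))) (Tr.node (Tr.node (Tr.node (Tr.leaf (nat_lit 0x465654236223776221)) (Tr.leaf (nat_lit 0x31437342363282122171))) (Tr.node (Tr.leaf (nat_lit 0x4656546863776771712)) (Tr.leaf (nat_lit 0x0)))) (Tr.node (Tr.node (Tr.leaf (nat_lit 0x331528877637762171)) (Tr.leaf (nat_lit 0x0))) (Tr.node (Tr.leaf (nat_lit 0x458934233223622622)) (Tr.leaf (nat_lit 0x0)))))) (Tr.node (Tr.node (Tr.node (Tr.node (Tr.leaf (nat_lit 0x884154718678717)) (Tr.leaf (nat_lit 0x236234733181326221221))) (Tr.node (Tr.leaf (nat_lit 0x354123473313762122)) (Tr.leaf (nat_lit 0x0)))) (Tr.node (Tr.node (Tr.leaf (nat_lit 0x46565423622367)) (Tr.leaf (nat_lit 0x331563177376))) (Tr.node (Tr.leaf (nat_lit 0x463452231782626)) (Tr.leaf (nat_lit 0x0))))) (Tr.node (Tr.node (Tr.node (Tr.leaf (nat_lit 0x4584526718137712171)) (Tr.leaf (nat_lit 0x346543773232122111))) (Tr.node (Tr.leaf (nat_lit 0x463717717)) (Tr.leaf (nat_lit 0x0)))) (Tr.node (Tr.node (Tr.leaf (nat_lit 0x913467712)) (Tr.leaf (nat_lit 0x0))) (Tr.node (Tr.leaf (nat_lit 0x465654268733622671)) (Tr.leaf (nat_lit 0x0)))))))) (Tr.node (Tr.node (Tr.node (Tr.node (Tr.node (Tr.node (Tr.leaf (nat_lit 0x1532822317122)) (Tr.leaf (nat_lit 0x4656546863212212212))) (Tr.node (Tr.leaf (nat_lit 0x14342178717717)) (Tr.leaf (nat_lit 0x0)))) (Tr.node (Tr.node (Tr.leaf (nat_lit 0x152231781221221)) (Tr.leaf (nat_lit 0x46345223178776267))) (Tr.node (Tr.leaf (nat_lit 0x7712)) (Tr.leaf (nat_lit 0x0))))) (Tr.node (Tr.node (Tr.node (Tr.leaf (nat_lit 0x8841547186782622676)) (Tr.leaf (nat_lit 0x415654268733122171))) (Tr.node (Tr.leaf (nat_lit 0x33543341282232)) (Tr.leaf (nat_lit 0x0)))) (Tr.node (Tr.node (Tr.leaf (nat_lit 0x9134532822367762)) (Tr.leaf (nat_lit 0x315331363262177))) (Tr.node (Tr.leaf (nat_lit 0x958452686732212171)) (Tr.leaf (nat_lit 0x0)))))) (Tr.node (Tr.node (Tr.node (Tr.node (Tr.leaf (nat_lit 0x9584526718137622621)) (Tr.leaf (nat_lit 0x8815713378211))) (Tr.node (Tr.leaf (nat_lit 0x4656542362236221712)) (Tr.leaf (nat_lit 0x0)))) (Tr.node (Tr.node (Tr.leaf (nat_lit 0x3391547186782622171)) (Tr.leaf (nat_lit 0x815218686))) (Tr.node (Tr.leaf (nat_lit 0x4634267822677)) (Tr.leaf (nat_lit 0x0))))) (Tr.node (Tr.node (Tr.node (Tr.leaf (nat_lit 0x81454377323762121)) (Tr.leaf (nat_lit 0x463421782671))) (Tr.node (Tr.leaf (nat_lit 0x1456542362231711)) (Tr.leaf (nat_lit 0x0)))) (Tr.node (Tr.node (Tr.leaf (nat_lit 0x884154678682622622121)) (Tr.leaf (nat_lit 0x0))) (Tr.node (Tr.leaf (nat_lit 0x14565423622362212)) (Tr.leaf (nat_lit 0x0))))))) (Tr.node (Tr.node (Tr.node (Tr.node (Tr.node (Tr.leaf (nat_lit 0x82863432337322626)) (Tr.leaf (nat_lit 0x3315682323312212))) (Tr.node (Tr.leaf (nat_lit 0x5152346868131771211)) (Tr.leaf (nat_lit 0x0)))) (Tr.node (Tr.node (Tr.leaf (nat_lit 0x41565462132862171)) (Tr.leaf (nat_lit 0x73763662))) (Tr.node (Tr.leaf (nat_lit 0x23623413713226712)) (Tr.leaf (nat_lit 0x0))))) (Tr.node (Tr.node (Tr.node (Tr.leaf (nat_lit 0x14565481376371217)) (Tr.leaf (nat_lit 0x143417712))) (Tr.node (Tr.leaf (nat_lit 0x5346543232132671)) (Tr.leaf (nat_lit 0x0)))) (Tr.node (Tr.node (Tr.leaf (nat_lit 0x463767717)) (Tr.leaf (nat_lit 0x0))) (Tr.node (Tr.leaf (nat_lit 0x463452231786717)) (Tr.leaf (nat_lit 0x0)))))) (Tr.node (Tr.node (Tr.node (Tr.node (Tr.leaf (nat_lit 0x41565481376321221221)) (Tr.leaf (nat_lit 0x534654323213717717))) (Tr.node (Tr.leaf (nat_lit 0x14565423622312212)) (Tr.leaf (nat_lit 0x0)))) (Tr.node (Tr.node (Tr.leaf (nat_lit 0x354123468236231712)) (Tr.leaf (nat_lit 0x31522132622122121))) (Tr.node (Tr.leaf (nat_lit 0x412158786737621221)) (Tr.leaf (nat_lit 0x0))))) (Tr.node (Tr.node (Tr.node (Tr.leaf (nat_lit 0x88415468236232171221)) (Tr.leaf (nat_lit 0x339154377323677677))) (Tr.node (Tr.leaf (nat_lit 0x7376376662)) (Tr.leaf (nat_lit 0x0)))) (Tr.node (Tr.node (Tr.leaf (nat_lit 0x8286343681322626)) (Tr.leaf (nat_lit 0x0))) (Tr.node (Tr.leaf (nat_lit 0x41345713236212)) (Tr.leaf (nat_lit 0x0))))))))))) (Tr.node (Tr.node (Tr.node (Tr.node (Tr.node (Tr.node (Tr.node (Tr.node (Tr.node (Tr.leaf (nat_lit 0x884154678687622621)) (Tr.leaf (nat_lit 0x91342178217111))) (Tr.node (Tr.leaf (nat_lit 0x51253426368267177)) (Tr.leaf (nat_lit 0x0)))) (Tr.node (Tr.node (Tr.leaf (nat_lit 0x33915468236232676221)) (Tr.leaf (nat_lit 0x3153221282262171))) (Tr.node (Tr.leaf (nat_lit 0x4584526867371771)) (Tr.leaf (nat_lit 0x0))))) (Tr.node (Tr.node (Tr.node (Tr.leaf (nat_lit 0x5346541731376771771)) (Tr.leaf (nat_lit 0x463457187731771711))) (Tr.node (Tr.leaf (nat_lit 0x41345713232267717)) (Tr.leaf (nat_lit 0x0)))) (Tr.node (Tr.node (Tr.leaf (nat_lit 0x913457187737717711)) (Tr.leaf (nat_lit 0x3153221286776771))) (Tr.node (Tr.leaf (nat_lit 0x33543348878286766)) (Tr.leaf (nat_lit 0x0)))))) (Tr.node (Tr.node (Tr.node (Tr.node (Tr.leaf (nat_lit 0x413452231786226221)) (Tr.leaf (nat_lit 0x56313437873717717121))) (Tr.node (Tr.leaf (nat_lit 0x346543773237767)) (Tr.leaf (nat_lit 0x0)))) (Tr.node (Tr.node (Tr.leaf (nat_lit 0x534654323776771)) (Tr.leaf (nat_lit 0x33156823233771221))) (Tr.node (Tr.leaf (nat_lit 0x731232)) (Tr.leaf (nat_lit 0x0))))) (Tr.node (Tr.node (Tr.node (Tr.leaf (nat_lit 0x4634267322177)) (Tr.leaf (nat_lit 0x8158178682622171))) (Tr.node (Tr.leaf (nat_lit 0x331528877632622122121)) (Tr.leaf (nat_lit 0x0)))) (Tr.node (Tr.node (Tr.leaf (nat_lit 0x4634571323622622)) (Tr.leaf (nat_lit 0x0))) (Tr.node (Tr.leaf (nat_lit 0x331528863132111)) (Tr.leaf (nat_lit 0x0))))))) (Tr.node (Tr.node (Tr.node (Tr.node (Tr.node (Tr.leaf (nat_lit 0x45893423322367766)) (Tr.leaf (nat_lit 0x46345673212362262262))) (Tr.node (Tr.leaf (nat_lit 0x51523418182131221211)) (Tr.leaf (nat_lit 0x0)))) (Tr.node (Tr.node (Tr.leaf (nat_lit 0x41565481376322121)) (Tr.leaf (nat_lit 0x91342173767767))) (Tr.node (Tr.leaf (nat_lit 0x339154776286267762)) (Tr.leaf (nat_lit 0x0))))) (Tr.node (Tr.node (Tr.node (Tr.leaf (nat_lit 0x5346541731312212171)) (Tr.leaf (nat_lit 0x31571313217712))) (Tr.node (Tr.leaf (nat_lit 0x5432334773213622121)) (Tr.leaf (nat_lit 0x0)))) (Tr.node (Tr.node (Tr.leaf (nat_lit 0x46346771712)) (Tr.leaf (nat_lit 0x0))) (Tr.node (Tr.leaf (nat_lit 0x463426732676)) (Tr.leaf (nat_lit 0x0)))))) (Tr.node (Tr.node (Tr.node (Tr.node (Tr.leaf (nat_lit 0x4134532822367712)) (Tr.leaf (nat_lit 0x5125342636812111))) (Tr.node (Tr.leaf (nat_lit 0x4134571877322676)) (Tr.leaf (nat_lit 0x0)))) (Tr.node (Tr.node (Tr.leaf (nat_lit 0x828634368137121711)) (Tr.leaf (nat_lit 0x413421736221771))) (Tr.node (Tr.leaf (nat_lit 0x4134571877377177)) (Tr.leaf (nat_lit 0x0))))) (Tr.node (Tr.node (Tr.node (Tr.leaf (nat_lit 0x4656542687332122111)) (Tr.leaf (nat_lit 0x331582373632677621))) (Tr.node (Tr.leaf (nat_lit 0x463426737621221)) (Tr.leaf (nat_lit 0x0)))) (Tr.node (Tr.node (Tr.leaf (nat_lit 0x14342178217111)) (Tr.leaf (nat_lit 0x0))) (Tr.node (Tr.leaf (nat_lit 0x9134571877377677)) (Tr.leaf (nat_lit 0x0)))))))) (Tr.node (Tr.node (Tr.node (Tr.node (Tr.node (Tr.node (Tr.leaf (nat_lit 0x463421787121221)) (Tr.leaf (nat_lit 0x4121586826322622121))) (Tr.node (Tr.leaf (nat_lit 0x51523418213137666)) (Tr.leaf (nat_lit 0x0)))) (Tr.node (Tr.node (Tr.leaf (nat_lit 0x51253417877132267122)) (Tr.leaf (nat_lit 0x458934233223267121))) (Tr.node (Tr.leaf (nat_lit 0x543233428826367621)) (Tr.leaf (nat_lit 0x0))))) (Tr.node (Tr.node (Tr.node (Tr.leaf (nat_lit 0x15673212322111)) (Tr.leaf (nat_lit 0x2362342813731221711))) (Tr.node (Tr.leaf (nat_lit 0x465654268733622171)) (Tr.leaf (nat_lit 0x0)))) (Tr.node (Tr.node (Tr.leaf (nat_lit 0x91345713237171)) (Tr.leaf (nat_lit 0x81523221232212171))) (Tr.node (Tr.leaf (nat_lit 0x145654621328622177)) (Tr.leaf (nat_lit 0x0)))))) (Tr.node (Tr.node (Tr.node (Tr.node (Tr.leaf (nat_lit 0x458934233223267621)) (Tr.leaf (nat_lit 0x236234337868762671))) (Tr.node (Tr.leaf (nat_lit 0x314373413631317712)) (Tr.leaf (nat_lit 0x0)))) (Tr.node (Tr.node (Tr.leaf (nat_lit 0x5346543232136221771)) (Tr.leaf (nat_lit 0x8815318717362212171))) (Tr.node (Tr.leaf (nat_lit 0x45845823173177111)) (Tr.leaf (nat_lit 0x0))))) (Tr.node (Tr.node (Tr.node (Tr.leaf (nat_lit 0x3465471867871711)) (Tr.leaf (nat_lit 0x958458231732122122121))) (Tr.node (Tr.leaf (nat_lit 0x881571337812211)) (Tr.leaf (nat_lit 0x0)))) (Tr.node (Tr.node (Tr.leaf (nat_lit 0x413457187737767766)) (Tr.leaf (nat_lit 0x0))) (Tr.node (Tr.leaf (nat_lit 0x828634322363267762)) (Tr.leaf (nat_lit 0x0))))))) (Tr.node (Tr.node (Tr.node (Tr.node (Tr.node (Tr.leaf (nat_lit 0x4121587862177)) (Tr.leaf (nat_lit 0x512534178771322111))) (Tr.node (Tr.leaf (nat_lit 0x339154377323177177)) (Tr.leaf (nat_lit 0x0)))) (Tr.node (Tr.node (Tr.leaf (nat_lit 0x3391547186787677122)) (Tr.leaf (nat_lit 0x6217322677))) (Tr.node (Tr.leaf (nat_lit 0x913426732671)) (Tr.leaf (nat_lit 0x0))))) (Tr.node (Tr.node (Tr.node (Tr.leaf (nat_lit 0x1532822367762)) (Tr.leaf (nat_lit 0x4134571877322171))) (Tr.node (Tr.leaf (nat_lit 0x46345328223111)) (Tr.leaf (nat_lit 0x0)))) (Tr.node (Tr.node (Tr.leaf (nat_lit 0x458934713268262212)) (Tr.leaf (nat_lit 0x0))) (Tr.node (Tr.leaf (nat_lit 0x463452231786226221)) (Tr.leaf (nat_lit 0x0)))))) (Tr.node (Tr.node (Tr.node (Tr.node (Tr.leaf (nat_lit 0x621732676)) (Tr.leaf (nat_lit 0x8286343223632262177))) (Tr.node (Tr.leaf (nat_lit 0x331528863131221217)) (Tr.leaf (nat_lit 0x0)))) (Tr.node (Tr.node (Tr.leaf (nat_lit 0x53465432362212171)) (Tr.leaf (nat_lit 0x8152186867762))) (Tr.node (Tr.leaf (nat_lit 0x5152347732636662)) (Tr.leaf (nat_lit 0x0))))) (Tr.node (Tr.node (Tr.node (Tr.leaf (nat_lit 0x9134262177)) (Tr.leaf (nat_lit 0x4121587867322177))) (Tr.node (Tr.leaf (nat_lit 0x9134571877322171)) (Tr.leaf (nat_lit 0x0)))) (Tr.node (Tr.node (Tr.leaf (nat_lit 0x51253417877132267622)) (Tr.leaf (nat_lit 0x0))) (Tr.node (Tr.leaf (nat_lit 0x4656542687337717)) (Tr.leaf (nat_lit 0x0))))))))) (Tr.node (Tr.node (Tr.node (Tr.node (Tr.node (Tr.node (Tr.node (Tr.leaf (nat_lit 0x91345713236212)) (Tr.leaf (nat_lit 0x958453763787666))) (Tr.node (Tr.leaf (nat_lit 0x8841546823623671212)) (Tr.leaf (nat_lit 0x0)))) (Tr.node (Tr.node (Tr.leaf (nat_lit 0x45845268673622622621)) (Tr.leaf (nat_lit 0x41342178767767))) (Tr.node (Tr.leaf (nat_lit 0x515234182131376712122)) (Tr.leaf (nat_lit 0x0))))) (Tr.node (Tr.node (Tr.node (Tr.leaf (nat_lit 0x95845268673622622621)) (Tr.leaf (nat_lit 0x884154682362326217))) (Tr.node (Tr.leaf (nat_lit 0x5346543232637121221)) (Tr.leaf (nat_lit 0x0)))) (Tr.node (Tr.node (Tr.leaf (nat_lit 0x4121587812177)) (Tr.leaf (nat_lit 0x3354334887828771221))) (Tr.node (Tr.leaf (nat_lit 0x828634322363217122)) (Tr.leaf (nat_lit 0x0)))))) (Tr.node (Tr.node (Tr.node (Tr.node (Tr.leaf (nat_lit 0x1434217822177)) (Tr.leaf (nat_lit 0x4656546863762177))) (Tr.node (Tr.leaf (nat_lit 0x534654323212171)) (Tr.leaf (nat_lit 0x0)))) (Tr.node (Tr.node (Tr.leaf (nat_lit 0x33915468236232671221)) (Tr.leaf (nat_lit 0x346546823623677671))) (Tr.node (Tr.leaf (nat_lit 0x1456542362236766)) (Tr.leaf (nat_lit 0x0))))) (Tr.node (Tr.node (Tr.node (Tr.leaf (nat_lit 0x413453282236771712)) (Tr.leaf (nat_lit 0x9584526718132122122121))) (Tr.node (Tr.leaf (nat_lit 0x415654268733762121)) (Tr.leaf (nat_lit 0x0)))) (Tr.node (Tr.node (Tr.leaf (nat_lit 0x143421782217711)) (Tr.leaf (nat_lit 0x0))) (Tr.node (Tr.leaf (nat_lit 0x35412346823623212211)) (Tr.leaf (nat_lit 0x0))))))) (Tr.node (Tr.node (Tr.node (Tr.node (Tr.node (Tr.leaf (nat_lit 0x467717121)) (Tr.leaf (nat_lit 0x5125348628131771711))) (Tr.node (Tr.leaf (nat_lit 0x46345713236212)) (Tr.leaf (nat_lit 0x0)))) (Tr.node (Tr.node (Tr.leaf (nat_lit 0x91345328223111)) (Tr.leaf (nat_lit 0x331528863132262177))) (Tr.node (Tr.leaf (nat_lit 0x335433488782812212)) (Tr.leaf (nat_lit 0x0))))) (Tr.node (Tr.node (Tr.node (Tr.leaf (nat_lit 0x33543341313218776267)) (Tr.leaf (nat_lit 0x1456546863262212212))) (Tr.node (Tr.leaf (nat_lit 0x91345718773121221)) (Tr.leaf (nat_lit 0x0)))) (Tr.node (Tr.node (Tr.leaf (nat_lit 0x53465432326371771711)) (Tr.leaf (nat_lit 0x0))) (Tr.node (Tr.leaf (nat_lit 0x81581786871711)) (Tr.leaf (nat_lit 0x0)))))) (Tr.node (Tr.node (Tr.node (Tr.node (Tr.leaf (nat_lit 0x465654813763626771)) (Tr.leaf (nat_lit 0x8815713378122))) (Tr.node (Tr.leaf (nat_lit 0x339154776282671212)) (Tr.leaf (nat_lit 0x0)))) (Tr.node (Tr.node (Tr.leaf (nat_lit 0x335433412826812211)) (Tr.leaf (nat_lit 0x33543348878281221211))) (Tr.node (Tr.leaf (nat_lit 0x31533136367712)) (Tr.leaf (nat_lit 0x0))))) (Tr.node (Tr.node (Tr.node (Tr.leaf (nat_lit 0x143453282231)) (Tr.leaf (nat_lit 0x236234813778677621))) (Tr.node (Tr.leaf (nat_lit 0x512534263682671212)) (Tr.leaf (nat_lit 0x0)))) (Tr.node (Tr.node (Tr.leaf (nat_lit 0x236234733181322626)) (Tr.leaf (nat_lit 0x0))) (Tr.node (Tr.leaf (nat_lit 0x81454776286267712)) (Tr.leaf (nat_lit 0x0)))))))) (Tr.node (Tr.node (Tr.node (Tr.node (Tr.node (Tr.node (Tr.leaf (nat_lit 0x1567321232217122)) (Tr.leaf (nat_lit 0x413426787121221))) (Tr.node (Tr.leaf (nat_lit 0x913456732123226)) (Tr.leaf (nat_lit 0x0)))) (Tr.node (Tr.node (Tr.leaf (nat_lit 0x458934676232671212)) (Tr.leaf (nat_lit 0x1434567321232267622))) (Tr.node (Tr.leaf (nat_lit 0x4584537637862677)) (Tr.leaf (nat_lit 0x0))))) (Tr.node (Tr.node (Tr.node (Tr.leaf (nat_lit 0x1571323677)) (Tr.leaf (nat_lit 0x4186221771))) (Tr.node (Tr.leaf (nat_lit 0x3143734218178776712)) (Tr.leaf (nat_lit 0x0)))) (Tr.node (Tr.node (Tr.leaf (nat_lit 0x236234337868717717121)) (Tr.leaf (nat_lit 0x815218681))) (Tr.node (Tr.leaf (nat_lit 0x51523418182131711)) (Tr.leaf (nat_lit 0x0)))))) (Tr.node (Tr.node (Tr.node (Tr.node (Tr.leaf (nat_lit 0x33543341282682)) (Tr.leaf (nat_lit 0x91345718773767121))) (Tr.node (Tr.leaf (nat_lit 0x314373476323712)) (Tr.leaf (nat_lit 0x0)))) (Tr.node (Tr.node (Tr.leaf (nat_lit 0x7376371211)) (Tr.leaf (nat_lit 0x81577132337177111))) (Tr.node (Tr.leaf (nat_lit 0x4134267822677)) (Tr.leaf (nat_lit 0x0))))) (Tr.node (Tr.node (Tr.node (Tr.leaf (nat_lit 0x88415471867862121)) (Tr.leaf (nat_lit 0x4584526867376776))) (Tr.node (Tr.leaf (nat_lit 0x4121586826312212171)) (Tr.leaf (nat_lit 0x0)))) (Tr.node (Tr.node (Tr.leaf (nat_lit 0x15718773717121)) (Tr.leaf (nat_lit 0x0))) (Tr.node (Tr.leaf (nat_lit 0x5432334712818712177)) (Tr.leaf (nat_lit 0x0))))))) (Tr.node (Tr.node (Tr.node (Tr.node (Tr.node (Tr.leaf (nat_lit 0x463421786221771)) (Tr.leaf (nat_lit 0x1434217371771711))) (Tr.node (Tr.leaf (nat_lit 0x4634567321232217122)) (Tr.leaf (nat_lit 0x0)))) (Tr.node (Tr.node (Tr.leaf (nat_lit 0x3391547762812111)) (Tr.leaf (nat_lit 0x621737767121))) (Tr.node (Tr.leaf (nat_lit 0x33915477628267177)) (Tr.leaf (nat_lit 0x0))))) (Tr.node (Tr.node (Tr.node (Tr.leaf (nat_lit 0x335433412822376712)) (Tr.leaf (nat_lit 0x4584537637862177))) (Tr.node (Tr.leaf (nat_lit 0x331582373632212212)) (Tr.leaf (nat_lit 0x0)))) (Tr.node (Tr.node (Tr.leaf (nat_lit 0x95845376378767712)) (Tr.leaf (nat_lit 0x0))) (Tr.node (Tr.leaf (nat_lit 0x41215878678767767)) (Tr.leaf (nat_lit 0x0)))))) (Tr.node (Tr.node (Tr.node (Tr.node (Tr.leaf (nat_lit 0x157132317711)) (Tr.leaf (nat_lit 0x8286343223631221217))) (Tr.node (Tr.leaf (nat_lit 0x5631348878713626776)) (Tr.leaf (nat_lit 0x0)))) (Tr.node (Tr.node (Tr.leaf (nat_lit 0x34654678687622621)) (Tr.leaf (nat_lit 0x815817868717))) (Tr.node (Tr.leaf (nat_lit 0x958458231737767717121)) (Tr.leaf (nat_lit 0x0))))) (Tr.node (Tr.node (Tr.node (Tr.leaf (nat_lit 0x9584537637876712122)) (Tr.leaf (nat_lit 0x413426787717121))) (Tr.node (Tr.leaf (nat_lit 0x91345223178776267)) (Tr.leaf (nat_lit 0x0)))) (Tr.node (Tr.node (Tr.leaf (nat_lit 0x31437347632376712)) (Tr.leaf (nat_lit 0x0))) (Tr.node (Tr.leaf (nat_lit 0x34654377323122171)) (Tr.leaf (nat_lit 0x0)))))))))) (Tr.node (Tr.node (Tr.node (Tr.node (Tr.node (Tr.node (Tr.node (Tr.node (Tr.leaf (nat_lit 0x9134571323622622)) (Tr.leaf (nat_lit 0x34654776282677171))) (Tr.node (Tr.leaf (nat_lit 0x339154678681771)) (Tr.leaf (nat_lit 0x0)))) (Tr.node (Tr.node (Tr.leaf (nat_lit 0x88415468236232676221)) (Tr.leaf (nat_lit 0x354123431363731771712))) (Tr.node (Tr.leaf (nat_lit 0x143426737717121)) (Tr.leaf (nat_lit 0x0))))) (Tr.node (Tr.node (Tr.node (Tr.leaf (nat_lit 0x88415471867871711)) (Tr.leaf (nat_lit 0x413426782671))) (Tr.node (Tr.leaf (nat_lit 0x236234733181377677171)) (Tr.leaf (nat_lit 0x0)))) (Tr.node (Tr.node (Tr.leaf (nat_lit 0x515234182131371)) (Tr.leaf (nat_lit 0x45893436732122171))) (Tr.node (Tr.leaf (nat_lit 0x4632671)) (Tr.leaf (nat_lit 0x0)))))) (Tr.node (Tr.node (Tr.node (Tr.node (Tr.leaf (nat_lit 0x4134571323267121)) (Tr.leaf (nat_lit 0x335433413132182621))) (Tr.node (Tr.leaf (nat_lit 0x3465468236232171221)) (Tr.leaf (nat_lit 0x0)))) (Tr.node (Tr.node (Tr.leaf (nat_lit 0x45845268673622122121)) (Tr.leaf (nat_lit 0x331528877637122121))) (Tr.node (Tr.leaf (nat_lit 0x828634871318676226)) (Tr.leaf (nat_lit 0x0))))) (Tr.node (Tr.node (Tr.node (Tr.leaf (nat_lit 0x33915477628621)) (Tr.leaf (nat_lit 0x5432334773213762676))) (Tr.node (Tr.leaf (nat_lit 0x468767717)) (Tr.leaf (nat_lit 0x0)))) (Tr.node (Tr.node (Tr.leaf (nat_lit 0x4121586826322622621)) (Tr.leaf (nat_lit 0x0))) (Tr.node (Tr.leaf (nat_lit 0x828634263713221211)) (Tr.leaf (nat_lit 0x0))))))) (Tr.node (Tr.node (Tr.node (Tr.node (Tr.node (Tr.leaf (nat_lit 0x346547186787677122)) (Tr.leaf (nat_lit 0x91345713237671))) (Tr.node (Tr.leaf (nat_lit 0x41822177)) (Tr.leaf (nat_lit 0x0)))) (Tr.node (Tr.node (Tr.leaf (nat_lit 0x881573622322122)) (Tr.leaf (nat_lit 0x41346712122))) (Tr.node (Tr.leaf (nat_lit 0x884154682362326267)) (Tr.leaf (nat_lit 0x0))))) (Tr.node (Tr.node (Tr.node (Tr.leaf (nat_lit 0x4584526718137762171)) (Tr.leaf (nat_lit 0x23623481377876226))) (Tr.node (Tr.leaf (nat_lit 0x3153313631771211)) (Tr.leaf (nat_lit 0x0)))) (Tr.node (Tr.node (Tr.leaf (nat_lit 0x41215878673767767)) (Tr.leaf (nat_lit 0x0))) (Tr.node (Tr.leaf (nat_lit 0x41215868263771771)) (Tr.leaf (nat_lit 0x0)))))) (Tr.node (Tr.node (Tr.node (Tr.node (Tr.leaf (nat_lit 0x828634322363267622)) (Tr.leaf (nat_lit 0x3315631773767712))) (Tr.node (Tr.leaf (nat_lit 0x913452231782267177)) (Tr.leaf (nat_lit 0x0)))) (Tr.node (Tr.node (Tr.leaf (nat_lit 0x4584533237132622177)) (Tr.leaf (nat_lit 0x881571337876712))) (Tr.node (Tr.leaf (nat_lit 0x413426782217711)) (Tr.leaf (nat_lit 0x0))))) (Tr.node (Tr.node (Tr.node (Tr.leaf (nat_lit 0x814547186782622676)) (Tr.leaf (nat_lit 0x4134217871771711))) (Tr.node (Tr.leaf (nat_lit 0x3465468236237621)) (Tr.leaf (nat_lit 0x0)))) (Tr.node (Tr.node (Tr.leaf (nat_lit 0x46565481376376217)) (Tr.leaf (nat_lit 0x0))) (Tr.node (Tr.leaf (nat_lit 0x8286343681376267)) (Tr.leaf (nat_lit 0x0)))))))) (Tr.node (Tr.node (Tr.node (Tr.node (Tr.node (Tr.node (Tr.leaf (nat_lit 0x42622621)) (Tr.leaf (nat_lit 0x463467712))) (Tr.node (Tr.leaf (nat_lit 0x563134637336776776)) (Tr.leaf (nat_lit 0x0)))) (Tr.node (Tr.node (Tr.leaf (nat_lit 0x468717717)) (Tr.leaf (nat_lit 0x413426737121221))) (Tr.node (Tr.leaf (nat_lit 0x458453323713212171)) (Tr.leaf (nat_lit 0x0))))) (Tr.node (Tr.node (Tr.node (Tr.leaf (nat_lit 0x339154718678767)) (Tr.leaf (nat_lit 0x5432334781213212217))) (Tr.node (Tr.leaf (nat_lit 0x88153732682622622)) (Tr.leaf (nat_lit 0x0)))) (Tr.node (Tr.node (Tr.leaf (nat_lit 0x34654678682122122121)) (Tr.leaf (nat_lit 0x4121586826362262171))) (Tr.node (Tr.leaf (nat_lit 0x4634532822317712)) (Tr.leaf (nat_lit 0x0)))))) (Tr.node (Tr.node (Tr.node (Tr.node (Tr.leaf (nat_lit 0x1434571323217121)) (Tr.leaf (nat_lit 0x5432334773213122121))) (Tr.node (Tr.leaf (nat_lit 0x4187717121)) (Tr.leaf (nat_lit 0x0)))) (Tr.node (Tr.node (Tr.leaf (nat_lit 0x45893471326826766)) (Tr.leaf (nat_lit 0x881512363632267717))) (Tr.node (Tr.leaf (nat_lit 0x31437347636812211)) (Tr.leaf (nat_lit 0x0))))) (Tr.node (Tr.node (Tr.node (Tr.leaf (nat_lit 0x53465432326322677)) (Tr.leaf (nat_lit 0x458452686732671771))) (Tr.node (Tr.leaf (nat_lit 0x14345713231212)) (Tr.leaf (nat_lit 0x0)))) (Tr.node (Tr.node (Tr.leaf (nat_lit 0x335433462873136766)) (Tr.leaf (nat_lit 0x0))) (Tr.node (Tr.leaf (nat_lit 0x331563177362177)) (Tr.leaf (nat_lit 0x0))))))) (Tr.node (Tr.node (Tr.node (Tr.node (Tr.node (Tr.leaf (nat_lit 0x467767121)) (Tr.leaf (nat_lit 0x9134571877367767))) (Tr.node (Tr.leaf (nat_lit 0x23623428137362267)) (Tr.leaf (nat_lit 0x0)))) (Tr.node (Tr.node (Tr.leaf (nat_lit 0x814547186782622171)) (Tr.leaf (nat_lit 0x881573622321712))) (Tr.node (Tr.leaf (nat_lit 0x9584526718132622622121)) (Tr.leaf (nat_lit 0x0))))) (Tr.node (Tr.node (Tr.node (Tr.leaf (nat_lit 0x153282236712122)) (Tr.leaf (nat_lit 0x35412346823623671712))) (Tr.node (Tr.leaf (nat_lit 0x4121532232367712)) (Tr.leaf (nat_lit 0x0)))) (Tr.node (Tr.node (Tr.leaf (nat_lit 0x81454678682622122121)) (Tr.leaf (nat_lit 0x0))) (Tr.node (Tr.leaf (nat_lit 0x3153221282671771)) (Tr.leaf (nat_lit 0x0)))))) (Tr.node (Tr.node (Tr.node (Tr.node (Tr.leaf (nat_lit 0x465654813763626776)) (Tr.leaf (nat_lit 0x412158786737767121))) (Tr.node (Tr.leaf (nat_lit 0x1456546863262217)) (Tr.leaf (nat_lit 0x0)))) (Tr.node (Tr.node (Tr.leaf (nat_lit 0x46565423622362262)) (Tr.leaf (nat_lit 0x3153221281771771))) (Tr.node (Tr.leaf (nat_lit 0x884154377323677177)) (Tr.leaf (nat_lit 0x0))))) (Tr.node (Tr.node (Tr.node (Tr.leaf (nat_lit 0x14342678717717)) (Tr.leaf (nat_lit 0x815232212376771))) (Tr.node (Tr.leaf (nat_lit 0x4156546213282622621)) (Tr.leaf (nat_lit 0x0)))) (Tr.node (Tr.node (Tr.leaf (nat_lit 0x339154377323762121)) (Tr.leaf (nat_lit 0x0))) (Tr.node (Tr.leaf (nat_lit 0x34654678682622622121)) (Tr.leaf (nat_lit 0x0))))))))) (Tr.node (Tr.node (Tr.node (Tr.node (Tr.node (Tr.node (Tr.node (Tr.leaf (nat_lit 0x152231782626)) (Tr.leaf (nat_lit 0x828634323373626776))) (Tr.node (Tr.leaf (nat_lit 0x46822177)) (Tr.leaf (nat_lit 0x0)))) (Tr.node (Tr.node (Tr.leaf (nat_lit 0x512534178771312212212)) (Tr.leaf (nat_lit 0x3541234187331367121221))) (Tr.node (Tr.leaf (nat_lit 0x881573622326712)) (Tr.leaf (nat_lit 0x0))))) (Tr.node (Tr.node (Tr.node (Tr.leaf (nat_lit 0x3391543773237717)) (Tr.leaf (nat_lit 0x56313437873767767121))) (Tr.node (Tr.leaf (nat_lit 0x81454377323677177)) (Tr.leaf (nat_lit 0x0)))) (Tr.node (Tr.node (Tr.leaf (nat_lit 0x415654268733622676)) (Tr.leaf (nat_lit 0x46342173767717))) (Tr.node (Tr.leaf (nat_lit 0x335433413132187626771)) (Tr.leaf (nat_lit 0x0)))))) (Tr.node (Tr.node (Tr.node (Tr.node (Tr.leaf (nat_lit 0x73763762)) (Tr.leaf (nat_lit 0x95845332371312212171))) (Tr.node (Tr.leaf (nat_lit 0x14565426873326221)) (Tr.leaf (nat_lit 0x0)))) (Tr.node (Tr.node (Tr.leaf (nat_lit 0x31437342181787712)) (Tr.leaf (nat_lit 0x1434532822317122))) (Tr.node (Tr.leaf (nat_lit 0x9134571877377177)) (Tr.leaf (nat_lit 0x0))))) (Tr.node (Tr.node (Tr.node (Tr.leaf (nat_lit 0x331582373632267)) (Tr.leaf (nat_lit 0x463767767))) (Tr.node (Tr.leaf (nat_lit 0x465654268733677177)) (Tr.leaf (nat_lit 0x0)))) (Tr.node (Tr.node (Tr.leaf (nat_lit 0x3315682323367)) (Tr.leaf (nat_lit 0x0))) (Tr.node (Tr.leaf (nat_lit 0x4589342286736771712)) (Tr.leaf (nat_lit 0x0))))))) (Tr.node (Tr.node (Tr.node (Tr.node (Tr.node (Tr.leaf (nat_lit 0x412158787666)) (Tr.leaf (nat_lit 0x1434217871771711))) (Tr.node (Tr.leaf (nat_lit 0x5125341787713221)) (Tr.leaf (nat_lit 0x0)))) (Tr.node (Tr.node (Tr.leaf (nat_lit 0x8841543773237767)) (Tr.leaf (nat_lit 0x31533136317122))) (Tr.node (Tr.leaf (nat_lit 0x335433412822312211)) (Tr.leaf (nat_lit 0x0))))) (Tr.node (Tr.node (Tr.node (Tr.leaf (nat_lit 0x335433462873131711)) (Tr.leaf (nat_lit 0x88151236363626762))) (Tr.node (Tr.leaf (nat_lit 0x314373476323662)) (Tr.leaf (nat_lit 0x0)))) (Tr.node (Tr.node (Tr.leaf (nat_lit 0x53465432376771771)) (Tr.leaf (nat_lit 0x0))) (Tr.node (Tr.leaf (nat_lit 0x31571313267622)) (Tr.leaf (nat_lit 0x0)))))) (Tr.node (Tr.node (Tr.node (Tr.node (Tr.leaf (nat_lit 0x8145471867871711)) (Tr.leaf (nat_lit 0x46341771211))) (Tr.node (Tr.leaf (nat_lit 0x346547186782122171)) (Tr.leaf (nat_lit 0x0)))) (Tr.node (Tr.node (Tr.leaf (nat_lit 0x33543346287313776221)) (Tr.leaf (nat_lit 0x881571337862122))) (Tr.node (Tr.leaf (nat_lit 0x8153682231217)) (Tr.leaf (nat_lit 0x0))))) (Tr.node (Tr.node (Tr.node (Tr.leaf (nat_lit 0x41565462132862676)) (Tr.leaf (nat_lit 0x8286342637136771221))) (Tr.node (Tr.leaf (nat_lit 0x415654268733771711)) (Tr.leaf (nat_lit 0x0)))) (Tr.node (Tr.node (Tr.leaf (nat_lit 0x463426787121221)) (Tr.leaf (nat_lit 0x0))) (Tr.node (Tr.leaf (nat_lit 0x958452686736771771)) (Tr.leaf (nat_lit 0x0)))))))) (Tr.node (Tr.node (Tr.node (Tr.node (Tr.node (Tr.node (Tr.leaf (nat_lit 0x15673212362262262)) (Tr.leaf (nat_lit 0x314373421817866))) (Tr.node (Tr.leaf (nat_lit 0x14565462132862676)) (Tr.leaf (nat_lit 0x0)))) (Tr.node (Tr.node (Tr.leaf (nat_lit 0x15328223111)) (Tr.leaf (nat_lit 0x4634532822367622))) (Tr.node (Tr.leaf (nat_lit 0x143426736221771)) (Tr.leaf (nat_lit 0x0))))) (Tr.node (Tr.node (Tr.node (Tr.leaf (nat_lit 0x5152347732636762)) (Tr.leaf (nat_lit 0x5432334712818762677))) (Tr.node (Tr.leaf (nat_lit 0x314373476323762)) (Tr.leaf (nat_lit 0x0)))) (Tr.node (Tr.node (Tr.leaf (nat_lit 0x913426732676)) (Tr.leaf (nat_lit 0x88151236363122122))) (Tr.node (Tr.leaf (nat_lit 0x4134571323267621)) (Tr.leaf (nat_lit 0x0)))))) (Tr.node (Tr.node (Tr.node (Tr.node (Tr.leaf (nat_lit 0x14345673212312217)) (Tr.leaf (nat_lit 0x31437341363136776712))) (Tr.node (Tr.leaf (nat_lit 0x4156546863262212212)) (Tr.leaf (nat_lit 0x0)))) (Tr.node (Tr.node (Tr.leaf (nat_lit 0x34654678687622121)) (Tr.leaf (nat_lit 0x8157713233622622621))) (Tr.node (Tr.leaf (nat_lit 0x143467622)) (Tr.leaf (nat_lit 0x0))))) (Tr.node (Tr.node (Tr.node (Tr.leaf (nat_lit 0x335433462873136221712)) (Tr.leaf (nat_lit 0x463426782676))) (Tr.node (Tr.leaf (nat_lit 0x563134887871377677171)) (Tr.leaf (nat_lit 0x0)))) (Tr.node (Tr.node (Tr.leaf (nat_lit 0x884154377323122171)) (Tr.leaf (nat_lit 0x0))) (Tr.node (Tr.leaf (nat_lit 0x543233428826367121)) (Tr.leaf (nat_lit 0x0))))))) (Tr.node (Tr.node (Tr.node (Tr.node (Tr.node (Tr.leaf (nat_lit 0x4134567321232217122)) (Tr.leaf (nat_lit 0x31437347632371211))) (Tr.node (Tr.leaf (nat_lit 0x913426782217711)) (Tr.leaf (nat_lit 0x0)))) (Tr.node (Tr.node (Tr.leaf (nat_lit 0x515234181821362262)) (Tr.leaf (nat_lit 0x413426736221771))) (Tr.node (Tr.leaf (nat_lit 0x6217322177)) (Tr.leaf (nat_lit 0x0))))) (Tr.node (Tr.node (Tr.node (Tr.leaf (nat_lit 0x46345328223666)) (Tr.leaf (nat_lit 0x95845376378767762))) (Tr.node (Tr.leaf (nat_lit 0x88415468236237121)) (Tr.leaf (nat_lit 0x0)))) (Tr.node (Tr.node (Tr.leaf (nat_lit 0x41345223178771217)) (Tr.leaf (nat_lit 0x0))) (Tr.node (Tr.leaf (nat_lit 0x5125348628137717711)) (Tr.leaf (nat_lit 0x0)))))) (Tr.node (Tr.node (Tr.node (Tr.node (Tr.leaf (nat_lit 0x415654236223677122)) (Tr.leaf (nat_lit 0x3465437732321221))) (Tr.node (Tr.leaf (nat_lit 0x46345673212362262212)) (Tr.leaf (nat_lit 0x0)))) (Tr.node (Tr.node (Tr.leaf (nat_lit 0x8286343681371217)) (Tr.leaf (nat_lit 0x315862317876221))) (Tr.node (Tr.leaf (nat_lit 0x2362342813732267122)) (Tr.leaf (nat_lit 0x0))))) (Tr.node (Tr.node (Tr.node (Tr.leaf (nat_lit 0x53465432321322677)) (Tr.leaf (nat_lit 0x463421737767121))) (Tr.node (Tr.leaf (nat_lit 0x12173717717)) (Tr.leaf (nat_lit 0x0)))) (Tr.node (Tr.node (Tr.leaf (nat_lit 0x34654377323771711)) (Tr.leaf (nat_lit 0x0))) (Tr.node (Tr.leaf (nat_lit 0x2362341371377122)) (Tr.leaf (nat_lit 0x0))))))))))))))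

/-- The word of an element. -/
noncomputable def ws (i : Nat) : List Nat := dw (wT.get i)

/-- The generators. -/
abbrev gs : List (List Nat) := gensT.getD 3 []

/-- The cells. -/
noncomputable def cT : Tr Nat :=
  (Tr.node (Tr.node (Tr.node (Tr.node (Tr.node (Tr.leaf (nat_lit 0x923b3294441f4776dd83da280ba8b24010cf62f6899f48a93fe85877b3f96d88c056799048f49ab2c3f449c80449f4a88043f04aab2ba3b3e8b278d358eb265ae430a83a283e3a8182e82a97c3d84cd606822a420b38213d50c85da82096f3d34cf68f5d93d3734a423d499680a806b203c64ce819929b1eb0e3c44cbb1d58b5c6396a80a9f36d71e7358c63617364a85580573cb8b703242b789ac834287394e51d73d73fab133d73a4ab73c33d70a6c2abd5827426c1ae073f33b4486ff66bad131f6fc4a39fc02f03d86f03304f86e0333bc46e02f314aaa2fc0a483635a03d3a602655e7c70293e18880884d14920912f1a93a922e488c8ee2df7cd7cb4ac36b4d02d456a5e42cf732a6d2ca6092bc0a16072c20222bb5c84d47137bb5bda5652a4df9fe3172b909f2b43e009e2b62cc54824d2764567fc9cb84e23a2539ac6047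d18532382679a968c63086050022398b50798a7fd54a2217fc3c097d9857bd22098498397c55901826897e06f60b4861fa92826157e6792491f62832655829205038601f622e50c7079057e51ec22b79b81a4401de8164462768d10462340150402390831d78b28b17c028282b89f1d206989e26708004a1d189a04c2516968962471d089521c62404e1f880e01421689301429289104a2a389004b1ca88004e25286b1c841c87b4112a687a44e1e27fc1c71ec8774b02068771c62116cd03f2321c605123b8741c240c8634022ab8621c128386027e28685e1c029985e29529c6dc1bd2ac8583fb2ae8411b82b08413ec2b284005120b1c001320d83c01323c1bb04623e83b1b282170182029b81f8111b00678102550695462401ae80d2337d00391a67e60382646ee7e01a91a57df22563c0371a47dc03b2707db03b1f27d701021a7d601028e7d40392a97d337b19879b3856cd27a19570778670570a29938a1901d277a1931b777906919046d06824076606f18c5570182454351db73018127a21132b6dc72317f3331fa46b06817b5ec06921e6ed18b6246ec17a1a56dc3276096db32d1776da3451776d934a2236ce37d6076cd3821756cc3911756cb3972216c70666c63a50091a76c36c260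66c16c01746bf6be1746bd6bc2203a700917269f06622669519263c6941701d050e16a1be66c21e25535216866666517b1b902016306101f16900a45f61663e5d61621b001e16163602216b1c70221656320061671c100616d62e02016e1bc4b76266295ac1601d414a15259227326c2e91335031515025012ea5001331444ff4fe2f612f15315025d2594d74e103212d4e00574df45845711e13e4562d544c44b11d13b44a44922313000422113a05104c11842004b1413cf04013511303f1373e03c23c11103c013e3ad1b31ab3bf10f12b3be03810e3b10371493b038838738610938512638437a3833821091171d61ce35d10512a12510032b32a32932815732710032632532414b1770ff0221751060043080292b93070260fc3063050fc30430312d0fb2fa2f92f82f715601f0f72cc01e0f91142b72b60f62b52b41360030e200a0020ee0150010e01c70040f01c60040e41c10000e71c00000f21bc0030f41bb0020d51140010d8113)) (Tr.leaf (nat_lit 0x8dbabc9d57d175e4137b35a55a10ad93741291eab094b938ab1411ab37994119300ba9328d0af3a4e57772d0498cf74b049576abfa3dadc45a4106f4840a1e7787d285b40fac29ad0a28f4048a5d8f604708090c40eb319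1040d0d096540d85541a8170b95960468179500a006eb2d40cac494db155877ea0a88cc7ec40b5866ba40b8cb7ee0cb8d9b30409908b115ab069784a7585140840e46c408b210687849bda35b0c5b877f0c640771a0bb40741e526900ae959704ab11406a76406753aeb8fa0b8476b3040674fb2e59799f42e68ba036308a9405940aba4056669668467ad5d14030c092da97ad179f8ec93b0cf4027c083e7434015b09a38bc99ca54594ab80458bbb1904559372ca256e34b6957aea8583ff99f4ff0a505a054044a6e9bc3fd0ce9cf3fcb2fa310440a3a330439807668a94e197e3fb3f908eb2e095437add71371c3f860c58d8780cd9b53f795b9a75633f6714b0da0da39a94b2d86107dac88d204293d759775764ae03f50aa6703f5647a837788755e7a719189673f44bf5eda00b14a973f37635dd3f105b5247628366a13f4aab76a3f086f5ec3f0907779ab0801ad23f2a726fa3ee9e19de3ee3f95cc6aa6155bb56405c5233ed6147bb3ed3f65c88bd91a9ba3fba566f33ecb2a9246aa3ea97b9793eab29add0cca82b1a9c23ea9898fda95b28a10a0c9793e85ca3f23e808bb1a098442af40cb9b38679009a83e7b25a1c3e75b9824584b249198d43e59c06f0a98a7f998a4f3e5ae03e577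d88f0ca7bea73921aac042a9e9fa041b23879041a928c10940a96728a1618a813e48b296a6f03e38647ef3e34cca7307e7c03fd88f4290400bb97309fab05e503f6aa76009e9d69d33e83e0571a723e08dc3e3094776a6e6a14956693dfaaa902a89a749bd6a23df76d0673df817852a74a758cc72c4f03ddb194847b68bb4307ea3dda7f7ec3dd0c17108bb0958cbab84843dc99c9647ee3dc915a138bc08782a6139a33db82753682dacd4ab82c3db49d8293db8a0077acdabc3da4cd88d82f82ab1382f96b7406133d999c4bc5b10509539643d93d982d54f830077b008273d90c382e96b0c9a128bc9846ba3dc3d83d883048f8296fb49f96b3d8996acd3daa83afaaf83d86b87ac6c14148453db5a1a203d58216fd6973d47748d43d44cf3fc07682088f0765d9b2282303eace03e822b00774075a5f99554103e6694f074a79dafea7fb21a6f3d379cadf3d39bd9c8a2f8fb7174753d20b6b037db8ea8b77f43d27ca3d2ad7053461b1a4f57e13d2073ad58ea09c950b1bb033d14baaeb8747a58757f73d18363d10b94f54b99520528123d0a778115624157246d69693cf57056c7c1ae1a7eaebaf23ce8103ce6bf8155639858157758dd03d3d694203d570a308126d66db0b0489a107fa3cd8017fe3cda65aa948904c03c4bb3cd5475316778068097a23c98046d5808a264a28073c94948053c9974073a2667480796dad73c880cade3c84ce76c80b8069c580b96c6908093c77f13c78087a780c0738e88043c7aa680a96c9f63c680c07b80596d07aad249b6dd3c5b1fb0eacc95c8d89353c57700c13c580f85095cb083c4a22520a9696951c)))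 (Tr.node (Tr.leaf (nat_lit 0x52a6211f791b91a1f41f422891948526533c0889181f441a2133738ab77020e9177721f31f34857ed2492667eb2631f38e25821f58fd7073231f23737885fc56c9162159159141f191307f1f10879126543a130986a5c530b1f039e30d1f05c431081c68e57965b1ef9116ac53890b3779101ef7c31ef90f75e90e90d72890c1ef30d4ec90b7ae48c26090a48b1f71ee9099011ee0867c29080686f66ac1ed57c2000339077c84081ed1f71ed77972886e5ec7247841ed79202f90778c9066438d16126711ec5d774865a1eb51f57b9045df20b7c21eb6588d18d87884068981eb1eb90378076590276e9011eb8de8b15df8d39008ff1ea8fe5128fb1e948d76e48626276b2601e98fd57e1f98fc81a7f41e98fb7e165624a53b8fa42153e1e861e65f1e80216413d28f956b7a91e78f869e7338f28f78f61e78f58f41e765f8f38f23675728f12098f08ef1e68ee8c11e68ed87964d8ec8eb8ea8e98e71e554b3c269e0175487bc3c07fb8e854d0178e705d0178e654a7fb21b2435917f675575d1e46182e61e48e58e45975e02d13d61e38e38dc2cf5d67856411e358f5a76e57f53116dd1e25a66d51e230c6d08d90858e26498e141f1e11e11ee8e00481f08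df0848de1e18dd56f20553c4228dc0165398db3838948da53e01641f53b01621653a8945fe5978980168d98d824244144506b1e04408cd27559b8d74431e08d60521e04f227759b2be4432783e41df4488d524789a1df5548d42444472766a64451de49a8d384789b5ca4991de1de2758d24482778c21dd4488d00522788cf2761dd77759b1df33a8ce7b91dd7627e86424383648cd1dc4350822793358cc43a1dc8cb7a48ca1e08c98c81dc43c27a8c73641db8c68c58c41de6ae8c31db1db2798c243d27b8c18c085c1db5cc4a97e58bf8be4a58bd7e71da1da43d8bc03127c8bb8ba8b91da5652da6458b84e153e5598b71d96fe8b662c5618b51d88b48b01d85608b338b0811d78b05b00788348af89f3715847291d68ae68a1d686862f4ae8ad8ac1d58ab8aa38a1d48a98a88a768b8a268a1d406f8a66306b18a58a45ac59e8931d37198a31d352583c77a5903315a81d28835a01d27288a28a18a055342325189d4151d189c7f97645fb89b4a61d14152a38991d029269d1d02168984261f889753e5457451cf44c1d74602457d08941cf63e8922676227291d201407f44f44b6685d81ce86c88f3684d471b1cd88e88d1cd5bd7b15bf41241888c1cc0493442a45ea88b4131cc88a47d87588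28898881cc4111cc8872975ea64c4132a629c1cb41c8862d663663465364d1cb4c38801cb8858844c04262528154241ca8838828815fa8245a01ca41b2a587f4181c93f71c92a487e41c29738f0491c987d4192a587c2a51c834f5ea1cb87987834e1c87d07de5ce1c71e586f1e11e88761c620887620520a8754034073441c50458732a75ee8724051c58713a97ca1cc6b63061c54021c51e52aa5ee87046d86f1c56f686e7da4052ab86d1c440c86c46786b63986a8691c440b2a88684071c386733e74c1c97456bf1c31c32a738f40c2aa8660451c38654092a84a786407e1c31d75af7d96b050a5f86297dd1c2)) (Tr.leaf (nat_lit 0x0)))) (Tr.node (Tr.node (Tr.leaf (nat_lit 0x14e28d5a72833fd5a604414e5a55a41505a35a25a114e5a059f59e33543556614d36459a18143855d1da14d59d14d03103636343a59818f14d20743c43859c59b44059a14c44558c4464415991dd14c2b014c05259843f44305d1df14c59744744159626c27159514b26957901c58559426e14b59326b14b35126a58550526e29049314a27431a21a0395911493b314d3262bb2b658d3f614927328f5902711483e958f58e58d58c3e814814801c58b27426a56b26914858a27228f58927226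c5881471523f114727458726b29058628f1474ec58514a05758404f14758342005b58247b58114648257d05547e5801f314657f14903b3222a93b714614624950047a48057a57e46357d14548b57c05648757b1e91451ff14548657a4624703271f91452f348c4875162592275791442545780194ed57725b14457657557414b57357214425d29157122714357056f56e14856d56c14314301956b25e25656a25414356923029128a5685671435663f92f523025956514215356456303d0245623cf14214225e56125829356055f55e14255d3e005c21604a14c14141555c14104e1452a342655b55a55951b55855714055655555455355213f55154913f55054f54e13e54d54c54b05d39454a13e5495483c13a354752c3ca54639613d54553a13d46038354447b1f453f05526313c54354213c5415403bd53f4d12c144404d13b13b53e53d53c53b52f53a13b03253942153853753644453551413a53453313a4553b63bb5325314491394bb3bf13953052f52e52d3ba52c13903352b03c52a20123b52913823215b23903f52820d13852732a4d42b752652513820b13852423403f52320d04652213723f5213422b82dd52005c13713705151f23e20151e51d2f013751c05b2e351b51a2c4136519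13e5184df2c951713636b5161362f05154df14a23c20135e13505151451303c2c839613913513523f51220b0465115102e450f50e4d81342581441342564ed50d50c50b50a13350934e0544fe5085071335061365052bd4fb5041334fd4fc4fb4fa4f91320534f84f74f63491314f54f41314f332e4f24f12e04eb4f04ef1301f514613048447e4d325b2934ee12f25e4dc2911420264ed12f4ec4eb03a2b84e83bc12f4ea4e94e84e74e612e22012e02c01513c05a4e54e412e4e34e24d201513102a12d13405912d13d02722313f0584de4dd4dc12c4db4da4d902402f4d812c30312c2eb4d74d64d54d44d304d12c4d24d12bb3b81a845612b1b14ce2a90384d02703b412b12b1aa4cf1a71ad4cd35918d4ce12a1d538512a1cd4cd18c19a4cc2a304c12a25242344a2092114cb12920647820f4b04ca20a1294c949247d4ba4c84c71292081294c62074b04c520a0470311282154c448e4884c34c24c11281281c64c02142094bf4be4b81284bd4bc47c23e04036f23b1274bb4ba4b92b53863bf1272321274b823c04046821440d4b72111261d512620f4b621520745b2061264b521240d4b42122094b31251c62791252154b22080474b140d12544d4b01284af4ae4ad1252c92dc4ac4ab4aa4a91244a849b4a749f4a63ed1244a51272394a423f2341241244a346e4a24a1495))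 (Tr.leaf (nat_lit 0xa5063f834a9984381e63e9d6b017769b9813a7a6637e7a7763d89da7663d696a796637e6a776817e263c68089963c65d772a7d658898a7c65889363b65d7d763b680890a766817d4a7d6647dda7b638815a7863886ba7c6647dc63664c83664964e86f7698366356a98378eb9eb67584263267c83d85066783ab1fac56310d197ab3162e8ba8558c79dc8fe65a62ea1b70081e7cea94b3b62caa08cd83985f62a62f09d0626edb2c7ad7e0975b07627787b21781a6866a89ca676257e8a666256eea6566a89aa6768769d62467f7e3624661897a6b6557e1a6b66e883a696237dea646237dba6a66e880a6a6557d662266180e62267f7d3a66687891aca6f37b86219ba79fa9bb0e9cd6207ba9dda586206c2b3e7af7bea9ab099dd61f7a279e9a461f820b267946be752b3c7ad9d17c161b87761b7fa8f261d791a3060f99eb2f610710a87b268af60a7958ae60aaf6986794ae597aa86b3e8ae6087b098f7baa8badca616086e4608af197a7afae297884c91b98105f9bf6c80afae89d48ee6f45f95f89a1aa58ec9b48639f8ad65f9aa36a45f50bcac45f594eaea8a69c00ca63363f5f49a85f47be6eaa7f77d96f8435f46de9190caae25f39a0ae394b9b687bb338fd7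f45f28da93e5f2a8265ca95b2993966d5f26709240cc721732a448f59e609d5ee5ed9316f39579d75eca80a365eaa0b09c8f774474a0b06bf5e90c66ac760ac6ab15e59370b10c0ade5e49e6ae95e4a8e9c592da4a7827029e05e2886a0aa9b0745daae56fd076b065d89239919136f96f75d578f7af786b135d4b320bd5d20856689ecb2c732afa5d16a0aa65ce71187a932688b385cd7fa5d39287fe7945ca0989410795f78e35c98f07077229f37237b48595ca5c860c6ae5c79c3782ac68c97ee0ae0adad85c6a0bad75c677e7ee937a4876c9769df5c486d9e4ada6e4b2fa1e5c36119575c385e904610a326595c2a3372c611a319a660fa32b155c185ea1f0a35c1ab2a5c5c3810a2d62a81d5b78cd8b07770ce9a762a5b56375b59cf68fa2f9bc7f08cd5b5ae17040ce9870ce5b4af3aa05b6b225b3a186f7aa26ae9775b2929977969b186a50785af98c96a07e6d28f50c596b5ed9585ae79380a9c996d80b5aa5a871286293c684aa75a979178d9e5ae45a7b2ba809f65a5a04a12b1e0c79eb08f8005a48c3ac15a40b56995d209a8248bf5a2a1c8ba5a15b9a3188209a88ca1c5a08798f7881a348f709a5d959f5b996b59fa205e7a1e8456f388159fa70b255a19fb59e7b15a692088db3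ca8577c89f8c359aaf559a0b56fcac0a2a9558c459a8b55b377cb3778a5a35cf598ac69caac9ac70b48c85980d18ca598ae95c7ac7ad88318cbaa37c559494ea05594a238288cb8c80998d37705f758f7f409858f8a48488d380f69e7619337fe92658e7bc8a558e88d91da9585958d8a561471c71958c09995508b848903a48a376e558bb2b94578fa430be7e2589097589ad08945d57d75d66b25889e70ba5e66ce72c7eb0967b6587acc7105879f7b197eba02ab87ed085a1258608477ea235857b30ae7b40a86835845b8637868918581a060d08899d86aa5807390b49387446a6aae95957f7d3854))) (Tr.node (Tr.leaf (nat_lit 0x655a692eb625a6452467a67c5c62ea6753c848a9eba9b67b2eaa9a67ba7353c2e967e52e67d0a595b67c2e89582e848a5b267e6779ee6752e805658a0a5376a999ff2e85f4a9852658a67a80d2e76328944b5a975cd7d85ed2e72e767e794679a737af0a52e780a9eb2e95a54b49c92e75f35285d5508906a902e683fa962e646a8f47430a90ad506961a962e5856a4b2e54c40ad9a30aa392661a665212e3a672e68daa9551ca4b3ea2e20244dba945104dd5617013789112e106a8b82e3a6a51e687a6b2e181f5438b82e008a83841fa3f2e2a91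9132de3c59332dea90a725208670a42f45993b1023023319a8f35331b58765da762e52dda775222dda7c2e0681a7d51f9416273992dc4b7a8e687a654bb66ea682dc2dc5bf9bc6266289838e3617a8e2db45f45c2db5e098361661e77d681a792db664a7a36fa8d9dd4992da8c7a4c2daa8c4929dc4dc474a702da70597a8b94699924f0a332d95410ac638a7a468680a792d96fc31e0ac2d837634c49e2d84613787034b9623a682d867fa654b864d6504772d764a8c4417a84a8b64e2d7a8a64c2d799364ba844804957692d7a896a34ba64e0a70ab2d66543394912d92d65439954c3653a7538a6502d57cc2d541745a65464ba8864a2d5419652a755d065264d35f2d46369d22d4654a8764c0a7a86a752d4a85a842d644fa839493972d372ea808569a35174b32d33622d30aaa829484c49685f02d34349619a393ba818e5a802d26127332d20a99688e446a9345f62d243e90674393845245f6b92d16179655d68e39c761e2d13dda513e536e9ffa7f2d19b83e0421a7e55e021680a7d5142d0a7c2d3a7b2dd03aa7a2d0025a792d03cfa782dd3b17120a89102ce5ab6c95b872a9506822ce4062d0a77511658a762ce2cea03a2e5aa93c73a0a764b0a0a754170207110a66c92cd5d0a745dc7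2b9176852cd4172cd9d573a5cf932a51a7367709f0a548a01f8a98aea722cc6af3f986842b05b6892cc2f42cc42ea6e07d8a73d4a71a7009e97956501e4ad4b79652cb6279bf5ac941a6f6282cb4329994fa2d10939842cba2ea6e2cb5b6a2f5134003b13ae9ce0a401d62c6605194b72ca38c2c962d35b5bf662a6c6602c952a94101d08867fa6b2d22c8a6a35ea692e304da682c802e2c8a672cd655a66512a652c83b0a642e3420a636cf2c79fd47f51ba6238d54e8a8a612c6a6037c2c68a2a5f55464065e54445f2cf2c556ba5d36d7332c42cf2c48f637e8f98f454c8f32c4a5e8f8a5d5554c27c83bd0897152c34bd7c32c35b175053f83f7433bb4542d22c22c16413b95e065f53d65e2c10888e30213055c034250d84e7962c0a0d3262c084d7b450f82c6fb2bf3da8304fb46a6442be5f65084f7a32a3432f2bd8c250aa33a5c3356e42bd59b9c62bd51da31a5c2e45ba51e4d39649562bc92555b2bc96392b4eb85ba394da2bb7144a171c3f60577b42bb2fca5b9a44d2a5a7922ba6062ba0a30612c302da59a582baa577ae4e80612be0a22b92c002b2b92c50776092c60289ad9ae4a12b874d4ee75405c0917962b83175fd6002ef2b75fa5295ff09e59f5fe2b75ed5fc2b75c85fb09e2fa5fe0a055c2b6603591))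 (Tr.leaf (nat_lit 0x0))))) (Tr.node (Tr.node (Tr.node (Tr.leaf (nat_lit 0x3032432e32d10032c3233223153213200ff31f2e10ff31e31d2f331c31b31a0fe3193003180233173160fe02f31502e14a30f3140fe0fe2ec2e93133122f931131030f30e30d0fd1740fd02d00a10802c30c30b0fd30a3092f200a10102b0fc10402a0fc10a02817710c0273023013000fb2ff2fe2fd2f42fc2fb0fb0262f60fb1412f52f42b62f30250fb2f22f12f016616b15a0fa1612ef16901e2ee1670fa2ed1650fa2ec16301e2eb2ea2e90fa2e82e72b71670202e60f916f2e52e412c2e32e20240f90f90222e116e1662e02df0fe0f92de0232dd16e01f2dc16b0f82db0f816912316f1632da1610f82d916d01f2d82d72d60f82d52d42b516d1662d30f70222d22d10212d02cf2c10f70f716f2ce1650202cd2cb01d0f72ca2c92c82c72c61090f62c52c42c32b910f2c20f62c10f62c01002bf2be2bd2bc0f62bb2ba2b92b82b32b223f2b12b00f52af2ae0f52ad2ac16f2ab2aa2a92a82a70f42a62970f42a52a42a32a22a100c0f32a028b29f29500729e0f329d0f329c29b29a2992852980f32972962952942932562922910190f229026a0f228f01c28e28d28c28b0f128a01b28927e28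82870f10190f12862852842832822810f128027f27e27d27c27b27027a2790f02782770f027627525227427300b0ef27225c27126823501c0ef17a27001026f2641a50ef0ef26e26d26c26b25a26a0ef1b92692682672662652642632280ee2622610ee26025f25125e25d25c0ed23001a0ed25b25a2592582572560ed2552542262532520140ed2511d017113213c2500ec12e1a213a22024f1340ec24e01701223724d24c0ec1310ec24b13022024a1342232490eb1402480161cf2472462450eb0eb01524413f1322432422330eb2412401a923f23e23d0ea23c0f323b01323a2390ea23823723600522d2350ea2340ea23323201319313f22123113c0e923022f22e22d01b01a0e90e913a22c14013018412e0e922b13d22122a13d1322290e80152282272262250190ed0e80e81402241312232222210e80082200eb01821f21e0e821d16a21c21b01121a2191af0e721800d0e72171d32162152142130e62121ef21120521020f0e620e0ea20d20c20120b0e60e620a00f2092081e72070e600d2062052042032022012001ff0e51fe1fd0e51fc1fb1661fa1f91f81f71e90e41f61f50e41f41f31f21f11f01ef0e31ee1ed1ec1e11eb1ea0e31e90e31e81e71e61e50171e40e31e31e21e1016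1e01df1d11de1dd0e21dc18f0e21db1da1a61d91d81d70e11d61b41d518c1d41d30e11d21d11d01cf1ca0140e10e119a00e1ce1cd1ac1cc1cb1ca1c91c80e01c51c40e01c31c21a41bf1be0061bd1ae0001ba1b90001b81b70131b61b51b40df1b31b21b11a71b01af0df1ae0df1ad1ac1ab1aa0120110df1a91a81a715e1a61a50df1a40101a31021081a20de0fd1a11061741a01040de19f19e19d0ec19c19b0de1010de19a0ff17419900f00e0de19819715f1041771960dd10d1951941931921911900dd0dd00a18f10c10218e00d0e10dd18d18c18b10c17518a1080dc1891881870e91861850dc0dc10618410d0ff1830fd0dc18210a17518118017f0dc00c00b15d)) (Tr.leaf (nat_lit 0x89cad14e09db4ee9fe05785d9b58b855a9b30835040594df5050a24df51905898a51a077a8284b4dd9c2b339b065aa8da5a4dca71a5762e4dc84b8b9a8c84857b0c8a574da7c64e77d44daa2a8be927a294d77d65baa35b08925b3899e4d6a6c79d7130bb5255d19ec4d480a4d483c92571a8a34f18d453f9188964d2aab96f4d29f589a53f0af89a4f28ca4d150f0ae4d1544a509715540754d05be6bc6c67ab4cfa268049cb4ce80979b4ce8054d87938077974cd829a1d82682ca27a285b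09564cc83e748a298008924cb0c78148fc4cb646b18b1e6438898556d30884c898d50a867a897d59ce4c85818886414c787562d60e82b8324c675baee60d95daee4c57239948870b74c559c9a2993645a838bb4c4670b3592b92ead27234c292953d9d0543b35b364c295d4c257c55b92e6b34c108909395e9635b6ac58014c193480270c85a9b68864c09a067b9b55f3aac8e84c050b4c05285e50cd9c9a009d7a2767b4bfb157ffa497d8a348f54bf8617c360e6fb9554be96a956090a1875b4bda0c52fae64c2adfaef4bd82b4bd6c451e0909117a68168c44ba7f84cb7a54ba708596b1b6ff4b98748818187a6639885b127cc730b204b7a5206ea134b675a9f04b6873aa90bc0acb107718aa5d091c8ac4b5a4e9a78ce4b49b587d9a00cd9825114b49104b3506aed0aa6488cc6464b38f1a835f050998d55154d4e94b2ac74e64b291698c55108e988556a0b4e44b18f64e24b1b2998755607f0d26e34b0b2d789b1b4af7e9811b1ea9689f6264ae9bb66262ca3b98fb164ae86773e7cd4acadd4b1887adea87b124aca4d9a24c39e27589cb4a885789b7a0a256374a75ab6838bf8657a164556489c4a64a6ae0b350ab759adfab1af0a4c4a46ab4a987da016427604a47e4a3687ea460ae58b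4a25eb89c49e9867a170580276868a49ba909b795cb1f6436fa49b73649bac59dfacc667a0fa3d63387c5d06864980c57d94984b5a498ce87c79a7e458889d497497996af84f57218d04c595eab3925960496a448664940b156a9dc9844f98b9b344fc48f7c860d70496048e4fc5e689d48e6d179a4bea9608f960072a2948da3c0b05d7761aa90569cd97748b8bf6b5086489a0fa9a7ffaa85e392e4c197660d488973a4bb3348db2984b485a9108548507fa41706a88aa4b0c9f8483aa99f9483ab8841aa4ab7a1a0c90558a5b105417b76a508a8ce6a7482af06aa48287d6ac090481a0ead988eb0f5c594c0c24807737184c647faca7da6f5a568829fe47f0c284c6cf0b8a4fa9948777d84447e8554c7693a0247d97247c7dc4bf8adad46349ea9edb0456f47894647856daf99ee9bb8318de4787e55cb9ed89ba416687d54770bd7d28e24777366f9b3299790d47495390c9f766b47387694a57990e63a579b31af15384726df4729107ea68e90cb214ec472683911b319b591190e7cf47187653eb314717f29f74736938ea0b66ff7f67174706ef8b18b446f9047098700b846f59775370885146b6e29fc46d7f2642a818cf46a672afe7e4998afe053756af89039090bf4685d7a33748086a0c9044669ea8b146683851f0866c451f7659c646546fa938469b486c4649a188e)))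 (Tr.node (Tr.leaf (nat_lit 0xa007e82656a87b94914620569ff26248c0936f39fe2669bf9fd2625ec46e2627849fc95e9fb7e74699788be2619fa9f926369a9f82609109f727490f47425e6c93a625e6c73072ff87b70e5bc35c9cc25d87a9f025d35b9f64d68f18df71525c9f53729f472289509725c6ec25c9f37119f28f09a19f125c9f045b7229ef77683a9ad9b89d425b77581425b3d08104de91644d4ad25a9ee5319ed9e89ec08425a9eb25a8dd7599ea9157569e925a8144789e87d58f69e726c61d45e2599e692d2590625d12f79e59e45109e39df25808e9e25312579e13704a907c9e00962579df2575f17569de09527c43462e50e9dd9dc25693b89125679e9db84e3d681285a2557249d72558155ef6d632f3364329da66c88b7c42544319d925488a9d89ac8dc9b99d72539d69d59b763e6b19d42530662535293369d309427b7595ef2529cb9d260095e48e25171560d5ff8b797e79f2507667994339807ae0572509d12508b89d006f5957c90322505429829803775e394479e24f9454aa7515d361b4e224f7b344496f61f50f89624f24f9874274ca9883e24e424f7bd9895d39cf5e29464aa24e9479cd24e98c3e24c998d9ce4e924e7c09905d482a3bb7f024e50d7e06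204577fc6d53c224d9478be8c661c7c69cd24d24d3c09cc45854a7b645654b31624c0594d87165d478a4e624e24c24c4589ca05d7fd9c980d52b3dc24b5139c824b52d3d103c5308fa8945399c824a4229c74f289624a4d396f61e64f9927eb24866995f2d99937694ef24855724865992049181f9b22e02487899959939c650f97161924797224944b46090c42224643369c9c561795f9812462463839c444c53a67c53924638544a4609c344a53c4cc24524a6bc24544c76753b5459c290f08024547368e6c608c7218d52449968a77b549783032e2447742445225967207267f69c17568a72439988a179b7e49c03492434f952e5138db24252b3d739680d56f5302425685315469bf51324178469b9be2469549bd24124139667c53252c3c352b24177e4bb5463994bb52e6c024024b9bc24053277b52d5479bb9ba6f224047f05f6269b99b86039b755d23f9b66736819b595923e9b48e923e9b38fe68723d86c6788a39b229b42923d8e99b19742aa9b085367f9af29d23c9ae84e23c7542886807214f36647b553523b71f33623b73535f66e23a9ad6675bb5c08009024696639016ef2399534be23975060e66a9ab5de06e23876360f2389aa8005dd5e166d4fb51862123751525051797c78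b5052377c15042377ab51697c62850598a76523651b48623608376451a4fb6475194fb25f2350836ef23551b69150498a6e14f424423499749763d53054762a23353273c8eb4646239a85f823294a4c02329a75f363866c2e27192314d956955497061453f8952312314d58bd0242eb56554e7f12303bd7df6155020549a622f4ff75f50799f95a50322f8ff73e59961196640022f50122f94850099f8e474361271d6728e522e22e05a9a550b5029a49a372e22e67094972251a97d27251822d76351522d72e51997d73150b98b2fd05401b29101b5079a250c5007534ff01b79550998b78e50950237201a05a263)) (Tr.leaf (nat_lit 0x0)))) (Tr.node (Tr.node (Tr.leaf (nat_lit 0x19838279d38837d79c79a6f819879979861c38537f79719702b79679579479379261f1971973885aa0366ce5cf6cd19779179000e78f78e78d19778c78b78a6566fc76b19666b7872d86ff55731d19647319665767949e7017862e11963457036ff78978870678719570b78047970847d3201953a932219557570c70850036836e3e619436542f36d77a56836a19478536719465d36677a20d36a38b73c19337163f19319907137036861d3556924861926931960631a32367816c619237038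a78436e1916b97837827817806b819119136d77f37136641e36519145c36f38a77e36f36877d1901996c019037177c36738b77b43a27c77818f43d77627a1da4f933518f7771926966473a269718f07071f77618e7347757354a577432c18e33e18e52159c71e72764b33818e6257364a523477377219477177000d57776f19176e76d18d57676c18d76b6c862776a0671a77696a218c18c1d67682181d87673516e019518b6e276518b6ee18e39c6f07646982f52a018a2fd7613a269076336c69418a18a2f77622f42fa7606652de76118931858a1893127600232ec58839c6eb1893586ec27234734c75f18834472d34a74f3ff34818841073b59d22f75e40f18834618875d34574f75c3486da65718735075b73873175a75975818718702c4e434f34775753322b18775675572f34f6d975434c18631818634a75335034571834418675234d6d975134d34775018502c37518535041c3466da40c6d918570e74f18774e74d5bc18523a61506e74c5e974b18474a7417497447486bc1844ef18474772574674573e6be18436040474474306d74274118306c74073f73947e6c018332018306b73e73d73c73b6c218343f73a73973873773665018273573073471e73335e18273230f6ec73138c6eb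1821827275624a552155d36318172f27c43c6102f269418138969072e32903072d18032572c32d70f72b32b18072a72958318872842818032818072732770f7267255621807243d061153622a72272172017f17f02d30b3323294e936018217f71f71e71d3326db28f03000c71c71b71a18623d71900c00c32d71833332771732500c7163306db6d733032926000b02d71571471369a26f61400b00b3337123286dc7116db00b71070f17f70e70d70c29e17e47970270b7055ff37217e26417e70a70970870770037317e33c70670570406a70370217d2d848a17d7017006ff6576fe37717d6fd6fc49e6fb3133183e917c2de6b03166656fa2ec17c6f96d16b22716f86f717c31217c6f62df6656f52ec35334817b31c6f46cf05f6046f36f217b17b1896f131b31354a38c6f06ef17a6ee17e6eb17a0686ea18b6a217931659331c2df69c2de1793c23193526e94516e86e71786e63fa6e54756e439d1786e317a6e26e13376e01781786df6a85a76de4903901783a76dd4754714506d83fa1766d76d66d54766d43a017632d1766d34905a66d26d13a31764c76d04766cf6ca6c96c80093de6ba0095786a76c56c46b56bb40a6ba0086b96b86b76b16163a90081900086b66b56b46b36b23ab00821e5e86b168c2f82fd6b01732f56af2fb6986ae2fa1735cc6ad6ac17c6ab6aa173))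 (Tr.leaf (nat_lit 0xa94b21b14acfb070a6a61a9b0c7af1a59ac5aa19bd0cbadb9beb25a9cabba1ab1ca5e9b1b07a6f09899eafe0c1981aa7b23b369949f3a8f981b25aed9c50a8afeacea3d9759a60c59c59c7a179efb35092b3a95f08faa6a8f0b595fb37961aa7ab993a92c0930c698599d0c3a9597baefa4d9249d98e1912acba3f07fb0b87690dab090b90fa718988fa09b86987009da5c8c288485ea34ad58698d1b1f0b88d985c9430acabf858873ab8a6d9e60d1a3e0c007ba9fa0b07aa230ad0b40cc8daad084b8fd8a4924a4cb1d8da84a944abbad9849af2a9d0c7b00ada9e8ab5ac3079a5fa9a079af6a5bac1a1b8f7b3d845882b390caa98ace8449ffb198e00bfab784088cb3aae6aeea2b9beaa582181ea6c90e9a6b3f86e89794f09d884887073a72803af40c1934b2e942968aada22072b179d1b1c072ae1b0ab29b3caec8d9a9db1d7f87f79519430b98189f9ad581a84a0b67f5847a06835b247ec8628b2968a299b07e908f9ae0c89cdb1e7e78c68c37dd8d58e10a49408dda979588737da0c5a318548f5ab69d77dab3f9e0a4082d7d79c499a8808877ca93e94f7c786b8707c78d88faaca89392094d7bc88e8f07b191d0978998a50d27aea86803ae2a620727acaf79acab67c98597d69e58ed7a986d9220cf79eb3289c7a09edad9b1daf07c1aec798792a87ac0ae5a6008b0c69768017919e39e1aceb3f790b3ba6c7b2b04aafa4278eb01acd78d7a37f8ac3b047f578cb0508bb06b02916b0178c81cada9a5818adab047b778b7a3af078bb067bfb03ab5a7e9a578b82ab2778d820)))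 (Tr.node (Tr.leaf (nat_lit 0x86dae45be4d77913680ad09c367a04a3652d919a5065ea988423666aea178e3ac1a193655cc09536507c5f152b03436f42938b3709e36f6851ab503346caf67bf73b856878af53649cfaa0363a2e5b743fa7e8393645719b73613ce7253615708118578208235363d55db36091cad49d235d7dc4b30c247c3b48aa35da7a35daf4a8694cad84b28ac35d80271847ca11af388a7fb8b335c8f235c9d84668d09d94638b035c83772d88a88874b88ba368b535b80835b7c44638cf9da3786a985298835aa89af235aaab7c2a746515426fa0c13b8ac59353596f90873590bd8e153959555aaf203285daf14667c23585d79015188577383579d24255175e151d50585379735543e7d38537b7aae354928aa83563cda0f35393883b354af0a463529bdaa550caefaee35034e87f4c87d27bf4727e54558c19984f634d89b9d234dae05ef8d295596434c4b85b10bf0ac94e59b6e3ac834b34b93a58c55c85756d9d234badb93d7f9aedaecaeb34aabb691adc34990556d591534566455349ad39c14f8acf5235c0aea6049ad3488d8908502ae986a347ae1a9dae8a5ead93469874e53465555e3ac451e619a934bc4c634534334dad46da34f869ae7adb343ae669b4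fe5bb6056f53429ac889746749a8d341404ab17c46fe4fd76c87a34174534181f6bea478b17476bf6d234074cae57c26ef96a9034693405e96bda8174933f73433f6bcae474c6be7fe40433f3af74a6bd4226bd33ea01a473408b967164233e5086188646c0abd68806b33d6849d09943419c5aa733d7c970933d782ae382c06b6c3ae233c06dae13b194033f50a8d533b33b6c07fe06d6c288d73a33b51306c6c136e3b08db33b34e7783da33a06d63773c6c36336c133a49fabd33ca019cb4a633a34b7649c04a5734adf33971f8bc35e0709347273399125213390c03600708f472736174733873707461d0a264445d8f93380620b1338a4aa3e4f40ab7f95045ef34b33794fade3394c3add0310bf8ee349adca923354c46483345f050650476d87b3509d98b43337ea862333a07835a326865ce8ef7a86343326835a83327a7639aac42042f3da3318a14fa33158447289242746c73635f9fa7343363309975353309964f38f13cf3d64fa32f77533f32f56346c8143cea89960963a3a488089030a3a5725066d457432e32e92fa4b522537a9153532e8d608c4f4ad332c737a91521361a9035f32c8cb070338adb483aa332c98ea9e5085c8a0d32b60b85b6a48a341e3c832a9b15e49739ecad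a86c32aad99b232aa0d4299ec51077091c347ad88ad3297f490a329ad781c5c298c4eaad65495e232855b61a3274c14c55757bb60c6a93268595950607b497585b3267835aa5b8aa463aa253255cf5dc325635a3d5738338cca5ca06593324324330ad56dc332ad48b38d63249d857734370870ba8c323706ad137278895c70a3238e270a3746b332270d58170c0355b670b32106cad3ab79097ac74032132137290870d373951706321054479035a3a32070d923707374ad203532093678832265aa2c5b73209bcaa092b3756568c570131f8c05927d7323a43ad031f7033763d966b31e03eacf9a6321a6face31e)) (Tr.leaf (nat_lit 0x0)))))) (Tr.node (Tr.node (Tr.node (Tr.node (Tr.leaf (nat_lit 0x10a10217e0db00a17d17c17b17a1791680db0db10d1781011771761750db0091740dd0081731720db00717117016f16e0f10da16d16c16b00616a1690da1680da1670e31661651641630da16216100616015f15e0da15d15c0050e50f015b0d90e015a0ee0011590e70d91581571561381551540d90e40d91530e20011521511500d914f14e0fa0e700314d0d80f514c14b14a1491481470d80d80041460f40e514514412f0d814314214114013f13e0d713d10b13c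12d13b13a0d71391381371361271350d70d71341331321311031300d712f12e12d12c0f400212b0f00d612a1291281271261250d60d60ee1240f50e21230e00d61220f200212112011f0d611e11d0f80f20e511c0d500411b11a1191181171050d50d50f51160e40031151121110d511010f10e10d10c10b0d410a1091080fc1071060d41050d41041031021011000ff0d40fe0fd0fc0fb0fa0f90d40f80f70f60f50f40f30d30f20f10f00000ef0ee0d30ed0ec0eb0ea0e90e80d30d30e70e60e50e40e30e20d30e10e00000df0de0dd0d30dc0db0da0d90d80d70d60d50d4ac8aeab0f943ac4aa88b98c7a15a719ddb2ca020910c48750880a49db86507eb0b9860ce85fa2c0cfa2ba2e0b39598e888a85a94aab684aa4b8b3b2a9c2ae78fe8e78718468ebb3d842a4f0c8b24a510ba89988e8298a4920abdab48bf076b179780ca7e9969b288fca22b3e7e386da47b089e5b347d8b15b38931a27ae3af57d0080ac27d10d07e2886b34ad0786829af48ad98077291c91ab1fa90b3b801768833866b2c7b5a8ea457356f48ed75b72fb23904a926f49e48e0ae8a0a7679136e88e2a3f98994d7897f3a526e36e083c9b26dc97486c6daa0887c0caacb6d107eb1b7f86cd8748166cbb2e86a91a8989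086c5add8856c58979626b4b1a81c6b47e190a980a216aeb36a85a189daa016abb2bab0af0a15aae8ce0ceaad6a8076a9e6a4aa89f9ad69e492d6a07f1a457326eb69d7ffabd80f928a478eda93971a55adc692937a04970a37a8069087eb2b67177ea3766faea94d65975ab2d65793a89b8ab7319cb65094966f7a08566468c78e56716ab83f6436a66827a7b39a0363a872a8464a6cb6366507fc6857a8b3f9d563588b6326796da67467b860b166290d0ab266606785e9c698aa306e46099e78f397d8777336070a05fb08309f5ff06109e5fa8740a16006360a15fc83c05e5fe63205e60183b0a060262e5d1a4ab30a6da8eb205a5a48819a9f77e8aa5a38c98aaac99c3b305a0a1faa7a20a1daa558e5caafda11a0caef84758cae7a10a3bb3b5745c9a0a8df9f2b0f5675cc9d99e29dea0785c5668339e177b8b383955d8409d69b89f462b4fd57e7bdb3495d4cba96b375b27e9af94c706568c5e70d06044c695391e5ba955ab3a22b18af74af929b369de4a994656885c6d099a99b49d4fd999a8d7207b549a5379976f8a0c499b0958f847b049936694964f199291f61a7239b248e95d9e59670d062647d065616477a918315d87678b546f9029275df903a8ca3f6f99da44f923a0556e5cba0544d9eaaf798a51605197d5170a199d98443d99b4fa9985af7c07f04304cc6ea9f74ec04f8765380c4))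 (Tr.leaf (nat_lit 0x9b35f850b8e74648ef4645275eb0cb9caa70849b2a47aa82a4d4620c75b24629684af4c14617db46481cad588186ab115468d1b3046061c73379c45e8f39cc61b45ea978f49e75a1a1e5a2a48a1db2545d45d87794556b61caec9574b545da27b14a4a8f861c73545c87767145c8f94ed61b0a2585a5d45c76f9e745d9be9f29f472657545b94845b573b109f5a3aafc6d445b8ff5c99f472ba550649ef45a72fafb45a88cafc0af0bfb0ca549a88ba4599b38659a10cba745124599827f58195a290a81b4594599ca59e5f852752595a4b48069b60cd4578ff4594579b40cb8c9abe7819c34d07cc456454508acf0a96448d7643454509a815f69fa616453a3b65f64077c0bd5d870c91244f47a44f767af5b32a91b160beadca84b23a9344e0976d444e9f35754b09e89ee99591444d46544d9bbb169ed56d8119d39b745355f83944c6e7af544c87f73b532b29a4d7cb66db2a44b449b2e450870ae9b1cb114499e275346780288b9f68e56fe9f044788a9cc4478b470e7209ce73e4456b0b165378954448239724d3844079a10465442a114bcac485875c7894b64418faae9052467b2e46a76e8b392f87b8b044076b8b544087a8b690691f7b893143e0b394b5b4a2f4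48a2ca6e43d8727b694983571043c871a1243c832a1371eac66f16eba1443b97043ba388e7ac709b7a8a1543ba125a36f1afa4dc65c0aaa700d143a4dab1743a9fb54c070ac15b34bc439a85703aa2ac0654a17439952a19439b17a21ac0acb5c16114419c6b2f438ae8840438a9345a75d07c9e17034379e29959277c693c4360c8a2097757ba9954c4365db4367d484d9cdab450e7ed8317378638284357eb833435862834961a8ca71a20434a8d8ec97965a7440d143492c97e4e066b43355866906f4338ac55a98281b9f68cf6bd6c843298476c4320879f08cfa178d672d48c431af390976f43109570e8d00cc07e5aeb1983e050af34655d774a9029090509cc8d0a2f76d43143058389e4e542f892a5b6898a6a5b42e631a599177184c942d0c2a8b7dc94caca77042d8b742dad84c447caf40ab77242d09cad494c09b07d8686bb63142c85d620ae29cea8baf142c42c62f5376af68a53442b6afa5268b8ae9f1920b0f5c042aa0ea0d0c9481b2a7b142aa105269739ee71b4295d861fae542ca8aaf642742772953459089f83f89e42798588358482e8838a194204f42fa1904f5906db8a08af6d9acb930a7d6b292a426b0b93b42697f936a6b42593d91475c0ab4429714d3a6a97044404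eb0f5bda7b0c959e4240b8467a7ab304494230b74c3423b204aca68972554a9f04d544ac904d50fa928d44f257442144a67754544ba0988d42a04cb10481a797288afaa242059096979f5eba6499156404b7995e604b6f7588a789ec9b182283c41e84291db1090041d0c95b9a0ea1a73d89341d82d064b23a1fae88ed41c5616c80a68d776c41b56076d41b8d676f0cd41aa0274d9674929ab4c841a76d0659657ea93fb204b4962b12419a43afc4189c40c395b4169a2a8a94f0b74cab2041699fadd59cb2f8a042841589f583a67a1fb2591b4145a241a5b9a1e8fba1b414950ade59ca66b1241604a))) (Tr.node (Tr.leaf (nat_lit 0x1a50c9a15018609a098b01a74e99f22e99e08d99d99c22c09374b99b92c92b98322c48722d51761351b51622c22c08272999a62b7257bd22c53399992c3639987553823b622b3c74e87df6123ca7f122b22b75d5837e459168992f99781a22a7b581699672073251422a39722a7266894975225994d289522a54497044608a9959732292d948122981f9949936598355422293409924916fd98697f6057a09912272262306a029325d8f347168e22690d0802683ca7ef60d2257e62294b299098f2247163eb9474c932d54f22498e2257f26084f77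f322422498d9785d498c4a05492243ab9464c94c74b19893eb2227518af9454ca6e355222234a2229884a05d39879865552226a39444ca3a785d9826b80184339810185956b29808b897f97d23501897c23605f4d64d957021f2e23f84d866c6f92eb21f97b97a65b2278c797921f4d521f6b62e466c6f69786b521f8c697760c2eb5106f421e4de5c321e23154a4dd4d696c77f7a90199767e321d21d4d85764de2e49752e221d3c94db50e3c241e97421d97323d0605448d422821c89a60e21c9722224f297160a97021c6a296f2470658e60635fe96e5ad21a6fd07596e5d982221996d07321b96c8082186fb07721996b82d21796a0812175ae83d53a9690729520929682155534e28855e34e42145504e62145e24e98ad2139679668885e775e9652134e609191830996475091c0907c321296371521292e7c896296164621172e66f8ab73093e64f41689721021096095f61a95e9547152108fc95d92595c95b95a41695951120f95895720f8543b29175b195692a20e51e58020e9559546199537ed75020e8d382b5ba8c552d24220d52c80d66195281865120c9512138167f765695020c78875b5ba6557c320e20b62866294f01d62d20a94e8d27a694d8612099317da94c6768f520894b94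a2086738e88876472e57739499482075d49477714ea9462065d39452064e594493f2052128df04721494308f8fc2059423c47f75bf2cb42e2049419402ca5ac58f62d20456f59c89720493f93e0634a24a706d2034a082f3ed07a5564a32035515f143793956708e2034a12030703ef07a93d4a33f04022024ab93c5ef42593b93a73820233635e2027373604369399385fd6ac5802014aa3ee06a4a720048b2003ed9374ab3ef80b4a020060c4a83ee6051ff4ab4e74a13f04e33ee1ff82707a20273937631d1ff6562e193649449882f1fe49008d3f107b3a44961fe39f9359342039338031fe4931fe4433f307b08c5f74421fe58e08b65c4963f49321fd49d9314f351493092f5361fd49c3f292e4981fc08a6a26a92006518381fc1fc3f180b49d3f392d4901fc68d49a3f22710658891fc21358165b5414ef57f64f2e01fb1fb49d30e4933f430a3f21fb92c07b1fd82708992b1fb21055b92a48748b9291fa46392425f57e6fe4701fa8b44702624a31f948d9272e963231f67d67a1f92f980e1f992680f5df7239255fc7c82101f81f725f4fc48d2619194631f751805626036c47e4829241f647b9232285828354801f68326a49221fa71d9211f648026691f1f548591e5bd8934f191d8a41f54842636524821f491c))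 (Tr.leaf (nat_lit 0x0)))) (Tr.node (Tr.node (Tr.leaf (nat_lit 0x2f71735782f66986a96a86a71736a66a568d2fa3566a41723025036a36a260b6a106717217218a3913012f86a03013546012fd0072923c369e17948969d0070072fb69c3022f669b2f500756a2ff3543982ff2f801a17118a69a1713022572f735669935417163069817266638969717d17069625f17069317633469269169017006568f19268e68d68c17029d23823568b3fe16f68a68960368829468768668516e68428016e68368268131b35268031817916d4dd50e16d4d921d67f67e67d01b16c58a18667c67401c48a16c17916c67b28267a67967867716c6766756746736725f666e67145416b6705f016b66f4b36644db4d660f16a23106466e62223866a62416a16a4de66d4d551066866b49e66a37517d16966949116954022966331931306416818918516831c66831235366766463b16866363c23a6622046616605ac16765f1e316765e5d665d65c43416665b65a5fd6594f165854264f16565731f1653776566556546531ed1646526516506491f341716464f16464e01764d64c19e64b16406364a64919464864763d64664516364461816364364262564164063f16245362b63d63c19363863b16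216261e61d4525e006263a6396386375a81616356341616335ce62363163005e62f1d400662d62c62b1604ae62a1606280624ad5bf19d20416018b6276262366256241606236222332bf2c31a115f2ba6212c26066202c015f61f2be15f61e2bc6061ad1e761d15f61c61b2372c060961a15e2c761915e0616182c62bf1df1e316215e6176162472c66076152c315d61415d2c21832c72bc6132ba15d4462c560761261161015d28b60f22d2c52bf60e15c06160d60c60b21c06026f15c15c2c760a2be60960860715c05f60615e00960560415c28823a22560360216c00560123d60005e1715ff00526f0055fe1645fd5fc20c5fb0051a35fa05e1cf5f93e25af15b3e75f43e90415a01b715b5f815b3e45f73e13e65f21b915b2773eb0415f65f53cc5f415a3f75da3f80425f31ae15a1c815a3f55f23cb3d75f11be15a5f03fa0425ef5ee0455ae1594075e94094035251c21595a92640375ed21a3b51591594025ec3ff4055e81c41593ef40b4035eb5ea0495e91584185d91584115e84104135e71cb1585e641b4125e525104b15821642459f29a29f5e41572965c729e5d25e329c1575e22991575e12985d235629c3fc1aa1562a25e01561c05df2a129a3232f05241565de5dd5922a10435dc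29f1554185db03e5265da5d915515529e5d82a22985b32961550352a00435d72a029a5d61541c01af4194125d51c81581541542a25d42993fc5d30431545a35d21565d15d05cf1545ce2ee5cd4ed2545cc1532275cb1f84242fa1d104b15315325850322625b5c95852695cb1522715ca15226b5c926826e32b1f23b51521a60375c82842895c715127f5c62875a45c52861515c42bd5c31575c25c11512831512582815a45c02863fd5bf15028d5be2b85235bd5bc5bb1501501c11f528c2845ba28c0445b928914f5b85b75b61555b55b414f14f2875b328d2815b227f14f5b128a0440555b005014f5af5ae2e828a2845ad14e1c15ac5ab5aa5a95a82ed14e)) (Tr.leaf (nat_lit 0x99ea949fcace7879f7787b3b906b3881e9059a6787acc79da940997d77868f07aa8868edaf9ad38ee7c9783aa3af77838c8825ad3a3e7827ac092afbaf8915780af9905ae382592fab7780084afab0d08fb268a27797a2a5a9ba7de778a190c48db8e1ad48ab8470c2771b1f9d88b48b276f87ba2bb2881376aaeca9c766b3e8a87667baa5790f7600b4b0291e939b0a75f95409979caa1b33adb75f9649c8b22963b39aa67589949ef949af2b0a8f6757b1c9e68139d1818ad975786a861a529af0ac0d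27547538d9a4586b8d1a1488c0be7b08c1a557529be9c80cc74eadf09874eaa1aaab229549fcb09a5a7497958a2a429dfa2499a7d677f746af87400c5783ab7a4eb0ea57a4f7b08a873fb1da9c73f752813a2c75c8578437f993a06b954ae793aaa581d7379a293f809880730a4588473085c0b793f84a72f0af7578798e0a58b3d79c71eaee74e758b0378ea35b02b2771aaeb75271ab0ab2891d718771a147dc8aba377177f5a377db81a809aa40b278e9faa537168198fbb2fb1a7f670f8aa91770faf477374fab6afa720709afb755a90acc70680385096079e99170d86597f06a0c37029e178fa09b2ab3f79d75570099e8e5aff700821b07b38b2482682eb066fb82f98c9336faa07802ad2afd0ba7988c389d6f8b326f29bfb11a6391b8ac09b7a4896a1578a6ed85875a6ec0d206e7df8c9a149476e9a157a3a38a169dc8ca6e9a46768a72b3e95c9336e88730d27518d2a526e6b05b279d36e178e6e70c48786d9abc6e798b77caa2b268c5a216d8a188c36d07858c4b096c887a9f39da6feb2d6c67cd9c28e67ce7e973906c0c96c37420b0ac27bf82e7de87f6c37577c19cfb28b3c6c2ab29ce6c37dd8676bfaa6b356c19819c76bd6ba863b2da058329216b8ae3921af7709b23b0d6b8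0cdad3782b14b27b016b77a3aaf7796b58bd7fd0c89fb9e77986f709087c6b292e0a46b098baba98fa30a4687d74c9396ad06d0b46ad85183b87db316e1ab56ad78db066a86a77626cc0b3a007fd0b37b79ed7e86a6b1e98ea8872a6a484195a8526a3972aaa7696e2aab8389d80676a9ae680e92892269e7ff94d7fa9260d269d7610b2b35741a2569cb3a09ab3669ca3eab9aed805adfb2209a69b75fa5469a9219a0ad6922712a5369aafba8871da13a2a6997d28c4ac18929c8aef9a9b3dae6698a2b7047efa6e77769709c071695b2b7b389684171d7df0b269a694b1cb286d66917529d3691af26d1b3cae16ada8b7b0a43a62b3e67da8a79567da60b26926a7f9c079a6789198be77d6789b4843b246887d9854866b156768f8800942672929092670a4c849a0eb3366d9e0a6fafd859b3faff66c8c18e09010640af75084072f6940be0648956688e172192308771f66793571fad20c16729c7b36698b399d06650c009d6626a0a4465f9dc8ba08d65c97a74c9dd9790868ba65b70d8a87ae8ada9ba586538a2792653a9a9a488565176a7248376a1966aa39fa64d922aac7a67947a293fa5bb0964a7af7ba64aa59b0e7710b58c57f7a197856496496529f90a76538e09488568266489610788fd84a99797ba4c6468e483f0786449067470710ae648a48a23644)))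 (Tr.node (Tr.leaf (nat_lit 0x31e37595106a37790a8d7abf31e43274b48ca425db4ef4cf82331d31d06a9de657378a18acd82731d4cd6139569348509ae768acc31b912a4131b7670854dd31aacb08c5e637e9c189031aa4179aab3a2a4089fc4db77946e31991b9fd3199ba9fe74d879a553180bf0be4d931784ca1c57da63a499fd3173e1aca52a3cb9c38c879678a8ca3166ec3578446e231583e5df51f5169097483156e031503b6eb357a6a6e239cac902e38ca6d02e3515746f0337ac86ee3370b13143518ca31438c0816e039ca50ac7ac63127a45a35bb39d5c4ac56df3110bd59dac2ac38db7d23116de311ac43905c45c16df39f395310451a0b6100a3a58a345c231075a0bc3108619434e46f0358aab6ed30f907ac39a5515aaf78c30f6ea30f0bc6ee3589f56e839e90f6e530e6c76dd30e99b6e639ea4f30d45107f6de39f80370f32504302d0300bb02d32881032432b89e74f3440bb02c34c0a502c34689e343348ac23a05c5ac16d330c07c6d230c3283a35c59f256281030c3d6814a9d6d33a480c30b45054d7229f59a48ef8df30b6d83a19ba6d530a9676d030aa286d73a174992a0ba30a31a799a9c30945008e6d23a4ac09bf91a30931762179279037ba0802b3849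db02b03604737a3810b97b238f9db02a398aae02a3920b938e3950a76c56c73ec30869f9d63a57c763a5783086358b635ba56abf88b3085783a86df0296ca98896e36b538abe3ae0293073a50b86ca3a70b769f3079023de3a6953abd73aabc02873faba06c73dabb33a028a6102873c82573906bab933c02836674273d52ca47404aba02774981274a746a5f33e0273a0027745ab97447478b634002753a5e974696e6b46b79d63065e88a98283ba308ab88713066b330636a3ab7ca641825369306ab7ab64e16b63ac98d3056bbab540a3aa9ab6b73044db7e7927307ab44da3043043a90b76bb3ab0b65e830495e6b93aa70b89dab3304a0831a4e03aa30342b7ca30555e8d57d531c400ab23028a76313023fe8a69aa439a2aa3977c0b5301580ab1a9c300ab0aaf4a491e474a4630046e3009399c15e50b40a983b30084fa0191e84ba74aaa2ff76a49571457f0b3aaf2fe7b830e7e891f9feaae2fe3072feaad0a9a003944437d32fea297b991f9e9aaca5371c4830b22fd3df6519d12fcaab4e283735a3144952fc4d12fca899b3838852686a8ea3e2fb7ad0b14ed0266ca6866c43a8683aa95cd45ea0f2f9458aa82f94240b05cda69aa79ef31353daa62f8aa574e2f852f79c5de57aa9e2f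6aa4aa3326785a212f559aaa258d2f42ffaa1356301a8f694362aa06932f38236922f304e690362a7c6933a23c6025389a9f025355a9e697334a9269736c90b6952f291868f2f20af69636c9f8a9d7572f2a9c9d15156963340ae2f13558072f13890756923a2a2d90e5382f14744ec3bc9aa9b02fe2f09ab4939af05b3037972f00918a642c5da2ef8685b52ef8a75f142b42e9356302ef4f68ae07d4f37a8a3da982ee5dc74266aa64527661a692ee2ee9326a172b9d569f6342ee3f30a65cf5e67a7a257422ed5b85b42ed93c69f72aa0390d6392ed9fb0a85aa3ef663a782ed65da7b528658a7b52363da782ec)) (Tr.leaf (nat_lit 0x0))))) (Tr.node (Tr.node (Tr.node (Tr.leaf (nat_lit 0x3ef1242614a049f49e49d49c49b12349a49949848f4973f11231dd1234964954944934923f312349149048f48e48d48c03012205648348b46248a25f1224891ca42348829204c12212247046d48748647f48548448312105505448247a48122812128712148047f47e24947d26512147c47b47a2d61a43b412128e0384791e61ec4781201e24771ea44e4761e81204754744731294724711201e51204701e444e46f46e46d12046c46b2d71e804846a11f1f10534694684674664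6511f11f1c71c41f01e646426112211f4634624611f040e4601ec11e45f45e45d1262c445c11e11e1ea45b1f11e445a1e211e4591ee40e4091ee1e645511d1c74544534523be2c12db11d11d1f14511e504845040e11d44f44e11f44d4484473c011c44643b44543f2c227511c44411c44344244105243927711c1fd44043f43e43d43c43b11b18138211b43a43943803143727b11b4364353634341ce1d543311a18d3df1d335943219a11a4314013e342205043011a1cd11a42f00d35942e19a21820a1191d942d3fe2cc01d42c42b11911912a42a1d81ce42942842011942704f03429242642511804e11c42414102542311804d4224212b438313b1181171d341f1d900d3c518d11741e1d621741d41c41b41a11641940a4184104172a41164161184154141f804a1161164133d54124114042971162ae04941040f0481e402040e1ea00304720700340d20f04640c40b40a1154094084073ff4062a71151ea1154054044034024012aa1154000453ff3fe3fd28101f0442870023fc29800204329e0403fb3fa3f91143f83ea3f73cb3f62ac1140241143d73d40423f53e53f43f301e3f23f10013f03ef0013ee3ed03f3ec3eb3ea1133e93e83e73e10232b01131471133e63e50413e43e32b211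30343e23e13ae1ab1b13df1121a83de1af3b83dd1ad1123dc3db3da11a3d93d81121aa1123d70113b83d63d53d411203e3d33af1ad21b3d21111b63d13d03cf0213ce03d11111112b2981b51ab3cd2ae1141113cc3cb03c1b52192c51b11103ca3c93c81173c73c61101101af3c51b60113c41a81103c31b321929f3bd3bc1393bb03a10f10f1b63ba1aa21b3b921910f0293b811135a28e3b711b10e03b3b63b514902e3b410e03a10e3b31151f20393b23af3ae10e3ad36b2b43ac3ab1403aa3a910d3a83a710d3a63a52c73a43a33a23a13a010c39f39010c39e39d39c39b39a2d510b39938639838e2ca39710b39610b39539439339238039110b39038f38e38d1d821738c1d511710a38b36610a38a36d38910938138037f03637e37d10937c37b37a37937837736c3763751083743731080353723583713702d410736f35d36e03413536d1072d036c2f136b36202510710736a36936836735c36610730536503403336436336227911b10636136010635f35e3571051d935c1cd21835b21710535a35911903235831410535702e2c93562f63553542fb1043532df10435231635135034f34e10334d33134c34334b34a1033491033482ea34734632a3451032df34434334234134013233f33e10233d33c10233b33a2bf33933833733632c1010311dc10127b33533433333233110033032f))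 (Tr.leaf (nat_lit 0x63fb245827be67857e05f6f597f91a57d6a762157d7c46f26f59d090757cae60696f6aff8c6ab4a1b57b7d4682ad68418e457aa887270b298eb1b92157aa8492257a692a5398e7f390b911aff080579a069da5768058b68d7a238f05756e09f16d49719f38ef0945748f107d8dfa3ab3a9f4573abf5730976d78f19f17959f59f28a65725c99d48b58d794e7c4576572b37aed5729d069c8ee91556f67a9e98de8a38dd914b0b56e916aad974719a3f88f71a56e67458a56ea7367da2256d0849039169e99929ee9ea6a556c5cb9919bb56c9908de56eb278f28f8ab40a256ba08a4aa45aec56ab2c7baa240c6089569b0c5b1791a350b27e35690be569b0877a5a97d65ad0968c093e5f15688d8095568b0884f8c0ad07aa589a95b13a435677a9569567ae4a3593356609699208e84f6fc5650d1a62a8c65ca6065b56592da8da70ac697f5646ce0cf5eb6ccabf76b0b59f656108572d76eb339cc56009670e560a02af376eaaab14a495639587d955f09455f6ca83aa7e6bb0a668655f5dc63387f55e5719f19b99d3a5555d9d4a9d8dc83aac376455c64b75875c773a5e691559b1daeb6a39efa8f9fd74195f5585b685f552777a2dabb6299665508d5aba8a88bd54c5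51927b17a629d95778f98b08d654b55c0ab05d73893d96d9a88fea169a18e95489a79595489a0673a26aee81d547aa1ae7545994ab9545a8fb376408c25c254060f0a3901741b39808b3753da44886b135e059278f53c59809b53b6f1a388e697b0cc5398495f2abe75579b6f85347e56ab7be844738a51a9953357da5662d6cfaca530b22b3d8f2ae752f79081d52f86e75fb3d837704a2d52c5b485f6605cb91552b9e88dd9416f5a63af652a84c6d39d4a7e5b552955f5af5710945ce63e5297d852977693555e8dc5f78e8a4e5b452895b99d52894b90d95a85a97e8e7a5499d527900a985278ec97e8ff8466a19b15265417190bb08952571bb3c9b288f78d7979a997b52468db185245e15c368c9aaaea7969acb185236056fa5bc75487860552057105c74d5605c09aeb0d5dd68d88951d9a96b65de9af6af68d51c59005b9ab5865e19b0aa1512846a519ca8ec99951185a9999c994ba2eb21b38a32afd70050c7a3b0398eb006e15077a2a8a507a5f60a6d466f64586450664783093e9625c2ade8855029ca9005738eba544ff9c995b4ff94aa4eaa44fe50986986050b884b3bacf4feaff975a5c983b349b60824fd9b47c583282c7ee8634fd0829859874fc08d6de4fa983b1308d7bdae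44f908d9a862b9859a775d5340824f890584351408c9127264f5a827265370744f492f82654064f8c081f4f18deaedb3a9639c77414f04f054096208a5426524ef08a9ea6595439de8914ee9e97a1ad1a4154f5e207c98d4ea9e8599ab2a599407d54ea71d9f84e9aac9f99a59905509679474e76b79464e7acd716550a2805a501ac24fe503ab297c51505a0835180a35525e30bd9884e58499895536c79454e376a9444e3a2c75155399b9360cf4e34ee79fa5ab3499981205899b8a005862b8b692c0828284fc05866099d99a65e5578b78eb5954e194aab953d4e1b3ab39a564e05570b685d5590c2))) (Tr.node (Tr.leaf (nat_lit 0x2b60a155b6025fd32260209f44a6002b54d02b55ff2da6035fb4a45fa2b547960109f4886015fd3b62b40a14252b46033b25fc0a04143e13e9a552b33eba538e95122b2a548ff400a11a3b9b749958c2b16128e42b06422e65833cb3f8a532af3faa52678a512b3a50a4f2af6735113d0a4e95a2aea4d9c22b1a4ca4b2ad9e277b2ad4a956668a72e94859d6452e52ac73175c2ac4a655c5623ff409a4a2ab40b39aa27676602a498542a902f46ca4957c8512a87a09db2a79368918fe41041939a2a641ba486bca472ab7473412a63036bb2a86b3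3ac2a50914c82a5581855a1c6f8a0868592a8902a46aba462a458083b959a457ad71ba440622a24ca7519265569892a14c97162a1551990a439a951c5897639af2a06172cf29f45365e9c40864654896ef46829e29d79769b9aa51d59451c29d3849ab8533c99d56887ff63471129c3d37748be29b6fd7b929b3d52af075a4268b4cf29b2a6074821a1d08741f8a3a418e229a7659042994698b19280212dba09640452298a097e2673a407aa2974e754fa404b25492964e35522964b1555a3c2952a0a213fc2a1a3fa3e56a29509d86697493263564c2947a894c63368537b711294a162942cd40fa3d72b9b83cd69d294a3c69e67643784f30177b0962939149e92939bb084290442848290a3b099a398ef9f1291a3a09728fa3984d28e71c060601a1478a2a2a387a428da377b328da3607167e4766d791d3a46d828c4756e628c39f6e8a35a34a304d9a3328b9af28b6e4717a329c69a2a3128b6e68c2a307b09ac52028a6157548a56272ca41d4ae6602897813ad2897cd96e77f41d7bc0604818992882887967839ad3425775202886e974d84e3840904bc28760e4b8976845a1d88e881a1f286a0368428663971286da2f7777b92857047a162aa2b95d9cf28570a285a2e68ba2da2c9b99bc2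856848cda2b9b6a1778529aa2a8c52840923c4284a298fc67a61975b9e54be82b2834308647a128296a79a2824019b9081a282b34cc282a270788b22ab3ae4d09e37ce7cb28101d2dc28162c4ad42a93c63a8702807a77a5637682a2671228037b9e37e32aaa247a92802802ce3fea2572a42830e39da2445139027f30a3a027f4503a3a1aa2358b67409c87e27e27e28aa223fd28ca218c86e927e09ba16295a208827a527d8f78ea824a1b8f8a1f27d87e27d41442809aa1e2b2a1d27d2a3a1ca1b60242a89927da1a7bc8e97d17de27b6e734e5f09628842794ac88035f43f44661027844775a699a1927ca18a172786667dd4f398f50a277a16a1527a9c3a1427690886945444986b2759517a62753bf8745359825587147664e0274863a135de3baa122738627102733b97b63139c47aa29d7027e201c7564f660079b4552708a18929aa42889e26e08ba1145226da104ad499079a0f09926da0e26f85b6997bba0d26d26d5f7278a0c098759a0b9377bb0715a526c6792ea3536779eb26b786a0a26ba099e05e1930890352798a0826a3dda07665872a062693dca052698717c59a92682728f3290273a0442f8a0845267728a032678835f68af3314f647a05506c2664849ff5e749270b965a022665e54a44be6ada01265))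 (Tr.leaf (nat_lit 0x0)))) (Tr.node (Tr.node (Tr.leaf (nat_lit 0x2a81c28615ee1c434f6af07d1c21d42ef5a85a427f83d1c128985f5d229685f1c029f8220423f785d1bf3cc84c2ac5f53113d71bf30c84f25763185c07c1bf3f51bf4de2ae5f585b3d72af4131be3fb85a84d26f7d185960b1be3cc1bd8573f82ad85607b4908551bc49885249a4948541fb1bc6851bc49384848f4968501fd1bc26a49c49485307a4a08521bb4a78514a84a26821ff1bb2a71bb4a185049f4a384f2021bb84e4aa4a284d0413e784c1ba3e26ca2b05f94ea3e61ba4e584b66d1bf84a8491ba3e41ba26e2b25f931c84826d1ba84707983a3e62b38461b93ec8453eb2b17cd3e71b83718448431bd84263f1b83e21b883f3e92b144583e0781b883d1d78391b73ec5533e42b35502b11b70665f91b96f283a25301383963e05e8388371d96a38361b66c43081b63a77c77cf8358346405878331b58328281b558683154783082f7d91b482e82461382673b82d1b47291b482c82b82a8297010771b48288278268253fa2ad5323f71bd1b36d68111b35637254537740768241b25da1c982307462f8221b21bd0751b281e5db07481d81c81b45f81a8191b18188171b181638654657032f7d81b08155f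38142550147251b063b1b07248137758123a176180f1af5cd80e80d1ae3fb3a13f52af39e2ad1ae6f25f51be06f4f77e01ad4eb7f024b80c80b5dd1ac80a4d580979367e8081ac71b1ac8074f88068057f90731ac7e08047936958038021ce6678011ab0724af1ab8005b27cb7ff7fe52e2f97fa1aa54d7fd4d50124583127fc24c7b17fb0127fa0120597f945754b1e059620c2427f87f70117f67e10117f57f41e350d7f32481a97f261a7f122568e7f01a90681a97e624354e7ef6185947ee2417ed6ba1a85937ec1a87eb7ea6171a71b37e921b1b57683b42647e83b31a67e74f82431a67e57e45fb3b32a97e31a528e7e21a521a7e13b71f27723b72707de3b51a47dd7da4bf1a47d97d85fa7d566663b73e6290107d27d101073b7d06227cf7ce1b21a37cd7457cc6c61b75ad1a36291a37ab0127cb5be7a47ca5e87991a26b77c66b96b478c3031a24e61a26b37c96b16b67c53051a237340a6b47c87c769f7c61a16c77b83de6c54e20261a130d1a16c47c50665787c40291a17c36c96c57c25c56d07981a06d549c6d75a624c3091a079336268f7c13556951a01a06d23ce4766d33cc30b1a06be6d85a67c05c46dd49c19f6e57b719f6de3cc4756df7bf31019f7be6e85a77bd3576ea19f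3516ed78b3933987bc19e38f7aa3977b25ee39519e5ea39219e52d3917b26623956cc2f719d39b7bb19d02a4f439a39364823324b19d53152e07139a6cb7ba39819c6e57b96a624d7b87b719c19c3977b639b39179d38f19c66f3996cb7b53993937b419b02a2fb6e65a77b330d19f19b19b39b4123926cc4036cb19b78f7b219d7b17b07af19b7ae6207ad3376ed6283156ea19a77a36543119936e7ac19936742d03436a64e3346951992f368f7ab37f3847aa00f37b7a93827907a838100f7a720c3d119e7a67a500f03600f21837d79053b3816ce5bb00e3885dd1cf24a7a444b53c00e00e02b1dc38737f4f83876cd7a33841987a27a17a019c79f79e198)) (Tr.leaf (nat_lit 0x0))) (Tr.node (Tr.leaf (nat_lit 0x926aa99583c30b05dca0fa3c74680e3c373d7fb548aae0593c2ab405905d0a73c154d0483c14567ec7fd45776f80f3c33c1aa8a3ca5dae07583c74257313c03bf952b1c7a50b9b058173bf4afb1b4b9a8590aad55353be7db4553beb1ab058eaad745181b3bea11717461a4d7f04e89f87e63bd0bc7ef3bd9077e04e890b7e64f78073bc50d0b13bc3caa2d7f354e0817df3bb83e7f24ebaa099c871a388313baa363ba7c54bd8bca0547bb198727b28333b97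fb3b9a0647b8bba075438343b988872c87290eb18092abe0c79423b8aad43ea6b6a757f3b7b174363b76b557ba7d7f34eba7c7f13bb03b3b69c143775d0539144f63b69389055339309e44d7a690c65a93b5a0a5923b50c35d5a7b0b6461a688193be3b47f254ea6d03a3ca3c603a50dac87ef4f7a9eabc40fa67af559d3b3aba4003b3b16599a77ad8773a768ac917039ad77f603981b8fba66b15b144083b24b591b3b29d7401a979313db6763b29b80c59573d0b13a09a79afc702038ae49e3038b0c976a6596698f56c3b16b09137c69fba789778bd0377b8a000376a5762a6475e6e79133b0878aa287f0c405c59d3b03f640f3b003c7bf0c44217cb7cc3de3af78190c5adabe7ac7ab3afa6f5be3af940063abe3e67ab8e664e3ae7cf94f3ad5ad3c47cf0638da6b16b981b3ac40ab12afbb0d5587407803aa4884c53a992b61a46d0663deb123a86c9b1154c9783ac7d48bf3a8a135863aa99c7ed3a69f05613a674b76b9fd4b84c64739566193a546846f3a5748765769b0aa5e51a813abb3a205083d3a086408154f7d075e39e778abcb019ff842a619c0a5039d09399a39d4f9058552b1059e458a0e5bd39b58d06039871484d58baf1a629e6a58a863956a557f5db39443e5b73946a83a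87d38cea6376239439f91faadb02a0759354b8348cc3935224f539253608c0c060b614a04a39713391a04a9f55587e5c639038e399b076cc39a7ec8a441d38eb0fa1a3c1ae2a595c138da9bae8a57a61675a8638da4038d608471b0ea8b5596a0a6d38d8665e4a5e70982538bb0daf97ce7ce96e3897cc3ad519afc5d539b9e0592388b0c5a93889df4d745e72b5d08c96880a638772a5ab3876840a8806386950a889525964b67f83865ab9518175a26e95c73ad43bac9383ab5b02ac79a5b05381af6a603819a4a8780c9919365b738093b5b04eeb0b93d5eb3800aa380986a6389186555a564380a60ad1b0b556afd97539381eacf37faef69b37f81dadb8f959105396d5339c10366f792a5b037e930a9937e6d155a89087c3ac58837eb0aab3acb3a468c76396c9b05de37d60461537d9ae5bc6f1ae5a5b9f237ca9a501a5aa5fa3ca8737c67596c3c63a3a263c837c37c60a6cfb09a8a46bb0877fa5d9e4a2437a37a3859be6ce387b07ad09c437aa0aa4038eb06ac3501379adaad6aafb009b1b05379a243796e146bb04b033abb0237939cb01b0051a6f1ac9379a165c75498d294337506e0bc5407054794b937470c467a6caff378afeafd374a400c3376589afc035ac0a853706995b345257c86e53046b86f36aae3afb713369afa5bc740ab6a44af9369a3836b7cfa6c5be8e63693697c9374af8af7466))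 (Tr.leaf (nat_lit 0x0)))))))

/-- The image of an element under a generator. -/
noncomputable def pi (g i : Nat) : Nat := cellF 7 127 72 4722366482869645213695 (Nat.mul g 12) 4095 cT.get i

theorem h0 : allN (fun i => chkEl gs ws pi 2880 (i + 0)) 400 = true := by decide +kernel

theorem h1 : allN (fun i => chkEl gs ws pi 2880 (i + 400)) 400 = true := by decide +kernel

theorem h2 : allN (fun i => chkEl gs ws pi 2880 (i + 800)) 400 = true := by decide +kernel

theorem h3 : allN (fun i => chkEl gs ws pi 2880 (i + 1200)) 400 = true := by decide +kernel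

theorem h4 : allN (fun i => chkEl gs ws pi 2880 (i + 1600)) 400 = true := by decide +kernel

theorem h5 : allN (fun i => chkEl gs ws pi 2880 (i + 2000)) 400 = true := by decide +kernel

theorem h6 : allN (fun i => chkEl gs ws pi 2880 (i + 2400)) 400 = true := by decide +kernel

theorem h7 : allN (fun i => chkEl gs ws pi 2880 (i + 2800)) 80 = true := by decide +kernel

theorem hall (i : Nat) (hi : i < 2880) : chkEl gs ws pi 2880 i = true := by
  by_cases h0' : i < 400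
  · have := allN_spec h0 (i - 0) (by omega)
    rwa [Nat.sub_add_cancel (by omega)] at this
  by_cases h1' : i < 800
  · have := allN_spec h1 (i - 400) (by omega)
    rwa [Nat.sub_add_cancel (by omega)] at this
  by_cases h2' : i < 1200
  · have := allN_spec h2 (i - 800) (by omega)
    rwa [Nat.sub_add_cancel (by omega)] at this
  by_cases h3' : i < 1600
  · have := allN_spec h3 (i - 1200) (by omega)
    rwa [Nat.sub_add_cancel (by omega)] at this
  by_cases h4' : i < 2000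
  · have := allN_spec h4 (i - 1600) (by omega)
    rwa [Nat.sub_add_cancel (by omega)] at this
  by_cases h5' : i < 2400
  · have := allN_spec h5 (i - 2000) (by omega)
    rwa [Nat.sub_add_cancel (by omega)] at this
  by_cases h6' : i < 2800
  · have := allN_spec h6 (i - 2400) (by omega)
    rwa [Nat.sub_add_cancel (by omega)] at this
  by_cases h7' : i < 2880
  · have := allN_spec h7 (i - 2800) (by omega)
    rwa [Nat.sub_add_cancel (by omega)] at this
  omega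

theorem hid : ws 211 = [] := by decide +kernel

theorem n0 : allN (fun i => Bool.not (fixAll ptQ bQ (ws (i + 212) ++ ws (i + 212)))) 800 = true := by decide +kernel

theorem n1 : allN (fun i => Bool.not (fixAll ptQ bQ (ws (i + 1012) ++ ws (i + 1012)))) 800 = true := by decide +kernel

theorem n2 : allN (fun i => Bool.not (fixAll ptQ bQ (ws (i + 1812) ++ ws (i + 1812)))) 800 = true := by decide +kernel

theorem n3 : allN (fun i => Bool.not (fixAll ptQ bQ (ws (i + 2612) ++ ws (i + 2612)))) 268 = true := by decide +kernel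

theorem hni (i : Nat) (h1 : 211 < i) (hi : i < 2880) : Bool.not (fixAll ptQ bQ (ws i ++ ws i)) = true := by
  by_cases h0' : i < 1012
  · have := allN_spec n0 (i - 212) (by omega)
    rwa [Nat.sub_add_cancel (by omega)] at this
  by_cases h1' : i < 1812
  · have := allN_spec n1 (i - 1012) (by omega)
    rwa [Nat.sub_add_cancel (by omega)] at this
  by_cases h2' : i < 2612
  · have := allN_spec n2 (i - 1812) (by omega)
    rwa [Nat.sub_add_cancel (by omega)] at this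
  by_cases h3' : i < 2880
  · have := allN_spec n3 (i - 2612) (by omega)
    rwa [Nat.sub_add_cancel (by omega)] at this
  omega

end Cfsg.Agent.Lib.DCE.Ly.Inv.T3
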