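import Cfsg.Agent.Lib.DCE.Ly.Final.Card
import Cfsg.Agent.Lib.DCE.FixCount
import Cfsg.Agent.Lib.DCE.Ly.Inv.T2
import Cfsg.Agent.Lib.DCE.Ly.Inv.T3
import Cfsg.Agent.Lib.DCE.Ly.Inv.T4
import Cfsg.Agent.Lib.DCE.Ly.Inv.Cls
import Cfsg.Agent.Lib.DCE.Ly.Inv.FixK

/-! The bound for the order of the centraliser of the involution. -/

namespace Cfsg.Agent.Lib.DCE.Ly.Inv.Count

open Cfsg.Agent.Lib.TC.Core Cfsg.Agent.Lib.TC.Pres Cfsg.Agent.Lib.TC.Perm Cfsg.Agent.Lib.TC.Main
  Cfsg.Agent.Lib.TC.Chain Cfsg.Agent.Lib.TC.Iso Cfsg.Agent.Lib.DCE.MatP Cfsg.Agent.Lib.DCE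
  Cfsg.Agent.Lib.DCE.Ly.Exp Cfsg.Agent.Lib.DCE.Ly.Setup Cfsg.Agent.Lib.DCE.Ly.Rules Cfsg.Agent.Lib.DCE.Ly.Gens
  Cfsg.Agent.Lib.DCE.Ly.Cov.Beta Cfsg.Agent.Lib.DCE.Orb Cfsg.Agent.Lib.DCE.Ly.Cov.Base
  Cfsg.Agent.Lib.DCE.Ly.Cov.Bound Cfsg.Agent.Lib.DCE.Ly.Final Cfsg.Agent.Lib.DCE.Ly.Inv.Defs

set_option maxRecDepth 100000

theorem phi_val (w : List Nat) (hw : lt10 w = true) (i : Fin ptQ.n) : (phi (prodA EQ w) i).1 = ptQ.val w i.1 :=
  phi_prodA_apply okQ.hPk okQ.hG phi phi_spec w (lt_of_lt10 hw) i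

theorem n_eq : ptQ.n = 3906 := by decide +kernel

theorem val_of_one {w : List Nat} (hw : lt10 w = true) (h : prodA EQ w = 1) {b : Nat} (hb : b < ptQ.n) :
    ptQ.val w b = b := by
  have h2 := phi_val w hw ⟨b, hb⟩
  rw [h, map_one] at h2
  exact h2.symm

theorem fixAll_of_val (base : List Nat) (w : List Nat) (h : ∀ b ∈ base, ptQ.val w b = b) :
    fixAll ptQ base w = true := by
  induction base with
  | nil => rfl
  | cons b base ih =>
    change andB (ptQ.walk (fun u => Nat.beq u b) w b) (fixAll ptQ base w) = true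
    rw [andB_eq_true, PT.walk_eq]
    refine ⟨?_, ih fun y hy => h y (by simp [hy])⟩
    have := h b (by simp)
    simp [this]

theorem bQ_lt : ∀ b ∈ bQ, b < ptQ.n := by decide +kernel

theorem fixAll_of_one {w : List Nat} (hw : lt10 w = true) (h : prodA EQ w = 1) : fixAll ptQ bQ w = true :=
  fixAll_of_val _ _ fun b hb => val_of_one hw h (bQ_lt b hb)

theorem lt10_append {a b : List Nat} (ha : lt10 a = true) (hb : lt10 b = true) : lt10 (a ++ b) = true := by
  simp only [lt10, List.all_append, Bool.and_eq_true] at *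
  exact ⟨ha, hb⟩

theorem lt10_left {a b : List Nat} (h : lt10 (a ++ b) = true) : lt10 a = true := by
  simp only [lt10, List.all_append, Bool.and_eq_true] at *
  exact h.1

theorem lt10_invW {a : List Nat} (ha : lt10 a = true) : lt10 (invW invQ a) = true := by
  have h1 := lt10_spec ha
  simp only [lt10, List.all_eq_true, invW, List.mem_reverse, List.mem_map]
  rintro _ ⟨y, hy, rfl⟩
  have h2 : ∀ c, c < 10 → Nat.blt (invQ c) 10 = true := by decide +kernel
  exact h2 y (h1 y hy)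

theorem lt10_kL (κ : List Nat) (hκ : ltB 16 κ = true) : lt10 (kL κ) = true := by
  have h := ltB_spec hκ
  clear hκ
  induction κ with
  | nil => rfl
  | cons i κ ih =>
    have h1 : kL (i :: κ) = kwT.getD i [] ++ kL κ := by simp [kL]
    rw [h1]
    exact lt10_append (kw_lt i (h i (by simp))) (ih fun y hy => h y (by simp [hy]))

theorem t0_sq : t0 * t0 = 1 := by
  have h : wEq (t0w ++ t0w) [] = true := by decide +kernel
  have h2 := prodA_EQ_eq h
  rw [prodA_append] at h2
  exact h2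

theorem t0_ne : t0 ≠ 1 :=
  word_ne_one okQ t0w (by decide +kernel) 3 (by decide +kernel) (by decide +kernel)

/-! ### The list of the elements of a subgroup -/

section list

variable {gs : List (List Nat)} {ws : Nat → List Nat} {pi : Nat → Nat → Nat} {m iN : Nat}

theorem list_cover (hall : ∀ i, i < m → chkEl gs ws pi m i = true) (hid : ws iN = []) (hiN : iN < m)
    (hlt : ∀ l ∈ gs, lt10 l = true) (hinv : ∀ l ∈ gs, invW invQ l ∈ gs) (x : Q) (hx : x ∈ subOf KQ RQ gs) :
    ∃ i, i < m ∧ x = prodA EQ (ws i) := by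
  have step : ∀ l ∈ gs, ∀ y : Q, (∃ i, i < m ∧ y = prodA EQ (ws i)) →
      ∃ i, i < m ∧ prodA EQ l * y = prodA EQ (ws i) := by
    rintro l hl y ⟨i, hi, rfl⟩
    obtain ⟨g, hg, rfl⟩ := List.getElem_of_mem hl
    have h : andB (Nat.blt (pi g i) m) (wEq (ws i ++ gs.getD g []) (ws (pi g i))) = true :=
      allN_spec (hall i hi) g hg
    rw [andB_eq_true, List.getD_eq_getElem _ _ hg] at h
    refine ⟨pi g i, Nat.le_of_ble_eq_true h.1, ?_⟩
    have h2 := prodA_EQ_eq h.2
    rw [prodA_append] at h2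
    exact h2
  unfold subOf at hx
  induction hx using Subgroup.closure_induction_left with
  | one => exact ⟨iN, hiN, by rw [hid]; rfl⟩
  | mul_left x hx y hy ih =>
    obtain ⟨l, hl, rfl⟩ := hx
    exact step l hl y ih
  | inv_mul_cancel x hx y hy ih =>
    obtain ⟨l, hl, rfl⟩ := hx
    have h1 : (prodA (KQ.E RQ) l)⁻¹ = prodA EQ (invW invQ l) := (EQ_word_inv l (hlt l hl)).symm
    rw [h1]
    exact step _ (hinv l hl) y ih

theorem conj_le (hall : ∀ i, i < m → chkEl gs ws pi m i = true) (hid : ws iN = []) (hiN : iN < m)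
    (hlt : ∀ l ∈ gs, lt10 l = true) (hinv : ∀ l ∈ gs, invW invQ l ∈ gs) (hne : 0 < gs.length)
    (hni : ∀ i, iN < i → i < m → Bool.not (fixAll ptQ bQ (ws i ++ ws i)) = true)
    (T : Subgroup Q) (hT : T ≤ subOf KQ RQ gs) : Nat.card (conjIn T t0) ≤ iN := by
  classical
  have hws : ∀ i, i < m → lt10 (ws i) = true := by
    intro i hi
    have h : andB (Nat.blt (pi 0 i) m) (wEq (ws i ++ gs.getD 0 []) (ws (pi 0 i))) = true :=
      allN_spec (hall i hi) 0 hne
    rw [andB_eq_true, wEq, andB_eq_true] at h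
    exact lt10_left h.2.1
  have key : ∀ y : conjIn T t0, ∃ i : Fin iN, y.1 = prodA EQ (ws i.1) := by
    rintro ⟨y, hyT, hy⟩
    obtain ⟨i, hi, e⟩ := list_cover hall hid hiN hlt hinv y (hT hyT)
    obtain ⟨g, rfl⟩ := isConj_iff.1 hy
    have hsq : (g * t0 * g⁻¹) * (g * t0 * g⁻¹) = 1 := by
      have : (g * t0 * g⁻¹) * (g * t0 * g⁻¹) = g * (t0 * t0) * g⁻¹ := by group
      rw [this, t0_sq]
      group
    have hne1 : g * t0 * g⁻¹ ≠ 1 := by
      intro h
      apply t0_ne
      have : t0 = g⁻¹ * (g * t0 * g⁻¹) * g := by group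
      rw [this, h]
      group
    rcases lt_trichotomy i iN with h | h | h
    · exact ⟨⟨i, h⟩, e⟩
    · exfalso
      apply hne1
      rw [e, h, hid]
      rfl
    · exfalso
      have h1 := hni i h hi
      have h2 : fixAll ptQ bQ (ws i ++ ws i) = true := by
        apply fixAll_of_one (lt10_append (hws i hi) (hws i hi))
        rw [prodA_append, ← e]
        exact hsq
      rw [h2] at h1
      exact absurd h1 (by decide)
  choose f hf using key
  have hinj : Function.Injective f := by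
    intro a b hab
    apply Subtype.ext
    rw [hf a, hf b, hab]
  have h := Nat.card_le_card_of_injective f hinj
  rwa [Nat.card_fin] at h

end list

/-! ### The subgroups of the nodes -/

/-- The subgroup of a node in `Q`. -/
noncomputable def Tj (j : Nat) : Subgroup Q := (S j).comap iota

theorem index_T (j : Fin 5) : (Tj j.1).index = nn j := by
  have h1 : (((S j.1).subgroupOf HH).comap iota.rangeRestrict).index = ((S j.1).subgroupOf HH).index :=
    Subgroup.index_comap_of_surjective _ iota.rangeRestrict_surjective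
  have h2 : ((S j.1).subgroupOf HH).comap iota.rangeRestrict = (S j.1).comap iota := by
    ext x
    rfl
  rw [h2] at h1
  rw [Tj, h1]
  exact exactS.1 j

theorem card_T (j : Fin 5) : Nat.card (Tj j.1) * nn j = 5859000000 := by
  rw [← index_T, Subgroup.card_mul_index, card_Q]

theorem div_helper {X a b c : Nat} (h : X * a = c) (hc : b * a = c) (ha : 0 < a) : X = b :=
  Nat.eq_of_mul_eq_mul_right ha (h.trans hc.symm)

theorem card_T1 : Nat.card (Tj 1) = 300000 := by
  have h := card_T 1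
  have e : nn 1 = 19530 := rfl
  rw [e] at h
  change Nat.card (Tj 1) * 19530 = 5859000000 at h
  exact div_helper h (by norm_num) (by norm_num)

theorem card_T2' : Nat.card (Tj 2) = 6048 := by
  have h := card_T 2
  have e : nn 2 = 968750 := rfl
  rw [e] at h
  change Nat.card (Tj 2) * 968750 = 5859000000 at h
  exact div_helper h (by norm_num) (by norm_num)

theorem card_T3' : Nat.card (Tj 3) = 2880 := by
  have h := card_T 3
  have e : nn 3 = 2034375 := rfl
  rw [e] at h
  change Nat.card (Tj 3) * 2034375 = 5859000000 at h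
  exact div_helper h (by norm_num) (by norm_num)

theorem card_T4' : Nat.card (Tj 4) = 1008 := by
  have h := card_T 4
  have e : nn 4 = 5812500 := rfl
  rw [e] at h
  change Nat.card (Tj 4) * 5812500 = 5859000000 at h
  exact div_helper h (by norm_num) (by norm_num)

theorem Tj_le_sub {j n o : Nat} (hj : j < 5) (hcard : o ≤ Nat.card (subOf KQ RQ ((gensT.getD j []).take n)))
    (hT : Nat.card (Tj j) = o) : Tj j ≤ subOf KQ RQ (gensT.getD j []) := by
  have h1 : subOf KQ RQ ((gensT.getD j []).take n) ≤ Tj j := T_le hj n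
  have h2 : subOf KQ RQ ((gensT.getD j []).take n) = Tj j :=
    Subgroup.eq_of_le_of_card_ge h1 (by rw [hT]; exact hcard)
  rw [← h2]
  apply Subgroup.closure_mono
  rintro _ ⟨l, hl, rfl⟩
  exact ⟨l, List.mem_of_mem_take hl, rfl⟩

theorem Kq_eq : Kq = Tj 1 := by
  have h1 : Kq ≤ Tj 1 := by
    rw [Kq, tK_eq]
    exact T_le (by norm_num) 8
  exact Subgroup.eq_of_le_of_card_ge h1 (by rw [card_T1]; exact card_Kq_ge)

theorem card_Kq : Nat.card Kq = 300000 := by
  rw [Kq_eq, card_T1]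

theorem gens_lt : ∀ j, j < 5 → ∀ l ∈ gensT.getD j [], lt10 l = true := by decide +kernel

theorem gens_inv : ∀ j, 2 ≤ j → j < 5 → ∀ l ∈ gensT.getD j [], invW invQ l ∈ gensT.getD j [] := by decide +kernel

theorem gens_ne : ∀ j, j < 5 → 0 < (gensT.getD j []).length := by decide +kernel

/-- The number of conjugates in the node `2`. -/
theorem conj2 : Nat.card (conjIn (Tj 2) t0) ≤ 63 :=
  conj_le T2.hall T2.hid (by norm_num) (gens_lt 2 (by norm_num)) (gens_inv 2 (by norm_num) (by norm_num))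
    (gens_ne 2 (by norm_num)) (fun i h1 h2 => T2.hni i h1 h2) _ (Tj_le_sub (n := 2) (by norm_num) card_T2 card_T2')

/-- The number of conjugates in the node `3`. -/
theorem conj3 : Nat.card (conjIn (Tj 3) t0) ≤ 211 :=
  conj_le T3.hall T3.hid (by norm_num) (gens_lt 3 (by norm_num)) (gens_inv 3 (by norm_num) (by norm_num))
    (gens_ne 3 (by norm_num)) (fun i h1 h2 => T3.hni i h1 h2) _ (Tj_le_sub (n := 3) (by norm_num) card_T3 card_T3')

/-- The number of conjugates in the node `4`. -/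
theorem conj4 : Nat.card (conjIn (Tj 4) t0) ≤ 105 :=
  conj_le T4.hall T4.hid (by norm_num) (gens_lt 4 (by norm_num)) (gens_inv 4 (by norm_num) (by norm_num))
    (gens_ne 4 (by norm_num)) (fun i h1 h2 => T4.hni i h1 h2) _ (Tj_le_sub (n := 3) (by norm_num) card_T4 card_T4')

/-! ### The conjugates in `K` -/

theorem kyf_mono {i j : Nat} (hij : i < j) (hj : j < 1375) : Cls.kyf i < Cls.kyf j := by
  induction j, hij using Nat.le_induction with
  | base => exact Cls.hmono i (by omega)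
  | succ j hij ih => exact lt_trans (ih (by omega)) (Cls.hmono j (by omega))

theorem cls_data (i : Nat) (hi : i < 1375) :
    lt10 (Cls.yW i) = true ∧ prodA EQ (Cls.yW i) ∈ Kq ∧ IsConj t0 (prodA EQ (Cls.yW i)) := by
  have h : andB (Nat.blt (Cls.rF i) 2) (ltB 16 (Cls.kF i)) = true := allN_spec Cls.hlt i hi
  rw [andB_eq_true] at h
  obtain ⟨h1, h2⟩ := h
  have hr : Cls.rF i < 2 := Nat.le_of_ble_eq_true h1
  have hrl := Cls.hrep_lt _ hr
  have hrep := prodA_EQ_eq (Cls.hrep _ hr)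
  have hk := lt10_kL _ h2
  have hwl : lt10 (cwf (Cls.repW.getD (Cls.rF i) [])) = true := by
    unfold cwf
    exact lt10_append (lt10_invW hrl.1) (lt10_append (by decide +kernel) hrl.1)
  set w := Cls.repW.getD (Cls.rF i) [] with hw
  set κ := Cls.kF i with hκ
  have hcw : prodA EQ (cwf w) = prodA EQ w * t0 * (prodA EQ w)⁻¹ := by
    unfold cwf
    rw [prodA_append, prodA_append, EQ_word_inv w hrl.1]
    simp only [t0, mul_assoc]
  have hy : prodA EQ (Cls.yW i) = prodA EQ (kL κ) * prodA EQ (cwf w) * (prodA EQ (kL κ))⁻¹ := by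
    unfold Cls.yW
    rw [prodA_append, prodA_append, EQ_word_inv _ hk]
  refine ⟨?_, ?_, ?_⟩
  · unfold Cls.yW
    exact lt10_append (lt10_invW hk) (lt10_append hwl hk)
  · rw [hy]
    have hm := prodA_kL_mem κ h2
    refine Subgroup.mul_mem _ (Subgroup.mul_mem _ hm ?_) (Subgroup.inv_mem _ hm)
    rw [hrep]
    exact prodA_kL_mem _ hrl.2
  · rw [hy, hcw]
    refine isConj_iff.2 ⟨prodA EQ (kL κ) * prodA EQ w, ?_⟩
    group

theorem key_eq {i j : Nat} (hi : i < 1375) (hj : j < 1375) (h : prodA EQ (Cls.yW i) = prodA EQ (Cls.yW j)) :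
    Cls.kyf i = Cls.kyf j := by
  have hpt : ∀ p, p < 3906 → ptQ.val (Cls.yW i) p = ptQ.val (Cls.yW j) p := by
    intro p hp
    have hp' : p < ptQ.n := by rw [n_eq]; exact hp
    have h1 := phi_val _ (cls_data i hi).1 ⟨p, hp'⟩
    have h2 := phi_val _ (cls_data j hj).1 ⟨p, hp'⟩
    rw [← h1, ← h2, h]
  unfold Cls.kyf
  rw [hpt 1 (by norm_num), hpt 12 (by norm_num)]

theorem conj1 : 1375 ≤ Nat.card (conjIn Kq t0) := by
  have hf : ∀ i : Fin 1375, prodA EQ (Cls.yW i.1) ∈ conjIn Kq t0 := fun i =>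
    ⟨(cls_data i.1 i.2).2.1, (cls_data i.1 i.2).2.2⟩
  have hinj : Function.Injective (fun i : Fin 1375 => (⟨_, hf i⟩ : conjIn Kq t0)) := by
    intro a b hab
    have h1 : prodA EQ (Cls.yW a.1) = prodA EQ (Cls.yW b.1) := congrArg Subtype.val hab
    have h2 := key_eq a.2 b.2 h1
    apply Fin.ext
    rcases lt_trichotomy a.1 b.1 with h | h | h
    · exact absurd h2 (ne_of_lt (kyf_mono h b.2))
    · exact h
    · exact absurd h2.symm (ne_of_lt (kyf_mono h a.2))
  have h := Nat.card_le_card_of_injective _ hinj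
  rwa [Nat.card_fin] at h

/-! ### The cosets of `K` fixed by the involution -/

theorem beta_notin (l : Nat) (h0 : 0 < l) (h5 : l < 5) : prodA EQ (beta.getD l []) ∉ Kq := by
  intro hl
  let L : Fin 5 := ⟨l, h5⟩
  have hne : (0 : Fin 5) ≠ L := by
    intro h
    have := congrArg Fin.val h
    simp [L] at this
    omega
  have h : ∀ a : subOf KQ RQ subsQ, ∃ p : {i : Fin 5 // i ≠ L} × Kq,
      (a : Q) = prodA EQ (beta.getD p.1.1.1 []) * (p.2 : Q) := by
    intro a
    obtain ⟨i, hi, κ, hκ, e⟩ := acov a.1 a.2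
    by_cases hil : i = l
    · subst hil
      refine ⟨(⟨0, hne⟩, ⟨_, Subgroup.mul_mem _ hl hκ⟩), ?_⟩
      have hb0 : prodA EQ (beta.getD ((0 : Fin 5) : Nat) []) = 1 := rfl
      simp only [hb0, one_mul]
      exact e
    · refine ⟨(⟨⟨i, hi⟩, fun h => hil (congrArg Fin.val h)⟩, ⟨κ, hκ⟩), e⟩
  choose f hf using h
  have hinj : Function.Injective f := by
    intro a b hab
    apply Subtype.ext
    rw [hf a, hf b, hab]
  have h1 := Nat.card_le_card_of_injective f hinj
  rw [Nat.card_prod, card_Kq] at h1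
  have hc : Nat.card {i : Fin 5 // i ≠ L} = 4 := by
    rw [Nat.card_eq_fintype_card, Fintype.card_subtype_compl]
    simp
  rw [hc] at h1
  have h2 := card_A
  omega

theorem kq_fix (k : Q) (hk : k ∈ Kq) : phi k 0 = 0 := by
  have hle : Kq ≤ stab0 phi := by
    rw [Kq, subOf, Subgroup.closure_le]
    rintro _ ⟨l, hl, rfl⟩
    apply (mem_stab0 phi _).2
    apply Fin.ext
    have h1 : ∀ l ∈ tK, lt10 l = true ∧ ptQ.val l 0 = 0 := by decide +kernel
    have h2 := phi_val l (h1 l hl).1 0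
    exact h2.trans (h1 l hl).2
  exact (mem_stab0 phi _).1 (hle hk)

theorem fix1_le : Nat.card (fixSet Kq t0) ≤ 66 := by
  classical
  let g : Nat × Nat → Q ⧸ Kq := fun p =>
    QuotientGroup.mk (prodA EQ (beta.getD p.2 [] ++ FixK.rpW.getD p.1 []))
  have hsub : fixSet Kq t0 ⊆ ((FixK.flagged.map g).toFinset : Set (Q ⧸ Kq)) := by
    rintro _ ⟨q, rfl, hq⟩
    have hfixp : phi t0 (phi q 0) = phi q 0 := by
      have h1 := kq_fix _ hq
      rw [map_mul, map_mul, map_inv, Equiv.Perm.mul_apply, Equiv.Perm.mul_apply, Equiv.Perm.inv_eq_iff_eq] at h1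
      exact h1
    set p := phi q 0 with hp
    have hpn : p.1 < 3906 := lt_of_lt_of_eq p.2 n_eq
    have h2 : ptQ.val t0w p.1 = p.1 := by
      have h3 := phi_val t0w (by decide +kernel) p
      rw [← h3]
      exact congrArg Fin.val hfixp
    have h3 : cond (Nat.beq (ptQ.val t0w p.1) p.1) (FixK.fp.contains p.1) true = true :=
      allN_spec FixK.hfp p.1 hpn
    rw [h2, Nat.beq_refl] at h3
    have h4 : p.1 ∈ FixK.fp := by
      simpa using h3
    obtain ⟨f, hf, hfe⟩ := List.getElem_of_mem h4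
    have hf42 : f < 42 := hf
    have h5 := FixK.hfp_lt f hf42
    rw [andB_eq_true] at h5
    have h6 : ptQ.val (FixK.rpW.getD f []) 0 = p.1 := by
      have h7 := Nat.eq_of_beq_eq_true h5.1
      rw [h7, List.getD_eq_getElem _ _ hf, hfe]
    have hrp := h5.2
    set rp := FixK.rpW.getD f [] with hrpd
    have h8 : phi (prodA EQ rp) 0 = p := by
      apply Fin.ext
      rw [phi_val rp hrp 0]
      exact h6
    have h9 : phi ((prodA EQ rp)⁻¹ * q) 0 = 0 := by
      rw [map_mul, map_inv, Equiv.Perm.mul_apply, Equiv.Perm.inv_eq_iff_eq, h8]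
    have h10 := mem_sub_of_fix okQ phi phi_spec _ h9
    obtain ⟨i, hi, κ, hκ, hae⟩ := acov _ h10
    have hblt : ∀ i, i < 5 → lt10 (beta.getD i []) = true := by decide +kernel
    set e := beta.getD i [] ++ rp with he
    have hel : lt10 e = true := lt10_append (hblt i hi) hrp
    have hpe : prodA EQ e = prodA EQ rp * prodA EQ (beta.getD i []) := prodA_append _ _ _
    have hmk : (QuotientGroup.mk q : Q ⧸ Kq) = QuotientGroup.mk (prodA EQ e) := by
      apply QuotientGroup.eq.2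
      have : q⁻¹ * prodA EQ e = κ⁻¹ := by
        rw [hpe]
        have hq2 : q = prodA EQ rp * (prodA EQ (beta.getD i []) * κ) := by
          rw [← hae]
          group
        rw [hq2]
        group
      rw [this]
      exact Subgroup.inv_mem _ hκ
    have hfe2 : (prodA EQ e)⁻¹ * t0 * prodA EQ e ∈ Kq := by
      have h11 : (QuotientGroup.mk (prodA EQ e) : Q ⧸ Kq) ∈ fixSet Kq t0 := by
        rw [← hmk, mem_fixSet_mk]
        exact hq
      exact (mem_fixSet_mk _ _ _).1 h11
    have hrow := FixK.hrow f hf42 i hi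
    have hmem : (f, i) ∈ FixK.flagged := by
      cases hent : (FixK.rowT.getD f []).getD i none with
      | none =>
        rw [hent] at hrow
        have h12 : FixK.flagged.any (fun y => andB (Nat.beq y.1 f) (Nat.beq y.2 i)) = true := hrow
        rw [List.any_eq_true] at h12
        obtain ⟨y, hy, hy2⟩ := h12
        rw [andB_eq_true] at hy2
        have e1 := Nat.eq_of_beq_eq_true hy2.1
        have e2 := Nat.eq_of_beq_eq_true hy2.2
        have : y = (f, i) := Prod.ext e1 e2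
        rw [← this]
        exact hy
      | some x =>
        exfalso
        rw [hent] at hrow
        have h12 : andB (Nat.blt 0 x.1) (andB (Nat.blt x.1 5) (andB (ltB 16 x.2)
          (wEq (e ++ (t0w ++ invW invQ e)) (kL x.2 ++ beta.getD x.1 [])))) = true := hrow
        rw [andB_eq_true, andB_eq_true, andB_eq_true] at h12
        obtain ⟨h13, h14, h15, h16⟩ := h12
        have h17 : prodA EQ (e ++ (t0w ++ invW invQ e)) = prodA EQ (kL x.2 ++ beta.getD x.1 []) := prodA_EQ_eq h16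
        apply beta_notin x.1 (Nat.le_of_ble_eq_true h13) (Nat.le_of_ble_eq_true h14)
        have h18 : prodA EQ (beta.getD x.1 []) =
            ((prodA EQ e)⁻¹ * t0 * prodA EQ e) * (prodA EQ (kL x.2))⁻¹ := by
          have h19 : (prodA EQ e)⁻¹ * t0 * prodA EQ e = prodA EQ (beta.getD x.1 []) * prodA EQ (kL x.2) := by
            have e1 : prodA EQ (e ++ (t0w ++ invW invQ e)) = (prodA EQ e)⁻¹ * t0 * prodA EQ e := by
              rw [prodA_append EQ e, prodA_append EQ t0w, EQ_word_inv e hel]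
              rfl
            have e2 : prodA EQ (kL x.2 ++ beta.getD x.1 []) = prodA EQ (beta.getD x.1 []) * prodA EQ (kL x.2) :=
              prodA_append _ _ _
            rw [← e1, ← e2]
            exact h17
          rw [h19]
          group
        rw [h18]
        exact Subgroup.mul_mem _ hfe2 (Subgroup.inv_mem _ (prodA_kL_mem _ h15))
    simp only [Finset.mem_coe, List.mem_toFinset, List.mem_map]
    exact ⟨(f, i), hmem, hmk.symm⟩
  have h1 : (fixSet Kq t0).ncard ≤ ((FixK.flagged.map g).toFinset : Set (Q ⧸ Kq)).ncard :=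
    Set.ncard_le_ncard hsub (Set.toFinite _)
  rw [Set.ncard_coe_finset] at h1
  have h2 := List.toFinset_card_le (FixK.flagged.map g)
  rw [List.length_map, FixK.hflagged] at h2
  rw [Nat.card_coe_set_eq]
  omega

/-! ### The order of the centraliser in `Q` -/

theorem card_CQ_le : Nat.card (Subgroup.centralizer ({t0} : Set Q)) ≤ 14400 := by
  have h := fix_card Kq t0
  rw [card_Kq] at h
  have h1 := fix1_le
  have h2 := conj1
  have h3 : Nat.card (Subgroup.centralizer ({t0} : Set Q)) * 1375 ≤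
      Nat.card (Subgroup.centralizer ({t0} : Set Q)) * Nat.card (conjIn Kq t0) := Nat.mul_le_mul_left _ h2
  omega

theorem card_CQ_pos : 0 < Nat.card (Subgroup.centralizer ({t0} : Set Q)) := Nat.card_pos

theorem fix_node {j o i0 : Nat} (hc : Nat.card (Tj j) = o) (hi : Nat.card (conjIn (Tj j) t0) ≤ i0) :
    Nat.card (fixSet (Tj j) t0) * o ≤ 14400 * i0 := by
  have h := fix_card (Tj j) t0
  rw [hc] at h
  rw [h]
  exact Nat.mul_le_mul card_CQ_le hi

theorem fix0_le : (fixSet (Tj 0) t0).ncard ≤ 1 := by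
  have h1 := Subgroup.index_eq_card (Tj 0)
  have h2 := index_T 0
  have h3 : nn 0 = 1 := rfl
  have h4 : (fixSet (Tj 0) t0).ncard ≤ Nat.card (Q ⧸ Tj 0) := by
    rw [← Nat.card_coe_set_eq]
    exact Finite.card_subtype_le _
  have h5 : (Tj 0).index = 1 := h2.trans h3
  omega

theorem fix1_le' : (fixSet (Tj 1) t0).ncard ≤ 66 := by
  rw [← Kq_eq, ← Nat.card_coe_set_eq]
  exact fix1_le

theorem fix2_le : (fixSet (Tj 2) t0).ncard ≤ 150 := by
  rw [← Nat.card_coe_set_eq]
  have := fix_node card_T2' conj2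
  omega

theorem fix3_le : (fixSet (Tj 3) t0).ncard ≤ 1055 := by
  rw [← Nat.card_coe_set_eq]
  have := fix_node card_T3' conj3
  omega

theorem fix4_le : (fixSet (Tj 4) t0).ncard ≤ 1500 := by
  rw [← Nat.card_coe_set_eq]
  have := fix_node card_T4' conj4
  omega

/-! ### The cosets of the subgroup fixed by the involution -/

/-- The involution of the group. -/
noncomputable def tt : Γ := iota t0

/-- The map of cosets. -/
noncomputable def psi (j : Nat) (y : Q ⧸ Tj j) : Γ ⧸ HH :=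
  QuotientGroup.mk (iota (Quotient.out y) * (W j)⁻¹)

theorem psi_mk (j : Nat) (q : Q) : psi j (QuotientGroup.mk q) = QuotientGroup.mk (iota q * (W j)⁻¹) := by
  apply QuotientGroup.eq.2
  have h : (Quotient.out (QuotientGroup.mk q : Q ⧸ Tj j))⁻¹ * q ∈ Tj j :=
    QuotientGroup.eq.1 (QuotientGroup.out_eq' _)
  have h2 : W j * iota ((Quotient.out (QuotientGroup.mk q : Q ⧸ Tj j))⁻¹ * q) * (W j)⁻¹ ∈ HH := h
  have e : (iota (Quotient.out (QuotientGroup.mk q : Q ⧸ Tj j)) * (W j)⁻¹)⁻¹ * (iota q * (W j)⁻¹) =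
      W j * iota ((Quotient.out (QuotientGroup.mk q : Q ⧸ Tj j))⁻¹ * q) * (W j)⁻¹ := by
    rw [map_mul, map_inv]
    group
  rw [e]
  exact h2

theorem rep_fix (x : Γ ⧸ HH) (hx : x ∈ fixCosets HH tt) :
    ∃ j : Fin 5, ∃ q : Q, x = QuotientGroup.mk (iota q * (W j.1)⁻¹) ∧ q⁻¹ * t0 * q ∈ Tj j.1 := by
  obtain ⟨g, rfl⟩ := QuotientGroup.mk_surjective x
  obtain ⟨j, _, ⟨q', rfl⟩, hE⟩ := hcover g⁻¹
  have hE' : g⁻¹ * (W j.1 * iota q')⁻¹ ∈ HH := hE
  refine ⟨j, q'⁻¹, ?_, ?_⟩
  · apply QuotientGroup.eq.2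
    have e : g⁻¹ * (iota q'⁻¹ * (W j.1)⁻¹) = g⁻¹ * (W j.1 * iota q')⁻¹ := by
      rw [map_inv]
      group
    rw [e]
    exact hE'
  · have h1 : (QuotientGroup.mk (tt * g) : Γ ⧸ HH) = QuotientGroup.mk g := hx
    have h2 : (tt * g)⁻¹ * g ∈ HH := QuotientGroup.eq.1 h1
    have h3 : g⁻¹ * tt * g ∈ HH := by
      have h4 := HH.inv_mem h2
      have e : ((tt * g)⁻¹ * g)⁻¹ = g⁻¹ * tt * g := by group
      rwa [e] at h4
    change W j.1 * iota (q'⁻¹⁻¹ * t0 * q'⁻¹) * (W j.1)⁻¹ ∈ HH
    set k := g⁻¹ * (W j.1 * iota q')⁻¹ with hk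
    have e : W j.1 * iota (q'⁻¹⁻¹ * t0 * q'⁻¹) * (W j.1)⁻¹ = k⁻¹ * (g⁻¹ * tt * g) * k := by
      rw [hk, tt, map_mul, map_mul, map_inv, map_inv, inv_inv]
      group
    rw [e]
    exact HH.mul_mem (HH.mul_mem (HH.inv_mem hE') h3) hE'

theorem fix_total : (fixCosets HH tt).ncard ≤ 2772 := by
  have hsub : fixCosets HH tt ⊆ psi 0 '' fixSet (Tj 0) t0 ∪ (psi 1 '' fixSet (Tj 1) t0 ∪
      (psi 2 '' fixSet (Tj 2) t0 ∪ (psi 3 '' fixSet (Tj 3) t0 ∪ psi 4 '' fixSet (Tj 4) t0))) := by
    intro x hx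
    obtain ⟨j, q, rfl, hm⟩ := rep_fix x hx
    have h1 : ∀ j : Nat, q⁻¹ * t0 * q ∈ Tj j → (QuotientGroup.mk (iota q * (W j)⁻¹) : Γ ⧸ HH) ∈
        psi j '' fixSet (Tj j) t0 := by
      intro j hm
      exact ⟨QuotientGroup.mk q, (mem_fixSet_mk _ _ _).2 hm, psi_mk j q⟩
    have h2 := h1 j.1 hm
    fin_cases j
    · exact Or.inl h2
    · exact Or.inr (Or.inl h2)
    · exact Or.inr (Or.inr (Or.inl h2))
    · exact Or.inr (Or.inr (Or.inr (Or.inl h2)))
    · exact Or.inr (Or.inr (Or.inr (Or.inr h2)))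
  have h := Set.ncard_le_ncard hsub (Set.toFinite _)
  have i0 := Set.ncard_image_le (f := psi 0) (Set.toFinite (fixSet (Tj 0) t0))
  have i1 := Set.ncard_image_le (f := psi 1) (Set.toFinite (fixSet (Tj 1) t0))
  have i2 := Set.ncard_image_le (f := psi 2) (Set.toFinite (fixSet (Tj 2) t0))
  have i3 := Set.ncard_image_le (f := psi 3) (Set.toFinite (fixSet (Tj 3) t0))
  have i4 := Set.ncard_image_le (f := psi 4) (Set.toFinite (fixSet (Tj 4) t0))
  have u0 := Set.ncard_union_le (psi 0 '' fixSet (Tj 0) t0) (psi 1 '' fixSet (Tj 1) t0 ∪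
      (psi 2 '' fixSet (Tj 2) t0 ∪ (psi 3 '' fixSet (Tj 3) t0 ∪ psi 4 '' fixSet (Tj 4) t0)))
  have u1 := Set.ncard_union_le (psi 1 '' fixSet (Tj 1) t0)
      (psi 2 '' fixSet (Tj 2) t0 ∪ (psi 3 '' fixSet (Tj 3) t0 ∪ psi 4 '' fixSet (Tj 4) t0))
  have u2 := Set.ncard_union_le (psi 2 '' fixSet (Tj 2) t0) (psi 3 '' fixSet (Tj 3) t0 ∪ psi 4 '' fixSet (Tj 4) t0)
  have u3 := Set.ncard_union_le (psi 3 '' fixSet (Tj 3) t0) (psi 4 '' fixSet (Tj 4) t0)
  have f0 := fix0_le
  have f1 := fix1_le'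
  have f2 := fix2_le
  have f3 := fix3_le
  have f4 := fix4_le
  omega

/-- The bound for the order of the centraliser. -/
theorem card_C_le : Nat.card (Subgroup.centralizer ({tt} : Set Γ)) ≤ 39916800 := by
  have ht : tt ∈ HH := ⟨t0, rfl⟩
  have h1 := card_centralizer_le HH tt ht
  have h2 : Nat.card ((Subgroup.centralizer ({tt} : Set Γ) ⊓ HH : Subgroup Γ)) ≤ 14400 := by
    refine le_trans ?_ card_CQ_le
    have hex : ∀ x : ((Subgroup.centralizer ({tt} : Set Γ) ⊓ HH : Subgroup Γ)),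
        ∃ q : Subgroup.centralizer ({t0} : Set Q), iota q.1 = x.1 := by
      rintro ⟨x, hx1, q, rfl⟩
      refine ⟨⟨q, ?_⟩, rfl⟩
      rw [Subgroup.mem_centralizer_iff]
      intro h hh
      rw [Set.mem_singleton_iff] at hh
      subst hh
      apply iota_inj
      rw [map_mul, map_mul]
      exact (Subgroup.mem_centralizer_iff.1 hx1) tt rfl
    choose f hf using hex
    apply Nat.card_le_card_of_injective f
    intro a b hab
    apply Subtype.ext
    rw [← hf a, ← hf b, hab]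
  rw [Nat.card_coe_set_eq] at h1
  calc Nat.card (Subgroup.centralizer ({tt} : Set Γ)) ≤ _ := h1
    _ ≤ 2772 * 14400 := Nat.mul_le_mul fix_total h2
    _ = 39916800 := by norm_num

theorem tt_sq : tt * tt = 1 := by
  rw [tt, ← map_mul, t0_sq, map_one]

theorem tt_ne : tt ≠ 1 := by
  intro h
  apply t0_ne
  apply iota_inj
  rw [map_one]
  exact h

theorem orderOf_tt : orderOf tt = 2 := by
  apply orderOf_eq_prime
  · rw [pow_two]
    exact tt_sq
  · exact tt_ne

end Cfsg.Agent.Lib.DCE.Ly.Inv.Count
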