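import Cfsg.Agent.Lib.DCE.Ly.Cov.Base
import Cfsg.Agent.Lib.DCE.MatV
import Cfsg.Agent.Lib.TC.Enc

/-! The definitions of the data about the involution of `Q`. -/

namespace Cfsg.Agent.Lib.DCE.Ly.Inv.Defs

open Cfsg.Agent.Lib.TC.Core Cfsg.Agent.Lib.TC.Pres Cfsg.Agent.Lib.TC.Iso Cfsg.Agent.Lib.DCE.MatP
  Cfsg.Agent.Lib.DCE.Ly.Setup Cfsg.Agent.Lib.DCE.Ly.Rules Cfsg.Agent.Lib.DCE.Ly.Gens
  Cfsg.Agent.Lib.DCE.Ly.Cov.Beta

set_option maxRecDepth 100000

/-- The decoding of a word from its digits. -/
noncomputable def dwA (b : Nat) (fuel : Nat) : Nat → List Nat :=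
  Nat.rec (fun _ => []) (fun _ ih x =>
    Bool.rec (Nat.sub (Nat.mod x b) 1 :: ih (Nat.div x b)) [] (Nat.beq x 0)) fuel

/-- The word of a number in base `16`. -/
noncomputable def dw (x : Nat) : List Nat := dwA 16 64 x

/-- The word of a number in base `32`. -/
noncomputable def dw32 (x : Nat) : List Nat := dwA 32 64 x

/-- The word of the involution. -/
def t0w : List Nat := [0,0,0,0]

/-- The involution. -/
noncomputable def t0 : Q := prodA EQ t0w

/-- The check of the action of the generators on the list of the elements of a subgroup. -/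
noncomputable def chkEl (gs : List (List Nat)) (ws : Nat → List Nat) (pi : Nat → Nat → Nat) (m i : Nat) : Bool :=
  allN (fun g => andB (Nat.blt (pi g i) m) (wEq (ws i ++ gs.getD g []) (ws (pi g i)))) gs.length

/-- The word of a conjugate of the involution. -/
def cwf (w : List Nat) : List Nat := invW invQ w ++ (t0w ++ w)

/-- The check of a coset of `K`. -/
noncomputable def chkRow (rp : List Nat) (i : Nat) (entry : Option (Nat × List Nat)) (flagged : List (Nat × Nat)) (f : Nat) :
    Bool :=
  Option.rec (flagged.any fun y => andB (Nat.beq y.1 f) (Nat.beq y.2 i))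
    (fun x => andB (Nat.blt 0 x.1) (andB (Nat.blt x.1 5) (andB (ltB 16 x.2)
      (wEq ((beta.getD i [] ++ rp) ++ (t0w ++ invW invQ (beta.getD i [] ++ rp))) (kL x.2 ++ beta.getD x.1 []))))) entry

end Cfsg.Agent.Lib.DCE.Ly.Inv.Defs
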