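import Cfsg.Agent.Lib.DCE.Ly.Model.Rho
import Cfsg.Agent.Lib.DCE.Ly.Inv.MxT

/-! The checks for the matrices of the elements of the alternating group. -/

namespace Cfsg.Agent.Lib.DCE.Ly.Inv.MxD

open Cfsg.Agent.Lib.TC.Core Cfsg.Agent.Lib.TC.Enc Cfsg.Agent.Lib.TC.Pres Cfsg.Agent.Lib.DCE.MatP
  Cfsg.Agent.Lib.DCE.Ly.Exp Cfsg.Agent.Lib.DCE.Ly.Model.Let Cfsg.Agent.Lib.DCE.Ly.Model.Rho
  Cfsg.Agent.Lib.DCE.Ly.Inv.MxT

set_option maxRecDepth 100000

/-- The check of a piece of a word. -/
def stepW (G : List Nat) (w : List Nat) (G' : List Nat) : Bool :=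
  w.all (fun l => Nat.blt l 12) && prodW 5 111 lets G w == G'

/-- A word with its matrix. -/
def RW (w G : List Nat) : Prop :=
  (∀ z ∈ w, z < 12) ∧ (rho (elt w)).val = toM 5 111 G ∧ GoodM 5 111 G

theorem RW_nil : RW [] (idM 111) := by
  refine ⟨by simp, ?_, goodM_idM 5 111 (by norm_num)⟩
  rw [toM_idM]
  change (rho 1).val = 1
  rw [map_one]
  rfl

theorem goodM_prodW (T : List (List Nat)) (w : List Nat) (acc : List Nat) (h : GoodM 5 111 acc) :
    GoodM 5 111 (prodW 5 111 T acc w) := by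
  induction w generalizing acc with
  | nil => exact h
  | cons l w ih =>
    rw [prodW]
    exact ih _ (goodM_mulM 5 111 (by norm_num) _ _ h)

theorem RW_step {w w' G G' : List Nat} (h : RW w G) (hs : stepW G w' G' = true) : RW (w ++ w') G' := by
  simp only [stepW, Bool.and_eq_true, List.all_eq_true, beq_iff_eq] at hs
  obtain ⟨h1, h2⟩ := hs
  have h3 : ∀ z ∈ w', z < 12 := fun z hz => by
    have := h1 z hz
    rw [Nat.blt_eq] at this
    exact this
  have h4 : ∀ z ∈ w ++ w', z < 12 := by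
    intro z hz
    rcases List.mem_append.1 hz with hz | hz
    · exact h.1 z hz
    · exact h3 z hz
  refine ⟨h4, ?_, ?_⟩
  · rw [rho_elt _ h4, List.map_append, List.prod_append, ← rho_elt _ h.1, h.2.1, ← h2,
      toM_prodW 5 111 (by norm_num) (by norm_num) lets hgood w' (fun z hz => h3 z hz) G h.2.2]
    rfl
  · rw [← h2]
    exact goodM_prodW _ _ _ h.2.2

/-- The letters of the table. -/
def lt (c : Nat) : MT := lettM 5 111 Mt c

/-- The check of an equality of two words in the table. -/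
def eqW (a b : List Nat) : Bool :=
  (a.all (fun l => Nat.blt l 12) && b.all (fun l => Nat.blt l 12)) &&
    (prodW 5 111 Mt (idM 111) a == prodW 5 111 Mt (idM 111) b)

theorem hgoodMt : goodT 5 111 Mt = true := by decide +kernel

theorem hlenMt : Mt.length = 12 := rfl

theorem eqW_lt {a b : List Nat} (h : eqW a b = true) : (∀ z ∈ a, z < 12) ∧ ∀ z ∈ b, z < 12 := by
  simp only [eqW, Bool.and_eq_true, List.all_eq_true, beq_iff_eq, Nat.blt_eq] at h
  exact h.1

theorem eqW_spec {a b : List Nat} (h : eqW a b = true) : (a.map lt).prod = (b.map lt).prod := by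
  have hl := eqW_lt h
  simp only [eqW, Bool.and_eq_true, beq_iff_eq] at h
  have h1 := toM_prodW 5 111 (by norm_num) (by norm_num) Mt hgoodMt a (fun z hz => by rw [hlenMt]; exact hl.1 z hz)
    (idM 111) (goodM_idM 5 111 (by norm_num))
  have h2 := toM_prodW 5 111 (by norm_num) (by norm_num) Mt hgoodMt b (fun z hz => by rw [hlenMt]; exact hl.2 z hz)
    (idM 111) (goodM_idM 5 111 (by norm_num))
  rw [h.2, h2, toM_idM, one_mul, one_mul] at h1
  exact h1.symm

end Cfsg.Agent.Lib.DCE.Ly.Inv.MxD
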