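import Cfsg.Agent.Lib.DCE.Ly.Inv.MxD

/-! The relations of the alternating group among the matrices. -/

namespace Cfsg.Agent.Lib.DCE.Ly.Inv.MxR

open Cfsg.Agent.Lib.TC.Core Cfsg.Agent.Lib.TC.Enc Cfsg.Agent.Lib.TC.Pres Cfsg.Agent.Lib.DCE.MatP
  Cfsg.Agent.Lib.DCE.Ly.Exp Cfsg.Agent.Lib.DCE.Ly.Model.Let Cfsg.Agent.Lib.DCE.Ly.Model.Rho

open Cfsg.Agent.Lib.DCE.Ly.Inv.MxT Cfsg.Agent.Lib.DCE.Ly.Inv.MxD

set_option maxRecDepth 100000

theorem ginv : eqW [2,3] [] = true := by decide +kernel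

theorem c0 : eqW [0,4] [4,0] = true := by decide +kernel

theorem c1 : eqW [1,4] [4,1] = true := by decide +kernel

theorem c2 : eqW [2,4] [4,2] = true := by decide +kernel

theorem tsq : eqW [4,4] [] = true := by decide +kernel

theorem r0 : eqW [0,0,0] [] = true := by decide +kernel

theorem r1 : eqW [1,1] [4] = true := by decide +kernel

theorem r2 : eqW [0,1,0,1,0,1] [] = true := by decide +kernel

end Cfsg.Agent.Lib.DCE.Ly.Inv.MxR
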