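import Cfsg.Agent.Lib.DCE.Ly.Inv.MxD

/-! The relations of the alternating group among the matrices. -/

namespace Cfsg.Agent.Lib.DCE.Ly.Inv.MxR

open Cfsg.Agent.Lib.TC.Core Cfsg.Agent.Lib.TC.Enc Cfsg.Agent.Lib.TC.Pres Cfsg.Agent.Lib.DCE.MatP
  Cfsg.Agent.Lib.DCE.Ly.Exp Cfsg.Agent.Lib.DCE.Ly.Model.Let Cfsg.Agent.Lib.DCE.Ly.Model.Rho

open Cfsg.Agent.Lib.DCE.Ly.Inv.MxT Cfsg.Agent.Lib.DCE.Ly.Inv.MxD

set_option maxRecDepth 100000

theorem d7 : eqW [3,10,2] [11] = true := by decide +kernel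

theorem r4_2 : eqW [0,5,0,5] [4] = true := by decide +kernel

theorem r4_3 : eqW [0,6,0,6] [4] = true := by decide +kernel

theorem r4_4 : eqW [0,7,0,7] [4] = true := by decide +kernel

theorem r4_5 : eqW [0,8,0,8] [4] = true := by decide +kernel

theorem r4_6 : eqW [0,9,0,9] [4] = true := by decide +kernel

end Cfsg.Agent.Lib.DCE.Ly.Inv.MxR
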