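import Cfsg.Agent.Lib.DCE.Ly.Inv.MxD

/-! The matrix of a word. -/

namespace Cfsg.Agent.Lib.DCE.Ly.Inv.MxW3

open Cfsg.Agent.Lib.TC.Core Cfsg.Agent.Lib.TC.Enc Cfsg.Agent.Lib.TC.Pres Cfsg.Agent.Lib.DCE.MatP
  Cfsg.Agent.Lib.DCE.Ly.Exp Cfsg.Agent.Lib.DCE.Ly.Model.Let Cfsg.Agent.Lib.DCE.Ly.Model.Rho

open Cfsg.Agent.Lib.DCE.Ly.Inv.MxT Cfsg.Agent.Lib.DCE.Ly.Inv.MxD

set_option maxRecDepth 100000

theorem s0 : stepW (idM 111) [0,0,0,0] G_T = true := by decide +kernel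

/-- The word. -/
def w : List Nat := [0,0,0,0]

theorem rw : RW w G_T := (RW_step RW_nil s0)

end Cfsg.Agent.Lib.DCE.Ly.Inv.MxW3
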