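import Cfsg.Agent.Lib.DCE.Ly.Inv.Count
import Cfsg.Agent.Lib.DCE.A11Cover
import Cfsg.Agent.Lib.DCE.Ly.Inv.MxR0
import Cfsg.Agent.Lib.DCE.Ly.Inv.MxR1
import Cfsg.Agent.Lib.DCE.Ly.Inv.MxR2
import Cfsg.Agent.Lib.DCE.Ly.Inv.MxR3
import Cfsg.Agent.Lib.DCE.Ly.Inv.MxR4
import Cfsg.Agent.Lib.DCE.Ly.Inv.MxW0
import Cfsg.Agent.Lib.DCE.Ly.Inv.MxW1
import Cfsg.Agent.Lib.DCE.Ly.Inv.MxW2
import Cfsg.Agent.Lib.DCE.Ly.Inv.MxW3

/-! The centraliser of the involution is a non-split double cover of the alternating group. -/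

namespace Cfsg.Agent.Lib.DCE.Ly.Inv.MxG

open Cfsg.Agent.Lib.TC.Core Cfsg.Agent.Lib.TC.Pres Cfsg.Agent.Lib.DCE.MatP
  Cfsg.Agent.Lib.DCE.Ly.Exp Cfsg.Agent.Lib.DCE.Ly.Setup Cfsg.Agent.Lib.DCE.Ly.Model.Rho
  Cfsg.Agent.Lib.DCE.Ly.Final Cfsg.Agent.Lib.DCE.Ly.Inv.MxD Cfsg.Agent.Lib.DCE.Ly.Inv.Count
  Cfsg.Agent.Lib.DCE.Ly.Inv.Defs

set_option maxRecDepth 100000

/-- The element `x₀`. -/
noncomputable def X0 : Γ := elt MxW0.w

/-- The element `x₁`. -/
noncomputable def X1 : Γ := elt MxW1.w

/-- The element which permutes the generators. -/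
noncomputable def Gm : Γ := elt MxW2.w

/-- The elements `xᵢ`. -/
noncomputable abbrev x (j : Nat) : Γ := Cfsg.Agent.Lib.DCE.A11Cover.xs X0 X1 Gm j

/-- The elements for the letters of the table. -/
noncomputable def ee (c : Nat) : Γ := [X0, X1, Gm, Gm⁻¹, tt, x 2, x 3, x 4, x 5, x 6, x 7, x 8].getD c 1

theorem tt_eq : tt = elt MxW3.w := by
  have h : iota (prodA EQ t0w) = ev t0w := iota_prodA t0w (by decide +kernel)
  exact h

theorem h0 : (rho X0).val = lt 0 := MxW0.rw.2.1

theorem h1 : (rho X1).val = lt 1 := MxW1.rw.2.1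

theorem h2 : (rho Gm).val = lt 2 := MxW2.rw.2.1

theorem h4 : (rho tt).val = lt 4 := by
  rw [tt_eq]
  exact MxW3.rw.2.1

theorem hi : (rho Gm⁻¹).val = lt 3 := by
  have h := eqW_spec MxR.ginv
  simp only [List.map_cons, List.map_nil, List.prod_cons, List.prod_nil, mul_one] at h
  rw [map_inv]
  exact Units.inv_eq_of_mul_eq_one_right (by rw [h2]; exact h)

theorem hstep {a b : Nat} {y : Γ} (h : eqW [3, a, 2] [b] = true) (ha : (rho y).val = lt a) :
    (rho (Gm⁻¹ * y * Gm)).val = lt b := by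
  have h3 := eqW_spec h
  simp only [List.map_cons, List.map_nil, List.prod_cons, List.prod_nil, mul_one] at h3
  rw [map_mul, map_mul, Units.val_mul, Units.val_mul, hi, ha, h2, mul_assoc]
  exact h3

theorem m2 : (rho (x 2)).val = lt 5 := hstep MxR.d1 h1

theorem m3 : (rho (x 3)).val = lt 6 := hstep MxR.d2 m2

theorem m4 : (rho (x 4)).val = lt 7 := hstep MxR.d3 m3

theorem m5 : (rho (x 5)).val = lt 8 := hstep MxR.d4 m4

theorem m6 : (rho (x 6)).val = lt 9 := hstep MxR.d5 m5

theorem m7 : (rho (x 7)).val = lt 10 := hstep MxR.d6 m6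

theorem m8 : (rho (x 8)).val = lt 11 := hstep MxR.d7 m7

theorem hrho (c : Nat) (hc : c < 12) : (rho (ee c)).val = lt c := by
  interval_cases c
  · exact h0
  · exact h1
  · exact h2
  · exact hi
  · exact h4
  · exact m2
  · exact m3
  · exact m4
  · exact m5
  · exact m6
  · exact m7
  · exact m8

theorem rho_list (w : List Nat) (hw : ∀ z ∈ w, z < 12) : (rho (w.map ee).prod).val = (w.map lt).prod := by
  induction w with
  | nil =>
    simp only [List.map_nil, List.prod_nil, map_one]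
    rfl
  | cons c w ih =>
    simp only [List.map_cons, List.prod_cons, map_mul, Units.val_mul]
    rw [ih fun z hz => hw z (by simp [hz]), hrho c (hw c (by simp))]

theorem ee_eq {a b : List Nat} (h : eqW a b = true) : (a.map ee).prod = (b.map ee).prod := by
  have hl := eqW_lt h
  apply rho_inj
  apply Units.ext
  rw [rho_list a hl.1, rho_list b hl.2]
  exact eqW_spec h

theorem far0 {c : Nat} (h : eqW [0, c, 0, c] [4] = true) : (X0 * ee c) ^ 2 = tt := by
  have h3 := ee_eq h
  simp only [List.map_cons, List.map_nil, List.prod_cons, List.prod_nil, mul_one] at h3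
  rw [pow_two, mul_assoc]
  exact h3

theorem far1 {c : Nat} (h : eqW [1, c, 1, c] [4] = true) : (X1 * ee c) ^ 2 = tt := by
  have h3 := ee_eq h
  simp only [List.map_cons, List.map_nil, List.prod_cons, List.prod_nil, mul_one] at h3
  rw [pow_two, mul_assoc]
  exact h3

theorem data : Cfsg.Agent.Lib.DCE.A11Cover.Data tt X0 X1 Gm where
  tsq := tt_sq
  tne := tt_ne
  c0 := by
    have h3 := ee_eq MxR.c0
    simp only [List.map_cons, List.map_nil, List.prod_cons, List.prod_nil, mul_one] at h3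
    exact h3
  c1 := by
    have h3 := ee_eq MxR.c1
    simp only [List.map_cons, List.map_nil, List.prod_cons, List.prod_nil, mul_one] at h3
    exact h3
  c2 := by
    have h3 := ee_eq MxR.c2
    simp only [List.map_cons, List.map_nil, List.prod_cons, List.prod_nil, mul_one] at h3
    exact h3
  r0 := by
    have h3 := ee_eq MxR.r0
    simp only [List.map_cons, List.map_nil, List.prod_cons, List.prod_nil, mul_one] at h3
    rw [pow_succ, pow_two, mul_assoc]
    exact h3
  r1 := by
    have h3 := ee_eq MxR.r1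
    simp only [List.map_cons, List.map_nil, List.prod_cons, List.prod_nil, mul_one] at h3
    exact h3
  r2 := by
    have h3 := ee_eq MxR.r2
    simp only [List.map_cons, List.map_nil, List.prod_cons, List.prod_nil, mul_one] at h3
    rw [pow_succ, pow_two]
    simp only [mul_assoc]
    exact h3
  r3 := by
    have h3 := ee_eq MxR.r3
    simp only [List.map_cons, List.map_nil, List.prod_cons, List.prod_nil, mul_one] at h3
    rw [pow_succ, pow_two]
    simp only [mul_assoc]
    exact h3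
  r4 := by
    intro j h2 h8
    interval_cases j
    · exact far0 MxR.r4_2
    · exact far0 MxR.r4_3
    · exact far0 MxR.r4_4
    · exact far0 MxR.r4_5
    · exact far0 MxR.r4_6
    · exact far0 MxR.r4_7
    · exact far0 MxR.r4_8
  r5 := by
    intro j h2 h8
    interval_cases j
    · exact far1 MxR.r5_3
    · exact far1 MxR.r5_4
    · exact far1 MxR.r5_5
    · exact far1 MxR.r5_6
    · exact far1 MxR.r5_7
    · exact far1 MxR.r5_8

end Cfsg.Agent.Lib.DCE.Ly.Inv.MxG
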